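import Cfsg.Agent.H1.MlBo
import Cfsg.Agent.H1.MlA
import Cfsg.Agent.Eqn.Cfsg_Agent_H1_ML_dl

/-!
`DescStmt`: descent of the first limit to the faithful quotient.
-/

set_option autoImplicit false

namespace Cfsg.Agent.H83.MlDs

open Subgroup Cfsg.Agent.H1.ML
open scoped commutatorElement

universe u

variable {G X M H : Type u} [Group G] [MulAction G X] [AddCommGroup M] [DistribMulAction G M]
  [Group H] {Γ : Subgroup G} (π : Γ →* H)

/-- image -/
abbrev im (P : Subgroup G) : Subgroup H := (P.subgroupOf Γ).map π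
/-- preimage -/
abbrev pre (Q : Subgroup H) : Subgroup G := (Q.comap π).map Γ.subtype

theorem mem_pre {Q : Subgroup H} (g : Γ) : g.1 ∈ pre π Q ↔ π g ∈ Q :=
  mem_map_iff_mem (f := Γ.subtype) Γ.subtype_injective

theorem pre_le (Q : Subgroup H) : pre π Q ≤ Γ := map_subtype_le _

theorem mem_im {P : Subgroup G} {g : Γ} (h : g.1 ∈ P) : π g ∈ im π P := ⟨g, h, rfl⟩

theorem im_inf_pre {A : Subgroup G} {Q : Subgroup H} (h : Q ≤ im π A) :
    im π (A ⊓ pre π Q) = Q := by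
  apply le_antisymm
  · rintro _ ⟨g, hg, rfl⟩
    exact (mem_pre π g).1 (mem_inf.1 hg).2
  · intro q hq
    obtain ⟨g, hg, rfl⟩ := h hq
    exact mem_im π (mem_inf.2 ⟨hg, (mem_pre π g).2 hq⟩)

theorem relIndex_pre {A : Subgroup G} (hA : A ≤ Γ) (Q : Subgroup H) :
    (A ⊓ pre π Q).relIndex A = Q.relIndex (im π A) := by
  rw [inf_comm, inf_relIndex_right, ← relIndex_comap, ← relIndex_subgroupOf hA]
  congr 1
  ext g
  exact mem_pre π g

variable {D : AddSubgroup M} [DistribMulAction H D]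

/-- the action on `D` factors through `π`, faithfully -/
structure Fac (D : AddSubgroup M) [DistribMulAction H D] : Prop where
  surj : Function.Surjective π
  act : ∀ (g : Γ) (d : D), ((π g • d : D) : M) = g.1 • d.1
  ff : Ff D H

variable {π} (F : Fac π D)
include F

theorem Fac.ker (g : Γ) : π g = 1 ↔ g.1 ∈ kr G D := by
  constructor
  · intro h d hd
    rw [← F.act g ⟨d, hd⟩, h, one_smul]
  · intro h
    exact F.ff _ fun d => Subtype.ext ((F.act g d).trans (h d.1 d.2))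

theorem Fac.card_fx {B : Subgroup G} (hB : B ≤ Γ) :
    Nat.card (⊤ ⊓ fx D (im π B) : AddSubgroup D) = Nat.card (D ⊓ fx M B : AddSubgroup M) := by
  refine Nat.card_congr ⟨fun d => ⟨d.1.1, d.1.2, fun a ha => ?_⟩,
    fun d => ⟨⟨d.1, d.2.1⟩, trivial, ?_⟩, fun _ => rfl, fun _ => rfl⟩
  · rw [← F.act ⟨a, hB ha⟩ d.1, d.2.2 _ (mem_im π ha)]
  · rintro _ ⟨g, hg, rfl⟩
    exact Subtype.ext ((F.act g _).trans (d.2.2 _ hg))

theorem Fac.bo {A : Subgroup G} (hA : A ≤ Γ) : BO D A ↔ BO (⊤ : AddSubgroup D) (im π A) := by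
  constructor
  · intro b
    refine ⟨?_, fun Q hQ _ => ?_⟩
    · rintro _ ⟨a, ha, rfl⟩ _ ⟨c, hc, rfl⟩
      rw [← map_commutatorElement, (F.ker _).2 (b.1 _ ha _ hc)]
      exact one_mem _
    · have := b.2 (A ⊓ pre π Q) inf_le_left (fun x hx => mem_inf.2 ⟨hx.1,
        (mem_pre π ⟨x, hA hx.1⟩).2 (by rw [(F.ker _).2 hx.2]; exact one_mem _)⟩)
      rwa [relIndex_pre π hA, ← F.card_fx hA, ← F.card_fx (inf_le_left.trans hA),
        im_inf_pre π hQ] at this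
  · intro b
    refine ⟨fun a ha c hc => ?_, fun B hB hk => ?_⟩
    · have := b.1 _ (mem_im π (g := ⟨a, hA ha⟩) ha) _ (mem_im π (g := ⟨c, hA hc⟩) hc)
      rw [← map_commutatorElement] at this
      exact (F.ker _).1 (F.ff _ fun d => this d trivial)
    · have e : B = A ⊓ pre π (im π B) := by
        refine le_antisymm (fun x hx => mem_inf.2 ⟨hB hx, (mem_pre π ⟨x, hA (hB hx)⟩).2
          (mem_im π hx)⟩) fun x hx => ?_
        obtain ⟨y, hy, e⟩ := (mem_pre π ⟨x, hA hx.1⟩).1 hx.2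
        have h1 : π (y⁻¹ * ⟨x, hA hx.1⟩) = 1 := by rw [map_mul, map_inv, e, inv_mul_cancel]
        have h2 : y.1⁻¹ * x ∈ B :=
          hk (mem_inf.2 ⟨mul_mem (inv_mem (hB hy)) hx.1, (F.ker _).1 h1⟩)
        simpa using mul_mem (show y.1 ∈ B from hy) h2
      have := b.2 (im π B) (map_mono (comap_mono hB)) (fun x hx => by
        rw [F.ff x fun d => hx.2 d trivial]; exact one_mem _)
      rw [← relIndex_pre π hA, ← e, F.card_fx hA, F.card_fx (hB.trans hA)] at this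
      exact this

omit F in
/-- the condition on stabilizers -/
def TP (D : AddSubgroup M) (Y P : Subgroup G) : Prop := Y ≤ P ∧ JJ (BO D) P ≠ Y

omit F in
theorem TP.mono {Y P Q : Subgroup G} (h : TP (fx M Y) Y P) (hPQ : P ≤ Q) : TP (fx M Y) Y Q :=
  ⟨h.1.trans hPQ, fun e => h.2 (le_antisymm ((JJ_mono hPQ).trans e.le) (le_JJ_fx h.1))⟩

omit F in
theorem inf_eq_Y {p : ℕ} {Y P : Subgroup G} (hY : IsSylowIn p Y (Γ ⊓ kr G D)) (h1 : Y ≤ P)
    (h2 : P ≤ Γ) (hp : IsPGroup p P) {x : G} (hx : x ∈ P) (hk : x ∈ kr G D) : x ∈ Y := by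
  have := hY.max (P ⊓ kr G D) (inf_le_inf_right _ h2) hp.to_inf_left
    (le_inf h1 (hY.le.trans inf_le_right))
  exact this ▸ mem_inf.2 ⟨hx, hk⟩

theorem Fac.qp {p : ℕ} {Y P : Subgroup G} (hY : IsSylowIn p Y (Γ ⊓ kr G D)) (h1 : Y ≤ P)
    (h2 : P ≤ Γ) (hp : IsPGroup p P) (hJ : Y ≤ JJ (BO D) P) :
    Qp D (im π P) ↔ JJ (BO D) P ≠ Y := by
  constructor
  · rintro ⟨A, hA, h0, b⟩ e
    have e1 := im_inf_pre π hA
    rw [← e1, ← F.bo (inf_le_left.trans h2)] at b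
    have : P ⊓ pre π A ≤ Y := e ▸ le_JJ inf_le_left b
    apply h0
    rw [← e1, eq_bot_iff]
    rintro _ ⟨g, hg, rfl⟩
    exact (F.ker g).2 (hY.le (this hg)).2
  · intro h
    by_contra hq
    refine h (le_antisymm (JJ_le_of fun A hA b => ?_) hJ)
    intro a ha
    refine inf_eq_Y hY h1 h2 hp (hA ha) ((F.ker ⟨a, h2 (hA ha)⟩).1 ?_)
    by_contra hne
    refine hq ⟨im π A, map_mono (comap_mono hA), fun e => hne ?_, (F.bo (hA.trans h2)).1 b⟩
    have := mem_im π (g := ⟨a, h2 (hA ha)⟩) ha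
    rwa [e, mem_bot] at this

omit F in
theorem mem_St2 {g : G} {x y : X} : g ∈ St Γ [x, y] ↔ g ∈ Γ ∧ g • x = x ∧ g • y = y := by
  simp [mem_St]

omit F in
theorem mem_St1 {g : G} {x : X} : g ∈ St Γ [x] ↔ g ∈ Γ ∧ g • x = x := by
  simp [mem_St]

omit F in
theorem mem_St3 {g : G} {x y z : X} :
    g ∈ St Γ [x, y, z] ↔ g ∈ Γ ∧ g • x = x ∧ g • y = y ∧ g • z = z := by
  simp [mem_St]

omit F in
/-- `P` fixes `x` -/
def Fx (P : Subgroup G) (x : X) : Prop := ∀ g ∈ P, g • x = x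

omit F in
/-- a cocycle on pairs -/
structure Coc (Γ Y : Subgroup G) (t : X → X → M) : Prop where
  eqv : ∀ x y, TP (fx M Y) Y (St Γ [x, y]) → ∀ g ∈ Γ, g • t x y = t (g • x) (g • y)
  coc : ∀ P ≤ Γ, TP (fx M Y) Y P → ∀ x y z, Fx P x → Fx P y → Fx P z → t x z = t x y + t y z

omit F in
theorem tp2 {Y P : Subgroup G} (hP : P ≤ Γ) (h : TP (fx M Y) Y P) {x y : X} (hx : Fx P x)
    (hy : Fx P y) : TP (fx M Y) Y (St Γ [x, y]) :=
  h.mono fun g hg => mem_St2.2 ⟨hP hg, hx g hg, hy g hg⟩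

omit F in
theorem fx1 {x y : X} : Fx (St Γ [x, y]) x := fun _ hg => (mem_St2.1 hg).2.1
omit F in
theorem fx2 {x y : X} : Fx (St Γ [x, y]) y := fun _ hg => (mem_St2.1 hg).2.2

omit F in
theorem tp_smul {Y : Subgroup G} (hn : Γ ≤ normalizer (Y : Set G)) {l : List X}
    (h : TP (fx M Y) Y (St Γ l)) {g : G} (hg : g ∈ Γ) : TP (fx M Y) Y (St Γ (g • l)) := by
  rw [St_smul hg]
  have e := cj_eq_self (hn hg)
  refine ⟨e ▸ cj_mono g h.1, fun e' => h.2 ?_⟩
  rw [JJ_bo_cj hn hg] at e'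
  exact cj_inj.1 (e'.trans e.symm)

omit F in
theorem Coc.mem {Y : Subgroup G} {t : X → X → M} (c : Coc Γ Y t) {x y : X}
    (h : TP (fx M Y) Y (St Γ [x, y])) : t x y ∈ fx M Y := fun g hg => by
  have := mem_St2.1 (h.1 hg)
  rw [c.eqv x y h g this.1, this.2.1, this.2.2]

omit F in
theorem Coc.key [Finite G] [Finite M] {p : ℕ} [hp : Fact p.Prime] (ad : Adm p G X)
    (hM : IsPGroup p (Multiplicative M)) {Y : Subgroup G} (hn : Γ ≤ normalizer (Y : Set G))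
    (hY : IsSylowIn p Y (Γ ⊓ kr G (fx M Y))) {t : X → X → M} (c : Coc Γ Y t) {x : X} {k : G}
    (k1 : k ∈ Γ) (k2 : k ∈ kr G (fx M Y)) (h : TP (fx M Y) Y (St Γ [x, k • x])) :
    t x (k • x) = 0 := by
  set P := St Γ [x, k • x] with hP
  have PΓ : P ≤ Γ := St_le
  have hD : ∀ g ∈ Γ, ∀ d ∈ fx M Y, g • d ∈ fx M Y := fun g hg d hd => smul_mem_fx_of_norm hd (hn hg)
  have h1 : ∀ v ∈ P, k⁻¹ * v * k ∈ P := by
    intro v hv
    have hv' := mem_St2.1 hv
    have a1 : k⁻¹ * v * k * v⁻¹ ∈ St Γ [x] := mem_St1.2 ⟨mul_mem (mul_mem (mul_mem (inv_mem k1)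
      hv'.1) k1) (inv_mem hv'.1), by
        rw [mul_smul, mul_smul, mul_smul, inv_smul_eq_iff.2 hv'.2.1.symm, hv'.2.2, inv_smul_smul]⟩
    have a2 : k⁻¹ * v * k * v⁻¹ ∈ kr G (fx M Y) := by
      rw [show k⁻¹ * v * k * v⁻¹ = k⁻¹ * (v * k * v⁻¹) by group]
      exact mul_mem (inv_mem k2) (conj_mem_kr hD hv'.1 k2)
    have a3 := inf_eq_Y hY (h.1.trans (St_anti (by simp))) St_le (ad.pSt Γ (by simp)) a1 a2
    simpa using mul_mem (h.1 a3) hv
  have h2 : ∀ n : ℕ, Fx P (k ^ n • x) := by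
    intro n
    induction n with
    | zero => simpa using fx1
    | succ n ih =>
      intro v hv
      rw [pow_succ', mul_smul, ← mul_smul v k, show v * k = k * (k⁻¹ * v * k) by group, mul_smul,
        ih _ (h1 v hv)]
  have h0 : t x x = 0 := by
    have := c.coc P PΓ h x x x fx1 fx1 fx1
    simpa using this
  have h3 : ∀ n : ℕ, t x (k ^ n • x) = n • t x (k • x) := by
    intro n
    induction n with
    | zero => simpa using h0
    | succ n ih =>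
      have t1 := tp2 PΓ h fx1 (h2 n)
      rw [c.coc P PΓ h x (k • x) _ fx1 fx2 (h2 (n + 1)), pow_succ', mul_smul,
        ← c.eqv _ _ t1 k k1, k2 _ (c.mem t1), ih, succ_nsmul']
  have hN : (Y.subgroupOf (Γ ⊓ kr G (fx M Y))).Normal :=
    (normal_subgroupOf_iff_le_normalizer hY.le).2 (inf_le_left.trans hn)
  have h4 : k ^ Y.relIndex (Γ ⊓ kr G (fx M Y)) ∈ Y :=
    (Y.subgroupOf (Γ ⊓ kr G (fx M Y))).pow_index_mem ⟨k, k1, k2⟩
  have h5 := h3 (Y.relIndex (Γ ⊓ kr G (fx M Y)))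
  rw [fx1 _ (h.1 h4), h0] at h5
  obtain ⟨e, he⟩ := exists_pow_smul hM
  obtain ⟨a, b, hab⟩ := exists_inv_mod hY.not_dvd_relIndex e
  have h6 := congrArg (a • ·) h5
  simp only [smul_zero, smul_smul, hab, add_smul, one_smul] at h6
  rw [mul_smul, he, smul_zero, add_zero] at h6
  exact h6.symm

section lift

variable (π) (x0 : X)

omit F in
/-- `x` is a point of the orbit of `x0` above the coset `a` -/
def Lift (x : X) (a : H ⧸ im π (St Γ [x0])) : Prop :=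
  ∃ g : Γ, g.1 • x0 = x ∧ (π g : H ⧸ im π (St Γ [x0])) = a

variable {π x0}

omit F in
theorem Lift.smul {x : X} {a : H ⧸ im π (St Γ [x0])} (h : Lift π x0 x a) (g : Γ) :
    Lift π x0 (g.1 • x) (π g • a) := by
  obtain ⟨k, rfl, rfl⟩ := h
  exact ⟨g * k, mul_smul _ _ _, by rw [map_mul]; rfl⟩

omit F in
theorem Lift.uniq {x : X} {a b : H ⧸ im π (St Γ [x0])} (h : Lift π x0 x a) (h' : Lift π x0 x b) :
    a = b := by
  obtain ⟨k, rfl, rfl⟩ := h
  obtain ⟨k', e, rfl⟩ := h'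
  rw [QuotientGroup.eq, ← map_inv, ← map_mul]
  refine mem_im π (mem_St1.2 ⟨(k⁻¹ * k').2, ?_⟩)
  rw [Subgroup.coe_mul, Subgroup.coe_inv, mul_smul, e, inv_smul_smul]

omit F in
theorem Lift.fix {x : X} {a : H ⧸ im π (St Γ [x0])} (h : Lift π x0 x a) {g : Γ}
    (hg : g.1 • x = x) : π g • a = a := (h.smul g).uniq (hg.symm ▸ h)

theorem Lift.diff {x y : X} {a : H ⧸ im π (St Γ [x0])} (h : Lift π x0 x a) (h' : Lift π x0 y a) :
    ∃ k : Γ, k.1 ∈ kr G D ∧ π k = 1 ∧ y = k.1 • x := by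
  obtain ⟨k, rfl, rfl⟩ := h
  obtain ⟨k', rfl, e⟩ := h'
  obtain ⟨s, hs, e'⟩ := QuotientGroup.eq.1 e
  have e1 : π (k' * s * k⁻¹) = 1 := by rw [map_mul, map_mul, e', map_inv]; group
  refine ⟨k' * s * k⁻¹, (F.ker _).1 e1, e1, ?_⟩
  simp only [Subgroup.coe_mul, Subgroup.coe_inv, mul_smul, inv_smul_smul]
  rw [show s.1 • x0 = x0 from (mem_St1.1 hs).2]

theorem exists_lift [Finite G] {p : ℕ} [Fact p.Prime] (hS : IsSylowIn p (St Γ [x0]) Γ)
    {P : Subgroup G} (hP : P ≤ Γ) (hp : IsPGroup p P) (a : H ⧸ im π (St Γ [x0]))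
    (ha : ∀ g : Γ, g.1 ∈ P → π g • a = a) : ∃ x, Lift π x0 x a ∧ Fx P x := by
  obtain ⟨b, rfl⟩ := QuotientGroup.mk_surjective a
  obtain ⟨g, rfl⟩ := F.surj b
  have h1 : IsSylowIn p (St Γ [x0]) (pre π (im π (St Γ [x0]))) :=
    hS.mono (fun s hs => (mem_pre π ⟨s, St_le hs⟩).2 (mem_im π hs)) (pre_le π _)
  have h2 : cj g.1⁻¹ P ≤ pre π (im π (St Γ [x0])) := by
    rintro _ ⟨v, hv, rfl⟩
    have := ha ⟨v, hP hv⟩ hv
    rw [MulAction.Quotient.smul_mk, eq_comm, QuotientGroup.eq, smul_eq_mul, ← map_mul, ← map_inv,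
      ← map_mul, ← mem_pre] at this
    simpa [mul_assoc] using this
  obtain ⟨h, hh, hle⟩ := h1.exists_le_conj h2 (isPGroup_cj hp _)
  have hΓ := pre_le π _ hh
  refine ⟨(g.1 * h) • x0, ⟨g * ⟨h, hΓ⟩, rfl, ?_⟩, fun v hv => ?_⟩
  · rw [eq_comm, QuotientGroup.eq, map_mul, inv_mul_cancel_left]
    exact (mem_pre π ⟨h, hΓ⟩).1 hh
  · have := (mem_St1.1 (mem_cj.1 (hle (conj_mem_cj (g := g.1⁻¹) hv)))).2
    rw [inv_inv, mul_smul, mul_smul, inv_smul_eq_iff, mul_smul, mul_smul, inv_smul_eq_iff] at this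
    rw [mul_smul, this]

theorem syl_quot [Finite G] {p : ℕ} [Fact p.Prime] (hS : IsSylowIn p (St Γ [x0]) Γ) :
    Syl p H (H ⧸ im π (St Γ [x0])) := by
  have : Finite H := Finite.of_surjective _ F.surj
  have h0 : IsSylowIn p ((St Γ [x0]).subgroupOf Γ) ⊤ := isSylowIn_top hS.toSylow
  have h1 : IsSylowIn p (im π (St Γ [x0])) ⊤ := by
    have := h0.map π
    rwa [map_top_of_surjective _ F.surj] at this
  refine ⟨fun a => ?_, ⟨(1 : H)⟩, fun a b => MulAction.exists_smul_eq H a b⟩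
  obtain ⟨b, rfl⟩ := QuotientGroup.mk_surjective a
  have := h1.cj b
  rw [cj_top] at this
  convert this using 1
  ext g
  rw [mem_cj, MulAction.mem_stabilizer_iff, MulAction.Quotient.smul_mk, eq_comm, QuotientGroup.eq,
    smul_eq_mul, mul_assoc]

end lift

omit F in
theorem qp_mono {A B : Subgroup H} (h : Qp D A) (hAB : A ≤ B) : Qp D B :=
  let ⟨E, h1, h2⟩ := h
  ⟨E, h1.trans hAB, h2⟩

omit F in
theorem main (hfin : FinStmt.{u}) [Finite G] [Finite M] {p : ℕ} [hp : Fact p.Prime]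
    (ad : Adm p G X) (hM : IsPGroup p (Multiplicative M)) {Y : Subgroup G}
    (hn : Γ ≤ normalizer (Y : Set G)) (hY : IsSylowIn p Y (Γ ⊓ kr G (fx M Y)))
    [DistribMulAction H (fx M Y)] (F : Fac π (fx M Y)) {t : X → X → M} (c : Coc Γ Y t) :
    ∃ h : X → M, (∀ x, TP (fx M Y) Y (St Γ [x]) → ∀ g ∈ Γ, g • h x = h (g • x)) ∧
      ∀ x y, TP (fx M Y) Y (St Γ [x, y]) → t x y = h y - h x := by
  classical
  have : Finite H := Finite.of_surjective _ F.surj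
  obtain ⟨x0, -, hS, -⟩ := ad.exists_orbit Γ
  have sy := syl_quot F hS
  have pS : ∀ {x : X} {l : List X}, IsPGroup p (St Γ (x :: l)) := ad.pSt Γ (by simp)
  -- independence of the lifts
  have B0 : ∀ {x y y' : X} {a b : H ⧸ im π (St Γ [x0])}, Lift π x0 y b → Lift π x0 y' b →
      TP (fx M Y) Y (St Γ [x, y]) → TP (fx M Y) Y (St Γ [x, y']) → t x y = t x y' := by
    intro x y y' a b hy hy' t1 t2
    let P := St Γ [x] ⊓ pre π (MulAction.stabilizer H b)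
    obtain ⟨y0, l0, f0⟩ := exists_lift F hS (P := P) (inf_le_left.trans St_le) pS.to_inf_left b
      fun g hg => (mem_pre π g).1 (mem_inf.1 hg).2
    have aux : ∀ {y : X}, Lift π x0 y b → TP (fx M Y) Y (St Γ [x, y]) → t x y0 = t x y := by
      intro y hy t1
      have f1 : Fx (St Γ [x, y]) y0 := fun g hg => by
        have := mem_St2.1 hg
        exact f0 g (mem_inf.2 ⟨mem_St1.2 ⟨this.1, this.2.1⟩,
          (mem_pre π ⟨g, this.1⟩).2 (hy.fix this.2.2)⟩)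
      obtain ⟨k, k2, -, rfl⟩ := hy.diff F l0
      rw [c.coc _ St_le t1 x y _ fx1 fx2 f1,
        c.key ad hM hn hY k.2 k2 (tp2 St_le t1 fx2 f1), add_zero]
    rw [← aux hy t1, aux hy' t2]
  have B1 : ∀ {x y x' y' : X} {a b : H ⧸ im π (St Γ [x0])}, Lift π x0 x a → Lift π x0 y b →
      Lift π x0 x' a → Lift π x0 y' b → TP (fx M Y) Y (St Γ [x, y]) →
      TP (fx M Y) Y (St Γ [x', y']) → t x y = t x' y' := by
    intro x y x' y' a b hx hy hx' hy' t1 t2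
    obtain ⟨k, k2, k1, rfl⟩ := hx.diff F hx'
    have l1 := hy.smul k
    rw [k1, one_smul] at l1
    rw [← B0 (a := a) l1 hy' (tp_smul hn t1 k.2) t2, ← c.eqv x y t1 k k.2, k2 _ (c.mem t1)]
  -- the cocycle downstairs
  let tb : H ⧸ im π (St Γ [x0]) → H ⧸ im π (St Γ [x0]) → fx M Y := fun a b =>
    if h : ∃ z : X × X, Lift π x0 z.1 a ∧ Lift π x0 z.2 b ∧ TP (fx M Y) Y (St Γ [z.1, z.2]) then
      ⟨t h.choose.1 h.choose.2, c.mem h.choose_spec.2.2⟩ else 0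
  have htb : ∀ {x y : X} {a b : H ⧸ im π (St Γ [x0])}, Lift π x0 x a → Lift π x0 y b →
      TP (fx M Y) Y (St Γ [x, y]) → (tb a b : M) = t x y := by
    intro x y a b hx hy t1
    have h : ∃ z : X × X, Lift π x0 z.1 a ∧ Lift π x0 z.2 b ∧
      TP (fx M Y) Y (St Γ [z.1, z.2]) := ⟨(x, y), hx, hy, t1⟩
    simp only [tb, dif_pos h]
    exact B1 h.choose_spec.1 h.choose_spec.2.1 hx hy h.choose_spec.2.2 t1
  have up : ∀ (a : H ⧸ im π (St Γ [x0])) (l : List (H ⧸ im π (St Γ [x0]))),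
      Qp (fx M Y) (St (⊤ : Subgroup H) (a :: l)) → ∃ P ≤ Γ, TP (fx M Y) Y P ∧
        ∀ b ∈ a :: l, ∃ x, Lift π x0 x b ∧ Fx P x := by
    intro a l hq
    have hQ : IsPGroup p (St (⊤ : Subgroup H) (a :: l)) := sy.adm.pSt ⊤ (by simp)
    obtain ⟨P, hP, YP⟩ := exists_isSylowIn_ge (p := p) (P := Y)
      (H := pre π (St (⊤ : Subgroup H) (a :: l))) (fun y hy => (mem_pre π ⟨y, (hY.le hy).1⟩).2
        (by rw [(F.ker _).2 (hY.le hy).2]; exact one_mem _)) hY.isPGroup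
    have PΓ : P ≤ Γ := hP.le.trans (pre_le π _)
    have e : im π P = St (⊤ : Subgroup H) (a :: l) := by
      have h1 : IsSylowIn p (P.subgroupOf Γ) ((St (⊤ : Subgroup H) (a :: l)).comap π) := by
        refine ⟨fun g hg => (mem_pre π g).1 (hP.le hg), hP.isPGroup.comap_subtype,
          fun R h1 h2 h3 => ?_⟩
        have := hP.max (R.map Γ.subtype) (map_mono h1) (h2.map _)
          ((map_subgroupOf_eq_of_le PΓ).ge.trans (map_mono h3))
        rw [← this]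
        exact (comap_map_eq_self_of_injective Γ.subtype_injective R).symm
      have h2 := h1.map π
      rw [map_comap_eq_self_of_surjective F.surj] at h2
      exact h2.eq_of_isPGroup hQ
    refine ⟨P, PΓ, ⟨YP, (F.qp hY YP PΓ hP.isPGroup (le_JJ_fx YP)).1 (e ▸ hq)⟩, fun b hb => ?_⟩
    exact exists_lift F hS PΓ hP.isPGroup b fun g hg =>
      (mem_St.1 ((mem_pre π g).1 (hP.le hg))).2 b hb
  have hD : IsPGroup p (Multiplicative (fx M Y)) :=
    hM.of_injective (AddMonoidHom.toMultiplicative (fx M Y).subtype) Subtype.val_injective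
  obtain ⟨f, f1, f2⟩ := hfin H (H ⧸ im π (St Γ [x0])) (fx M Y) p sy hD F.ff tb
    (fun a b hq g => by
      obtain ⟨P, PΓ, tP, hl⟩ := up a [b] hq
      obtain ⟨x, lx, hx⟩ := hl a (by simp)
      obtain ⟨y, ly, hy⟩ := hl b (by simp)
      obtain ⟨g, rfl⟩ := F.surj g
      have t1 := tp2 PΓ tP hx hy
      apply Subtype.ext
      rw [F.act, htb lx ly t1, htb (lx.smul g) (ly.smul g) (tp_smul hn t1 g.2), c.eqv x y t1 g g.2])
    (fun a b d hq => by
      obtain ⟨P, PΓ, tP, hl⟩ := up a [b, d] hq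
      obtain ⟨x, lx, hx⟩ := hl a (by simp)
      obtain ⟨y, ly, hy⟩ := hl b (by simp)
      obtain ⟨z, lz, hz⟩ := hl d (by simp)
      apply Subtype.ext
      rw [AddSubgroup.coe_add, htb lx lz (tp2 PΓ tP hx hz), htb lx ly (tp2 PΓ tP hx hy),
        htb ly lz (tp2 PΓ tP hy hz), c.coc P PΓ tP x y z hx hy hz])
  have dn : ∀ {P : Subgroup G}, P ≤ Γ → IsPGroup p P → TP (fx M Y) Y P → ∀ {x y : X}
      {a b : H ⧸ im π (St Γ [x0])}, Lift π x0 x a → Lift π x0 y b → Fx P x → Fx P y →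
      t x y = (f b : M) - f a := by
    intro P PΓ pP tP x y a b lx ly hx hy
    have hq : Qp (fx M Y) (St (⊤ : Subgroup H) [a, b]) :=
      qp_mono ((F.qp hY tP.1 PΓ pP (le_JJ_fx tP.1)).2 tP.2) (by
        rintro _ ⟨g, hg, rfl⟩
        exact mem_St2.2 ⟨trivial, lx.fix (hx _ hg), ly.fix (hy _ hg)⟩)
    rw [← htb lx ly (tp2 PΓ tP hx hy), f2 a b hq, AddSubgroup.coe_sub]
  have ex : ∀ x : X, ∃ z : X × (H ⧸ im π (St Γ [x0])), Lift π x0 z.1 z.2 ∧ Fx (St Γ [x]) z.1 := by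
    intro x
    obtain ⟨g, hg, hle⟩ := hS.exists_le_conj (P := St Γ [x]) St_le pS
    refine ⟨(g • x0, (π ⟨g, hg⟩ : H)), ⟨⟨g, hg⟩, rfl, rfl⟩, fun v hv => ?_⟩
    have := (mem_St1.1 (mem_cj.1 (hle hv))).2
    rwa [mul_smul, mul_smul, inv_smul_eq_iff] at this
  choose z hz using ex
  have fx0 : ∀ x : X, Fx (St Γ [x]) x := fun x g hg => (mem_St1.1 hg).2
  have ind : ∀ x, TP (fx M Y) Y (St Γ [x]) → ∀ x' a, Lift π x0 x' a → Fx (St Γ [x]) x' →
      t (z x).1 x + f (z x).2 = t x' x + f a := by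
    intro x tx x' a l' f'
    rw [c.coc _ St_le tx (z x).1 x' x (hz x).2 f' (fx0 x), dn St_le pS tx (hz x).1 l' (hz x).2 f']
    abel
  refine ⟨fun x => t (z x).1 x + f (z x).2, fun x tx g hg => ?_, fun x y t1 => ?_⟩
  · have t1 : TP (fx M Y) Y (St Γ [g • x]) := tp_smul hn tx hg
    have f' : Fx (St Γ [g • x]) (g • (z x).1) := fun v hv => by
      have e : St Γ [g • x] = cj g (St Γ [x]) := St_smul hg [x]
      have := (hz x).2 _ (mem_cj.1 (e ▸ hv))
      rwa [mul_smul, mul_smul, inv_smul_eq_iff] at this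
    beta_reduce
    rw [ind _ t1 _ _ ((hz x).1.smul ⟨g, hg⟩) f', f1, F.act, smul_add,
      c.eqv _ _ (tp2 St_le tx (hz x).2 (fx0 x)) g hg]
  · have a1 : Fx (St Γ [x, y]) (z x).1 := fun g hg => (hz x).2 g (St_anti (by simp) hg)
    have a2 : Fx (St Γ [x, y]) (z y).1 := fun g hg => (hz y).2 g (St_anti (by simp) hg)
    have e1 := c.coc _ St_le t1 (z x).1 x y a1 fx1 fx2
    have e2 := c.coc _ St_le t1 (z x).1 (z y).1 y a1 a2 fx2
    rw [dn St_le pS t1 (hz x).1 (hz y).1 a1 a2, e1] at e2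
    beta_reduce
    rw [eq_sub_iff_add_eq, add_comm (t x y), add_right_comm, e2]
    abel

omit F in
/-- the action of the normalizer on the fixed points -/
def actD {Y : Subgroup G} (hn : Γ ≤ normalizer (Y : Set G)) : Γ →* (fx M Y ≃ₗ[ℤ] fx M Y) where
  toFun g :=
    { toFun := fun d => ⟨g.1 • d.1, smul_mem_fx_of_norm d.2 (hn g.2)⟩
      invFun := fun d => ⟨g.1⁻¹ • d.1, smul_mem_fx_of_norm d.2 (hn (inv_mem g.2))⟩
      map_add' := fun a b => Subtype.ext (smul_add _ _ _)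
      map_smul' := fun n a => Subtype.ext (smul_comm _ _ _)
      left_inv := fun d => Subtype.ext (inv_smul_smul _ _)
      right_inv := fun d => Subtype.ext (smul_inv_smul _ _) }
  map_one' := LinearEquiv.ext fun d => Subtype.ext (one_smul _ _)
  map_mul' g h := LinearEquiv.ext fun d => Subtype.ext (mul_smul _ _ _)

omit F in
theorem descStmt (hfin : FinStmt.{u}) : DescStmt.{u} := by
  intro G X M _ _ _ _ _ _ p _ ad hM Γ Y hn hY f hf hd
  have F : Fac (actD (M := M) hn).rangeRestrict (fx M Y) :=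
    ⟨MonoidHom.rangeRestrict_surjective _, fun _ _ => rfl,
      fun g hg => Subtype.ext (LinearEquiv.ext hg)⟩
  have c : Coc Γ Y fun x y : X => f [x, y] :=
    ⟨fun x y t g hg => sub_eq_zero.1 (AddSubgroup.mem_bot.1 ((hf [x, y] rfl).eqv t g hg)),
      fun P hP tP x y z hx hy hz => by
        have := AddSubgroup.mem_bot.1 (hd [x, y, z] rfl
          (tP.mono fun g hg => mem_St3.2 ⟨hP hg, hx g hg, hy g hg, hz g hg⟩))
        simp only [dl, sub_zero] at this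
        rw [← sub_eq_zero, ← neg_eq_zero, ← this]
        abel⟩
  obtain ⟨h, h1, h2⟩ := main hfin ad hM hn hY F c
  let h' : List X → M := fun l => match l with
    | x :: _ => h x
    | [] => 0
  refine ⟨res (fun l : List X => TP (fx M Y) Y (St Γ l)) h', fun l hl => ?_, fun l hl t => ?_⟩
  · obtain ⟨x, rfl⟩ := List.length_eq_one_iff.1 (by omega : l.length = 1)
    exact co_res (fun g hg l t => tp_smul hn t hg) (fun _ => trivial) fun t g hg =>
      AddSubgroup.mem_bot.2 (sub_eq_zero.2 (h1 x t g hg))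
  · obtain ⟨x, y, rfl⟩ := List.length_eq_two.1 hl
    have t' : TP (fx M Y) Y (St Γ [x, y]) := t
    rw [AddSubgroup.mem_bot, sub_eq_zero]
    simp only [dl, sub_zero]
    rw [res_pos (T := fun l : List X => TP (fx M Y) Y (St Γ l)) (t'.mono (St_anti (by simp))),
      res_pos (T := fun l : List X => TP (fx M Y) Y (St Γ l)) (t'.mono (St_anti (by simp)))]
    exact h2 x y t'

set_option linter.all false in
theorem eqns_MlDesc : True := by
  first | (have := @_root_.Cfsg.Agent.H83.MlDs.im.eq_def.{0,0}) | (have := @_root_.Cfsg.Agent.H83.MlDs.im.eq_def.{0}) | (have := @_root_.Cfsg.Agent.H83.MlDs.im.eq_def) | skip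
  first | (have := @_root_.Cfsg.Agent.H83.MlDs.im.eq_1.{0,0}) | (have := @_root_.Cfsg.Agent.H83.MlDs.im.eq_1.{0}) | (have := @_root_.Cfsg.Agent.H83.MlDs.im.eq_1) | skip
  first | (have := @_root_.Cfsg.Agent.H83.MlDs.im.eq_2.{0,0}) | (have := @_root_.Cfsg.Agent.H83.MlDs.im.eq_2.{0}) | (have := @_root_.Cfsg.Agent.H83.MlDs.im.eq_2) | skip
  first | (have := @_root_.Cfsg.Agent.H83.MlDs.im.congr_simp.{0,0}) | (have := @_root_.Cfsg.Agent.H83.MlDs.im.congr_simp.{0}) | (have := @_root_.Cfsg.Agent.H83.MlDs.im.congr_simp) | skip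
  first | (have := @_root_.Cfsg.Agent.H83.MlDs.pre.eq_def.{0,0}) | (have := @_root_.Cfsg.Agent.H83.MlDs.pre.eq_def.{0}) | (have := @_root_.Cfsg.Agent.H83.MlDs.pre.eq_def) | skip
  first | (have := @_root_.Cfsg.Agent.H83.MlDs.pre.eq_1.{0,0}) | (have := @_root_.Cfsg.Agent.H83.MlDs.pre.eq_1.{0}) | (have := @_root_.Cfsg.Agent.H83.MlDs.pre.eq_1) | skip
  first | (have := @_root_.Cfsg.Agent.H83.MlDs.pre.eq_2.{0,0}) | (have := @_root_.Cfsg.Agent.H83.MlDs.pre.eq_2.{0}) | (have := @_root_.Cfsg.Agent.H83.MlDs.pre.eq_2) | skip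
  first | (have := @_root_.Cfsg.Agent.H83.MlDs.pre.congr_simp.{0,0}) | (have := @_root_.Cfsg.Agent.H83.MlDs.pre.congr_simp.{0}) | (have := @_root_.Cfsg.Agent.H83.MlDs.pre.congr_simp) | skip
  first | (have := @_root_.Cfsg.Agent.H83.MlDs.TP.eq_def.{0,0}) | (have := @_root_.Cfsg.Agent.H83.MlDs.TP.eq_def.{0}) | (have := @_root_.Cfsg.Agent.H83.MlDs.TP.eq_def) | skip
  first | (have := @_root_.Cfsg.Agent.H83.MlDs.TP.eq_1.{0,0}) | (have := @_root_.Cfsg.Agent.H83.MlDs.TP.eq_1.{0}) | (have := @_root_.Cfsg.Agent.H83.MlDs.TP.eq_1) | skip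
  first | (have := @_root_.Cfsg.Agent.H83.MlDs.TP.eq_2.{0,0}) | (have := @_root_.Cfsg.Agent.H83.MlDs.TP.eq_2.{0}) | (have := @_root_.Cfsg.Agent.H83.MlDs.TP.eq_2) | skip
  first | (have := @_root_.Cfsg.Agent.H83.MlDs.TP.congr_simp.{0,0}) | (have := @_root_.Cfsg.Agent.H83.MlDs.TP.congr_simp.{0}) | (have := @_root_.Cfsg.Agent.H83.MlDs.TP.congr_simp) | skip
  first | (have := @_root_.Cfsg.Agent.H83.MlDs.Fx.eq_def.{0,0}) | (have := @_root_.Cfsg.Agent.H83.MlDs.Fx.eq_def.{0}) | (have := @_root_.Cfsg.Agent.H83.MlDs.Fx.eq_def) | skip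
  first | (have := @_root_.Cfsg.Agent.H83.MlDs.Fx.eq_1.{0,0}) | (have := @_root_.Cfsg.Agent.H83.MlDs.Fx.eq_1.{0}) | (have := @_root_.Cfsg.Agent.H83.MlDs.Fx.eq_1) | skip
  first | (have := @_root_.Cfsg.Agent.H83.MlDs.Fx.eq_2.{0,0}) | (have := @_root_.Cfsg.Agent.H83.MlDs.Fx.eq_2.{0}) | (have := @_root_.Cfsg.Agent.H83.MlDs.Fx.eq_2) | skip
  first | (have := @_root_.Cfsg.Agent.H83.MlDs.Fx.congr_simp.{0,0}) | (have := @_root_.Cfsg.Agent.H83.MlDs.Fx.congr_simp.{0}) | (have := @_root_.Cfsg.Agent.H83.MlDs.Fx.congr_simp) | skip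
  first | (have := @_root_.Cfsg.Agent.H83.MlDs.Lift.eq_def.{0,0}) | (have := @_root_.Cfsg.Agent.H83.MlDs.Lift.eq_def.{0}) | (have := @_root_.Cfsg.Agent.H83.MlDs.Lift.eq_def) | skip
  first | (have := @_root_.Cfsg.Agent.H83.MlDs.Lift.eq_1.{0,0}) | (have := @_root_.Cfsg.Agent.H83.MlDs.Lift.eq_1.{0}) | (have := @_root_.Cfsg.Agent.H83.MlDs.Lift.eq_1) | skip
  first | (have := @_root_.Cfsg.Agent.H83.MlDs.Lift.eq_2.{0,0}) | (have := @_root_.Cfsg.Agent.H83.MlDs.Lift.eq_2.{0}) | (have := @_root_.Cfsg.Agent.H83.MlDs.Lift.eq_2) | skip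
  first | (have := @_root_.Cfsg.Agent.H83.MlDs.Lift.congr_simp.{0,0}) | (have := @_root_.Cfsg.Agent.H83.MlDs.Lift.congr_simp.{0}) | (have := @_root_.Cfsg.Agent.H83.MlDs.Lift.congr_simp) | skip
  first | (have := @_root_.Cfsg.Agent.H83.MlDs.actD.eq_def.{0,0}) | (have := @_root_.Cfsg.Agent.H83.MlDs.actD.eq_def.{0}) | (have := @_root_.Cfsg.Agent.H83.MlDs.actD.eq_def) | skip
  first | (have := @_root_.Cfsg.Agent.H83.MlDs.actD.eq_1.{0,0}) | (have := @_root_.Cfsg.Agent.H83.MlDs.actD.eq_1.{0}) | (have := @_root_.Cfsg.Agent.H83.MlDs.actD.eq_1) | skip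
  first | (have := @_root_.Cfsg.Agent.H83.MlDs.actD.eq_2.{0,0}) | (have := @_root_.Cfsg.Agent.H83.MlDs.actD.eq_2.{0}) | (have := @_root_.Cfsg.Agent.H83.MlDs.actD.eq_2) | skip
  first | (have := @_root_.Cfsg.Agent.H83.MlDs.actD.congr_simp.{0,0}) | (have := @_root_.Cfsg.Agent.H83.MlDs.actD.congr_simp.{0}) | (have := @_root_.Cfsg.Agent.H83.MlDs.actD.congr_simp) | skip
  trivial

end Cfsg.Agent.H83.MlDs
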