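import Cfsg.Agent.H83.J4P
import Cfsg.Agent.H2.Gaschutz

/-!
# The normaliser of the elementary abelian group of order `2 ^ 11` splits
-/

set_option autoImplicit false
set_option maxRecDepth 1000000

namespace Cfsg.Agent.H83.J4

open H42 Cfsg Subgroup MulAction
open scoped Pointwise

/-- Basis of the complement. -/
def mW : ℕ := 2531510662700673770033447014

/-- Coordinates. -/
def mWi : ℕ := 3065014465936382333891482655089313596966807944610971648

/-- A word. -/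
def va : List ℕ := [1, 4, 1, 1, 1, 1, 1, 1, 1, 1, 1, 1]

/-- A word. -/
def vb : List ℕ := [4, 1, 1, 2, 3, 1, 1, 1, 1, 1, 1, 1, 1, 1, 1, 1, 1, 1, 1, 1, 1, 1, 1, 1, 1, 4]

/-- A code. -/
def ca : ℕ := 83391348767801961419585793461092974563535412493159715402466453456080249181448590898717198368

/-- A code. -/
def cb : ℕ := 348463062119008415100025966272963652894452040158654782242116910949239613329321279430377702464

/-- Conjugating words. -/
def wS : List (List ℕ) := [[4, 2, 1, 2, 2, 2, 2], [2, 2, 2, 2, 3, 1, 4], [3, 4, 2, 2, 1], [1, 1, 4, 2, 1, 4, 5], [0, 0, 4, 1, 3, 4, 1]]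

/-- Images in the Mathieu group. -/
def gS : List ℕ := [984202951082164080105044112956360736, 984724508489452699215480746259449888, 5989235823820259689967313196876887, 62563919208128639077930020080091874, 21064801546226450623669850930086999, 28826665701071936886111872293045335, 237116076252092615386195900911128017, 666505473973673475114372112738521805, 961360439503047023498727979389224000]

/-- An involution. -/
def pA : ℕ := 984202951082164080105044112956360736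

/-- An involution. -/
def pB : ℕ := 62563919208128639077930020080091874

/-- An involution. -/
def pS1 : ℕ := 961360439503047023498727979389224000

/-- A conjugating element. -/
def kS : ℕ := 22417980136323828117640103980504583

/-- A centralising element. -/
def h7 : ℕ := 919298055276635235595761302478642688

/-- A vector. -/
def wA : ℕ := 102

/-- A vector. -/
def wB : ℕ := 558

theorem chk_gS : genChk gS [[6, 12, 0, 14], [10, 18, 10], [18, 12, 16, 10, 18], [8, 10, 16], [22, 20, 22], [10, 14, 20], [16, 20]]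
    [(0, [936002830586106605818592685295515140]),
    (1, [984808092185701589051809676506104896]),
    (3, [963835842514064438119990511449606176, 960831283963798152912375878980765728]),
    (4, [983548720921252936276249910206105632, 961365507626256404119956257276790816, 972512676110088067912772961567868960])] 1024 = true := by decide +kernel

/-- The elements of the complement. -/
noncomputable def xW (j : ℕ) : ℕ := mv mW j

/-- An element normalises the complement. -/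
noncomputable def nW (c : ℕ) : Bool := allB (fun j => force (act c (xW j)) fun x =>
  force (mv mWi (lo x)) fun i => Bool.and (Nat.ble i 63) (Nat.beq (xW i) x)) 64

/-- Conjugacy of two codes. -/
noncomputable def cjK (w : List ℕ) (a b : ℕ) : Bool := Bool.and (okW 6 w) (force (km (kW w)) fun c =>
  Nat.beq (mm (km b) c) (mm c (km a)))

theorem chk_xW : ∀ i < 64, xW i < 8192 ∧ ∀ j < 64, qm (xW i) (xW j) = xW (i ^^^ j) := by decide +kernel

theorem chk_ab : okW 6 va = true ∧ okW 6 vb = true ∧ kW va = ca ∧ kW vb = cb ∧ nW ca = true ∧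
    nW cb = true ∧ nW cO1 = true ∧ cjK (wS.getD 0 []) (cy 1) ca = true ∧
    cjK (wS.getD 1 []) (cy 1) cb = true ∧
    cjK (wS.getD 2 []) (cy 1) (kmul (kmul ca cb) (kmul ca cb)) = true ∧
    cjK (wS.getD 3 []) cO1 (kmul ca cO1) = true ∧ cjK (wS.getD 4 []) cO1 (kmul cb cO1) = true := by
  decide +kernel

theorem chk_muS : (∀ i < 6, muChk (xW (2 ^ i)) k1 (nth gS i) = true) ∧ muChk 0 ca (nth gS 6) = true ∧
    muChk 0 cb (nth gS 7) = true ∧ muChk 0 cO1 pS1 = true ∧ muChk wA k1 pA = true ∧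
    muChk wB k1 pB = true := by decide +kernel

theorem chk_pS1 : inM kS = true ∧ pconj kS pA = pS1 ∧
    allB (fun j => !Nat.beq (Nat.xor j (cact pS1 j)) 64) 2048 = true := by decide +kernel

theorem cact_lt {p : ℕ} (hp : inM p = true) (j : ℕ) : cact p j < 2048 := cw_lt (img_lt (inM_isPerm hp) _)

theorem adj_norm {G : Type*} [Group G] {A : Subgroup G} {u : G} {hn : ∀ a ∈ A, u * a * u⁻¹ ∈ A}
    {hu : u * u ∈ A} {x : G} (h1 : ∀ a ∈ A, x * a * x⁻¹ ∈ A) (h2 : x * u * x⁻¹ ∈ adj A u hn hu) :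
    ∀ a ∈ adj A u hn hu, x * a * x⁻¹ ∈ adj A u hn hu := by
  rintro a (h | h)
  · exact le_adj (h1 a h)
  · have := (adj A u hn hu).mul_mem (le_adj (h1 _ h)) h2
    convert this using 1; group

theorem cj_normalizer {G : Type*} [Group G] (A : Subgroup G) (g : G) :
    H49.cj (normalizer (A : Set G)) g = normalizer (H49.cj A g : Set G) := by
  ext x
  rw [H49.mem_cj, ← H49.cj_eq_iff, ← H49.cj_eq_iff, ← H49.cj_mul]
  constructor
  · intro h; rw [show x * g = g * (g⁻¹ * x * g) by group, H49.cj_mul, h]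
  · intro h; rw [mul_assoc, H49.cj_mul, h, H49.cj_inv_cj]

theorem cj_bot {G : Type*} [Group G] (g : G) : H49.cj (⊥ : Subgroup G) g = ⊥ := map_bot _

/-- A conjugate subgroup is isomorphic to the subgroup. -/
noncomputable def cjEquiv {G : Type*} [Group G] (A : Subgroup G) (g : G) : A ≃* H49.cj A g :=
  A.equivMapOfInjective (MulAut.conj g).toMonoidHom (MulAut.conj g).injective

namespace JA

variable {G : Type*} [Group G] (J : JA G)

/-- The invariant complement in the extraspecial group. -/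
def EW : Subgroup G where
  carrier := {g | ∃ j < 64, J.e (xW j) = g}
  one_mem' := ⟨0, by norm_num, by rw [xW, mv_zero, J.e_zero]⟩
  mul_mem' := by
    rintro _ _ ⟨i, hi, rfl⟩ ⟨j, hj, rfl⟩
    exact ⟨i ^^^ j, Nat.xor_lt_two_pow (n := 6) hi hj, by
      rw [J.e_mul _ (chk_xW i hi).1 _ (chk_xW j hj).1, (chk_xW i hi).2 j hj]⟩
  inv_mem' := by
    rintro _ ⟨i, hi, rfl⟩
    exact ⟨i, hi, eq_inv_of_mul_eq_one_left (by
      rw [J.e_mul _ (chk_xW i hi).1 _ (chk_xW i hi).1, (chk_xW i hi).2 i hi, Nat.xor_self, xW, mv_zero,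
        J.e_zero])⟩

theorem card_EW : Nat.card J.EW ≤ 64 := by
  have := ncard_le_length (J.EW : Set G) (fun j => J.e (xW j)) (List.range 64)
    (fun x ⟨j, hj, e⟩ => ⟨j, List.mem_range.mpr hj, e⟩)
  rwa [List.length_range, ← Nat.card_coe_set_eq] at this

theorem norm_EW {k : G} {c : ℕ} (hk : J.KD k c) (h : nW c = true) :
    ∀ g ∈ J.EW, k * g * k⁻¹ ∈ J.EW := by
  rintro _ ⟨j, hj, rfl⟩
  have h1 := of_allB h hj
  simp only [force_eq, Bool.and_eq_true, ble_iff, beq_iff] at h1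
  exact ⟨_, Nat.lt_succ_of_le h1.1, by rw [hk.conj _ (chk_xW j hj).1, h1.2]⟩

theorem sq_of_cjK [Finite G] {w : List ℕ} {a b : G} {c d : ℕ} (ha : J.KD a c) (hb : J.KD b d)
    (h : cjK w c d = true) (aa : a * a = 1) : b * b = 1 := by
  simp only [cjK, force_eq, Bool.and_eq_true, beq_iff] at h
  have h1 : wd J.k w * a * (wd J.k w)⁻¹ * (wd J.k w * a * (wd J.k w)⁻¹) = 1 := by rw [conj_mul, aa]; simp
  rcases J.conj_uniq (J.kd_wd h.1) ha hb h.2 with e | e <;> rw [e] at h1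
  · exact h1
  · rwa [mul_assoc, ← mul_assoc J.z, ← J.toHyp.memH.mp hb.mem, mul_assoc, J.toHyp.zz, mul_one] at h1

end JA

namespace JZ

variable {G : Type*} [Group G] [Finite G] (J : JZ G)

theorem wA_spec : J.e wA ∈ J.M ∧ inM pA = true ∧ J.μ (J.e wA) = toM pA := J.mu_spec_e chk_muS.2.2.2.2.1

theorem wB_spec : J.e wB ∈ J.M ∧ inM pB = true ∧ J.μ (J.e wB) = toM pB := J.mu_spec_e chk_muS.2.2.2.2.2

theorem σ1_spec : J.σ1 ∈ J.M ∧ inM pS1 = true ∧ J.μ J.σ1 = toM pS1 := J.mu_spec_k J.kd_σ1 chk_muS.2.2.2.1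

omit [Finite G] in
theorem wA_sq : J.e wA * J.e wA = 1 := by
  rw [J.e_sq (by decide), show qf (lo wA) = 0 by decide +kernel, pow_zero]

omit [Finite G] in
theorem wB_sq : J.e wB * J.e wB = 1 := by
  rw [J.e_sq (by decide), show qf (lo wB) = 0 by decide +kernel, pow_zero]

theorem σ1_sq : J.σ1 * J.σ1 = 1 := by
  refine (J.uniq1 (J.kd_σ1.mul J.kd_σ1) chk_vO.2.2.2.2.2.2.2.2.1).resolve_right fun h => ?_
  obtain ⟨n, hn, e⟩ := J.μ_surj (toM kS)
  obtain ⟨h1, h2, h3⟩ := J.wA_spec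
  obtain ⟨h4, h5, h6⟩ := J.σ1_spec
  have h7 : n * J.e wA * n⁻¹ ∈ J.M := J.M.mul_mem (J.M.mul_mem hn h1) (J.M.inv_mem hn)
  have h8 : J.μ (n * J.e wA * n⁻¹) = toM pS1 := by
    rw [J.μ_conj hn h1, e, h3, ← toM_pconj chk_pS1.1 h2, chk_pS1.2.1]
  have h9 : n * J.e wA * n⁻¹ * (n * J.e wA * n⁻¹) = 1 := by rw [conj_mul, J.wA_sq]; simp
  generalize n * J.e wA * n⁻¹ = x at h7 h8 h9
  obtain ⟨j, hj, e1⟩ := J.exists_χ ((J.μ_eq_iff h4 h7).mp (h6.trans h8.symm))
  have e2 : J.σ1 * J.σ1 = J.χ j * (x * J.χ j * x⁻¹) := by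
    rw [← eq_mul_inv_iff_mul_eq.mp e1, inv_eq_of_mul_eq_one_left h9]; group
  rw [J.conj_χ_eq h7 h5 h8 hj, J.χ_mul hj (cact_lt h5 j), h, ← J.χ_64] at e2
  have := of_allB chk_pS1.2.2 hj
  rw [Bool.not_eq_true', beq_false_iff] at this
  exact this (J.χ_inj (by norm_num) (xor_lt11 hj (cact_lt h5 j)) e2).symm

theorem exists_T0 : ∃ T : Subgroup G, T ≤ J.M ∧ T ⊓ J.V = ⊥ ∧ Nat.card T = 1024 := by
  obtain ⟨c1, c2, c3, c4, c5, c6, c7, c8, c9, c10, c11, c12⟩ := chk_ab
  have ka := J.kd_wd c1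
  have kb := J.kd_wd c2
  rw [c3] at ka; rw [c4] at kb
  generalize wd J.k va = a at ka
  generalize wd J.k vb = b at kb
  have ks := J.kd_σ1
  have ss := J.σ1_sq
  have ms := J.σ1_spec
  generalize J.σ1 = s at ks ss ms
  have y1 := J.ky 1 (by norm_num)
  have yy := J.ysq (m := 1) (by norm_num)
  have aa := J.sq_of_cjK y1 ka c8 yy
  have bb := J.sq_of_cjK y1 kb c9 yy
  have cc := J.sq_of_cjK y1 ((ka.mul kb).mul (ka.mul kb)) c10 yy
  have as := J.sq_of_cjK ks (ka.mul ks) c11 ss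
  have bs := J.sq_of_cjK ks (kb.mul ks) c12 ss
  have ia := inv_eq_of_mul_eq_one_left aa
  have ib := inv_eq_of_mul_eq_one_left bb
  have is := inv_eq_of_mul_eq_one_left ss
  have sa : s * a * s⁻¹ = a := by
    rw [is]; calc _ = a * (a * s * (a * s)) := by rw [← mul_assoc, ← mul_assoc, ← mul_assoc, aa, one_mul]
      _ = _ := by rw [as, mul_one]
  have sb : s * b * s⁻¹ = b := by
    rw [is]; calc _ = b * (b * s * (b * s)) := by rw [← mul_assoc, ← mul_assoc, ← mul_assoc, bb, one_mul]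
      _ = _ := by rw [bs, mul_one]
  have ic := inv_eq_of_mul_eq_one_left cc
  have ac : a * (a * b * (a * b)) * a⁻¹ = a * b * (a * b) := by
    conv_rhs => rw [← ic, mul_inv_rev, mul_inv_rev, ia, ib]
    rw [ia, ← mul_assoc, ← mul_assoc, ← mul_assoc, aa, one_mul]
    group
  have bc : b * (a * b * (a * b)) * b⁻¹ = a * b * (a * b) := by
    conv_rhs => rw [← ic, mul_inv_rev, mul_inv_rev, ia, ib]
    group
  have na := J.norm_EW ka c5
  have nb := J.norm_EW kb c6
  have ns := J.norm_EW ks c7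
  have nc : ∀ g ∈ J.EW, a * b * (a * b) * g * (a * b * (a * b))⁻¹ ∈ J.EW := fun g hg => by
    convert na _ (nb _ (na _ (nb _ hg))) using 1; group
  have u1 : a * b * (a * b) * (a * b * (a * b)) ∈ J.EW := cc ▸ one_mem _
  let A1 := adj J.EW _ nc u1
  have n1a : ∀ g ∈ A1, a * g * a⁻¹ ∈ A1 := adj_norm na (by rw [ac]; exact self_mem_adj)
  have n1b : ∀ g ∈ A1, b * g * b⁻¹ ∈ A1 := adj_norm nb (by rw [bc]; exact self_mem_adj)
  have n1s : ∀ g ∈ A1, s * g * s⁻¹ ∈ A1 := adj_norm ns (by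
    rw [← conj_mul, ← conj_mul, sa, sb]; exact self_mem_adj)
  have u2 : a * a ∈ A1 := aa ▸ one_mem _
  let A2 := adj A1 a n1a u2
  have n2b : ∀ g ∈ A2, b * g * b⁻¹ ∈ A2 := adj_norm n1b (by
    have : b * a * b⁻¹ = a * (a * b * (a * b)) := by
      rw [ib, ← mul_assoc, ← mul_assoc, ← mul_assoc, aa, one_mul]
    rw [this]; exact A2.mul_mem self_mem_adj (le_adj self_mem_adj))
  have n2s : ∀ g ∈ A2, s * g * s⁻¹ ∈ A2 := adj_norm n1s (by rw [sa]; exact self_mem_adj)
  have u3 : b * b ∈ A2 := bb ▸ one_mem _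
  let A3 := adj A2 b n2b u3
  have n3s : ∀ g ∈ A3, s * g * s⁻¹ ∈ A3 := adj_norm n2s (by rw [sb]; exact self_mem_adj)
  have u4 : s * s ∈ A3 := ss ▸ one_mem _
  let A4 := adj A3 s n3s u4
  have hc : Nat.card A4 ≤ 1024 := by
    have h0 := J.card_EW
    have h1 : Nat.card A1 ≤ _ := card_adj_le
    have h2 : Nat.card A2 ≤ _ := card_adj_le
    have h3 : Nat.card A3 ≤ _ := card_adj_le
    have h4 : Nat.card A4 ≤ _ := card_adj_le
    omega
  have ma := J.mu_spec_k ka chk_muS.2.1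
  have mb := J.mu_spec_k kb chk_muS.2.2.1
  have hM : A4 ≤ J.M := adj_le (adj_le (adj_le (adj_le (fun _ ⟨j, hj, e⟩ => e ▸ J.Q_le_M
    (J.e_mem _ (chk_xW j hj).1)) (J.M.mul_mem (J.M.mul_mem ma.1 mb.1) (J.M.mul_mem ma.1 mb.1))) ma.1)
    mb.1) ms.1
  have key : ∀ x ∈ A4, J.μ x ∈ (A4.subgroupOf J.M).map J.μ0 := fun x hx =>
    ⟨⟨x, hM hx⟩, hx, (J.μ_eq (hM hx)).symm⟩
  have h1 : 1024 ≤ Nat.card ((A4.subgroupOf J.M).map J.μ0) := by
    refine le_card_of_genChk chk_gS _ fun g hg => ?_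
    obtain ⟨i, hi, rfl⟩ : ∃ i < 9, nth gS i = g := by
      obtain ⟨i, hi, rfl⟩ := List.getElem_of_mem hg
      exact ⟨i, hi, by rw [nth_eq, List.getD_eq_getElem _ _ hi]⟩
    by_cases h6 : i < 6
    · rw [← (J.mu_spec_e (chk_muS.1 i h6)).2.2]
      exact key _ (le_adj (le_adj (le_adj (le_adj ⟨_, Nat.pow_lt_pow_right (by norm_num) h6, rfl⟩))))
    obtain rfl | rfl | rfl : i = 6 ∨ i = 7 ∨ i = 8 := by omega
    · rw [← ma.2.2]; exact key _ (le_adj (le_adj self_mem_adj))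
    · rw [← mb.2.2]; exact key _ (le_adj self_mem_adj)
    · rw [show nth gS 8 = pS1 from rfl, ← ms.2.2]; exact key _ self_mem_adj
  have h2 := (J.μ0.comp (A4.subgroupOf J.M).subtype).ker.card_mul_index
  rw [index_ker, MonoidHom.range_comp, range_subtype, Nat.card_congr (subgroupOfEquivOfLe hM).toEquiv] at h2
  have h3 : Nat.card (J.μ0.comp (A4.subgroupOf J.M).subtype).ker = 1 := by
    have : 0 < Nat.card (J.μ0.comp (A4.subgroupOf J.M).subtype).ker := Nat.card_pos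
    nlinarith
  refine ⟨A4, hM, eq_bot_iff.mpr fun x hx => ?_, by rw [h3] at h2; omega⟩
  have : (⟨⟨x, hM hx.1⟩, hx.1⟩ : A4.subgroupOf J.M) ∈ (J.μ0.comp (A4.subgroupOf J.M).subtype).ker :=
    (J.μ_eq (hM hx.1)).symm.trans (J.μ_V hx.2)
  rw [card_eq_one.mp h3, mem_bot] at this
  exact congrArg (fun y => (y.1.1 : G)) this

theorem exists_lam : ∃ lam : M24 →* G, ∀ g, lam g ∈ J.M ∧ J.μ (lam g) = g := by
  obtain ⟨T, hT, h1, h2⟩ := J.exists_T0
  let K := J.V.subgroupOf J.M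
  haveI : K.Normal := normal_in_normalizer
  haveI : IsMulCommutative K := ⟨⟨fun a b => Subtype.ext (Subtype.ext (J.V_comm a.2 b.2))⟩⟩
  have cK : Nat.card K = 2048 := by
    rw [Nat.card_congr (subgroupOfEquivOfLe J.V_le_M).toEquiv, J.card_V]
  have cA : Nat.card (T.subgroupOf J.M) = 1024 := by
    rw [Nat.card_congr (subgroupOfEquivOfLe hT).toEquiv, h2]
  have hAK : T.subgroupOf J.M ⊓ K = ⊥ := by
    rw [eq_bot_iff]; intro x hx
    have : (x : G) ∈ T ⊓ J.V := hx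
    rw [h1, mem_bot] at this
    exact mem_bot.mpr (Subtype.ext this)
  have h3 : 2048 * 1024 ≤ Nat.card ↥(K ⊔ T.subgroupOf J.M) := by
    have := card_mul_le (le_sup_left : K ≤ K ⊔ T.subgroupOf J.M) le_sup_right
    rwa [inf_comm, hAK, card_bot, cK, cA, one_mul] at this
  have h4 : IsPGroup 2 ↥(K ⊔ T.subgroupOf J.M) :=
    IsPGroup.to_sup_of_normal_left (IsPGroup.of_card (n := 11) cK) (IsPGroup.of_card (n := 10) cA)
  obtain ⟨n, hn⟩ := h4.exists_card_eq
  have h5 := (K ⊔ T.subgroupOf J.M).card_mul_index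
  rw [J.card_M J.hn, hn] at h5
  rw [hn] at h3
  have h6 : 21 ≤ n := (Nat.pow_le_pow_iff_right (a := 2) (by norm_num)).mp h3
  have h7 : (Nat.card K).Coprime (K ⊔ T.subgroupOf J.M).index := by
    rw [cK, show 2048 = 2 ^ 11 from rfl]
    refine Nat.Coprime.pow_left _ ((Nat.coprime_two_left).mpr ?_)
    by_contra h
    obtain ⟨k, hk⟩ := Nat.not_odd_iff_even.mp h
    obtain ⟨m, rfl⟩ := Nat.exists_eq_add_of_le h6
    rw [hk, pow_add] at h5
    have : 2 ^ m * (k + k) = 239085 := by nlinarith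
    have h8 : 2 ^ m * (k + k) = 2 * (2 ^ m * k) := by ring
    omega
  obtain ⟨H, hH⟩ := H2.gaschutz_exists K _ le_sup_left h7 _ le_sup_right hAK rfl
  have hb : Function.Bijective (J.μ0.comp H.subtype) := by
    refine ⟨(injective_iff_map_eq_one _).mpr fun x hx => ?_, fun g => ?_⟩
    · have : (x : J.M) ∈ K ⊓ H := ⟨J.ker_μ0.le hx, x.2⟩
      rw [hH.disjoint.eq_bot, mem_bot] at this
      exact Subtype.ext this
    · obtain ⟨m, rfl⟩ := J.μ0_surj g
      obtain ⟨⟨k, h⟩, e⟩ := hH.2 m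
      refine ⟨h, ?_⟩
      have hk : J.μ0 k = 1 := by rw [← MonoidHom.mem_ker, J.ker_μ0]; exact k.2
      rw [← e, map_mul, hk, one_mul]; rfl
  let e := MulEquiv.ofBijective _ hb
  refine ⟨(J.M.subtype.comp H.subtype).comp e.symm.toMonoidHom, fun g => ⟨(e.symm g).1.2, ?_⟩⟩
  exact (J.μ_coe (e.symm g).1).trans (e.apply_symm_apply g)

end JZ

/-- The data together with a complement. -/
structure JL (G : Type*) [Group G] [Finite G] extends JZ G where
  /-- the complement -/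
  lam : M24 →* G
  lamM : ∀ g, lam g ∈ toJY.M
  μ_lam : ∀ g, toJZ.μ (lam g) = g

theorem JZ.exists_JL {G : Type*} [Group G] [Finite G] (J : JZ G) : ∃ L : JL G, L.toJZ = J := by
  obtain ⟨lam, h⟩ := J.exists_lam
  exact ⟨⟨J, lam, fun g => (h g).1, fun g => (h g).2⟩, rfl⟩

theorem JA.exists_JL {G : Type*} [Group G] [Finite G] (J : JA G) (hn : ¬ IsIsolatedInvolution J.z) :
    ∃ L : JL G, L.toJA = J := by
  obtain ⟨Z, rfl⟩ := J.exists_JZ hn
  obtain ⟨L, rfl⟩ := Z.exists_JL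
  exact ⟨L, rfl⟩

theorem exists_JL {G : Type*} [Group G] [Finite G] [IsSimpleGroup G] (hG : ¬ IsMulCommutative G) {z : G}
    {P : Subgroup G} (h : IsOfJankoFourTypeWith z P) : ∃ J : JL G, J.z = z ∧ zpowers J.ρ = P := by
  obtain ⟨J, h1, h2⟩ := exists_JA h
  obtain ⟨L, rfl⟩ := J.exists_JL (not_isolated hG _)
  exact ⟨L, h1, h2⟩

namespace JL

variable {G : Type*} [Group G] [Finite G] (J : JL G)

theorem lam_inj : Function.Injective J.lam := fun a b h => by rw [← J.μ_lam a, h, J.μ_lam]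

theorem μ_vl {v : G} (hv : v ∈ J.V) (g : M24) : J.μ (v * J.lam g) = g := by
  rw [J.μ_mul (J.V_le_M hv) (J.lamM g), J.μ_V hv, J.μ_lam, one_mul]

theorem decompM {x : G} (hx : x ∈ J.M) : ∃ j < 2048, x = J.χ j * J.lam (J.μ x) := by
  obtain ⟨j, hj, e⟩ := J.exists_χ ((J.μ_eq_iff hx (J.lamM _)).mp (J.μ_lam _).symm)
  exact ⟨j, hj, by rw [e, inv_mul_cancel_right]⟩

theorem lam_mem_V {g : M24} (h : J.lam g ∈ J.V) : g = 1 := by rw [← J.μ_lam g, J.μ_V h]

theorem lam_χ {p j : ℕ} (hp : inM p = true) (hj : j < 2048) :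
    J.lam (toM p) * J.χ j * (J.lam (toM p))⁻¹ = J.χ (cact p j) :=
  J.conj_χ_eq (J.lamM _) hp (J.μ_lam _) hj

theorem lam_δ (g : M24) (p q : GolayPt) :
    J.lam g * J.δ p q * (J.lam g)⁻¹ = J.δ (g • p) (g • q) := by rw [J.conj_δ (J.lamM g), J.μ_lam]

theorem map_inf_V (B : Subgroup M24) : B.map J.lam ⊓ J.V = ⊥ :=
  eq_bot_iff.mpr fun _ ⟨⟨g, _, e⟩, h⟩ => by
    rw [mem_bot, ← e, J.lam_mem_V (g := g) (by rw [e]; exact h), map_one]

theorem mem_map_sup_V {B : Subgroup M24} {x : G} : x ∈ B.map J.lam ⊔ J.V ↔ x ∈ J.M ∧ J.μ x ∈ B := by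
  constructor
  · intro hx
    have : B.map J.lam ⊔ J.V ≤ (B.comap J.μ0).map J.M.subtype := sup_le
      (fun _ ⟨g, hg, e⟩ => ⟨⟨J.lam g, J.lamM g⟩, by
        rw [SetLike.mem_coe, mem_comap, ← J.μ_eq, J.μ_lam]; exact hg, e⟩)
      (fun v hv => ⟨⟨v, J.V_le_M hv⟩, by
        rw [SetLike.mem_coe, mem_comap, ← J.μ_eq, J.μ_V hv]; exact one_mem _, rfl⟩)
    obtain ⟨y, hy, rfl⟩ := this hx
    exact ⟨y.2, by rw [coe_subtype, J.μ_coe]; exact hy⟩
  · rintro ⟨h1, h2⟩
    obtain ⟨j, hj, e⟩ := J.decompM h1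
    rw [e]
    exact mul_mem (mem_sup_right (J.χ_mem hj)) (mem_sup_left ⟨_, h2, rfl⟩)

theorem map_top_sup_V : (⊤ : Subgroup M24).map J.lam ⊔ J.V = J.M := by
  ext x; rw [J.mem_map_sup_V]; simp

end JL

set_option linter.all false in
theorem eqns_J4S : True := by
  first | (have := @_root_.Cfsg.Agent.H83.J4.cjEquiv.eq_def.{0,0}) | (have := @_root_.Cfsg.Agent.H83.J4.cjEquiv.eq_def.{0}) | (have := @_root_.Cfsg.Agent.H83.J4.cjEquiv.eq_def) | skip
  first | (have := @_root_.Cfsg.Agent.H83.J4.cjEquiv.eq_1.{0,0}) | (have := @_root_.Cfsg.Agent.H83.J4.cjEquiv.eq_1.{0}) | (have := @_root_.Cfsg.Agent.H83.J4.cjEquiv.eq_1) | skip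
  first | (have := @_root_.Cfsg.Agent.H83.J4.cjEquiv.eq_2.{0,0}) | (have := @_root_.Cfsg.Agent.H83.J4.cjEquiv.eq_2.{0}) | (have := @_root_.Cfsg.Agent.H83.J4.cjEquiv.eq_2) | skip
  first | (have := @_root_.Cfsg.Agent.H83.J4.cjEquiv.congr_simp.{0,0}) | (have := @_root_.Cfsg.Agent.H83.J4.cjEquiv.congr_simp.{0}) | (have := @_root_.Cfsg.Agent.H83.J4.cjEquiv.congr_simp) | skip
  trivial

end Cfsg.Agent.H83.J4
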