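import Cfsg.Agent.H7.T3Cx
import Cfsg.Agent.H62.T3Ba1
import Cfsg.Agent.H3.T3Ba3

/-! The Steinberg parametrisation of the root groups of a desarguesian plane (piece STP0). -/

set_option autoImplicit false

namespace Cfsg.Agent.H83.T3S

open Cfsg.Agent.H35 Cfsg.Agent.Lead.T3 Cfsg.Agent.Lead.T3.Bld Equiv Matrix

universe u

section Vec

variable {F : Type} [Field F]

theorem par_refl (a : Fin 3 → F) : Par a a := ⟨1, one_ne_zero, (one_smul _ _).symm⟩

theorem par_symm {a b : Fin 3 → F} : Par a b → Par b a := by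
  rintro ⟨s, hs, rfl⟩
  exact ⟨s⁻¹, inv_ne_zero hs, (inv_smul_smul₀ hs a).symm⟩

theorem par_trans {a b c : Fin 3 → F} : Par a b → Par b c → Par a c := by
  rintro ⟨s, hs, rfl⟩ ⟨t, ht, rfl⟩
  exact ⟨t * s, mul_ne_zero ht hs, smul_smul _ _ _⟩

theorem par_mulVec {a b : Fin 3 → F} (g : Matrix (Fin 3) (Fin 3) F) :
    Par a b → Par (g *ᵥ a) (g *ᵥ b) := by
  rintro ⟨s, hs, rfl⟩
  exact ⟨s, hs, mulVec_smul _ _ _⟩

theorem par_vecMul {a b : Fin 3 → F} (g : Matrix (Fin 3) (Fin 3) F) :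
    Par a b → Par (a ᵥ* g) (b ᵥ* g) := by
  rintro ⟨s, hs, rfl⟩
  exact ⟨s, hs, smul_vecMul _ _ _⟩

theorem par_zero {a b : Fin 3 → F} (h : Par a b) (k : Fin 3) : a k = 0 ↔ b k = 0 := by
  obtain ⟨s, hs, rfl⟩ := h
  simp [hs]

/-- `a` lies on the coordinate axis `c`. -/
def Ax (a : Fin 3 → F) (c : Fin 3) : Prop := a ≠ 0 ∧ ∀ k, k ≠ c → a k = 0

theorem eqns_ax : True := by have := @Ax.eq_1; trivial

theorem Ax.ne {a : Fin 3 → F} {c : Fin 3} (h : Ax a c) : a c ≠ 0 := fun e =>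
  h.1 (funext fun k => if hk : k = c then hk ▸ e else h.2 k hk)

theorem Ax.par {a b : Fin 3 → F} {c : Fin 3} (h : Ax a c) (h' : Ax b c) : Par a b :=
  ⟨b c / a c, div_ne_zero h'.ne h.ne, funext fun k => by
    by_cases hk : k = c
    · subst hk; simp [h.ne]
    · simp [h.2 k hk, h'.2 k hk]⟩

theorem Ax.of_par {a b : Fin 3 → F} {c : Fin 3} (h : Ax a c) (e : Par a b) : Ax b c :=
  ⟨fun z => h.ne ((par_zero e c).2 (by simp [z])), fun k hk => (par_zero e k).1 (h.2 k hk)⟩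

theorem dot_symm {a b : Fin 3 → F} (e : a ⬝ᵥ b = 0) : b ⬝ᵥ a = 0 := (dotProduct_comm _ _).trans e

theorem third (c d : Fin 3) : ∃ e, e ≠ c ∧ e ≠ d := by revert c d; decide

theorem Ax.dot {a b : Fin 3 → F} {c : Fin 3} (h : Ax a c) (e : a ⬝ᵥ b = 0) : b c = 0 := by
  rw [dotProduct, Finset.sum_eq_single c (fun k _ hk => by simp [h.2 k hk]) (by simp)] at e
  exact (mul_eq_zero.1 e).resolve_left h.ne

/-- The elementary matrices. -/
def tv (a b : Fin 3) (t : F) : GL (Fin 3) F :=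
  if h : a = b then 1 else ⟨transvection a b t, transvection a b (-t),
    by rw [transvection_mul_transvection_same _ _ h, add_neg_cancel, transvection_zero],
    by rw [transvection_mul_transvection_same _ _ h, neg_add_cancel, transvection_zero]⟩

theorem eqns_tv : True := by have := @tv.eq_1; trivial

variable {a b c : Fin 3}

theorem tv_val (h : a ≠ b) (t : F) : (tv a b t).val = 1 + single a b t := by
  rw [tv, dif_neg h]; rfl

theorem tv_inv (h : a ≠ b) (t : F) : (tv a b t)⁻¹ = tv a b (-t) := by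
  rw [tv, tv, dif_neg h, dif_neg h]; exact Units.ext rfl

theorem tv_mulVec (h : a ≠ b) (t : F) (v : Fin 3 → F) (k : Fin 3) :
    ((tv a b t).val *ᵥ v) k = v k + if k = a then t * v b else 0 := by
  rw [tv_val h, add_mulVec, one_mulVec, single_mulVec]
  simp [Function.update_apply]

theorem vecMul_tv (h : a ≠ b) (t : F) (v : Fin 3 → F) (k : Fin 3) :
    (v ᵥ* ((tv a b t)⁻¹).val) k = v k + if k = b then -t * v a else 0 := by
  rw [tv_inv h, tv_val h, vecMul_add, vecMul_one, ← mulVec_transpose, transpose_single,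
    single_mulVec]
  simp [Function.update_apply]

theorem tv_rel : StRel (tv (F := F)) where
  add a b h s t := Units.ext (by
    simp [tv_val h, add_mul, mul_add, single_mul_single_of_ne _ _ _ _ h.symm, single_add,
      add_assoc])
  inj a b h s e := by simpa [tv_val h] using congrArg (fun g : GL (Fin 3) F => g.val a b) e
  com a b c h1 h2 h3 s t := by
    rw [mul_inv_eq_iff_eq_mul, mul_inv_eq_iff_eq_mul]
    refine Units.ext ?_
    simp only [Units.val_mul, tv_val h1, tv_val h2, tv_val h3, add_mul, mul_add, one_mul, mul_one,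
      single_mul_single_same, single_mul_single_of_ne _ _ _ _ h3.symm,
      single_mul_single_of_ne _ _ _ _ h2.symm, zero_mul, add_zero]
    abel
  cm1 a b c h1 h2 h3 s t := Units.ext (by
    simp only [Units.val_mul, tv_val h1, tv_val h3, add_mul, mul_add, one_mul, mul_one,
      single_mul_single_of_ne _ _ _ _ h3.symm, single_mul_single_of_ne _ _ _ _ h1.symm, add_zero]
    abel)
  cm2 a b c h1 h2 h3 s t := Units.ext (by
    simp only [Units.val_mul, tv_val h2, tv_val h3, add_mul, mul_add, one_mul, mul_one,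
      single_mul_single_of_ne _ _ _ _ h3.symm, single_mul_single_of_ne _ _ _ _ h2.symm, add_zero]
    abel)

theorem ne_mulVec (g : GL (Fin 3) F) {v : Fin 3 → F} (h : v ≠ 0) : g.val *ᵥ v ≠ 0 := fun e =>
  h (by simpa using congrArg ((g⁻¹).val *ᵥ ·) e)

theorem ne_vecMul (g : GL (Fin 3) F) {v : Fin 3 → F} (h : v ≠ 0) : v ᵥ* g.val ≠ 0 := fun e =>
  h (by simpa using congrArg (· ᵥ* (g⁻¹).val) e)

theorem nn_pt (h : a ≠ b) {t : F} (ht : t ≠ 0) {v : Fin 3 → F} (hv : Ax v c) :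
    Ax ((nn tv a b t).val *ᵥ v) (swap a b c) := by
  refine ⟨ne_mulVec _ hv.1, fun k hk => ?_⟩
  simp only [nn, Units.val_mul, ← mulVec_mulVec, tv_mulVec h, tv_mulVec h.symm]
  have z := hv.2
  by_cases h1 : c = a
  · subst h1
    rw [swap_apply_left] at hk
    by_cases h2 : k = c <;> simp [h2, hk, h, h.symm, z b h.symm, z k, ht]
  by_cases h2 : c = b
  · subst h2
    rw [swap_apply_right] at hk
    by_cases h3 : k = c <;> simp [h3, hk, h, h.symm, z a h, z k, ht]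
  rw [swap_apply_of_ne_of_ne h1 h2] at hk
  simp [z k hk, z a (Ne.symm h1), z b (Ne.symm h2)]

theorem nn_ln (h : a ≠ b) {t : F} (ht : t ≠ 0) {v : Fin 3 → F} (hv : Ax v c) :
    Ax (v ᵥ* ((nn tv a b t)⁻¹).val) (swap a b c) := by
  refine ⟨ne_vecMul _ hv.1, fun k hk => ?_⟩
  simp only [nn, _root_.mul_inv_rev, Units.val_mul, ← vecMul_vecMul, vecMul_tv h, vecMul_tv h.symm]
  have z := hv.2
  by_cases h1 : c = a
  · subst h1
    rw [swap_apply_left] at hk
    by_cases h2 : k = c <;> simp [h2, hk, h, h.symm, z b h.symm, z k, ht]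
  by_cases h2 : c = b
  · subst h2
    rw [swap_apply_right] at hk
    by_cases h3 : k = c <;> simp [h3, hk, h, h.symm, z a h, z k, ht]
  rw [swap_apply_of_ne_of_ne h1 h2] at hk
  simp [z k hk, z a (Ne.symm h1), z b (Ne.symm h2)]

end Vec

section Cx

variable {I W : Type} [Group W] (X : Cox I W) (i j : I)

/-- The chamber of the triangle with point `c` and line `d`. -/
def om : Fin 3 → Fin 3 → W :=
  ![![1, X.s j, 1], ![X.s i * X.s j, 1, X.s i], ![X.s i * X.s j * X.s i, X.s j * X.s i, 1]]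

theorem eqns_om : True := by have := @om.eq_1; trivial

variable {X i j} (hm : X.m i j = 3)
include hm

theorem braid : X.s j * (X.s i * X.s j) = X.s i * (X.s j * X.s i) := by
  have := H7.T3Cx.wp_altw_m X i j
  rw [hm] at this
  simpa [InvGen.altw] using this.symm

theorem braid1 (w : W) : X.s j * (X.s i * (X.s j * w)) = X.s i * (X.s j * (X.s i * w)) := by
  simpa [mul_assoc] using congrArg (· * w) (braid hm)

theorem braid2 : X.s i * (X.s j * (X.s i * X.s j)) = X.s j * X.s i := by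
  rw [braid hm, X.s_mul_s_cancel_left]

theorem braid3 (w : W) : X.s i * (X.s j * (X.s i * (X.s j * w))) = X.s j * (X.s i * w) := by
  rw [braid1 hm, X.s_mul_s_cancel_left]

theorem lens : X.len (X.s i * X.s j) = 2 ∧ X.len (X.s j * X.s i) = 2 ∧
    X.len (X.s i * (X.s j * X.s i)) = 3 := by
  have h1 := H7.T3Cx.len_altw X (i := i) (j := j) (n := 2) (by omega)
  have h2 := H7.T3Cx.len_altw X (i := j) (j := i) (n := 2) (by rw [H7.T3Cx.m_symm]; omega)
  have h3 := H7.T3Cx.len_altw X (i := i) (j := j) (n := 3) (by omega)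
  simp [InvGen.altw] at h1 h2 h3
  exact ⟨h1, h2, h3⟩

theorem ne_ij : i ≠ j := by
  rintro rfl
  have := (lens hm).1
  simp [X.s_mul_s] at this

theorem ex_om [Finite W] {w : W} (hw : w ∈ X.WJ {i, j}) : ∃ c d, c ≠ d ∧ w = om X i j c d := by
  obtain ⟨n, hn, h⟩ := H7.T3Cx.exists_altw X hw
  rw [hm] at hn
  interval_cases n <;> rcases h with rfl | rfl
  exacts [⟨0, 2, by decide, rfl⟩, ⟨0, 2, by decide, rfl⟩,
    ⟨1, 2, by decide, by simp [InvGen.altw, om]⟩, ⟨0, 1, by decide, by simp [InvGen.altw, om]⟩,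
    ⟨1, 0, by decide, by simp [InvGen.altw, om]⟩, ⟨2, 1, by decide, by simp [InvGen.altw, om]⟩,
    ⟨2, 0, by decide, by simp [InvGen.altw, om, mul_assoc]⟩,
    ⟨2, 0, by decide, by simp [InvGen.altw, om, mul_assoc, braid hm]⟩]

theorem om_rt (a b c d : Fin 3) (h : a ≠ b) (h' : c ≠ d) :
    om X i j c d ∈ X.rt (prt X i j a b).1 (prt X i j a b).2 ↔ c ≠ b ∧ d ≠ a := by
  obtain ⟨l1, l2, l3⟩ := lens hm
  fin_cases a <;> fin_cases b <;> (try exact absurd rfl h) <;> fin_cases c <;> fin_cases d <;>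
    (try exact absurd rfl h') <;>
    simp [om, prt, Cox.rt, mul_assoc, braid hm, braid1 hm, braid2 hm, braid3 hm, X.s_mul_s, l1, l2,
      l3, H7.T3Cx.len_s]

theorem om_rf (a b c d : Fin 3) (h : a ≠ b) (h' : c ≠ d) :
    X.rf (prt X i j a b).1 (prt X i j a b).2 * om X i j c d = om X i j (swap a b c) (swap a b d) := by
  fin_cases a <;> fin_cases b <;> (try exact absurd rfl h) <;> fin_cases c <;> fin_cases d <;>
    (try exact absurd rfl h') <;>
    simp [om, prt, Cox.rf, mul_assoc, braid hm, braid1 hm, braid2 hm, braid3 hm, X.s_mul_s,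
      swap_apply_def]

theorem om_s (a b c : Fin 3) (h1 : a ≠ b) (h2 : b ≠ c) (h3 : a ≠ c) :
    om X i j a c * X.s i = om X i j b c ∧ om X i j c a * X.s j = om X i j c b := by
  fin_cases a <;> fin_cases b <;> (try exact absurd rfl h1) <;> fin_cases c <;>
    (try exact absurd rfl h2) <;> (try exact absurd rfl h3) <;>
    simp [om, mul_assoc, braid hm, braid1 hm, braid2 hm, braid3 hm, X.s_mul_s]

omit hm in
theorem om_prt (a b : Fin 3) (h : a ≠ b) : ∃ c, b ≠ c ∧ a ≠ c ∧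
    (prt X i j a b = (om X i j a c, i) ∨ prt X i j a b = (om X i j c b, j)) := by
  fin_cases a <;> fin_cases b <;> (try exact absurd rfl h)
  exacts [⟨2, by decide, by decide, .inl rfl⟩, ⟨1, by decide, by decide, .inr rfl⟩,
    ⟨2, by decide, by decide, .inl rfl⟩, ⟨0, by decide, by decide, .inr rfl⟩,
    ⟨1, by decide, by decide, .inr rfl⟩, ⟨0, by decide, by decide, .inr rfl⟩]

omit hm in
theorem om_mem (c d : Fin 3) : om X i j c d ∈ X.WJ {i, j} := by
  have h1 : X.s i ∈ X.WJ {i, j} := H7.T3Cx.s_mem X (by simp)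
  have h2 : X.s j ∈ X.WJ {i, j} := H7.T3Cx.s_mem X (by simp)
  fin_cases c <;> fin_cases d <;> simp [om, one_mem, mul_mem, h1, h2]

end Cx

section Geo

variable {I W : Type} [Group W] {X : Cox I W} {C : Type u} {B : Bld X C} {σ : W → C} {i j : I}
  {F : Type} [Field F] {κ κ' : C → F} {p l : C → Fin 3 → F}

theorem apt_mem (hσ : B.Apt σ) {K : Set I} {w : W} (hw : w ∈ X.WJ K) : σ w ∈ B.res K (σ 1) := by
  change B.δ _ _ ∈ X.WJ K
  rwa [hσ, inv_one, one_mul]

theorem apt_pan (hσ : B.Apt σ) (w : W) (k : I) : σ (w * X.s k) ∈ B.pan (σ w) k := by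
  change B.δ _ _ = _
  rw [hσ, inv_mul_cancel_left]

variable (hm : X.m i j = 3) (h : B.PCD σ i j F κ κ' p l)
include hm h

theorem fl_ext {x y : C} (hx : x ∈ B.res {i, j} (σ 1)) (hy : y ∈ B.res {i, j} (σ 1))
    (e : Par (p x) (p y)) (e' : Par (l x) (l y)) : x = y := by
  have h1 := (H7.T3Cx.mem_WJ_single X _ _).1 ((h.pt x hx y hy).2 e)
  have h2 := (H7.T3Cx.mem_WJ_single X _ _).1 ((h.ln x hx y hy).2 e')
  rw [← B.eq_one]
  rcases h1 with h1 | h1
  · exact h1
  · exact h2.resolve_right fun h2 => ne_ij hm (X.inj (h2.symm.trans h1))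

omit hm in
theorem pan_i {x y : C} (hx : x ∈ B.res {i, j} (σ 1)) (hy : y ∈ B.pan x i) :
    y ∈ B.res {i, j} (σ 1) ∧ Par (l x) (l y) :=
  have k := H3.T3Ba3.adj_mem B hx (by simp) hy
  ⟨k, (h.ln x hx y k).1 ((H7.T3Cx.mem_WJ_single X _ _).2 (.inr hy))⟩

omit hm in
theorem pan_j {x y : C} (hx : x ∈ B.res {i, j} (σ 1)) (hy : y ∈ B.pan x j) :
    y ∈ B.res {i, j} (σ 1) ∧ Par (p x) (p y) :=
  have k := H3.T3Ba3.adj_mem B hx (by simp) hy
  ⟨k, (h.pt x hx y k).1 ((H7.T3Cx.mem_WJ_single X _ _).2 (.inr hy))⟩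

theorem om_ax (hσ : B.Apt σ) (c d : Fin 3) (hcd : c ≠ d) :
    Ax (p (σ (om X i j c d))) c ∧ Ax (l (σ (om X i j c d))) d := by
  have m := fun c d => apt_mem hσ (om_mem (X := X) (i := i) (j := j) c d)
  have L : ∀ a b c : Fin 3, a ≠ b → b ≠ c → a ≠ c →
      Par (l (σ (om X i j a c))) (l (σ (om X i j b c))) := fun a b c h1 h2 h3 =>
    (pan_i h (m a c) ((om_s hm a b c h1 h2 h3).1 ▸ apt_pan hσ _ i)).2
  have P : ∀ a b c : Fin 3, a ≠ b → b ≠ c → a ≠ c →
      Par (p (σ (om X i j c a))) (p (σ (om X i j c b))) := fun a b c h1 h2 h3 =>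
    (pan_j h (m c a) ((om_s hm a b c h1 h2 h3).2 ▸ apt_pan hσ _ j)).2
  have e0 : Ax (![1, 0, 0] : Fin 3 → F) 0 :=
    ⟨fun e => by simpa using congrFun e 0, fun k hk => by fin_cases k <;> simp at hk ⊢⟩
  have e2 : Ax (![0, 0, 1] : Fin 3 → F) 2 :=
    ⟨fun e => by simpa using congrFun e 2, fun k hk => by fin_cases k <;> simp at hk ⊢⟩
  have p02 : Ax (p (σ (om X i j 0 2))) 0 := e0.of_par (par_symm h.base.1)
  have l02 : Ax (l (σ (om X i j 0 2))) 2 := e2.of_par (par_symm h.base.2)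
  have p20 : Ax (p (σ (om X i j 2 0))) 2 := e2.of_par (par_symm h.opp.1)
  have l20 : Ax (l (σ (om X i j 2 0))) 0 := e0.of_par (par_symm h.opp.2)
  have p01 := p02.of_par (P 2 1 0 (by decide) (by decide) (by decide))
  have p21 := p20.of_par (P 0 1 2 (by decide) (by decide) (by decide))
  have l12 := l02.of_par (L 0 1 2 (by decide) (by decide) (by decide))
  have l10 := l20.of_par (L 2 1 0 (by decide) (by decide) (by decide))
  have mid : ∀ v : Fin 3 → F, v ≠ 0 → v 0 = 0 → v 2 = 0 → Ax v 1 := fun v h0 h1 h2 =>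
    ⟨h0, fun k hk => by fin_cases k <;> simp_all⟩
  have P1 := P 2 0 1 (by decide) (by decide) (by decide)
  have L1 := L 0 2 1 (by decide) (by decide) (by decide)
  have p12 := mid _ (h.ne _ (m 1 2)).1 ((par_zero P1 0).2 (l10.dot (h.ne _ (m 1 0)).2.2))
    (l12.dot (h.ne _ (m 1 2)).2.2)
  have l01 := mid _ (h.ne _ (m 0 1)).2.1 (p01.dot (dot_symm (h.ne _ (m 0 1)).2.2))
    ((par_zero L1 2).2 (p21.dot (dot_symm (h.ne _ (m 2 1)).2.2)))
  fin_cases c <;> fin_cases d <;> (try exact absurd rfl hcd)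
  exacts [⟨p01, l01⟩, ⟨p02, l02⟩, ⟨p12.of_par P1, l10⟩, ⟨p12, l12⟩, ⟨p20, l20⟩,
    ⟨p21, l01.of_par L1⟩]

theorem ex_rho : ∃ ρ : GL (Fin 3) F →* Perm C, (∀ g x, x ∉ B.res {i, j} (σ 1) → ρ g x = x) ∧
    ∀ g, ∀ x ∈ B.res {i, j} (σ 1), ρ g x ∈ B.res {i, j} (σ 1) ∧ Par (p (ρ g x)) (g.val *ᵥ p x) ∧
      Par (l (ρ g x)) (l x ᵥ* (g⁻¹).val) := by
  have : ∀ (g : GL (Fin 3) F) x, ∃ y, (x ∉ B.res {i, j} (σ 1) → y = x) ∧ (x ∈ B.res {i, j} (σ 1) →
      y ∈ B.res {i, j} (σ 1) ∧ Par (p y) (g.val *ᵥ p x) ∧ Par (l y) (l x ᵥ* (g⁻¹).val)) := by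
    intro g x
    by_cases hx : x ∈ B.res {i, j} (σ 1)
    · obtain ⟨h1, h2, h3⟩ := h.ne x hx
      obtain ⟨y, hy⟩ := h.sur _ _ (ne_mulVec g h1) (ne_vecMul g⁻¹ h2)
        (by rw [dotProduct_mulVec, vecMul_vecMul, Units.inv_mul, vecMul_one, h3])
      exact ⟨y, fun n => absurd hx n, fun _ => hy⟩
    · exact ⟨x, fun _ => rfl, fun n => absurd n hx⟩
  choose mv h1 h2 using this
  have one : ∀ x, mv 1 x = x := fun x => by
    by_cases hx : x ∈ B.res {i, j} (σ 1)
    · obtain ⟨k1, k2, k3⟩ := h2 1 x hx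
      exact fl_ext hm h k1 hx (by simpa using k2) (by simpa using k3)
    · exact h1 1 x hx
  have mul : ∀ g g' x, mv (g * g') x = mv g (mv g' x) := fun g g' x => by
    by_cases hx : x ∈ B.res {i, j} (σ 1)
    · obtain ⟨k1, k2, k3⟩ := h2 (g * g') x hx
      obtain ⟨a1, a2, a3⟩ := h2 g' x hx
      obtain ⟨b1, b2, b3⟩ := h2 g _ a1
      refine fl_ext hm h k1 b1 (par_trans k2 (par_symm (par_trans b2 ?_)))
        (par_trans k3 (par_symm (par_trans b3 ?_)))
      · rw [Units.val_mul, ← mulVec_mulVec]; exact par_mulVec _ a2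
      · rw [_root_.mul_inv_rev, Units.val_mul, ← vecMul_vecMul]; exact par_vecMul _ a3
    · rw [h1 _ x hx, h1 _ x hx, h1 _ x hx]
  letI : MulAction (GL (Fin 3) F) C := { smul := mv, one_smul := one, mul_smul := mul }
  exact ⟨MulAction.toPermHom _ C, h1, h2⟩

end Geo

/-- **STP0** -/
theorem stp0Stmt (fr : FreeStmt.{u}) : Stp0Stmt.{u} := by
  intro I W _ _ X C _ B σ i j F _ κ κ' hσ ⟨hm, p, l, h⟩
  obtain ⟨ρ, out, hρ⟩ := ex_rho hm h
  have m := fun c d => apt_mem hσ (om_mem (X := X) (i := i) (j := j) c d)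
  have ax := om_ax hm h hσ
  have ext := @fl_ext _ _ _ _ _ _ _ _ _ _ _ _ _ _ _ hm h
  have aut : ∀ g, ρ g ∈ B.Aut {i, j} (σ 1) := fun g => ⟨out g,
    ((H3.T3Ba3.ba3Stmt H7.T3Cx.cxStmt H62.T3B.ba1Stmt B B).1 {i, j} (σ 1) (ρ g) (by
      intro x hx k hk y hy
      obtain ⟨a1, a2, a3⟩ := hρ g x hx
      have ne : B.δ (ρ g x) (ρ g y) ≠ 1 := fun e => by
        rw [B.eq_one, (ρ g).apply_eq_iff_eq] at e
        subst e
        have := H7.T3Cx.len_s X k
        rw [← show B.δ x x = _ from hy, H62.T3B.self] at this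
        simp at this
      refine ((H7.T3Cx.mem_WJ_single X _ _).1 ?_).resolve_left ne
      rcases hk with rfl | rfl
      · obtain ⟨k1, k2⟩ := pan_i h hx hy
        obtain ⟨b1, b2, b3⟩ := hρ g y k1
        exact (h.ln _ a1 _ b1).2 (par_trans a3 (par_trans (par_vecMul _ k2) (par_symm b3)))
      · obtain ⟨k1, k2⟩ := pan_j h hx hy
        obtain ⟨b1, b2, b3⟩ := hρ g y k1
        exact (h.pt _ a1 _ b1).2 (par_trans a2 (par_trans (par_mulVec _ k2) (par_symm b2))))).1⟩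
  have fix : ∀ a b, a ≠ b → ∀ t, ∀ x ∈ B.res {i, j} (σ 1), p x b = 0 → l x a = 0 →
      ρ (tv a b t) x = x := fun a b ab t x hx e1 e2 => by
    obtain ⟨a1, a2, a3⟩ := hρ (tv a b t) x hx
    rw [show (tv a b t).val *ᵥ p x = p x from funext fun k => by simp [tv_mulVec ab, e1]] at a2
    rw [show l x ᵥ* ((tv a b t)⁻¹).val = l x from funext fun k => by
      rw [vecMul_tv ab]; simp [e2]] at a3
    exact ext a1 hx a2 a3
  have mem : ∀ a b, a ≠ b → ∀ t,
      ρ (tv a b t) ∈ B.R σ {i, j} (prt X i j a b).1 (prt X i j a b).2 := fun a b ab t => by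
    refine ⟨aut _, fun w hw ha => ?_, fun w hw k hk ha ha' x hx => ?_⟩
    · obtain ⟨c, d, cd, rfl⟩ := ex_om hm hw
      obtain ⟨k1, k2⟩ := (om_rt hm a b c d ab cd).1 ha
      exact fix a b ab t _ (m c d) ((ax c d cd).1.2 b k1.symm) ((ax c d cd).2.2 a k2.symm)
    · obtain ⟨c, d, cd, rfl⟩ := ex_om hm hw
      obtain ⟨k1, k2⟩ := (om_rt hm a b c d ab cd).1 ha
      obtain ⟨e, e1, e2⟩ := third c d
      rcases hk with rfl | rfl
      · rw [(om_s hm c e d e1.symm e2 cd).1] at ha'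
        obtain rfl : d = b := by have := ((om_rt hm a b e d ab e2).1 ha').1; omega
        obtain ⟨y1, y2⟩ := pan_i h (m c d) hx
        have := (ax c d cd).2.of_par y2
        exact fix a d ab t x y1 (this.dot (h.ne x y1).2.2) (this.2 a ab)
      · rw [(om_s hm d e c e2.symm e1 cd.symm).2] at ha'
        obtain rfl : c = a := by have := ((om_rt hm a b c e ab e1.symm).1 ha').2; omega
        obtain ⟨y1, y2⟩ := pan_j h (m c d) hx
        have := (ax c d cd).1.of_par y2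
        exact fix c b ab t x y1 (this.2 b ab.symm)
          (this.dot (dot_symm (h.ne x y1).2.2))
  have tri : ∀ a b c, a ≠ b → b ≠ c → a ≠ c → ∀ y ∈ B.pan (σ (om X i j a c)) i,
      ∃ t, ρ (tv a b t) (σ (om X i j b c)) = y := fun a b c ab bc ac y hy => by
    obtain ⟨y1, y2⟩ := pan_i h (m a c) hy
    have ly := (ax a c ac).2.of_par y2
    have pc := ly.dot (h.ne y y1).2.2
    have pb : p y b ≠ 0 := fun e => by
      have : Ax (p y) a := ⟨(h.ne y y1).1, fun k hk => by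
        rcases show k = b ∨ k = c by omega with rfl | rfl <;> assumption⟩
      have e' := ext (m a c) y1 ((ax a c ac).1.par this) y2
      have := H7.T3Cx.len_s X i
      rw [← show B.δ _ y = _ from hy, e', H62.T3B.self] at this
      simp at this
    obtain ⟨a1, a2, a3⟩ := hρ (tv a b (p y a / p y b)) _ (m b c)
    obtain ⟨b1, b2⟩ := ax b c bc
    refine ⟨_, ext a1 y1 (par_trans a2 ⟨p y b / p (σ (om X i j b c)) b, div_ne_zero pb b1.ne,
      funext fun k => ?_⟩) (par_trans a3 (Ax.par ?_ ly))⟩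
    · have := b1.ne
      rcases show k = a ∨ k = b ∨ k = c by omega with rfl | rfl | rfl
      · simp [tv_mulVec ab, b1.2 k ab]; field_simp
      · simp [tv_mulVec ab, ab.symm, this]
      · simp [tv_mulVec ab, ac.symm, pc, b1.2 k bc.symm]
    · exact ⟨ne_vecMul _ b2.1, fun k hk => by rw [vecMul_tv ab]; simp [b2.2 k hk, b2.2 a ac]⟩
  have trj : ∀ a b c, a ≠ b → b ≠ c → a ≠ c → ∀ y ∈ B.pan (σ (om X i j c b)) j,
      ∃ t, ρ (tv a b t) (σ (om X i j c a)) = y := fun a b c ab bc ac y hy => by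
    obtain ⟨y1, y2⟩ := pan_j h (m c b) hy
    have py := (ax c b bc.symm).1.of_par y2
    have lc := py.dot (dot_symm (h.ne y y1).2.2)
    have la : l y a ≠ 0 := fun e => by
      have : Ax (l y) b := ⟨(h.ne y y1).2.1, fun k hk => by
        rcases show k = a ∨ k = c by omega with rfl | rfl <;> assumption⟩
      have e' := ext (m c b) y1 y2 ((ax c b bc.symm).2.par this)
      have := H7.T3Cx.len_s X j
      rw [← show B.δ _ y = _ from hy, e', H62.T3B.self] at this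
      simp at this
    obtain ⟨a1, a2, a3⟩ := hρ (tv a b (-(l y b / l y a))) _ (m c a)
    obtain ⟨b1, b2⟩ := ax c a ac.symm
    refine ⟨_, ext a1 y1 (par_trans a2 (Ax.par ?_ py)) (par_trans a3
      ⟨l y a / l (σ (om X i j c a)) a, div_ne_zero la b2.ne, funext fun k => ?_⟩)⟩
    · exact ⟨ne_mulVec _ b1.1, fun k hk => by simp [tv_mulVec ab, b1.2 k hk, b1.2 b bc]⟩
    · have := b2.ne
      rw [Pi.smul_apply, vecMul_tv ab]
      rcases show k = a ∨ k = b ∨ k = c by omega with rfl | rfl | rfl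
      · simp [ab, this]
      · simp [b2.2 k ab.symm]; field_simp
      · simp [bc.symm, lc, b2.2 k ac.symm]
  have pan : ∀ {K : Set I} {g : Perm C} {v : W} {k : I}, v ∈ X.WJ K → k ∈ K → g ∈ B.R σ K v k →
      g (σ (v * X.s k)) ∈ B.pan (σ v) k := fun {K g v k} hv hk hg => by
    have e := hg.2.1 v hv (by simp [Cox.rt, H7.T3Cx.len_s])
    have := hg.1.2 _ (apt_mem hσ hv) _ (apt_mem hσ (mul_mem hv (H7.T3Cx.s_mem X hk)))
    rw [e] at this
    exact this.trans (apt_pan hσ v k)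
  have r := tv_rel (F := F)
  refine ⟨fun a b t => ρ (tv a b t), ⟨fun a b ab s t => by rw [r.add a b ab, map_mul],
    fun a b ab s e => ?_, fun a b c h1 h2 h3 s t => by
      rw [← r.com a b c h1 h2 h3]; simp only [map_mul, map_inv],
    fun a b c h1 h2 h3 s t => by rw [← map_mul, r.cm1 a b c h1 h2 h3, map_mul],
    fun a b c h1 h2 h3 s t => by rw [← map_mul, r.cm2 a b c h1 h2 h3, map_mul]⟩,
    fun a b ab g => ⟨fun hg => ?_, by rintro ⟨t, rfl⟩; exact mem a b ab t⟩, fun s => ?_,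
    fun t => ?_, fun a b ab t ht w hw => ?_⟩
  · obtain ⟨-, a2, -⟩ := hρ (tv a b s) _ (m b a)
    have b1 := (ax b a ab.symm).1
    rw [e, Perm.one_apply] at a2
    simpa [tv_mulVec ab, b1.2 a ab, b1.ne] using (b1.of_par a2).2 a ab
  · have k := mem a b ab
    obtain ⟨c, bc, ac, e | e⟩ := om_prt (X := X) (i := i) (j := j) a b ab <;> rw [e] at hg k
    · have y := pan (om_mem a c) (by simp) hg
      obtain ⟨t, ht⟩ := tri a b c ab bc ac _ y
      refine ⟨t, inv_mul_eq_one.1 ((fr B σ {i, j} hσ).1 _ (om_mem a c) i (by simp)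
        ⟨j, by simp, hm.ge⟩ _ (mul_mem (inv_mem (k t)) hg) _ (apt_pan hσ _ i) ?_)⟩
      rw [Perm.mul_apply, ← ht, (om_s hm a b c ab bc ac).1]
      exact Equiv.symm_apply_apply _ _
    · have y := pan (om_mem c b) (by simp) hg
      obtain ⟨t, ht⟩ := trj a b c ab bc ac _ y
      refine ⟨t, inv_mul_eq_one.1 ((fr B σ {i, j} hσ).1 _ (om_mem c b) j (by simp)
        ⟨i, by simp, (H7.T3Cx.m_symm X i j ▸ hm).ge⟩ _ (mul_mem (inv_mem (k t)) hg) _
        (apt_pan hσ _ j) ?_)⟩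
      rw [Perm.mul_apply, ← ht, (om_s hm b a c ab.symm ac bc).2]
      exact Equiv.symm_apply_apply _ _
  · have y := pan (k := i) (one_mem _) (by simp) (mem 0 1 (by decide) s)
    rw [one_mul] at y
    obtain ⟨-, a2, -⟩ := hρ (tv 0 1 s) _ (m 1 2)
    have b1 := (ax 1 2 (by decide)).1
    obtain ⟨u, hu, e⟩ := par_trans (par_symm (h.ki _ y)) a2
    have e0 := congrFun e 0
    have e1 := congrFun e 1
    rw [tv_mulVec (by decide)] at e0 e1
    simp [b1.2 0 (by decide)] at e0 e1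
    rw [e1, mul_comm] at e0
    exact (mul_left_cancel₀ hu e0).symm
  · have y := pan (k := j) (one_mem _) (by simp) (mem 1 2 (by decide) t)
    rw [one_mul] at y
    obtain ⟨-, -, a3⟩ := hρ (tv 1 2 t) _ (m 0 1)
    have b2 := (ax 0 1 (by decide)).2
    obtain ⟨u, hu, e⟩ := par_trans (par_symm (h.kj _ y)) a3
    have e1 := congrFun e 1
    have e2 := congrFun e 2
    rw [vecMul_tv (by decide)] at e1 e2
    simp [b2.2 2 (by decide)] at e1 e2
    rw [e1, mul_comm] at e2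
    exact (mul_left_cancel₀ hu e2).symm
  · obtain ⟨c, d, cd, rfl⟩ := ex_om hm hw
    obtain ⟨a1, a2, a3⟩ := hρ (nn tv a b t) _ (m c d)
    have cd' := (swap a b).injective.ne cd
    rw [om_rf hm a b c d ab cd, show nn (fun a b t => ρ (tv a b t)) a b t = ρ (nn tv a b t) by
      simp only [nn, map_mul]]
    exact ext a1 (m _ _) (par_trans a2 ((nn_pt ab ht (ax c d cd).1).par (ax _ _ cd').1))
      (par_trans a3 ((nn_ln ab ht (ax c d cd).2).par (ax _ _ cd').2))

set_option linter.all false in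
theorem eqns_T3Stp0 : True := by
  first | (have := @_root_.Cfsg.Agent.H83.T3S.Ax.eq_def.{0,0,0,0}) | (have := @_root_.Cfsg.Agent.H83.T3S.Ax.eq_def.{0,0,0}) | (have := @_root_.Cfsg.Agent.H83.T3S.Ax.eq_def.{0,0}) | (have := @_root_.Cfsg.Agent.H83.T3S.Ax.eq_def.{0}) | (have := @_root_.Cfsg.Agent.H83.T3S.Ax.eq_def) | skip
  first | (have := @_root_.Cfsg.Agent.H83.T3S.Ax.eq_1.{0,0,0,0}) | (have := @_root_.Cfsg.Agent.H83.T3S.Ax.eq_1.{0,0,0}) | (have := @_root_.Cfsg.Agent.H83.T3S.Ax.eq_1.{0,0}) | (have := @_root_.Cfsg.Agent.H83.T3S.Ax.eq_1.{0}) | (have := @_root_.Cfsg.Agent.H83.T3S.Ax.eq_1) | skip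
  first | (have := @_root_.Cfsg.Agent.H83.T3S.Ax.eq_2.{0,0,0,0}) | (have := @_root_.Cfsg.Agent.H83.T3S.Ax.eq_2.{0,0,0}) | (have := @_root_.Cfsg.Agent.H83.T3S.Ax.eq_2.{0,0}) | (have := @_root_.Cfsg.Agent.H83.T3S.Ax.eq_2.{0}) | (have := @_root_.Cfsg.Agent.H83.T3S.Ax.eq_2) | skip
  first | (have := @_root_.Cfsg.Agent.H83.T3S.Ax.congr_simp.{0,0,0,0}) | (have := @_root_.Cfsg.Agent.H83.T3S.Ax.congr_simp.{0,0,0}) | (have := @_root_.Cfsg.Agent.H83.T3S.Ax.congr_simp.{0,0}) | (have := @_root_.Cfsg.Agent.H83.T3S.Ax.congr_simp.{0}) | (have := @_root_.Cfsg.Agent.H83.T3S.Ax.congr_simp) | skip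
  first | (have := @_root_.Cfsg.Agent.H83.T3S.tv.eq_def.{0,0,0,0}) | (have := @_root_.Cfsg.Agent.H83.T3S.tv.eq_def.{0,0,0}) | (have := @_root_.Cfsg.Agent.H83.T3S.tv.eq_def.{0,0}) | (have := @_root_.Cfsg.Agent.H83.T3S.tv.eq_def.{0}) | (have := @_root_.Cfsg.Agent.H83.T3S.tv.eq_def) | skip
  first | (have := @_root_.Cfsg.Agent.H83.T3S.tv.eq_1.{0,0,0,0}) | (have := @_root_.Cfsg.Agent.H83.T3S.tv.eq_1.{0,0,0}) | (have := @_root_.Cfsg.Agent.H83.T3S.tv.eq_1.{0,0}) | (have := @_root_.Cfsg.Agent.H83.T3S.tv.eq_1.{0}) | (have := @_root_.Cfsg.Agent.H83.T3S.tv.eq_1) | skip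
  first | (have := @_root_.Cfsg.Agent.H83.T3S.tv.eq_2.{0,0,0,0}) | (have := @_root_.Cfsg.Agent.H83.T3S.tv.eq_2.{0,0,0}) | (have := @_root_.Cfsg.Agent.H83.T3S.tv.eq_2.{0,0}) | (have := @_root_.Cfsg.Agent.H83.T3S.tv.eq_2.{0}) | (have := @_root_.Cfsg.Agent.H83.T3S.tv.eq_2) | skip
  first | (have := @_root_.Cfsg.Agent.H83.T3S.tv.congr_simp.{0,0,0,0}) | (have := @_root_.Cfsg.Agent.H83.T3S.tv.congr_simp.{0,0,0}) | (have := @_root_.Cfsg.Agent.H83.T3S.tv.congr_simp.{0,0}) | (have := @_root_.Cfsg.Agent.H83.T3S.tv.congr_simp.{0}) | (have := @_root_.Cfsg.Agent.H83.T3S.tv.congr_simp) | skip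
  trivial

end Cfsg.Agent.H83.T3S
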