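import Cfsg.Agent.H35.RfQ
import Cfsg.Agent.S2062
import Cfsg.Agent.H74.Mathieu

/-! Project RF, piece XM: the quotient by the element of order three is `Aut M22`. -/

set_option autoImplicit false

namespace Cfsg.Agent.H83.RfXm

open Cfsg Subgroup Cfsg.Agent.H18.Rf Cfsg.Agent.H35.RF
open scoped commutatorElement

universe u

/-- the action induced on a quotient of a normal subgroup -/
theorem induced {X M : Type*} [Group X] [Group M] (L : Subgroup X) [L.Normal] (θ : L →* M)
    (hs : Function.Surjective θ) (hk : ∀ (x : X) (l : L), θ l = 1 → θ (MulAut.conjNormal x l) = 1) :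
    ∃ χ : X →* MulAut M, ∀ x l, χ x (θ l) = θ (MulAut.conjNormal x l) := by
  have h1 : ∀ x : X, ∃ f : M →* M, ∀ l, f (θ l) = θ (MulAut.conjNormal x l) := fun x =>
    ⟨θ.liftOfSurjective hs ⟨θ.comp (MulAut.conjNormal x : MulAut L).toMonoidHom,
      fun l hl => hk x l hl⟩,
      fun l => θ.liftOfRightInverse_comp_apply _ _ _ l⟩
  choose f hf using h1
  have h2 : ∀ x y m, f x (f y m) = f (x * y) m := fun x y m => by
    obtain ⟨l, rfl⟩ := hs m
    rw [hf, hf, hf, map_mul, MulAut.mul_apply]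
  have h3 : ∀ m, f 1 m = m := fun m => by
    obtain ⟨l, rfl⟩ := hs m
    rw [hf, map_one, MulAut.one_apply]
  refine ⟨MonoidHom.mk' (fun x => ⟨⟨f x, f x⁻¹, fun m => by rw [h2, inv_mul_cancel, h3],
    fun m => by rw [h2, mul_inv_cancel, h3]⟩, map_mul (f x)⟩) fun x y => ?_, hf⟩
  ext m
  exact (h2 x y m).symm

theorem xm : XmStmt.{u} := by
  intro X S _ _ _ _ L ρ θ h ⟨e⟩
  have := h.nrm
  have hk : ∀ l : L, (e.toMonoidHom.comp θ) l = 1 ↔ (l : X) ∈ zpowers ρ := fun l => by
    rw [← h.ker]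
    exact e.map_eq_one_iff
  have hs : Function.Surjective (e.toMonoidHom.comp θ) := e.surjective.comp h.surj
  generalize e.toMonoidHom.comp θ = τ at hk hs
  obtain ⟨χ, hχ⟩ := induced L τ hs fun x l hl => (hk _).2 (h.nρ.conj_mem _ ((hk l).1 hl) x)
  have hker : χ.ker = zpowers ρ := by
    refine le_antisymm (fun x hx => h.cL x fun l hl => ?_) (zpowers_le.2 ?_)
    · have h1 := hχ x ⟨l, hl⟩
      rw [MonoidHom.mem_ker.1 hx, MulAut.one_apply, eq_comm, ← mul_inv_eq_one, ← map_inv,
        ← map_mul, hk] at h1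
      exact h1
    · refine MulEquiv.ext fun m => ?_
      obtain ⟨l, rfl⟩ := hs m
      rw [hχ, MulAut.one_apply]
      congr 1
      apply Subtype.ext
      rw [MulAut.conjNormal_apply, ← mem_centralizer_singleton_iff.1 (h.Lρ l.2),
        mul_inv_cancel_right]
  refine ⟨χ, ?_, hker⟩
  have hle : Inn Spor.M22 ≤ χ.range := by
    rintro _ ⟨m, rfl⟩
    obtain ⟨l, rfl⟩ := hs m
    refine ⟨l, MulEquiv.ext fun m => ?_⟩
    obtain ⟨k, rfl⟩ := hs m
    rw [hχ, MulAut.conj_apply, ← map_inv, ← map_mul, ← map_mul]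
    rfl
  have h2 : (Inn Spor.M22).index = 2 := S2062.result
  have h3 := index_dvd_of_le hle
  rw [h2] at h3
  rw [← MonoidHom.range_eq_top, ← index_eq_one]
  refine ((Nat.dvd_prime Nat.prime_two).1 h3).resolve_right fun h4 => ?_
  have h5 := χ.range.card_mul_index
  rw [← (Inn Spor.M22).card_mul_index, h2, h4] at h5
  have h6 : Nat.card χ.range ∣ 443520 := by
    rw [Nat.eq_of_mul_eq_mul_right two_pos h5, ← H74.card_M22]
    exact card_range_dvd _
  have h7 := χ.ker.card_mul_index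
  rw [index_ker, hker, Nat.card_zpowers, h.ρ3] at h7
  obtain ⟨m, -, hm⟩ := h.two
  have h8 : 256 ∣ 3 * 443520 := (Dvd.intro _ (hm.symm.trans h7.symm)).trans (Nat.mul_dvd_mul_left 3 h6)
  norm_num at h8

set_option linter.all false in
theorem eqns_RfXm : True := by
  trivial

end Cfsg.Agent.H83.RfXm
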