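import Cfsg.Agent.H46.J1Defs
import Cfsg.Agent.H46.THat1
import Cfsg.Agent.H95.AutAlt

/-!
# A standard subgroup of type `J₁`: the centraliser of `ρ` in `T`
-/

set_option autoImplicit false
open scoped Pointwise commutatorElement
open Subgroup

namespace Cfsg.Agent.H83.JN1
open Cfsg.Agent.H8 Cfsg.Agent.H46.S94 Equiv

universe u

local notation "C[" A "]" => Subgroup.centralizer (SetLike.coe A)
local notation "N[" A "]" => Subgroup.normalizer (SetLike.coe A)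

set_option synthInstance.maxSize 2000 in
theorem s5 : ∀ a : Perm (Fin 5), a * a = 1 → a ≠ 1 → Perm.sign a = 1 → ∀ b : Perm (Fin 5),
    b * b = 1 → b ≠ 1 → Perm.sign b = 1 → a ≠ b → a * b = b * a → ∀ x : Perm (Fin 5),
    x * a = a * x → x * b = b * x → ∀ r : Perm (Fin 5), r * r * r = 1 → x * r = r * x →
    x = 1 ∨ r = 1 := by
  decide +kernel

theorem a5_two : ∀ g : alternatingGroup (Fin 5), ∃ a : alternatingGroup (Fin 5),
    a * a = 1 ∧ a * g * (a * g) = 1 := by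
  decide +kernel

section A5
variable {X : Type*} [Group X] {M : Subgroup X}

theorem perf (e : M ≃* alternatingGroup (Fin 5)) : ⁅M, M⁆ = M := by
  let f : alternatingGroup (Fin 5) →* X := M.subtype.comp e.symm.toMonoidHom
  have h1 : (⊤ : Subgroup (alternatingGroup (Fin 5))).map f = M := by
    rw [← MonoidHom.range_eq_map, MonoidHom.range_comp,
      MonoidHom.range_eq_top.2 e.symm.surjective, ← MonoidHom.range_eq_map, range_subtype]
  have h2 : ⁅(⊤ : Subgroup (alternatingGroup (Fin 5))), (⊤ : Subgroup _)⁆ = ⊤ :=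
    commutator_alternatingGroup_eq_top (by simp)
  rw [← h1, ← map_commutator, h2]

theorem gen (e : M ≃* alternatingGroup (Fin 5)) : M ≤ closure {l | l ∈ M ∧ l * l = 1} := by
  intro l hl
  obtain ⟨a, h1, h2⟩ := a5_two (e ⟨l, hl⟩)
  obtain ⟨a, rfl⟩ := e.surjective a
  rw [← map_mul, map_eq_one_iff _ e.injective] at h1
  rw [← map_mul, ← map_mul, map_eq_one_iff _ e.injective] at h2
  have e1 : (a : X) * a = 1 := congrArg Subtype.val h1
  have e2 : (a : X) * l * (a * l) = 1 := congrArg Subtype.val h2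
  have e3 : l = a * (a * l) := by rw [← mul_assoc, e1, one_mul]
  rw [e3]
  exact mul_mem (subset_closure ⟨a.2, e1⟩) (subset_closure ⟨mul_mem a.2 hl, e2⟩)

/-- an automorphism of `A₅` fixing a four-group and an element of order three is trivial -/
theorem fix (e : M ≃* alternatingGroup (Fin 5)) {y u v r : X} (hy : y ∈ N[M]) (hu : u ∈ M)
    (hv : v ∈ M) (hr : r ∈ M) (uu : u * u = 1) (u1 : u ≠ 1) (vv : v * v = 1) (v1 : v ≠ 1)
    (uv : u ≠ v) (c : u * v = v * u) (rr : r * r * r = 1) (r1 : r ≠ 1) (yu : y * u = u * y)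
    (yv : y * v = v * y) (yr : y * r = r * y) : y ∈ C[M] := by
  let α : MulAut M := M.normalizerMonoidHom ⟨y, hy⟩
  have hα : ∀ m : M, (α m : X) = y * m * y⁻¹ := fun m => rfl
  obtain ⟨s, hs⟩ := H95.AutAlt.exists_conj (α := Fin 5) (by simp) (by simp)
    (e.symm.trans (α.trans e))
  have k : ∀ m : M, ((e (α m) : alternatingGroup (Fin 5)) : Perm (Fin 5)) = s * e m * s⁻¹ :=
    fun m => by simpa using hs (e m)
  have k1 : ∀ (m : X) (hm : m ∈ M), y * m = m * y →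
      s * (e ⟨m, hm⟩ : Perm (Fin 5)) = e ⟨m, hm⟩ * s := fun m hm h => by
    have : α ⟨m, hm⟩ = ⟨m, hm⟩ := Subtype.ext (by rw [hα, mul_inv_eq_iff_eq_mul]; exact h)
    have h2 := k ⟨m, hm⟩
    rw [this] at h2
    exact mul_inv_eq_iff_eq_mul.1 h2.symm
  let f : M →* Perm (Fin 5) := (alternatingGroup (Fin 5)).subtype.comp e.toMonoidHom
  have fi : Function.Injective f := Subtype.val_injective.comp e.injective
  have n1 : ∀ (m : X) (hm : m ∈ M), m ≠ 1 → f ⟨m, hm⟩ ≠ 1 := fun m hm h e1 =>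
    h (congrArg Subtype.val ((map_eq_one_iff f fi).1 e1))
  have sq : ∀ (m : X) (hm : m ∈ M), m * m = 1 → f ⟨m, hm⟩ * f ⟨m, hm⟩ = 1 := fun m hm h => by
    rw [← map_mul, map_eq_one_iff f fi]; exact Subtype.ext h
  have s1 : s = 1 := (s5 (f ⟨u, hu⟩) (sq u hu uu) (n1 u hu u1) (e ⟨u, hu⟩).2 (f ⟨v, hv⟩)
    (sq v hv vv) (n1 v hv v1) (e ⟨v, hv⟩).2 (fun h => uv (congrArg Subtype.val (fi h)))
    (by rw [← map_mul, ← map_mul]; exact congrArg f (Subtype.ext c)) s (k1 u hu yu) (k1 v hv yv)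
    (f ⟨r, hr⟩) (by rw [← map_mul, ← map_mul, map_eq_one_iff f fi]; exact Subtype.ext rr)
    (k1 r hr yr)).resolve_right (n1 r hr r1)
  intro m hm
  have h2 := k ⟨m, hm⟩
  rw [s1, one_mul, inv_one, mul_one] at h2
  have h3 := congrArg Subtype.val (e.injective (Subtype.ext h2))
  rw [hα] at h3
  exact (mul_inv_eq_iff_eq_mul.1 h3).symm

end A5

variable {Γ : Type} [Group Γ] {G : Type u} [Group G] {φ : Γ →* G} {F O T : Subgroup G}
  {t ζ : G} {z σ ρ : Γ} {V L : Subgroup Γ}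

theorem der_le (jf : J1F z σ ρ V L) : ⁅Cz z, Cz z⁆ ≤ L := by
  have zz : z * z = 1 := jf.el z jf.zV
  have k : ∀ c ∈ Cz z, ∃ l ∈ L, ∀ x ∈ Cz z, c * x * c⁻¹ = l * x * l⁻¹ := fun c hc => by
    rcases jf.cz c hc with h | h
    · exact ⟨c, h, fun _ _ => rfl⟩
    · refine ⟨c * z, h, fun x hx => ?_⟩
      calc c * x * c⁻¹ = c * (x * z) * z⁻¹ * c⁻¹ := by group
        _ = _ := by rw [mem_Cz.1 hx]; group
  refine commutator_le.2 fun c hc d hd => ?_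
  obtain ⟨l, hl, e⟩ := k c hc
  obtain ⟨m, hm, e'⟩ := k d hd
  have : ⁅c, d⁆ = l * (m * l⁻¹ * m⁻¹) := by
    rw [commutatorElement_def, e d hd, ← e' l⁻¹ (inv_mem (jf.Lz hl))]; group
  rw [this]
  exact mul_mem hl (mul_mem (mul_mem hm (inv_mem hl)) (inv_mem hm))

theorem nrm [Finite G] (jf : J1F z σ ρ V L) (cx : Cx φ t O) {g : G} (gz : g * φ z = φ z * g)
    (hc : ∀ l ∈ L, φ l * (g * t * g⁻¹) = g * t * g⁻¹ * φ l) : g ∈ N[L.map φ] := by
  obtain ⟨e⟩ := jf.iso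
  let ψ : Γ →* G := (MulAut.conj g⁻¹).toMonoidHom.comp φ
  have hψ : ∀ l, ψ l = g⁻¹ * φ l * g := fun l => by simp [ψ]
  have l1 : L.map ψ ≤ (Cz z).map φ := by
    rintro _ ⟨l, hl, rfl⟩
    obtain ⟨b, hb⟩ := H46.THat1.into cx jf.base (perf e) (gen e) hc l hl
    refine ⟨b, mem_Cz.2 (cx.inj ?_), hb.trans (hψ l).symm⟩
    have e1 : φ l * φ z = φ z * φ l := by rw [← map_mul, ← map_mul, mem_Cz.1 (jf.Lz hl)]
    rw [map_mul, map_mul, hb]
    calc g⁻¹ * φ l * g * φ z = g⁻¹ * (φ l * φ z) * g := by rw [mul_assoc _ g, gz]; group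
      _ = g⁻¹ * (φ z * g) * (g⁻¹ * φ l * g) := by rw [e1]; group
      _ = _ := by rw [← gz]; group
  have l2 : L.map ψ ≤ L.map φ := by
    calc L.map ψ = ⁅L.map ψ, L.map ψ⁆ := by rw [← map_commutator, perf e]
      _ ≤ ⁅(Cz z).map φ, (Cz z).map φ⁆ := commutator_mono l1 l1
      _ ≤ L.map φ := by rw [← map_commutator]; exact map_mono (der_le jf)
  refine (inv_mem_iff (x := g)).1 (mem_normalizer_fintype ?_)
  rintro _ ⟨l, hl, rfl⟩
  rw [inv_inv, ← hψ]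
  exact l2 ⟨l, hl, rfl⟩

theorem cL [Finite G] (h : C2 φ F t O z σ ρ V L T ζ) : L.map φ ≤ C[T1 T (φ ρ)] := by
  have jf := h.jf
  have cx := h.cx
  obtain ⟨e⟩ := jf.iso
  have VT : ∀ v ∈ V, φ v ∈ T := fun v hv => h.tf.VT ⟨v, hv, rfl⟩
  obtain ⟨u, hu, v, hv, u1, v1, uv⟩ : ∃ u ∈ V ⊓ L, ∃ v ∈ V ⊓ L, u ≠ 1 ∧ v ≠ 1 ∧ u ≠ v := by
    have : Finite (V ⊓ L : Subgroup Γ) := Nat.finite_of_card_ne_zero (by rw [jf.cU]; decide)
    have := Fintype.ofFinite (V ⊓ L : Subgroup Γ)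
    obtain ⟨a, b, c, h1, h2, h3⟩ := (Fintype.two_lt_card_iff (α := (V ⊓ L : Subgroup Γ))).1
      (by rw [← Nat.card_eq_fintype_card, jf.cU]; decide)
    exact ⟨_, (a⁻¹ * b).2, _, (a⁻¹ * c).2,
      fun e => h1 (inv_mul_eq_one.1 (Subtype.ext e : a⁻¹ * b = 1)),
      fun e => h2 (inv_mul_eq_one.1 (Subtype.ext e : a⁻¹ * c = 1)),
      fun e => h3 (mul_left_cancel (Subtype.ext e : a⁻¹ * b = a⁻¹ * c))⟩
  have r3 : ρ * ρ * ρ = 1 := by rw [← pow_three', ← jf.ro, pow_orderOf_eq_one]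
  have r1 : ρ ≠ 1 := fun e => by simpa [e] using jf.ro
  have key : ∀ n : ℕ, ∀ y ∈ T1 T (φ ρ), y ^ 2 ^ n = 1 → y ∈ C[L.map φ] := by
    intro n
    induction n with
    | zero => intro y _ e; rw [pow_zero, pow_one] at e; rw [e]; exact one_mem _
    | succ n ih =>
      intro y hy e1
      have h2 := ih (y * y) (mul_mem hy hy) (by rw [← sq, ← pow_mul, ← pow_succ', e1])
      have h3 : y * t * y⁻¹ = y * y * t := by
        have := h.ls.inv y⁻¹ (inv_mem hy.1)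
        rw [inv_inv] at this
        calc y * t * y⁻¹ = y * (t * y⁻¹ * t) * t := by
              rw [mul_assoc y _ t, mul_assoc (t * y⁻¹), cx.tt]; group
          _ = _ := by rw [this]
      have h4 : y ∈ N[L.map φ] := nrm jf cx (h.tf.ab y hy.1 _ (VT z jf.zV)) fun l hl => by
        rw [h3, ← mul_assoc, h2 _ ⟨l, hl, rfl⟩, mul_assoc, cx.AC, mul_assoc (y * y)]
      exact fix ((L.equivMapOfInjective φ cx.inj).symm.trans e) (u := φ u) (v := φ v) (r := φ ρ)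
        h4 ⟨u, hu.2, rfl⟩ ⟨v, hv.2, rfl⟩ ⟨ρ, jf.rL, rfl⟩
        (by rw [← map_mul, jf.el u hu.1, map_one]) (fun e => u1 ((map_eq_one_iff φ cx.inj).1 e))
        (by rw [← map_mul, jf.el v hv.1, map_one]) (fun e => v1 ((map_eq_one_iff φ cx.inj).1 e))
        (fun e => uv (cx.inj e)) (h.tf.ab _ (VT u hu.1) _ (VT v hv.1))
        (by rw [← map_mul, ← map_mul, r3, map_one])
        (fun e => r1 ((map_eq_one_iff φ cx.inj).1 e)) (h.tf.ab y hy.1 _ (VT u hu.1))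
        (h.tf.ab y hy.1 _ (VT v hv.1)) (mem_centralizer_singleton_iff.1 hy.2)
  intro l hl y hy
  obtain ⟨n, hn⟩ := h.tf.two ⟨y, hy.1⟩
  exact (key n y hy (congrArg Subtype.val hn) l hl).symm

theorem mem_N1 [Finite G] {g : G} (h1 : g ∈ N[T]) (h2 : g * t = t * g) : g ∈ N[St1 T t] := by
  refine mem_normalizer_fintype fun x hx => ?_
  have : St1 T t ≤ (St1 T t).comap (MulAut.conj g).toMonoidHom := by
    refine sup_le (fun y hy => mem_sup_left ((mem_normalizer_iff.1 h1 y).1 hy)) ?_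
    rw [zpowers_le]
    show g * t * g⁻¹ ∈ St1 T t
    rw [h2, mul_inv_cancel_right]
    exact mem_sup_right (mem_zpowers t)
  exact this hx

theorem jn1 : JN1Stmt.{u} := by
  intro Γ _ G _ _ φ F t ζ O T z σ ρ V L h
  refine ⟨cL h, fun c hc w hw e => ?_⟩
  have jf := h.jf
  have cx := h.cx
  have hL := cL h
  have ab := h.tf.ab
  have zz : z * z = 1 := jf.el z jf.zV
  have VT : ∀ v ∈ V, φ v ∈ T := fun v hv => h.tf.VT ⟨v, hv, rfl⟩
  have Lz : ∀ l ∈ L, φ l * φ z = φ z * φ l := fun l hl => by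
    rw [← map_mul, ← map_mul, mem_Cz.1 (jf.Lz hl)]
  have zR : φ z ∈ T1 T (φ ρ) :=
    ⟨VT z jf.zV, mem_centralizer_singleton_iff.2 (Lz ρ jf.rL).symm⟩
  have ζR : ζ ∈ T1 T (φ ρ) := ⟨h.ab.mem, mem_centralizer_singleton_iff.2 h.ab.rz.symm⟩
  have cz : c * φ z = φ z * c := (hc.2 _ zR).symm
  have cN : c ∈ N[L.map φ] := nrm jf cx cz fun l hl => by
    rw [e, ← mul_assoc, ← hL ⟨l, hl, rfl⟩ w hw, mul_assoc, cx.AC, mul_assoc]
  obtain ⟨n, hn, en⟩ := h.ls.tr w hw.1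
  have kt : n⁻¹ * c * t = t * (n⁻¹ * c) := by
    calc n⁻¹ * c * t = n⁻¹ * (c * t * c⁻¹) * c := by group
      _ = _ := by rw [e, ← en]; group
  obtain ⟨α, hα⟩ := cx.aut kt
  obtain ⟨a, rfl⟩ := jf.inn α
  have k3 := cent_of_conj (φ := φ) (c := n⁻¹ * c) (a := a) fun x => (hα x).symm
  have k4 : (φ a)⁻¹ * (n⁻¹ * c) * t = t * ((φ a)⁻¹ * (n⁻¹ * c)) := by
    rw [mul_assoc, kt, ← mul_assoc, ← map_inv, cx.AC, mul_assoc]
  have tN1 : t ∈ N[St1 T t] := le_normalizer (mem_sup_right (mem_zpowers t))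
  have ON1 : ∀ o ∈ O, o ∈ N[St1 T t] := fun o ho =>
    mem_N1 (centralizer_le_normalizer _ fun x hx => (h.tf.OC hx o ho).symm) (cx.Ot o ho)
  have k5 : (φ a)⁻¹ * (n⁻¹ * c) ∈ N[St1 T t] := by
    rcases cx.tr _ k4 k3 with m | m
    · exact ON1 _ m
    · exact (mul_mem_cancel_right tN1).1 (ON1 _ m)
  have k6 : a * z * a⁻¹ ∈ V := by
    have e1 : φ (a * z * a⁻¹) = n⁻¹ * φ z * n := by
      rw [← MulAut.conj_apply, hα, mul_assoc n⁻¹ c, cz]; group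
    obtain ⟨v, hv, e2⟩ := h.ls.om (φ (a * z * a⁻¹))
      (by rw [e1]; exact (mem_normalizer_iff''.1 (h.lt.nT hn) _).1 (VT z jf.zV))
      (by rw [← map_mul, ← map_one φ]; congr 1
          calc a * z * a⁻¹ * (a * z * a⁻¹) = a * (z * z) * a⁻¹ := by group
            _ = 1 := by rw [zz]; group)
    rw [← cx.inj e2]; exact hv
  obtain ⟨i, hi⟩ := jf.tr _ k6 fun e1 => jf.z1 (by
    calc z = a⁻¹ * (a * z * a⁻¹) * a := by group
      _ = 1 := by rw [e1]; group)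
  have sN1 : φ (σ ^ i) ∈ N[St1 T t] := by
    rw [map_pow]; exact pow_mem (mem_N1 h.tf.sN (cx.AC σ)) i
  obtain ⟨l, hl, k7⟩ : ∃ l ∈ L, φ (a * l⁻¹) ∈ N[St1 T t] := by
    have m : (σ ^ i)⁻¹ * a ∈ Cz z := mem_Cz.2 (by
      calc (σ ^ i)⁻¹ * a * z = (σ ^ i)⁻¹ * (a * z * a⁻¹) * a := by group
        _ = _ := by rw [← hi]; group)
    rcases jf.cz _ m with m1 | m1
    · refine ⟨_, m1, ?_⟩
      rwa [show a * ((σ ^ i)⁻¹ * a)⁻¹ = σ ^ i by group]
    · refine ⟨_, m1, ?_⟩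
      rw [mem_Cz.1 m, show a * (z * ((σ ^ i)⁻¹ * a))⁻¹ = σ ^ i * z⁻¹ by group, map_mul, map_inv]
      exact mul_mem sN1 (inv_mem (le_normalizer (mem_sup_left (VT z jf.zV))))
  have lL : φ l ∈ L.map φ := ⟨l, hl, rfl⟩
  have rL : φ ρ ∈ L.map φ := ⟨ρ, jf.rL, rfl⟩
  have c1 : c * (φ l)⁻¹ ∈ N[St1 T t] ⊓ F := by
    refine mem_inf.2 ⟨?_, F.mul_mem hc.1 (F.inv_mem (h.AF ⟨l, rfl⟩))⟩
    have e1 := mem_C_range.1 k3 l⁻¹
    have : c * (φ l)⁻¹ = n * (φ (a * l⁻¹) * ((φ a)⁻¹ * (n⁻¹ * c))) := by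
      rw [map_mul, mul_assoc (φ a), e1, map_inv]; group
    rw [this]
    exact mul_mem hn (mul_mem k7 k5)
  have c2 : c * (φ l)⁻¹ ∈ C[T1 T (φ ρ)] := mul_mem hc.2 (inv_mem (hL lL))
  obtain ⟨k, hk⟩ := h.ab.c _ c1 (c2 ζ ζR).symm
  obtain ⟨j, hj⟩ : ∃ j, j = (φ ρ ^ k)⁻¹ * (c * (φ l)⁻¹) := ⟨_, rfl⟩
  rw [← hj] at hk
  have j1 : j ∈ N[St1 T t] ⊓ F := hj ▸ mul_mem (inv_mem (pow_mem
    (⟨mem_N1 h.tf.rN (cx.AC ρ), h.AF ⟨ρ, rfl⟩⟩ : φ ρ ∈ N[St1 T t] ⊓ F) k)) c1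
  have j2 : j ∈ C[T1 T (φ ρ)] := hj ▸ mul_mem (inv_mem (pow_mem (hL rL) k)) c2
  have j3 : j ∈ N[L.map φ] := hj ▸ mul_mem (inv_mem (pow_mem (le_normalizer rL) k))
    (mul_mem cN (inv_mem (le_normalizer lL)))
  have j4 : j * t * j⁻¹ = w * t := by
    have e1 : φ ρ ^ k * w = w * φ ρ ^ k := (pow_mem (hL rL) k w hw).symm
    have e2 : φ ρ ^ k * t = t * φ ρ ^ k := by rw [← map_pow, cx.AC]
    have e3 := cx.AC l
    calc j * t * j⁻¹ = (φ ρ ^ k)⁻¹ * (c * ((φ l)⁻¹ * (t * φ l)) * c⁻¹) * φ ρ ^ k := by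
          rw [hj]; group
      _ = (φ ρ ^ k)⁻¹ * (w * (t * φ ρ ^ k)) := by rw [← e3, inv_mul_cancel_left, e]; group
      _ = w * t := by rw [← e2, ← mul_assoc w, ← e1]; group
  have j5 : j ∈ C[V.map φ] := by
    have key : ∀ u ∈ V, u ∈ L → φ u * j = j * φ u := fun u hu hl => by
      have m1 := hk _ ⟨u, hu, rfl⟩
      have m2 : j * φ u * j⁻¹ * (φ u)⁻¹ ∈ L.map φ :=
        mul_mem ((mem_normalizer_iff.1 j3 _).1 ⟨u, hl, rfl⟩) (inv_mem ⟨u, hl, rfl⟩)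
      obtain ⟨p, hp⟩ := mem_zpowers_iff.1 m1
      have z2 : φ z ^ (2 : ℤ) = 1 := by rw [zpow_two, ← map_mul, zz, map_one]
      rcases Int.even_or_odd' p with ⟨q, rfl | rfl⟩
      · rw [zpow_mul, z2, one_zpow] at hp
        rw [eq_comm, mul_inv_eq_one, mul_inv_eq_iff_eq_mul] at hp
        exact hp.symm
      · rw [zpow_add, zpow_mul, z2, one_zpow, one_mul, zpow_one] at hp
        obtain ⟨y, hy, e1⟩ := hp ▸ m2
        exact absurd (cx.inj e1 ▸ hy) jf.zL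
    rintro _ ⟨v, hv, rfl⟩
    have m : v ∈ Cz z := mem_Cz.2 (cx.inj (by
      rw [map_mul, map_mul]; exact ab _ (VT v hv) _ (VT z jf.zV)))
    rcases jf.cz v m with m1 | m1
    · exact key v hv m1
    · have e1 := key _ (mul_mem hv jf.zV) m1
      rw [map_mul, mul_assoc, j2 _ zR, ← mul_assoc, ← mul_assoc] at e1
      exact mul_right_cancel e1
  have j6 : j ∈ ((T ⊔ (O ⊓ F) : Subgroup G) : Set G) := h.lt.ker ⟨j1, j5⟩
  rw [coe_mul_of_left_le_normalizer_right T (O ⊓ F) fun x hx =>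
    centralizer_le_normalizer _ fun o ho => h.tf.OC hx o ho.1] at j6
  obtain ⟨x, hx, o, ho, rfl⟩ := j6
  have wx : w = x * x := by
    have e1 := h.ls.inv x⁻¹ (inv_mem hx)
    rw [inv_inv] at e1
    refine mul_right_cancel (b := t) ?_
    calc w * t = x * (o * t) * o⁻¹ * x⁻¹ := by rw [← j4]; group
      _ = x * (t * x⁻¹ * t) * t := by
        rw [cx.Ot o ho.1, mul_assoc x _ t, mul_assoc _ t t, cx.tt]; group
      _ = _ := by rw [e1]
  have r3 : φ ρ * φ ρ * φ ρ = 1 := by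
    rw [← map_mul, ← map_mul, ← pow_three', ← jf.ro, pow_orderOf_eq_one, map_one]
  have rw' : φ ρ * w = w * φ ρ := (mem_centralizer_singleton_iff.1 hw.2).symm
  obtain ⟨r, hr⟩ : ∃ r, r = φ ρ := ⟨_, rfl⟩
  have rN := h.tf.rN
  rw [← hr] at r3 rw' rN ⊢
  have x1 := (mem_normalizer_iff.1 rN x).1 hx
  have x2 := (mem_normalizer_iff.1 rN _).1 x1
  have sqm : ∀ a ∈ T, ∀ b ∈ T, a * b * (a * b) = a * a * (b * b) := fun a ha b hb => by
    rw [mul_assoc, ← mul_assoc b, ab b hb a ha]; group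
  have cj : ∀ y, y * y = w → r * y * r⁻¹ * (r * y * r⁻¹) = w := fun y hy => by
    calc r * y * r⁻¹ * (r * y * r⁻¹) = r * (y * y) * r⁻¹ := by group
      _ = w := by rw [hy, rw', mul_inv_cancel_right]
  refine ⟨x * (r * x * r⁻¹ * (r * (r * x * r⁻¹) * r⁻¹)) * w⁻¹,
    mem_inf.2 ⟨T.mul_mem (T.mul_mem hx (T.mul_mem x1 x2)) (T.inv_mem hw.1),
      mem_centralizer_singleton_iff.2 ?_⟩, ?_⟩
  · rw [ab x hx _ (mul_mem x1 x2)]
    have e1 : w⁻¹ * r = r * w⁻¹ := (Commute.inv_right rw').eq.symm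
    have e2 : x = r * r * r * x * (r * r * r)⁻¹ := by rw [r3]; group
    have e3 := ab x hx _ (mul_mem x1 x2)
    symm
    calc r * (r * x * r⁻¹ * (r * (r * x * r⁻¹) * r⁻¹) * x * w⁻¹)
        = r * (x * (r * x * r⁻¹ * (r * (r * x * r⁻¹) * r⁻¹))) * w⁻¹ := by rw [e3]; group
      _ = r * x * r⁻¹ * (r * (r * x * r⁻¹) * r⁻¹) * (r * r * r * x * (r * r * r)⁻¹) *
          (r * w⁻¹) := by group
      _ = _ := by rw [← e2, ← e1]; group
  · rw [sqm _ (mul_mem hx (mul_mem x1 x2)) _ (inv_mem hw.1), sqm _ hx _ (mul_mem x1 x2),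
      sqm _ x1 _ x2, cj _ (cj x wx.symm), cj x wx.symm, ← wx]
    group

set_option linter.all false in
theorem eqns_JN1 : True := by
  trivial

end Cfsg.Agent.H83.JN1
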