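import Cfsg.Agent.H46.SKit

/-! No standard subgroup of type `ON`: the lift of `ζ` (piece ETA2). -/

set_option autoImplicit false
open scoped Pointwise commutatorElement
open Subgroup

namespace Cfsg.Agent.H83.S95E

open Cfsg.Agent.H46.S95

universe u

section

variable {Γ : Type*} [Group Γ] {z ζ x : Γ}

theorem zp4 (sq : ζ * ζ = z) (zz : z * z = 1) (z1 : z ≠ 1) {c : Γ} (hc : c ∈ zpowers ζ)
    (cc : c * c = 1) : c = 1 ∨ c = z := by
  obtain ⟨k, rfl⟩ := mem_zpowers_iff.1 hc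
  have h4 : ζ ^ (4 : ℤ) = 1 := by
    rw [← zz, ← sq, show (4 : ℤ) = 2 + 2 from rfl, zpow_add, zpow_two]
  have h0 : 0 ≤ k % 4 := Int.emod_nonneg _ (by norm_num)
  have h1 : k % 4 < 4 := Int.emod_lt_of_pos _ (by norm_num)
  rw [zpow_eq_zpow_emod k h4] at cc ⊢
  generalize k % 4 = r at *
  interval_cases r
  · exact .inl (zpow_zero ζ)
  · exact absurd (by rw [← sq, ← cc, zpow_one]) z1
  · exact .inr (by rw [← sq, zpow_two])
  · refine absurd ?_ z1
    rwa [← zpow_add, show (3 + 3 : ℤ) = 4 + 2 from rfl, zpow_add, h4, one_mul, zpow_two, sq] at cc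

theorem inv_zp (inv : x * ζ * x⁻¹ = ζ⁻¹) {c : Γ} (hc : c ∈ zpowers ζ) : x * c * x⁻¹ = c⁻¹ := by
  obtain ⟨k, rfl⟩ := mem_zpowers_iff.1 hc
  rw [← conj_zpow, inv, inv_zpow]

theorem dih (xx : x * x = 1) (inv : x * ζ * x⁻¹ = ζ⁻¹) {d : Γ} (hd : d ∈ closure {x, ζ}) :
    d ∈ zpowers ζ ∨ x * d ∈ zpowers ζ := by
  have k : ∀ c ∈ zpowers ζ, x * c * x⁻¹ ∈ zpowers ζ := fun c hc => inv_zp inv hc ▸ inv_mem hc
  have xi : x⁻¹ = x := inv_eq_of_mul_eq_one_right xx
  induction hd using closure_induction with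
  | mem d hd =>
    rcases hd with rfl | rfl
    exacts [.inr (xx ▸ one_mem _), .inl (mem_zpowers _)]
  | one => exact .inl (one_mem _)
  | mul a b _ _ ha hb =>
    rcases ha with ha | ha <;> rcases hb with hb | hb
    · exact .inl (mul_mem ha hb)
    · exact .inr (by simpa [mul_assoc] using mul_mem (k a ha) hb)
    · exact .inr (by simpa [mul_assoc] using mul_mem ha hb)
    · exact .inl (by simpa [← mul_assoc, xx] using mul_mem (k _ ha) hb)
  | inv a _ ha =>
    rcases ha with ha | ha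
    · exact .inl (inv_mem ha)
    · exact .inr (by simpa [mul_assoc, xi, xx] using k _ (inv_mem ha))

end

/-- **ETA2** -/
theorem eta2 : Eta2Stmt.{u} := by
  intro Γ _ G _ _ φ t O z ζ x P V f η hb oe h lf lo ex e1
  have zz := oe.zz
  have z1 := oe.z1
  have sq := oe.sq
  have xx := oe.xx
  have inv := oe.inv
  have xi : x⁻¹ = x := inv_eq_of_mul_eq_one_right xx
  have nz : ζ⁻¹ ≠ ζ := fun e => z1 (by rw [← sq]; exact mul_eq_one_iff_inv_eq.2 e)
  have nx : ¬ Commute x ζ := fun c => nz (by rw [← inv, c.eq, mul_inv_cancel_right])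
  have ζz : Commute ζ z := sq ▸ (Commute.refl ζ).mul_right (Commute.refl ζ)
  have xz : Commute x z := by
    have := inv_zp inv (sq ▸ mul_mem (mem_zpowers ζ) (mem_zpowers ζ) : z ∈ zpowers ζ)
    rwa [inv_eq_of_mul_eq_one_right zz, mul_inv_eq_iff_eq_mul] at this
  have cf : ∀ {r a}, IsConj z r → Commute a r → Commute (φ a) (f r) := fun {r a} i c => by
    have := lf.eq a r i
    rw [c.eq, mul_inv_cancel_right, eq_mul_inv_iff_mul_eq] at this
    exact this.symm
  have cm : ∀ {a b}, Commute a b → Commute (φ a) (φ b) := fun c => c.map φ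
  have At : ∀ a, Commute (φ a) t := h.AC
  have ww := lf.sq z (IsConj.refl z)
  have wt := lf.br z (IsConj.refl z)
  have wO : ∀ o ∈ O, Commute (f z) o := lo z (IsConj.refl z)
  have hw := e1.sq
  have nwt : ¬ Commute (f z) t := fun c => z1 (h.inj (by
    rw [c.eq, mul_assoc, ww, mul_one, left_eq_mul] at wt
    rw [wt, map_one]))
  have ηO : ∀ o ∈ O, Commute η o := fun o ho =>
    mem_centralizer_singleton_iff.1 ((closure_le (centralizer {o})).2 (by
      rintro _ ⟨r, hr, rfl⟩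
      exact mem_centralizer_singleton_iff.2 (lo r hr o ho)) e1.mem)
  have ηP : ∀ p ∈ P, Commute η (φ p) := e1.cP
  have ηζ := ηP ζ oe.zP
  have ηk : ∀ c ∈ zpowers ζ, Commute η (φ c) := fun c hc => by
    obtain ⟨k, rfl⟩ := mem_zpowers_iff.1 hc
    rw [map_zpow]; exact ηζ.zpow_right k
  have ηw : Commute η (f z) := hw ▸ (Commute.refl η).mul_right (Commute.refl η)
  have wi : (f z)⁻¹ = f z := inv_eq_of_mul_eq_one_right ww
  have tη : t * η = η⁻¹ * φ ζ * t := by
    rw [← e1.tr, inv_mul_cancel_left, mul_assoc, h.tt, mul_one]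
  have t1 : η * t * η⁻¹ = t * φ ζ * f z := by
    calc η * t * η⁻¹ = η * (t * η) * (η * η)⁻¹ := by group
      _ = _ := by rw [tη, hw, wi, ← (At ζ).eq]; group
  have t2 : η⁻¹ * t * η = t * (φ ζ)⁻¹ * f z := by
    have e : f z * t = t * φ z * f z := by rw [← wt, mul_assoc, ww, mul_one]
    have e' : φ z * φ ζ = (φ ζ)⁻¹ := by
      rw [eq_inv_iff_mul_eq_one, mul_assoc, ← map_mul, sq, ← map_mul, zz, map_one]
    calc η⁻¹ * t * η = (η * η)⁻¹ * (φ ζ * t) := by rw [mul_assoc, tη]; group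
      _ = t * φ z * (f z * φ ζ) := by rw [hw, wi, (At ζ).eq, ← mul_assoc, e, mul_assoc]
      _ = _ := by rw [← (cf (IsConj.refl z) ζz).eq, ← mul_assoc, mul_assoc t, e']
  have Xw := cf (IsConj.refl z) xz
  have Xζ : φ x * (φ ζ)⁻¹ * (φ x)⁻¹ = φ ζ := by
    simpa [mul_assoc] using congrArg (fun y => (φ y)⁻¹) inv
  have t3 : φ x * η⁻¹ * (φ x)⁻¹ * t * (φ x * η⁻¹ * (φ x)⁻¹)⁻¹ = t * φ ζ * f z := by
    calc _ = φ x * (η⁻¹ * ((φ x)⁻¹ * t * φ x) * η) * (φ x)⁻¹ := by group
      _ = φ x * t * (φ ζ)⁻¹ * (f z * (φ x)⁻¹) := by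
        rw [(At x).inv_left.eq, inv_mul_cancel_right, t2]; group
      _ = t * (φ x * (φ ζ)⁻¹ * (φ x)⁻¹) * f z := by rw [← Xw.inv_left.eq, (At x).eq]; group
      _ = _ := by rw [Xζ]
  have fin : ∀ {y : G}, y * t * y⁻¹ = t * φ ζ * f z → η⁻¹ * y * t = t * (η⁻¹ * y) := fun {y} e => by
    calc η⁻¹ * y * t = η⁻¹ * (y * t * y⁻¹) * y := by group
      _ = _ := by rw [e, ← t1]; group
  have fix : ∀ {y : G} {α : MulAut Γ} {l : Γ}, (∀ a, φ (α a) = y * φ a * y⁻¹) → Commute y (φ l) →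
      α l = l := fun hα c => h.inj (by rw [hα, c.eq, mul_inv_cancel_right])
  have cx : ∀ p ∈ P, Commute (φ x * η⁻¹ * (φ x)⁻¹) (φ (x * p * x⁻¹)) := fun p hp => by
    rw [map_mul, map_mul, map_inv]; exact (ηP p hp).inv_left.conj _
  have sq' : φ x * η⁻¹ * (φ x)⁻¹ * (φ x * η⁻¹ * (φ x)⁻¹) = f z := by
    rw [conj_mul, ← mul_inv_rev, hw, wi, Xw.eq, mul_inv_cancel_right]
  obtain ⟨e, he, eη⟩ : ∃ e, (e = 1 ∨ e = z) ∧ φ x * η⁻¹ * (φ x)⁻¹ = η * φ e := by
    obtain ⟨α, hα⟩ := h.aut (fin t3)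
    obtain ⟨c, hc, ec⟩ := oe.cT α fun l hl hl' => fix hα ((ηP l hl).inv_left.mul_left (by
      have := cx _ hl'
      rwa [show x * (x * l * x⁻¹) * x⁻¹ = l by
        rw [← mul_assoc, ← mul_assoc, xx, one_mul, mul_assoc, ← mul_inv_rev, xx, inv_one,
          mul_one]] at this))
    have k := ηk c hc
    obtain ⟨o, ho, e | e⟩ := h.split' (fin t3) hα ec <;> rw [inv_mul_eq_iff_eq_mul] at e
    · have k2 : Commute (φ c) o := h.oA ho c
      rw [e, (k.mul_right (ηO o ho)).symm.mul_mul_mul_comm, hw, mul_eq_left,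
        k2.symm.mul_mul_mul_comm, ← map_mul] at sq'
      obtain ⟨k3, k4⟩ := h.o_of_mul hb (mul_mem ho ho) sq'
      exact ⟨c, zp4 sq zz z1 hc k3, by rw [e, h.o_sq ho k4, mul_one]⟩
    · refine absurd ?_ nwt
      have k2 : Commute o t := h.Ot o ho
      have k3 : η * (φ c * t * o) * (η * (φ c * t * o)) = φ ζ * φ c * φ c * o * o := by
        calc _ = η * (φ c * t) * (o * η) * φ c * t * o := by group
          _ = η * t * (φ c * η) * (o * φ c) * t * o := by
            rw [← (ηO o ho).eq, (At c).eq]; group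
          _ = η * t * η * φ c * φ c * (o * t) * o := by rw [← k.eq, ← h.oA ho c]; group
          _ = η * t * η * (φ c * φ c * t) * o * o := by rw [k2.eq]; group
          _ = η * (t * η * t) * φ c * φ c * o * o := by
            rw [((At c).mul_left (At c)).eq]; group
          _ = _ := by rw [e1.tr]
      rw [← sq', e, k3]
      exact ((((At ζ).mul_left (At c)).mul_left (At c)).mul_left k2).mul_left k2
  have ez : ∀ l, Commute l z → Commute (φ e) (φ l) := fun l c => by
    rcases he with rfl | rfl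
    exacts [by simp, cm c.symm]
  have Pz : ∀ l ∈ Cz ζ, Commute l z := fun l hl =>
    sq ▸ Commute.mul_right (mem_Cz.1 hl) (mem_Cz.1 hl)
  have main : ∀ l ∈ Cz ζ, Commute η (φ l) := fun l hl => by
    have : P ⊔ MulAut.conj x • P ≤ (centralizer {η}).comap φ := sup_le
      (fun p hp => mem_centralizer_singleton_iff.2 (ηP p hp).symm) (by
        rintro _ ⟨p, hp, rfl⟩
        refine mem_centralizer_singleton_iff.2 (Commute.symm ?_)
        have k1 := cx p hp
        have k2 := ez (x * p * x⁻¹) ((xz.mul_left (Pz p (oe.PC hp))).mul_left xz.inv_left)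
        rw [eη] at k1
        simpa using k1.mul_left k2.inv_left)
    exact Commute.symm (mem_centralizer_singleton_iff.1 (this (oe.gen hl)))
  refine ⟨main, ?_⟩
  have Xη : φ x * η * (φ x)⁻¹ = (φ e)⁻¹ * η⁻¹ := by rw [← mul_inv_rev, ← eη]; group
  rcases he with rfl | rfl
  swap
  · right
    rw [Xη, ← map_inv, inv_eq_of_mul_eq_one_right zz, (main _ (mem_Cz.2 ζz.symm)).inv_left.eq]
  left
  rw [map_one, inv_one, one_mul] at Xη
  have ss : x * ζ * (x * ζ) = 1 := by
    rw [← mul_assoc, ← xi, xi, ← congrArg (x * ζ * · * ζ) xi, inv, inv_mul_cancel]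
  have ix : IsConj z x := oe.one x xx fun e => nx (e ▸ Commute.one_left ζ)
  have is : IsConj z (x * ζ) := oe.one _ ss fun e =>
    nx (eq_inv_of_mul_eq_one_left e ▸ (Commute.refl ζ).inv_left)
  have sz := xz.mul_left ζz
  have aw := ex x z ix (IsConj.refl z) xz fun e => nx (e ▸ ζz.symm)
  have wa := ex z x (IsConj.refl z) ix xz.symm fun e => nx (e ▸ ζz.symm)
  have ns : x * ζ ≠ z := fun e => nx (by
    rw [← sq] at e; exact mul_right_cancel e ▸ Commute.refl _)
  have bw := ex _ z is (IsConj.refl z) sz ns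
  have wb := ex z _ (IsConj.refl z) is sz.symm ns.symm
  have caw : Commute (f x) (f z) := by rw [Commute, SemiconjBy, aw, wa, xz.eq]
  have cbw : Commute (f (x * ζ)) (f z) := by rw [Commute, SemiconjBy, bw, wb, sz.eq]
  have ζi : ζ⁻¹ = ζ * z := by rw [inv_eq_iff_mul_eq_one, ← mul_assoc, sq, zz]
  have Sa : φ (x * ζ) * f x * (φ (x * ζ))⁻¹ = f x * f z := by
    rw [← lf.eq _ _ ix, aw]
    congr 1
    calc _ = x * ζ * x⁻¹ * (x * x) * (x * ζ)⁻¹ := by group
      _ = (ζ * ζ)⁻¹ * x⁻¹ := by rw [inv, xx]; group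
      _ = _ := by rw [sq, xi, inv_eq_of_mul_eq_one_right zz, xz.eq]
  have Xb : φ x * f (x * ζ) * (φ x)⁻¹ = f (x * ζ) * f z := by
    rw [← lf.eq _ _ is, bw, mul_assoc, mul_assoc x ζ, ← mul_assoc x ζ, inv, ζi, mul_assoc]
  have aa := lf.sq x ix
  have bb := lf.sq _ is
  have ta := lf.br x ix
  have tb := lf.br _ is
  have Xa := cf ix (Commute.refl x)
  have Sb := cf is (Commute.refl _)
  have aO : ∀ o ∈ O, Commute (f x) o := lo x ix
  have ca : ∀ l, Commute l x → Commute (φ l) (f x) := fun l => cf ix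
  have cb : ∀ l, Commute l (x * ζ) → Commute (φ l) (f (x * ζ)) := fun l => cf is
  have cw : ∀ l, Commute l z → Commute (φ l) (f z) := fun l => cf (IsConj.refl z)
  rw [Good]
  generalize f x = a at *
  generalize f (x * ζ) = b at *
  generalize f z = w at *
  have ai : a⁻¹ = a := inv_eq_of_mul_eq_one_right aa
  have bi : b⁻¹ = b := inv_eq_of_mul_eq_one_right bb
  have Si : (φ (x * ζ))⁻¹ = φ (x * ζ) := by rw [← map_inv, inv_eq_of_mul_eq_one_right ss]
  have Sa' : φ (x * ζ) * a = a * w * φ (x * ζ) := mul_inv_eq_iff_eq_mul.1 Sa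
  have t4 : a * b * t * (a * b)⁻¹ = t * φ ζ * w := by
    calc _ = a * (b * t * b) * a := by rw [mul_inv_rev, ai, bi]; group
      _ = a * t * (φ (x * ζ) * a) := by rw [tb]; group
      _ = a * t * a * (w * φ (x * ζ)) := by rw [Sa']; group
      _ = t * (φ x * φ (x * ζ)) * w := by rw [ta, ← (cw _ sz).eq]; group
      _ = _ := by rw [← map_mul, ← mul_assoc x, xx, one_mul]
  obtain ⟨α, hα⟩ := h.aut (fin t4)
  obtain ⟨d, hd, ed⟩ := oe.cM α fun l l1 l2 => fix hα ((main l (mem_Cz.2 l2)).inv_left.mul_left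
    ((ca l l1).symm.mul_left (cb l (Commute.mul_right l1 l2)).symm))
  have dz : Commute d z := by
    rcases dih xx inv hd with k | k
    · exact Pz d (zpowers_le.2 (mem_Cz.2 rfl) k)
    · simpa using xz.inv_left.mul_left (Pz _ (zpowers_le.2 (mem_Cz.2 rfl) k))
  have dw := cw d dz
  obtain ⟨o, ho, e | e⟩ := h.split' (fin t4) hα ed
  swap
  · refine absurd ?_ nwt
    have := ηw.inv_left.mul_left (caw.mul_left cbw)
    rw [e] at this
    simpa [mul_assoc] using ((dw.inv_left.mul_left this).mul_left (wO o ho).symm.inv_left).symm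
  rw [inv_mul_eq_iff_eq_mul] at e
  have key : ∀ y, φ y * (a * b) * (φ y)⁻¹ = a * b * w → φ y * η * (φ y)⁻¹ = η⁻¹ → Commute y d :=
    fun y k1 k2 => by
      have k3 : φ y * o * (φ y)⁻¹ = o := by rw [h.oA ho, mul_inv_cancel_right]
      rw [e, ← conj_mul, ← conj_mul, k2, k3, inv_mul_eq_iff_eq_mul] at k1
      have k4 : η * (η * (φ d * o) * w) = φ d * o := by
        calc _ = η * η * (φ d * o * w) := by group
          _ = _ := by rw [hw, (dw.mul_left (wO o ho).symm).eq, ← mul_assoc, ww, one_mul]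
      rw [k4, mul_left_inj, mul_inv_eq_iff_eq_mul] at k1
      exact h.inj (by rw [map_mul, map_mul, k1])
  have xd := key x (by rw [← conj_mul, Xb, Xa.eq, mul_inv_cancel_right, mul_assoc]) Xη
  have sd := key (x * ζ) (by rw [← conj_mul, Sa, Sb.eq, mul_inv_cancel_right, mul_assoc, ← cbw.eq,
    mul_assoc]) (by rw [← Xη, map_mul, mul_assoc (φ x), ← ηζ.eq]; group)
  have ζd : Commute ζ d := by simpa using xd.inv_left.mul_left sd
  have dd : d * d = 1 := by
    rcases dih xx inv hd with k | k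
    · have := inv_zp inv k
      rw [xd.eq, mul_inv_cancel_right] at this
      exact mul_eq_one_iff_eq_inv.2 this
    · refine absurd ?_ nx
      have : Commute (x * d) ζ := mem_Cz.1 (zpowers_le.2 (mem_Cz.2 rfl) k)
      simpa using this.mul_left ζd.symm.inv_left
  have ab : a * b * (a * b) = w * (o * o) := by
    rw [e, ((main d (mem_Cz.2 ζd.symm)).mul_right (ηO o ho)).symm.mul_mul_mul_comm, hw,
      (Commute.symm (h.oA ho d)).mul_mul_mul_comm, ← map_mul, dd, map_one, one_mul]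
  have o1 : o = 1 := by
    have k1 : a * (a * b * (a * b)) * a⁻¹ = (a * b * (a * b))⁻¹ := by
      simp only [mul_inv_rev, ai, bi, ← mul_assoc, aa, one_mul]
    rw [ab, (caw.mul_right ((aO o ho).mul_right (aO o ho))).eq, mul_inv_cancel_right, mul_inv_rev,
      wi, ((wO o ho).mul_right (wO o ho)).eq, mul_left_inj] at k1
    exact h.o_sq ho (h.o_sq (mul_mem ho ho) (mul_eq_one_iff_eq_inv.2 k1))
  rw [o1, mul_one, mul_one] at ab
  have tbt : t * b * t = b * φ (x * ζ) := by
    calc t * b * t = b * b * t * b * t := by rw [bb, one_mul]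
      _ = b * (t * φ (x * ζ) * t) := by rw [← tb]; group
      _ = _ := by rw [mul_assoc t, (At _).eq, ← mul_assoc t, h.tt, one_mul]
  rw [tbt, mul_assoc b, Sa', ← ab]
  simp only [← mul_assoc, mul_left_inj]
  rw [mul_assoc b a a, aa, mul_one, bb, one_mul]

set_option linter.all false in
theorem eqns_S95E2 : True := by
  trivial

end Cfsg.Agent.H83.S95E
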