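import Cfsg.Agent.H56.ZCDefs
import Cfsg.Agent.H91.FrobPack
import Cfsg.Agent.H5.Semiregular

/-! Two members of a doubly transitive class of elementary abelian subgroups (piece LINE). -/

set_option autoImplicit false

namespace Cfsg.Agent.H83.ZcL

open Subgroup Cfsg.Agent.H56.FS Cfsg.Agent.H56.ZC Cfsg.Agent.H91
open scoped Pointwise

universe u

theorem frob {Y : Type*} [Group Y] [Finite Y] {p : ℕ} (hp : p.Prime) {H W W' : Subgroup Y}
    (hF : IsFrobeniusComplement H) (hW : W ≤ H) (W1 : W ≠ ⊥) (We : ∀ x ∈ W, x ^ p = 1)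
    (Wc : ∀ x ∈ W, ∀ y ∈ W, x * y = y * x) (hn : ∀ h ∈ H, ∀ w ∈ W, h * w * h⁻¹ ∈ W)
    (gen : W ⊔ W' = ⊤) {z : Y} (z1 : z ≠ 1) (zp : z ^ p = 1)
    (hz : ∀ g, g⁻¹ * z * g ∈ H → ∀ w ∈ W', g⁻¹ * w * g ∈ W) :
    Nat.card W = p ∧ Group.IsSolvable Y := by
  obtain ⟨M, hM, -, -⟩ := S0035.result H hF
  have hM := hM.symm
  have := frob_normal hF hM
  have := frob_isNilpotent hF hM
  have cop := frob_coprime hF hM
  have hc := frob_isComplement' hF hM
  have := Fact.mk hp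
  have : IsMulCommutative W := ⟨⟨fun x y => Subtype.ext (Wc _ x.2 _ y.2)⟩⟩
  obtain ⟨w, hw, w1⟩ := (bot_or_exists_ne_one W).resolve_left W1
  have ow := orderOf_eq_prime (We w hw) w1
  constructor
  · have : Nontrivial M := (nontrivial_iff_ne_bot M).2 (frob_ne_bot hF hM)
    have hA : W ≤ normalizer (M : Set Y) := by rw [normalizer_eq_top]; exact le_top
    let _ := H5.conjAction W M hA
    have := (H5.semireg_conjAction hA fun a ha a1 => eq_bot_iff.2 fun x hx => by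
      by_contra x1
      exact a1 (disjoint_def.1 hc.disjoint (frob_mem_of_commute_kernel hF hM hx.1 x1
        (mem_centralizer_singleton_iff.1 hx.2).symm) (hW ha))).isCyclic_of_comm
    refine ((Nat.dvd_prime hp).1 ?_).resolve_left ((one_lt_card_iff_ne_bot W).2 W1).ne'
    rw [← IsCyclic.exponent_eq_card]
    exact Monoid.exponent_dvd_of_forall_pow_eq_one fun x => Subtype.ext (We _ x.2)
  · have zM : z ∉ M := fun h => hp.one_lt.ne' (Nat.eq_one_of_dvd_coprimes cop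
      (orderOf_eq_prime zp z1 ▸ M.orderOf_dvd_natCard h) (ow ▸ H.orderOf_dvd_natCard (hW hw)))
    rw [← SetLike.mem_coe, ← hM, H5.mem_frobeniusKernel_iff, not_or, not_forall_not] at zM
    obtain ⟨g, hg⟩ := zM.2
    obtain ⟨⟨m, h⟩, rfl⟩ := (hc.existsUnique g).exists
    let π := (QuotientGroup.mk' M).comp W.subtype
    have hπ : Function.Surjective π := by
      have e : (⊤ : Subgroup Y) ≤ π.range.comap (QuotientGroup.mk' M) := by
        rw [← gen]
        refine sup_le (fun x hx => ⟨⟨x, hx⟩, rfl⟩) fun x hx => ⟨⟨_, hn _ h.2 _ (hz _ hg x hx)⟩, ?_⟩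
        have : (QuotientGroup.mk' M) m = 1 := (QuotientGroup.eq_one_iff _).2 m.2
        simp only [π, MonoidHom.comp_apply, coe_subtype, map_mul, map_inv, this]
        group
      intro y
      obtain ⟨x, rfl⟩ := QuotientGroup.mk'_surjective M y
      exact e (mem_top x)
    have : Group.IsSolvable W := Group.isSolvable_of_comm fun x y => Subtype.ext (Wc _ x.2 _ y.2)
    have := Group.isSolvable_of_surjective hπ
    exact Group.isSolvable_of_ker_le_range M.subtype (QuotientGroup.mk' M) (by simp)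

theorem modZ {Y : Type*} [Group Y] [Finite Y] {p : ℕ} (hp : p.Prime) {H W W' : Subgroup Y}
    (hZ : center Y ≤ H) (H1 : H ≠ ⊤) (ti : ∀ g ∉ H, ∀ x ∈ H, g⁻¹ * x * g ∈ H → x ∈ center Y)
    (hW : W ≤ H) (W1 : W ≠ ⊥) (WZ : ∀ x ∈ W, x ∈ center Y → x = 1) (We : ∀ x ∈ W, x ^ p = 1)
    (Wc : ∀ x ∈ W, ∀ y ∈ W, x * y = y * x) (hn : ∀ h ∈ H, ∀ w ∈ W, h * w * h⁻¹ ∈ W)
    (gen : W ⊔ W' = ⊤) {z : Y} (z1 : z ∉ center Y) (zp : z ^ p = 1)
    (hz : ∀ g, g⁻¹ * z * g ∈ H → ∀ w ∈ W', g⁻¹ * w * g ∈ W) :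
    Nat.card W = p ∧ Group.IsSolvable Y := by
  set f := QuotientGroup.mk' (center Y) with hf
  have sur : Function.Surjective f := QuotientGroup.mk'_surjective _
  have k1 : ∀ x, f x = 1 ↔ x ∈ center Y := fun x => QuotientGroup.eq_one_iff x
  have mem : ∀ x, f x ∈ H.map f ↔ x ∈ H := fun x => by
    rw [← mem_comap, comap_map_eq_self (by rwa [hf, QuotientGroup.ker_mk'])]
  have W2 : W.map f ≠ ⊥ := fun e => W1 (eq_bot_iff.2 fun x hx =>
    WZ x hx ((k1 x).1 (e.le (mem_map_of_mem f hx))))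
  obtain ⟨h1, h2⟩ := frob (W := W.map f) (W' := W'.map f) (z := f z) hp (H := H.map f)
    ⟨fun e => W2 (eq_bot_iff.2 ((map_mono hW).trans e.le)),
      fun e => H1 (eq_top_iff.2 fun x _ => (mem x).1 (e ▸ mem_top _)), fun g hg => by
        obtain ⟨g, rfl⟩ := sur g
        refine eq_bot_iff.2 fun x hx => ?_
        obtain ⟨x, rfl⟩ := sur x
        have := mem_pointwise_smul_iff_inv_smul_mem.1 hx.2
        exact (k1 x).2 (ti g (mt (mem g).2 hg) x ((mem x).1 hx.1) ((mem _).1 (by simpa using this)))⟩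
    (map_mono hW) W2 (by rintro _ ⟨x, hx, rfl⟩; rw [← map_pow, We x hx, map_one])
    (by rintro _ ⟨x, hx, rfl⟩ _ ⟨y, hy, rfl⟩; rw [← map_mul, Wc x hx y hy, map_mul])
    (by rintro _ ⟨x, hx, rfl⟩ _ ⟨y, hy, rfl⟩; exact ⟨_, hn x hx y hy, by simp⟩)
    (by rw [← Subgroup.map_sup, gen, map_top_of_surjective f sur]) (mt (k1 z).1 z1)
    (by rw [← map_pow, zp, map_one]) (fun g hg => by
      obtain ⟨g, rfl⟩ := sur g
      rintro _ ⟨x, hx, rfl⟩
      exact ⟨_, hz g ((mem _).1 (by simpa using hg)) x hx, by simp⟩)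
  have : Group.IsSolvable (center Y) :=
    Group.isSolvable_of_comm fun x y => Subtype.ext (mem_center_iff.1 y.2 x)
  refine ⟨?_, Group.isSolvable_of_ker_le_range (center Y).subtype f (by simp [hf])⟩
  rw [← h1]
  refine Nat.card_congr (Equiv.ofBijective (f.subgroupMap W) ⟨?_, f.subgroupMap_surjective W⟩)
  exact (injective_iff_map_eq_one _).2 fun x hx =>
    Subtype.ext (WZ x x.2 ((k1 _).1 (congrArg Subtype.val hx)))

/-- **LINE** -/
theorem line : LineStmt.{u} := by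
  intro H _ _ N hN p hp S inv le ne ex ab nc ti tr W hW W' hW' hne
  have cen : ∀ {A B : Subgroup H}, A ∈ S → B ∈ S →
      N ⊓ normalizer (A : Set H) ⊓ normalizer (B : Set H) ≤ centralizer ((A ⊔ B : Subgroup H) : Set H) :=
    fun {A B} hA hB => le_centralizer_iff.1 (sup_le
      (le_centralizer_iff.1 (inf_le_left.trans (nc A hA)))
      (le_centralizer_iff.1 ((inf_le_inf_right _ inf_le_left).trans (nc B hB))))
  have nj : ∀ {A : Subgroup H} {g x : H}, x ∈ normalizer (A : Set H) →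
      g * x * g⁻¹ ∈ normalizer (cj g A : Set H) := fun {A g x} hx => by
    rw [← cj_eq_iff, cj_cj, inv_mul_cancel_right, ← cj_cj, cj_eq_iff.2 hx]
  have key : ∀ V ∈ S, ∀ V' ∈ S, V ≠ V' → V ≤ W ⊔ W' → V' ≤ W ⊔ W' → ∀ x ∈ N,
      x ∈ normalizer (V : Set H) → x ∈ normalizer (V' : Set H) →
      x ∈ centralizer ((W ⊔ W' : Subgroup H) : Set H) := fun V hV V' hV' ne' l l' x h1 h2 h3 => by
    obtain ⟨g, rfl, rfl⟩ := tr V hV V' hV' W hW W' hW' ne' hne
    refine cen hW hW' ((eq_of_le_of_card_ge (H := N ⊓ normalizer _ ⊓ normalizer _)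
      (K := N ⊓ normalizer (V : Set H) ⊓ normalizer (V' : Set H)) (fun y hy => ?_) ?_).ge
      ⟨⟨h1, h2⟩, h3⟩)
    · have := cen hW hW' hy
      exact ⟨⟨hy.1.1, cj_eq_iff.1 (cj_of_cent (centralizer_le l this))⟩,
        cj_eq_iff.1 (cj_of_cent (centralizer_le l' this))⟩
    · rw [← card_cj g]
      refine card_le_of_le ?_
      rintro _ ⟨y, hy, rfl⟩
      exact ⟨⟨hN.conj_mem y hy.1.1 g, nj hy.1.2⟩, nj hy.2⟩
  have YN : W ⊔ W' ≤ N := sup_le (le W hW) (le W' hW')
  have cz : ∀ x : ↥(W ⊔ W'), x ∈ center _ ↔ x.1 ∈ centralizer ((W ⊔ W' : Subgroup H) : Set H) :=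
    fun x => by simp [mem_center_iff, mem_centralizer_iff, Subtype.ext_iff]
  have zn : ∀ x : ↥(W ⊔ W'), x ∈ center _ → ∀ V ≤ W ⊔ W', x.1 ∈ normalizer (V : Set H) :=
    fun x hx V l => cj_eq_iff.1 (cj_of_cent (centralizer_le l ((cz x).1 hx)))
  obtain ⟨z, hz, z1⟩ := (bot_or_exists_ne_one W').resolve_left (ne W' hW')
  have nz : ∀ V ∈ S, z ∈ normalizer (V : Set H) → W' = V := fun V hV h => by
    by_contra e
    exact z1 ((ti W' hW' V hV e).le ⟨hz, h⟩)
  have := modZ (Y := ↥(W ⊔ W')) hp (H := (normalizer (W : Set H)).subgroupOf _)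
    (W := W.subgroupOf _) (W' := W'.subgroupOf _) (z := ⟨z, mem_sup_right hz⟩)
    (fun x hx => zn x hx W le_sup_left)
    (fun e => hne (nz W hW (subgroupOf_eq_top.1 e (mem_sup_right hz))).symm)
    (fun g hg x hx h => (cz x).2 (key W hW _ (inv W hW g) (fun e => hg (cj_eq_iff.1 e.symm))
      le_sup_left (cj_le_of_mem g.2 le_sup_left) x (YN x.2) hx
      (by simpa [mul_assoc] using nj (g := g.1) h)))
    (fun x hx => le_normalizer hx)
    (fun e => ne W hW ((subgroupOf_eq_bot.1 e).eq_bot_of_le le_sup_left))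
    (fun x hx h => Subtype.ext ((ti W hW W' hW' hne).le ⟨hx, zn x h W' le_sup_right⟩))
    (fun x hx => Subtype.ext (ex W hW x hx))
    (fun x hx y hy => Subtype.ext (ab W hW hy x hx))
    (fun h hh w hw => (mem_normalizer_iff.1 hh w.1).1 hw)
    (by rw [← subgroupOf_sup le_sup_left le_sup_right, subgroupOf_self])
    (fun h => hne (nz W hW (zn _ h W le_sup_left)).symm) (Subtype.ext (ex W' hW' z hz))
    (fun g hg w hw => mem_cj (g := g.1).1 ((nz _ (inv W hW g)
      (by simpa [mul_assoc] using nj (g := g.1) hg)).le hw))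
  exact ⟨(Nat.card_congr (subgroupOfEquivOfLe le_sup_left).toEquiv).symm.trans this.1, this.2⟩

set_option linter.all false in
theorem eqns_ZcLine : True := by
  trivial

end Cfsg.Agent.H83.ZcL
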