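import Cfsg.Agent.H58.Q4K2

/-! Project Q4 (S3404), piece `ParStmt`: the two parities of the kernel. -/

set_option autoImplicit false

namespace Cfsg.Agent.H83.Q4Par

open Subgroup Cfsg.Agent.H58.Q4
open scoped Pointwise

universe u

variable {G Ω : Type u} [Group G] [MulAction G Ω]

/-- The elements of order a power of two of a nilpotent subgroup form a subgroup. -/
theorem exists_twoPart [Finite G] {K : Subgroup G} (hK : Group.IsNilpotent K) :
    ∃ R : Subgroup G, ∀ g, g ∈ R ↔ g ∈ K ∧ Tw g := by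
  obtain ⟨S⟩ : Nonempty (Sylow 2 K) := inferInstance
  have hS : (S : Subgroup K).Normal :=
    Sylow.normal_of_normalizerCondition Group.normalizerCondition_of_isNilpotent S
  refine ⟨(S : Subgroup K).map K.subtype, fun g => ⟨?_, fun ⟨hg, n, hn⟩ => ?_⟩⟩
  · rintro ⟨x, hx, rfl⟩
    obtain ⟨n, hn⟩ := Tw.of_mem S.isPGroup' hx
    exact ⟨x.2, n, congrArg Subtype.val hn⟩
  · refine ⟨⟨g, hg⟩, H90.mem_sylow_of_mem_normalizer S (k := n) (Subtype.ext hn) ?_, rfl⟩
    rw [normalizer_eq_top]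
    trivial

theorem card_K {K : Set Ω → Subgroup G} (h : Fb K) {F F' : Set Ω} (hF : F.ncard = 4)
    (hF' : F'.ncard = 4) :
    Nat.card (K F') = Nat.card (K F) ∧ Nat.card (St G F') = Nat.card (St G F) := by
  obtain ⟨g, -, rfl⟩ := h.tr.smul_eq hF hF' (Set.subset_univ _) (Set.subset_univ _)
  refine ⟨(card_eq_of_conj g fun x => ⟨h.conj F hF g x, fun hx => ?_⟩).symm, card_St_smul g F⟩
  have := h.conj _ hF' g⁻¹ _ hx
  rw [inv_smul_smul] at this
  simpa [mul_assoc] using this

theorem even_St [Finite G] [Finite Ω] (hH : HallStmt.{u}) {K : Set Ω → Subgroup G} (h : Fb K)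
    {F : Set Ω} (hF : F.ncard = 4) : Even (Nat.card (St G F)) := by
  by_contra ho
  rw [Nat.not_even_iff_odd] at ho
  have hl := hH G Ω ⊤ Set.univ (fun _ _ _ _ => trivial) h.tr F (Set.subset_univ _) hF
    fun g hg => ⟨_, ho, by
      have : g ^ Nat.card (St G F) = 1 :=
        congrArg Subtype.val (pow_card_eq_one' (G := St G F) (x := ⟨g, hg.2⟩))
      rw [this]
      exact one_mem _⟩
  have hb : St G (Set.univ : Set Ω) = ⊥ :=
    eq_bot_iff.2 fun g hg => h.faith g fun x => mem_St.1 hg x trivial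
  have fr := h.fr F hF
  by_cases h7 : (Set.univ : Set Ω).ncard = 7
  · have h3 := hl.sev h7 F (Set.subset_univ _) hF
    rw [hb, top_inf_eq, relIndex_bot_left] at h3
    have hd := card_dvd_of_le fr.le
    rw [h3] at hd
    rcases (Nat.dvd_prime Nat.prime_three).1 hd with e | e
    · exact fr.ne_bot (card_eq_one.1 e)
    · exact fr.ne_top (eq_of_le_of_card_ge fr.le (by rw [e, h3]))
  · have h1 := hl.sharp h7 F (Set.subset_univ _) hF
    rw [hb, top_inf_eq] at h1
    exact fr.ne_bot (eq_bot_iff.2 (fr.le.trans h1))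

theorem par (hFr : FrStmt.{u}) (hH : HallStmt.{u}) : ParStmt.{u} := by
  intro G Ω _ _ _ _ K h F hF
  rcases Nat.even_or_odd (Nat.card (K F)) with he | ho
  · have key : ∀ F' : Set Ω, ∃ R : Subgroup G, F'.ncard = 4 → ∀ g, g ∈ R ↔ g ∈ K F' ∧ Tw g := by
      intro F'
      by_cases hF' : F'.ncard = 4
      · obtain ⟨R, hR⟩ := exists_twoPart (h.fr F' hF').nil
        exact ⟨R, fun _ => hR⟩
      · exact ⟨⊥, fun h => absurd h hF'⟩
    choose P hP using key
    refine Or.inr ⟨P, h, fun F' hF' g => ?_, fun F' hF' g hg => ((hP F' hF' g).1 hg).1,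
      fun F' hF' hb => ?_⟩
    · rw [hP F' hF']
      refine ⟨fun hg => ⟨(h.fr F' hF').le hg.1, hg.2⟩, fun hg => ⟨?_, hg.2⟩⟩
      by_contra hK
      obtain ⟨h1, h2, -⟩ := hFr G _ _ (h.fr F' hF')
      rw [(card_K h hF hF').1] at h1
      have h3 : Odd ((K F').relIndex (St G F')) :=
        Nat.coprime_two_left.1 (h1.coprime_dvd_left he.two_dvd)
      have h4 := hg.2.eq_one (h3.of_dvd_nat (h2 g hg.1 hK))
      exact hK (h4 ▸ one_mem _)
    · rw [← (card_K h hF hF').1] at he
      obtain ⟨x, hx⟩ := exists_prime_orderOf_dvd_card' (G := K F') 2 he.two_dvd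
      have h1 : (x : G) ∈ P F' := (hP F' hF' x).2 ⟨x.2, 1, by
        rw [pow_one, ← hx, ← orderOf_coe, pow_orderOf_eq_one]⟩
      rw [hb, mem_bot] at h1
      rw [← orderOf_coe, h1, orderOf_one] at hx
      exact absurd hx (by decide)
  · exact Or.inl ⟨h, fun F' hF' => (card_K h hF hF').1 ▸ ho, fun F' hF' => even_St hH h hF'⟩

set_option linter.all false in
theorem eqns_Q4Par : True := by
  trivial

end Cfsg.Agent.H83.Q4Par
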