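import Cfsg.Agent.H83.SpKer

/-! The movers for the short root elements (piece H1A). -/

set_option autoImplicit false

namespace Cfsg.Agent.H83.SpH

open Cfsg Cfsg.Agent.H63 Cfsg.Agent.H63.SL Cfsg.Agent.H26 Cfsg.Agent.H68.Sp Cfsg.Agent.H29.SpK
open Cfsg.Agent.H78 hiding tv
open Subgroup Module
open scoped commutatorElement

universe u v

variable {F V : Type v} [Field F] [AddCommGroup V] [Module F V] {G : Type u} [Group G]
  {P : PForm F V} {φ : P.E →* G} {L : Subgroup G} {k : ℕ} {t : G} {u v w : V} {p : G}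

theorem sq_of_conj {p τ ε : G} (e : p⁻¹ * τ * p = ε * τ) (hc : Commute τ ε) (h : τ * τ = 1) :
    ε * ε = 1 := by
  calc ε * ε = ε * (ε * τ) * τ := by rw [mul_assoc, mul_assoc, h, mul_one]
    _ = ε * τ * (ε * τ) := by rw [mul_assoc ε τ, ← mul_assoc τ, hc.eq, mul_assoc]
    _ = p⁻¹ * (τ * τ) * p := by rw [← e]; group
    _ = 1 := by rw [h]; group

theorem comm_of_conj {p τ ε : G} (e : p⁻¹ * τ * p = ε * τ) (hc : τ * (p * p) = p * p * τ)
    (h : ε * ε = 1) : Commute ε p := by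
  have h1 : p⁻¹ * ε * p * (ε * τ) = τ := by
    calc _ = p⁻¹ * (ε * τ) * p * (p⁻¹ * τ⁻¹ * p) * (ε * τ) := by group
      _ = p⁻¹ * p⁻¹ * (τ * (p * p)) := by rw [← e]; group
      _ = τ := by rw [hc]; group
  rw [← mul_assoc, mul_eq_right, mul_eq_one_iff_eq_inv, inv_eq_of_mul_eq_one_left h, mul_assoc,
    inv_mul_eq_iff_eq_mul] at h1
  exact h1

theorem fix_of_conj {p τ s x : G} (e : p⁻¹ * τ * p = s * τ) (h1 : Commute x τ)
    (h2 : τ * (p⁻¹ * (x * p * x⁻¹)) = p⁻¹ * (x * p * x⁻¹) * τ)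
    (h3 : s * (p⁻¹ * (x * p * x⁻¹)) = p⁻¹ * (x * p * x⁻¹) * s) : x * s * x⁻¹ = s := by
  have h4 : x * s * x⁻¹ * τ = s * τ := by
    calc _ = x * (s * τ) * x⁻¹ := by rw [mul_assoc, h1.inv_left.eq]; group
      _ = (x * p * x⁻¹)⁻¹ * (x * τ) * p * x⁻¹ := by rw [← e]; group
      _ = (p⁻¹ * (x * p * x⁻¹))⁻¹ * (p⁻¹ * τ * p) * (p⁻¹ * (x * p * x⁻¹)) := by rw [h1.eq]; group
      _ = _ := by rw [e, mul_assoc, mul_assoc s, h2, ← mul_assoc s, h3]; group
  exact mul_right_cancel h4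

theorem trip_conj {p1 p p3 τ ε r : G} (k1 : Commute τ p1) (e : p⁻¹ * τ * p = ε * τ)
    (k3 : Commute ε p3) (k4 : p3⁻¹ * τ * p3 = ε * r) (h : ε * ε = 1) :
    (p1 * p * p3)⁻¹ * τ * (p1 * p * p3)⁻¹⁻¹ = r := by
  calc _ = p3⁻¹ * (p⁻¹ * (p1⁻¹ * (τ * p1)) * p) * p3 := by group
    _ = p3⁻¹ * ε * (τ * p3) := by rw [k1.eq, inv_mul_cancel_left, e]; group
    _ = ε * (p3⁻¹ * τ * p3) := by rw [← k3.inv_right.eq]; group
    _ = r := by rw [k4, ← mul_assoc, h, one_mul]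

theorem li3_iff : LinearIndependent F ![u, v, w] ↔
    ∀ a b c : F, a • u + b • v + c • w = 0 → a = 0 ∧ b = 0 ∧ c = 0 := by
  rw [Fintype.linearIndependent_iff]
  refine ⟨fun H a b c e => ?_, fun H g e i => ?_⟩
  · have := H ![a, b, c] (by simpa [Fin.sum_univ_three] using e)
    exact ⟨this 0, this 1, this 2⟩
  · obtain ⟨h1, h2, h3⟩ := H (g 0) (g 1) (g 2) (by simpa [Fin.sum_univ_three] using e)
    fin_cases i
    exacts [h1, h2, h3]

theorem i3i2 (H : I3 P u v w) : I2 P u v :=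
  ⟨H.1, LinearIndependent.pair_iff.2 fun a b e => by
    have := li3_iff.1 H.2.2.2 a b 0 (by rw [e, zero_smul, add_zero])
    exact ⟨this.1, this.2.1⟩⟩

theorem i3_of (H : I2 P u v) (h1 : P.f w u = 0) (h2 : P.f w v = 0)
    (h3 : w ∉ Submodule.span F {u, v}) : I3 P u v w :=
  ⟨H.1, PForm.f_symm_zero h1, PForm.f_symm_zero h2, li3_iff.2 fun a b c e => by
    by_cases hc : c = 0
    · rw [hc, zero_smul, add_zero] at e
      exact ⟨(LinearIndependent.pair_iff.1 H.2 a b e).1, (LinearIndependent.pair_iff.1 H.2 a b e).2,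
        hc⟩
    · refine absurd (Submodule.mem_span_pair.2 ⟨-(c⁻¹ * a), -(c⁻¹ * b), ?_⟩) h3
      refine smul_right_injective V hc ?_
      simp only [smul_add, smul_smul, mul_neg, mul_inv_cancel_left₀ hc]
      linear_combination (norm := module) -e⟩

theorem i3sw (H : I3 P u v w) : I3 P u w v :=
  ⟨H.2.1, H.1, PForm.f_symm_zero H.2.2.1, li3_iff.2 fun a b c e => by
    have := li3_iff.1 H.2.2.2 a c b (by rw [add_right_comm, e])
    exact ⟨this.1, this.2.2, this.2.1⟩⟩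

theorem i3sw' (H : I3 P u v w) : I3 P v u w :=
  ⟨PForm.f_symm_zero H.1, H.2.2.1, H.2.1, li3_iff.2 fun a b c e => by
    have := li3_iff.1 H.2.2.2 b a c (by rw [add_comm (b • u), e])
    exact ⟨this.2.1, this.1, this.2.2⟩⟩

theorem pair_smul {b : F} (hb : b ≠ 0) :
    Submodule.span F {u, b • v} = Submodule.span F {u, v} := by
  rw [Submodule.span_insert, Submodule.span_insert, Submodule.span_singleton_smul_eq hb.isUnit]

theorem pair_add : Submodule.span F {u, v + u} = Submodule.span F {u, v} := by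
  refine le_antisymm (Submodule.span_le.2 ?_) (Submodule.span_le.2 ?_) <;>
    rintro _ (rfl | rfl) <;> refine Submodule.mem_span_pair.2 ?_
  exacts [⟨1, 0, by module⟩, ⟨1, 1, by module⟩, ⟨1, 0, by module⟩, ⟨-1, 1, by module⟩]

section SG

variable (h : SG P φ L k)
include h

theorem i3add (H : I3 P u v w) : I3 P u (v + w) w :=
  ⟨by rw [P.f_add_right, H.1, H.2.1, add_zero], H.2.1,
    by rw [P.f_add_left, H.2.2.1, fs h, add_zero], li3_iff.2 fun a b c e => by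
    obtain ⟨h1, h2, h3⟩ := li3_iff.1 H.2.2.2 a b (b + c) (by linear_combination (norm := module) e)
    exact ⟨h1, h2, by rwa [h2, zero_add] at h3⟩⟩

theorem i3shear (H : I3 P u v w) : I3 P u (v + u) w :=
  i3sw' (i3sw (i3sw' (i3add h (i3sw' (i3sw (i3sw' H))))))

theorem i2_smul (H : I2 P u v) {b : F} (hb : b ≠ 0) : I2 P u (b • v) :=
  ⟨by rw [fr h, H.1, mul_zero], LinearIndependent.pair_iff.2 fun x y e => by
    have := LinearIndependent.pair_iff.1 H.2 x (y * b) (by rw [← smul_smul, e])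
    exact ⟨this.1, (mul_eq_zero.1 this.2).resolve_right hb⟩⟩

theorem witt2 (g1 : G1 P k) {u' v' : V} (H : I2 P u v) (H' : I2 P u' v') :
    ∃ e : P.E, e.1 u = u' ∧ e.1 v = v' := by
  obtain ⟨e, he⟩ := g1.witt ![u, v] ![u', v'] H.2 H'.2 (fun i j => by
    fin_cases i <;> fin_cases j <;>
      simp [fs h, H.1, H'.1, PForm.f_symm_zero H.1, PForm.f_symm_zero H'.1])
  exact ⟨e, he 0, he 1⟩

theorem witt3 (g1 : G1 P k) {u' v' w' : V} (H : I3 P u v w) (H' : I3 P u' v' w') :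
    ∃ e : P.E, e.1 u = u' ∧ e.1 v = v' ∧ e.1 w = w' := by
  obtain ⟨a1, a2, a3, a4⟩ := H
  obtain ⟨b1, b2, b3, b4⟩ := H'
  obtain ⟨e, he⟩ := g1.witt ![u, v, w] ![u', v', w'] a4 b4 (fun i j => by
    fin_cases i <;> fin_cases j <;>
      simp [fs h, a1, a2, a3, b1, b2, b3, PForm.f_symm_zero a1, PForm.f_symm_zero a2,
        PForm.f_symm_zero a3, PForm.f_symm_zero b1, PForm.f_symm_zero b2, PForm.f_symm_zero b3])
  exact ⟨e, he 0, he 1, he 2⟩

theorem exists_i3 [FiniteDimensional F V] (k3 : 3 ≤ k) (H : I2 P u v) : ∃ w, I3 P u v w := by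
  classical
  have h1 := P.finrank_perp (Submodule.span F {u, v})
  have h2 : finrank F (Submodule.span F ({u, v} : Set V)) ≤ 2 := by
    have h := finrank_span_finset_le_card (R := F) ({u, v} : Finset V)
    rw [Set.finrank, Finset.coe_pair] at h
    exact h.trans Finset.card_le_two
  have h3 := h.dim
  obtain ⟨x, hx, hx'⟩ : ∃ x ∈ P.perp (Submodule.span F {u, v}), x ∉ Submodule.span F {u, v} := by
    by_contra hc
    push Not at hc
    have := Submodule.finrank_mono (show P.perp (Submodule.span F {u, v}) ≤ _ from hc)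
    omega
  rw [PForm.mem_perp_span] at hx
  exact ⟨x, i3_of H (hx u (by simp)) (hx v (by simp)) hx'⟩

/-- `τ w d · E u (c w)` is not a transvection. -/
theorem not_tv [FiniteDimensional F V] (H : I2 P u w) {c d d' : F} {y : V}
    (e : tv P φ y d' = Es P φ u (c • w) * tv P φ w d) : c = 0 := by
  have hw : P.f w (c • u) = 0 := by rw [fr h, PForm.f_symm_zero H.1, mul_zero]
  have li := LinearIndependent.pair_iff.1 H.2
  rw [← Es_smul h, Es_symm h, ← ET_split' h hw, tv, ET_eq, φ_eq_ET h hw] at e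
  obtain ⟨x1, a1, b1⟩ := P.exists_perp_f_left (W := F ∙ w) (x := u) (fun m => by
    obtain ⟨r, hr⟩ := Submodule.mem_span_singleton.1 m
    exact one_ne_zero (li 1 (-r) (by rw [← hr]; module)).1) 1
  obtain ⟨x2, a2, b2⟩ := P.exists_perp_f_left (W := F ∙ u) (x := w) (fun m => by
    obtain ⟨r, hr⟩ := Submodule.mem_span_singleton.1 m
    exact one_ne_zero (li (-r) 1 (by rw [← hr]; module)).2) 1
  rw [PForm.mem_perp_span_singleton] at a1 a2
  have e1 := e x1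
  have e2 := e x2
  rw [tv_apply h, fr h, a1, b1] at e1
  rw [tv_apply h, fr h, a2, b2] at e2
  obtain ⟨h1, h2⟩ := li (d' * P.f x1 y * c) (d' * P.f x1 y * d - d' * P.f x2 y * c) (by
    linear_combination (norm := module) (d' * P.f x2 y) • e1 - (d' * P.f x1 y) • e2)
  by_contra hc
  rw [(mul_eq_zero.1 h1).resolve_right hc] at e1
  exact hc (li 0 c (by linear_combination (norm := module) -e1)).2

/-- Coordinates in `S2 {u, v}`. -/
theorem crd_mul (H : P.f u v = 0) (a b c a' b' c' : F) :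
    tv P φ u a * tv P φ v b * Es P φ u (c • v) * (tv P φ u a' * tv P φ v b' * Es P φ u (c' • v)) =
      tv P φ u (a + a') * tv P φ v (b + b') * Es P φ u ((c + c') • v) := by
  have H' := PForm.f_symm_zero H
  rw [((comm_same h u _ _ _ _).mul_right (comm_tv_ET h H' (by rw [fr h, fs h, mul_zero]) _
    _).symm).mul_mul_mul_comm, (comm_tv_tv h H' _ _).mul_mul_mul_comm, tv_add h, tv_add h,
    Es_adds h H]

theorem shear_crd (H : P.f u v = 0) {e : P.E} (h1 : e.1 u = u) (h2 : e.1 v = v + u) (a b c : F) :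
    φ e * (tv P φ u a * tv P φ v b * Es P φ u (c • v)) * (φ e)⁻¹ =
      tv P φ u (a + b) * tv P φ v b * Es P φ u ((b + c) • v) := by
  rw [← conj_mul, ← conj_mul, conj_tv h, conj_tv h, conj_Es h, map_smul, h1, h2, smul_add,
    Es_shear h, add_comm v, tv_add_vec h H, tv_add h, Es_adds h H]
  simp only [mul_assoc]

theorem X_symm (c : F) : Es P φ u (c • v) = Es P φ v (c • u) := by rw [← Es_smul h, Es_symm h]

/-- An element of `S2 {u, v}` fixed modulo `X` by the two shears lies in `X`. -/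
theorem inX (g1 : G1 P k) (g2 : G2 P φ) (H : I3 P u v w) {s : G} (hs : s ∈ S2 P φ {u, v})
    (K : ∀ e : P.E, e.1 u = u ∧ e.1 v = v + u ∨ e.1 v = v ∧ e.1 u = u + v → e.1 w = w →
      ∃ d : F, φ e * s * (φ e)⁻¹ * s = Es P φ u (d • v)) : ∃ c : F, s = Es P φ u (c • v) := by
  have key : ∀ {u v : V}, I3 P u v w → ∀ a b c : F, (∀ e : P.E, e.1 u = u ∧ e.1 v = v + u →
      e.1 w = w → ∃ d : F, φ e * (tv P φ u a * tv P φ v b * Es P φ u (c • v)) * (φ e)⁻¹ *
        (tv P φ u a * tv P φ v b * Es P φ u (c • v)) = Es P φ u (d • v)) → b = 0 := by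
    intro u v H a b c K
    obtain ⟨e, e1, e2, e3⟩ := witt3 h g1 H (i3shear h H)
    obtain ⟨d, hd⟩ := K e ⟨e1, e2⟩ e3
    rw [shear_crd h H.1 e1 e2, crd_mul h H.1, ← mul_inv_eq_one, Es_inv h, mul_assoc,
      ← Es_adds h H.1] at hd
    have := (g2.uni2 u v (i3i2 H) _ _ _ hd).1
    rwa [add_right_comm, fadd_self h, zero_add] at this
  obtain ⟨a, b, c, rfl⟩ := (g2.crd2 u v H.1 s).1 hs
  obtain rfl := key H a b c fun e he => K e (.inl he)
  obtain rfl := key (i3sw' H) 0 a c fun e he hw => by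
    simpa only [H29.SpK.tv_zero, mul_one, one_mul, X_symm h (u := v)] using K e (.inr he) hw
  exact ⟨c, by simp only [H29.SpK.tv_zero, one_mul]⟩

end SG

variable (P φ t) in
/-- `p` centralizes `Q_{u,v}` and moves `t` to `t E u v`. -/
structure Mq (u v : V) (p : G) : Prop where
  cq : p ∈ C[QW P φ {u, v}]
  mv : p * t * p⁻¹ = t * Es P φ u v

theorem Mq.congr {u' v' : V} (hp : Mq P φ t u v p)
    (e : Submodule.span F {u', v'} = Submodule.span F {u, v}) (e' : Es P φ u' v' = Es P φ u v) :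
    Mq P φ t u' v' p :=
  ⟨by rw [QW, e]; exact hp.cq, e' ▸ hp.mv⟩

theorem Mq.com (hp : Mq P φ t u v p) {x y : V} (hx : x = u ∨ x = v) (h1 : P.f y u = 0)
    (h2 : P.f y v = 0) (a : F) : Commute (ET P φ x y a) p :=
  hp.cq _ (ET_mem_QW (Submodule.subset_span (s := {u, v}) hx)
    (by rintro _ (rfl | rfl) <;> assumption) a)

section C

variable (c : Ctx0 P φ L k t)
include c

theorem Mq.conj (hp : Mq P φ t u v p) (e : P.E) :
    Mq P φ t (e.1 u) (e.1 v) (φ e * p * (φ e)⁻¹) := by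
  have h := c.toSG
  refine ⟨fun g hg => ?_, ?_⟩
  · have : (φ e)⁻¹ * g * (φ e)⁻¹⁻¹ ∈ QW P φ {u, v} := by
      refine (closure_le ((QW P φ {u, v}).comap (MulAut.conj (φ e)⁻¹).toMonoidHom)).2 ?_ hg
      rintro _ ⟨x, hx, y, hy, a, rfl⟩
      change (φ e)⁻¹ * _ * (φ e)⁻¹⁻¹ ∈ QW P φ {u, v}
      rw [← map_inv, conj_ET h]
      obtain ⟨r, s, rfl⟩ := Submodule.mem_span_pair.1 hx
      rw [PForm.mem_perp_span] at hy
      refine ET_mem_QW (Submodule.mem_span_pair.2 ⟨r, s, ?_⟩) ?_ a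
      · rw [map_add, map_smul, map_smul, einv_apply, einv_apply]
      · rintro _ (rfl | rfl) <;> rw [← ef_right] <;> exact hy _ (by simp)
    have := hp.cq _ this
    rw [inv_inv] at this
    calc g * (φ e * p * (φ e)⁻¹) = φ e * ((φ e)⁻¹ * g * φ e * p) * (φ e)⁻¹ := by group
      _ = _ := by rw [this]; group
  · have h1 := (lt c.tc (φ_mem h e)).eq
    calc _ = φ e * (p * ((φ e)⁻¹ * (t * φ e)) * p⁻¹) * (φ e)⁻¹ := by group
      _ = φ e * t * Es P φ u v * (φ e)⁻¹ := by rw [← h1, inv_mul_cancel_left, hp.mv, ← mul_assoc]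
      _ = _ := by rw [h1, ← conj_Es h]; group

theorem Mq.shear (hp : Mq P φ t u v p) {x : P.E}
    (hx : x.1 u = u ∧ x.1 v = v + u ∨ x.1 v = v ∧ x.1 u = u + v) :
    Mq P φ t u v (φ x * p * (φ x)⁻¹) := by
  have := hp.conj c x
  rcases hx with ⟨x1, x2⟩ | ⟨x1, x2⟩ <;> rw [x1, x2] at this
  · exact this.congr pair_add.symm (by simpa using (Es_shear c.toSG u v 1).symm)
  · exact this.congr (by rw [Set.pair_comm, Set.pair_comm (u + v), pair_add])
      (by simpa using (Es_shear' c.toSG u v 1).symm)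

theorem Mq.z (H : P.f u v = 0) (hp : Mq P φ t u v p) : Commute (Es P φ u v) p :=
  hp.com (.inl rfl) (PForm.f_symm_zero H) (fs c.toSG v) 0

theorem Mq.inv (H : P.f u v = 0) (hp : Mq P φ t u v p) : Mq P φ t u v p⁻¹ :=
  ⟨inv_mem hp.cq, by
    calc _ = p⁻¹ * (t * Es P φ u v) * (Es P φ u v * p) := by
          rw [inv_inv, mul_assoc _ (_ * _), mul_assoc t, ← mul_assoc (Es P φ u v), Es_sq c.toSG]
          group
      _ = p⁻¹ * (p * t * p⁻¹) * (p * Es P φ u v) := by rw [hp.mv, (hp.z c H).eq]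
      _ = _ := by group⟩

omit c in
theorem Mq.ker {p' : G} (hp : Mq P φ t u v p) (hp' : Mq P φ t u v p') : Commute (p⁻¹ * p') t := by
  have := hp'.mv.trans hp.mv.symm
  calc p⁻¹ * p' * t = p⁻¹ * (p' * t * p'⁻¹) * p' := by group
    _ = _ := by rw [this]; group

theorem Mq.pow (H : P.f u v = 0) (hp : Mq P φ t u v p) {m : ℕ} (hm : Odd m) :
    Mq P φ t u v (p ^ m) := by
  obtain ⟨n, rfl⟩ := hm
  have := ((hp.inv c H).ker hp).pow_left n
  rw [inv_inv, ← sq, ← pow_mul] at this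
  refine ⟨pow_mem hp.cq _, ?_⟩
  rw [← hp.mv, pow_succ', mul_assoc p, this.eq]
  group

theorem Mq.trip (H : I3 P u v w) {p1 p3 : G} (h1 : Mq P φ t u w p1) (hp : Mq P φ t u v p)
    (h3 : Mq P φ t u (v + w) p3) : Commute (p1 * p * p3) t := by
  have h := c.toSG
  obtain ⟨a1, a2, a3, -⟩ := H
  have b1 := PForm.f_symm_zero a1
  have b2 := PForm.f_symm_zero a2
  have e1 : Es P φ u (v + w) = Es P φ u v * Es P φ u w := Es_add0 h a1 a2 a3
  have c1 := (hp.z c a1).mul_left (hp.com (.inl rfl) b2 (PForm.f_symm_zero a3) 0)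
  have c2 := h1.z c a2
  refine mul_inv_eq_iff_eq_mul.1 ?_
  calc _ = p1 * (p * (p3 * t * p3⁻¹) * p⁻¹) * p1⁻¹ := by group
    _ = p1 * (p * t * p⁻¹ * (Es P φ u v * Es P φ u w)) * p1⁻¹ := by
        rw [h3.mv, e1, mul_assoc (p * t), ← c1.inv_right.eq]; group
    _ = p1 * t * (Es P φ u w * p1⁻¹) := by
        rw [hp.mv, mul_assoc t, ← mul_assoc (Es P φ u v), Es_sq h]; group
    _ = _ := by rw [c2.inv_right.eq, ← mul_assoc, h1.mv, mul_assoc, Es_sq h, mul_one]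

theorem Mq.η (H : I2 P u v) (hp : Mq P φ t u v p) {η : G} (hη : η = 1 ∨ η = t)
    (e : Commute η p) : η = 1 := hη.resolve_right fun e' => by
  have := hp.mv
  rw [← e', ← e.eq, mul_inv_cancel_right, left_eq_mul, ← one_smul F v, Es_eq_one c.toSG H] at this
  exact one_ne_zero this

theorem iso (H : I2 P u v) : ∀ x ∈ ({u, v} : Set V), ∀ y ∈ ({u, v} : Set V), P.f x y = 0 := by
  rintro _ (rfl | rfl) _ (rfl | rfl)
  exacts [fs c.toSG _, H.1, PForm.f_symm_zero H.1, fs c.toSG _]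

variable [Finite G] [FiniteDimensional F V] (h2 : R2 L t)
include h2

/-- An element centralizing `t` and `Q` centralizes `Y`. -/
theorem kerY (H : I2 P u v) {g : G} (hg : Commute g t) (hq : g ∈ C[QW P φ {u, v}]) :
    g ∈ C[YW P φ {u, v}] := by
  obtain ⟨s, hs, η, o, hη, ho, rfl⟩ := kQ2 c h2 hg H hq
  have := centralizer_le (YW_le c.toSG {u, v})
  exact mul_mem (mul_mem ((c.g2.el _ (iso c H)).2.2.2.1 hs) (this (η_mem c.tc hη))) (this ho.mem)

theorem Mq.ctv (H : I3 P u v w) (hp : Mq P φ t u v p) (d : F) : Commute (tv P φ w d) p := by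
  have h := c.toSG
  have H2 := i3i2 H
  obtain ⟨el1, el2, -, -, -⟩ := c.g2.el _ (iso c H2)
  have f1 := eE_fix h H.2.1 (P.f_zero_right _) d
  have f2 := eE_fix h H.2.2.1 (P.f_zero_right _) d
  have hτ : tv P φ w d ∈ YW P φ {u, v} := ⟨eE P w 0 d, by rintro _ (rfl | rfl) <;> assumption, rfl⟩
  have hp' : Mq P φ t u v (tv P φ w d * p * (tv P φ w d)⁻¹) := by
    have := hp.conj c (eE P w 0 d)
    rwa [f1, f2] at this
  have hq := mul_mem (inv_mem hp.cq) hp'.cq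
  obtain ⟨s, hs, η, o, hη, ho, e⟩ := kQ2 c h2 (hp.ker hp') H2 hq
  have hsL := S2_le h _ hs
  have hc : Commute (tv P φ w d) _ := kerY c h2 H2 (hp.ker hp') hq _ hτ
  rw [e] at hc
  have e0 : p⁻¹ * tv P φ w d * p = s * η * o * tv P φ w d := by rw [← e]; group
  have e2 := sq_of_conj e0 hc (tv_sq h w d)
  obtain rfl : o = 1 := inv_el c hsL hη ho e2
  rw [mul_one] at e0 e2 hc
  obtain rfl : η = 1 := by
    have k := (hp.inv c H.1).ker hp
    have k' := mul_mem hp.cq hp.cq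
    rw [inv_inv] at k
    have := comm_of_conj e0 (kerY c h2 H2 k k' _ hτ) e2
    exact hp.η c H2 hη (by
      rw [← inv_mul_cancel_left s η]; exact (Commute.inv_left (hp.cq _ (el2 hs))).mul_left this)
  rw [mul_one] at e0
  obtain ⟨a, rfl⟩ := inX h c.g1 c.g2 H hs fun x hx hw => ⟨0, by
    have hp1 := hp.shear c hx
    have hq1 := mul_mem (inv_mem hp.cq) hp1.cq
    rw [fix_of_conj e0 (comm_of_fix h hw (map_zero _) d)
      (kerY c h2 H2 (hp.ker hp1) hq1 _ hτ) (hq1 _ (el2 hs)), el1 s hs, zero_smul, Es_zero]⟩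
  obtain ⟨x1, a1, a2, -⟩ := witt3 h c.g1 H (i3sw H)
  obtain ⟨x3, b1, b2, b3⟩ := witt3 h c.g1 H (i3add h H)
  have hp1 := hp.conj c x1
  have hp3 := hp.conj c x3
  rw [a1, a2] at hp1
  rw [b1, b2] at hp3
  obtain ⟨T, ψ, hT⟩ := c.aut _ (nL c.tc (Mq.trip c H hp1 hp hp3).inv_left)
  have k1 := hp1.com (.inr rfl) (P.f_zero_left _) (P.f_zero_left _) d
  have k3 := hp3.com (.inl rfl) (y := a • v) (by rw [P.f_smul_left, fc h, H.1, mul_zero])
    (by rw [P.f_smul_left, P.f_add_right, fs h, H.2.2.1, add_zero, mul_zero]) 0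
  have k4 : (φ x3 * p * (φ x3)⁻¹)⁻¹ * tv P φ w d * (φ x3 * p * (φ x3)⁻¹) =
      Es P φ u (a • v) * (Es P φ u (a • w) * tv P φ w d) := by
    have := congrArg (fun g => φ x3 * g * (φ x3)⁻¹) e0
    simp only [← conj_mul, conj_tv h, conj_Es h, map_smul, b1, b2, b3, smul_add] at this
    rw [← mul_assoc (Es P φ u _), ← Es_add0 h (by rw [fr h, H.1, mul_zero]) (by rw [fr h, H.2.1, mul_zero])
      (by rw [fr h, P.f_smul_left, H.2.2.1, mul_zero, mul_zero]), ← this, conj_inv]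
  obtain rfl := not_tv h (i3i2 (i3sw H)) ((ind_tv h hT w d).symm.trans
    (trip_conj k1 e0 k3 k4 (Es_sq h _ _)))
  rw [zero_smul, Es_zero, one_mul, mul_assoc, inv_mul_eq_iff_eq_mul] at e0
  exact e0

theorem Mq.cY (H : I2 P u v) (hp : Mq P φ t u v p) : p ∈ C[YW P φ {u, v}] := by
  have : YW P φ {u, v} ≤ C1[p] := by
    rw [c.g2.gen]
    refine (closure_le _).2 ?_
    rintro _ ⟨w, hw, d, rfl⟩
    rw [Submodule.span_eq, PForm.mem_perp_span] at hw
    refine mem_centralizer_singleton_iff.2 ?_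
    by_cases hw' : w ∈ Submodule.span F {u, v}
    · exact hp.cq _ ((c.g2.el _ (iso c H)).2.1 (tv_mem_S2 hw' d))
    · exact hp.ctv c h2 (i3_of H (hw u (by simp)) (hw v (by simp)) hw') d
  exact fun g hg => mem_centralizer_singleton_iff.1 (this hg)

theorem Mq.nO (H : I2 P u v) (hp : Mq P φ t u v p) {o : G} (ho : OK L t o) :
    OK L t (p * o * p⁻¹) := by
  have h := c.toSG
  have ct : Commute (p * o * p⁻¹) t := by
    have h1 := (hp.inv c H.1).mv
    have h3 := (ho.ct.mul_right (cL ho.mem (ET_mem h u v 0)).symm).eq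
    calc _ = p * (o * (p⁻¹ * t * p⁻¹⁻¹)) * p⁻¹ := by group
      _ = p * (p⁻¹ * t * p⁻¹⁻¹ * o) * p⁻¹ := by rw [h1, h3]
      _ = _ := by group
  have od : Odd (orderOf (p * o * p⁻¹)) := by
    rw [show p * o * p⁻¹ = MulAut.conj p o from rfl, MulEquiv.orderOf_eq]; exact ho.odd
  obtain ⟨s, hs, η, o', hη, ho', e⟩ := kQ2 c h2 ct H (mul_mem (mul_mem hp.cq
    (centralizer_le (QW_le h _) ho.mem)) (inv_mem hp.cq))
  refine ⟨fun l hl => (comm_of_sq od ?_).symm, ct, od⟩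
  rw [e, sq_dec c (S2_le h _ hs) hη ho', (c.g2.el _ (iso c H)).1 s hs, one_mul]
  exact (cL (mul_mem ho'.mem ho'.mem) hl).symm

theorem Mq.co (H : I3 P u v w) (hp : Mq P φ t u v p) (h2p : Is2 p) : CO L t p := by
  have h := c.toSG
  have H2 := i3i2 H
  obtain ⟨x1, a1, a2, -⟩ := witt3 h c.g1 H (i3sw H)
  obtain ⟨x3, b1, b2, -⟩ := witt3 h c.g1 H (i3add h H)
  have hp1 := hp.conj c x1
  have hp3 := hp.conj c x3
  rw [a1, a2] at hp1
  rw [b1, b2] at hp3
  have hp' := hp.inv c H.1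
  have z := P.f_zero_left
  obtain ⟨e, -, η, o, hη, ho, E⟩ := kT c h2 (Mq.trip c H hp1 hp' hp3) (H2.2.ne_zero 0) fun a =>
    (((hp1.com (.inl rfl) (z _) (z _) a).mul_right (hp'.com (.inl rfl) (z _) (z _) a)).mul_right
      (hp3.com (.inl rfl) (z _) (z _) a)).symm
  have act : ∀ {l κ : G}, l ∈ L → OK L t κ → l * κ * l⁻¹ = κ := fun hl hκ => by
    rw [(cL hκ.mem hl).eq, mul_inv_cancel_right]
  have act' : ∀ (x : P.E) {κ : G}, OK L t κ →
      φ x * p * (φ x)⁻¹ * κ * (φ x * p * (φ x)⁻¹)⁻¹ = p * κ * p⁻¹ := fun x κ hκ => by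
    calc _ = φ x * (p * ((φ x)⁻¹ * κ * (φ x)⁻¹⁻¹) * p⁻¹) * (φ x)⁻¹ := by group
      _ = _ := by rw [act (inv_mem (φ_mem h x)) hκ, act (φ_mem h x) (hp.nO c h2 H2 hκ)]
  have oc : ∀ κ, OK L t κ → OK L t (o * κ * o⁻¹) := fun κ hκ =>
    ⟨mul_mem (mul_mem ho.mem hκ.mem) (inv_mem ho.mem), (ho.ct.mul_left hκ.ct).mul_left ho.inv.ct, by
      rw [show o * κ * o⁻¹ = MulAut.conj o κ from rfl, MulEquiv.orderOf_eq]; exact hκ.odd⟩
  have key : ∀ κ, OK L t κ → p * κ * p⁻¹ = o * κ * o⁻¹ := fun κ hκ => by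
    rw [← act' x1 hκ, ← act (φ_mem h e) (oc κ hκ), ← mul_inv_cancel_right (o * κ * o⁻¹) η,
      ← (η_co hη (oc κ hκ)).eq]
    calc _ = φ x1 * p * (φ x1)⁻¹ * (p⁻¹ * (p * κ * p⁻¹) * p) * (φ x1 * p * (φ x1)⁻¹)⁻¹ := by group
      _ = φ e * η * o * κ * (φ e * η * o)⁻¹ := by rw [← act' x3 hκ, ← E]; group
      _ = _ := by group
  have key2 : ∀ n : ℕ, ∀ κ, OK L t κ → p ^ n * κ * (p ^ n)⁻¹ = o ^ n * κ * (o ^ n)⁻¹ := by
    intro n
    induction n with
    | zero => simp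
    | succ n ih =>
      intro κ hκ
      calc _ = p ^ n * (p * κ * p⁻¹) * (p ^ n)⁻¹ := by rw [pow_succ]; group
        _ = _ := by rw [key κ hκ, ih _ (oc κ hκ), pow_succ]; group
  intro κ k1 k2 k3
  obtain ⟨n, hn⟩ := h2p
  have k4 := key2 (2 ^ n) κ ⟨k1, k2, k3⟩
  rw [hn, one_mul, inv_one, mul_one, eq_comm, mul_inv_eq_iff_eq_mul] at k4
  obtain ⟨m, hm⟩ : o ∈ zpowers (o ^ 2 ^ n) := mem_zpowers_pow_iff.2
    (Nat.Coprime.pow_left n (Nat.coprime_two_left.2 ho.odd))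
  have k5 : Commute o κ := hm ▸ Commute.zpow_left k4 m
  have k6 := key κ ⟨k1, k2, k3⟩
  rw [k5.eq, mul_inv_cancel_right, mul_inv_eq_iff_eq_mul] at k6
  exact k6.symm

theorem Mq.sq (H : I3 P u v w) (hp : Mq P φ t u v p) (h2p : Is2 p) :
    ∃ a : F, p * p = Es P φ u (a • v) := by
  have h := c.toSG
  have H2 := i3i2 H
  obtain ⟨el1, el2, el3, el4, -⟩ := c.g2.el _ (iso c H2)
  have k := (hp.inv c H.1).ker hp
  rw [inv_inv] at k
  obtain ⟨s, hs, η, o, hη, ho, e⟩ := kQ2 c h2 k H2 (mul_mem hp.cq hp.cq)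
  obtain ⟨n, hn⟩ := id h2p
  obtain rfl : o = 1 := two_el c (S2_le h _ hs) hη ho ⟨n, by
    rw [← e, (Commute.refl p).mul_pow, hn, one_mul]⟩
  rw [mul_one] at e
  obtain rfl : η = 1 := hp.η c H2 hη (by
    rw [← inv_mul_cancel_left s η, ← e]
    exact (Commute.inv_left (hp.cq _ (el2 hs))).mul_left ((Commute.refl p).mul_left rfl))
  rw [mul_one] at e
  rw [e]
  refine inX h c.g1 c.g2 H hs fun x hx _ => ?_
  have hp1 : Mq P φ t u v (φ x * p * (φ x)⁻¹) := hp.shear c hx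
  obtain ⟨s', hs', η, o, hη, ho, e'⟩ := kQ2 c h2 (hp.ker hp1) H2 (mul_mem (inv_mem hp.cq) hp1.cq)
  rw [inv_mul_eq_iff_eq_mul] at e'
  have hL := S2_le h _ hs
  have hL' := S2_le h _ hs'
  have c1 : Commute s' p := hp.cq _ (el2 hs')
  have c2 := ho.co (hp.co c h2 H h2p)
  obtain ⟨d, hd⟩ : ∃ d : F, η * p = p * (η * Es P φ u (d • v)) := by
    rcases hη with rfl | rfl
    · exact ⟨0, by simp [Es_zero]⟩
    · exact ⟨1, by rw [one_smul, ← (hp.inv c H.1).mv]; group⟩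
  have hz : Es P φ u (d • v) ∈ S2 P φ {u, v} :=
    (c.g2.crd2 u v H.1 _).2 ⟨0, 0, d, by simp only [H29.SpK.tv_zero, one_mul]⟩
  have hzL := S2_le h _ hz
  have c3 : ∀ x ∈ S2 P φ {u, v}, Commute (Es P φ u (d • v)) x := fun x hx =>
    el4 hx _ (el3 (el2 hz))
  have k2 := sq_dec c hL' hη ho
  rw [el1 s' hs', one_mul] at k2
  have ho2 : OK L t (o * o) := by simpa [_root_.sq] using ho.pow 2
  have k1 : φ x * s * (φ x)⁻¹ = s * Es P φ u (d • v) * (o * o) := by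
    calc _ = φ x * p * (φ x)⁻¹ * (φ x * p * (φ x)⁻¹) := by rw [← e]; group
      _ = p * s' * η * (o * p) * (s' * η * o) := by rw [e']; group
      _ = p * (s' * p) * (η * Es P φ u (d • v)) * o * (s' * η * o) := by
          rw [c2.eq, ← mul_assoc _ p, mul_assoc _ η, hd]; group
      _ = p * p * (Es P φ u (d • v) * s') * η * o * (s' * η * o) := by
          rw [c1.eq, ← (cL (η_mem c.tc hη) hzL).eq, (c3 s' hs').eq]; group
      _ = _ := by rw [← e, ← k2]; group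
  refine ⟨d, ?_⟩
  have := (uniq c (mul_mem (inv_mem (mul_mem (mul_mem (φ_mem h x) hL) (inv_mem (φ_mem h x))))
    (mul_mem hL hzL)) (.inl rfl) ho2 (by rw [mul_one, mul_assoc, ← k1, inv_mul_cancel])).1
  rw [inv_mul_eq_one.1 this, mul_assoc, (c3 s hs).eq, ← mul_assoc, el1 s hs, one_mul]

end C

/-- **H1A** -/
theorem h1a : H1aStmt.{u, v} := by
  intro F V _ _ _ _ _ G _ _ P φ L k t c h2 ⟨u0, v0, H0, p0, q0, b0, hb0, m0⟩ u v H b
  have h := c.toSG
  by_cases hb : b = 0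
  · exact ⟨1, one_mem _, by simp [hb, Es_zero], ⟨0, by simp [Es_zero]⟩,
      fun κ _ _ _ => Commute.one_right κ⟩
  have H1 := i2_smul h H0 hb0
  have H2 := i2_smul h H hb
  have hp0 : Mq P φ t u0 (b0 • v0) p0 := ⟨by rw [QW, pair_smul hb0]; exact q0, m0⟩
  obtain ⟨e, e1, e2⟩ := witt2 h c.g1 H1 H2
  have hp1 := hp0.conj c.toCtx0 e
  rw [e1, e2] at hp1
  obtain ⟨m, hm, h2p⟩ := exists_odd_pow (φ e * p0 * (φ e)⁻¹)
  have hp := hp1.pow c.toCtx0 H2.1 hm
  obtain ⟨w, hw⟩ := exists_i3 h c.k3 H2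
  obtain ⟨a, ha⟩ := hp.sq c.toCtx0 h2 hw h2p
  refine ⟨_, ?_, hp.mv, ⟨a * b, by rw [ha, smul_smul]⟩, hp.co c.toCtx0 h2 hw h2p⟩
  have := hp.cY c.toCtx0 h2 H2
  rwa [c.g2.gen, pair_smul hb, ← c.g2.gen] at this

set_option linter.all false in
theorem eqns_SpH1a : True := by
  trivial

end Cfsg.Agent.H83.SpH
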