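import Cfsg.Agent.H83.FrakH
import Cfsg.Agent.H85.Minimal
import Cfsg.Agent.H1.Zipper
import Cfsg.Agent.S2833

/-!
The asymmetric L-lemma.
-/

set_option autoImplicit false
open Subgroup Cfsg
open scoped Pointwise commutatorElement

namespace Cfsg.Agent.H83

variable {G : Type*} [Group G] {p : ℕ} [Finite G] [hp : Fact p.Prime]

/-- The stabilizer of a chain `O_p(H) ≥ A₁ ≥ A₂ ≥ 1` in a group of characteristic `p` is a
`p`-group. -/
theorem CharP.isPGroup_of_chain {H F A₁ A₂ : Subgroup G} (h : CharP p H) (hF : F ≤ H)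
    (hp1 : IsPGroup p A₁) (hp2 : IsPGroup p A₂) (h0 : ⁅pCoreOf p H, F⁆ ≤ A₁) (h1 : ⁅A₁, F⁆ ≤ A₂)
    (h2 : F ≤ centralizer (A₂ : Set G)) : IsPGroup p F :=
  isPGroup_of_coprime_eq_one fun x hx hc => h.eq_one (hF hx) hc
    (mem_cent_of_stable hc hp1 (mem_cent_of_stable hc hp2 (h2 hx)
      fun _ hr => h1 (commutator_mem_commutator hr hx))
      fun _ hr => h0 (commutator_mem_commutator hr hx))

omit [Finite G] hp in
theorem le_norm_ncl_of_cj {X H P : Subgroup G} (hX : X ≤ H) (hn : H ≤ normalizer (P : Set G))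
    (hP : P ≤ normalizer (X : Set G)) : P ≤ normalizer (ncl X H : Set G) := by
  rw [ncl_eq_iSup hX]
  intro x hx
  rw [← cj_eq_self_iff, cj, Subgroup.map_iSup]
  refine iSup_congr fun g => cj_eq_self ?_
  rw [← cj_normalizer]
  exact cj_mono _ hP ((cj_eq_self (hn g.2)).ge hx)

/-- `L` is minimal subject to `Y ≤ L`, `Y ≰ O_p(L)`. -/
structure MinNot (p : ℕ) (Y L : Subgroup G) : Prop where
  pY : IsPGroup p Y
  le : Y ≤ L
  not_le : ¬ Y ≤ pCoreOf p L
  min : ∀ L' : Subgroup G, L' ≤ L → Y ≤ L' → ¬ Y ≤ pCoreOf p L' → L' = L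

namespace MinNot

variable {Y L : Subgroup G} (h : MinNot p Y L)
include h

theorem le_of_lt {X : Subgroup G} (h1 : Y ≤ X) (h2 : X < L) : Y ≤ pCoreOf p X := by
  by_contra e
  exact h2.ne (h.min X h2.le h1 e)

theorem scl_eq : scl Y L = L :=
  h.min _ (scl_le _ _) (le_scl h.le) fun e => h.not_le (e.trans (subnIn_scl _ _).pCoreOf_le)

theorem ncl_eq : ncl Y L = L := by
  have := ncl_scl h.le
  rwa [h.scl_eq] at this

theorem comm_res : ⁅resOf p L, Y⁆ = resOf p L := by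
  have := comm_resOf_scl h.le h.pY
  rwa [h.scl_eq] at this

theorem not_isPGroup : ¬ IsPGroup p L := fun e => h.not_le (h.le.trans (pCoreOf_eq_self e).ge)

theorem exists_uniqMax : ∃ L₀, H85.UniqMax Y L₀ L :=
  H1.zipper h.le (fun X h1 h2 => subnIn_iff_snIn.mp ((subnIn_of_pgroup (h.le_of_lt h1 h2)
    (pCoreOf_isPGroup X)).trans (SubnIn.of_norm (pCoreOf_le X) (le_norm_pCoreOf X))))
    fun e => h.not_le ((subnIn_iff_snIn.mpr e).le_pCoreOf h.pY)

theorem not_le_norm {L₀ : Subgroup G} (hu : H85.UniqMax Y L₀ L) : ¬ L ≤ normalizer (L₀ : Set G) :=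
  fun e => hu.lt.not_ge (h.ncl_eq.ge.trans (ncl_le_of_norm hu.le e))

theorem sup_cj {L₀ : Subgroup G} (hu : H85.UniqMax Y L₀ L) {g : G} (hg : g ∈ L) (hg' : g ∉ L₀) :
    Y ⊔ cj g Y = L := hu.sup_cj_eq (h.not_le_norm hu) hg hg'

theorem pCoreOf_le {L₀ : Subgroup G} (hu : H85.UniqMax Y L₀ L) : pCoreOf p L ≤ L₀ :=
  le_sup_right.trans (hu.le_of_ne (K := Y ⊔ pCoreOf p L) le_sup_left
    (sup_le h.le (H83.pCoreOf_le L)) fun e => h.not_isPGroup (e ▸ isPGroup_sup h.pY
      (pCoreOf_isPGroup L) (h.le.trans (le_norm_pCoreOf L))))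

theorem inf_norm_lt : L ⊓ normalizer (Y : Set G) < L :=
  lt_of_le_of_ne inf_le_left fun e => h.not_le (le_pCoreOf h.le (e.ge.trans inf_le_right) h.pY)

theorem isMinimalOver : IsMinimalOver (Y.subgroupOf L) := by
  obtain ⟨L₀, hu⟩ := h.exists_uniqMax
  refine ⟨?_, H85.exists_uniqMax_top_iff.mp ⟨_, (H85.uniqMax_subgroupOf_iff h.le hu.lt.le).mpr hu⟩⟩
  rw [← map_subtype_subgroupOf (normalClosure _)]
  exact (congrArg (·.subgroupOf L) h.ncl_eq).trans (subgroupOf_self L)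

end MinNot

omit hp in
/-- Quadratic action of `L = ⟨Y, Y^g⟩` on `A`. -/
theorem quad_facts {A Y L : Subgroup G} {g : G} (hA : L ≤ normalizer (A : Set G)) (hY : Y ≤ L)
    (hg : g ∈ L) (hab : Y ≤ centralizer (Y : Set G)) (hAY : A ≤ normalizer (Y : Set G))
    (e : Y ⊔ cj g Y = L) :
    ⁅A, Y⁆ ⊔ ⁅A, cj g Y⁆ = ⁅A, L⁆ ∧ ⁅A, L⁆ ⊓ centralizer (Y : Set G) = ⁅A, Y⁆ ∧
      A ⊓ centralizer (Y : Set G) ≤ (A ⊓ centralizer (L : Set G)) ⊔ ⁅A, Y⁆ := by
  have h0 : ⁅A, Y⁆ ≤ Y := comm_le_right hAY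
  obtain ⟨h1, h2, -⟩ := S2833.result A L hA Y hY g hg
    (comm_eq_bot_iff.mpr (hab.trans (cent_anti h0))) e _ rfl
  refine ⟨h1, h2, fun a ha => ?_⟩
  have hgA : cj g A = A := cj_eq_self (hA hg)
  have h3 : a⁻¹ * (g * a * g⁻¹) ∈ ⁅A, Y⁆ ⊔ ⁅A, cj g Y⁆ := by
    rw [h1]
    have := commutator_mem_commutator (A.inv_mem ha.1) hg
    simpa [commutatorElement_def, mul_assoc] using this
  have hn : ⁅A, Y⁆ ≤ normalizer ((⁅A, cj g Y⁆ : Subgroup G) : Set G) :=
    (comm_le_left (hY.trans hA)).trans (normalizer_commutator_ge_left A _)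
  obtain ⟨i, hi, j, hj, e2⟩ := (mem_sup_right_norm hn).mp h3
  have hiA : i ∈ A := comm_le_left (hY.trans hA) hi
  have h4 : a * i ∈ A ⊓ centralizer (L : Set G) := by
    refine ⟨A.mul_mem ha.1 hiA, ?_⟩
    rw [← e, centralizer_sup]
    refine ⟨mul_mem ha.2 (hab (h0 hi)), ?_⟩
    have e3 : a * i = g * a * g⁻¹ * j⁻¹ := by
      rw [eq_mul_inv_iff_mul_eq, mul_assoc, e2]; group
    rw [e3, ← cj_centralizer]
    refine Subgroup.mul_mem _ (conj_mem_cj ha.2) (Subgroup.inv_mem _ ?_)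
    rw [← hgA, ← cj_comm] at hj
    exact cj_mono g (h0.trans hab) hj
  have := mul_mem (mem_sup_left h4) (mem_sup_right (inv_mem hi))
  simpa using this

namespace FH

variable {S M H L : Subgroup G} (h : FH p S M H) (hLH : L ≤ H) (hL : MinNot p (YY p M) L)
include h hLH hL

theorem A_le_norm_L : pCoreOf p H ≤ normalizer (L : Set G) := by
  rw [← hL.ncl_eq]
  exact le_norm_ncl_of_cj hL.le (hLH.trans (le_norm_pCoreOf H)) h.A_le_norm_Y

theorem charP_L : CharP p L := h.charP.of_norm hLH (h.A_le_norm_L hLH hL)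

theorem L_sup_O : L ⊔ pCoreOf p M = H :=
  h.eq_of_not_le le_sup_right (sup_le hLH h.O_le) fun e =>
    hL.not_le ((le_inf e hL.le).trans (pCoreOf_inf_le le_sup_left))

theorem max_le_norm {L₀ : Subgroup G} (hu : H85.UniqMax (YY p M) L₀ L) :
    L₀ ≤ normalizer (YY p M : Set G) := by
  set Y := YY p M with hYdef
  set O := pCoreOf p M with hOdef
  set A := pCoreOf p H with hAdef
  by_contra hcon
  have hYB : Y ≤ pCoreOf p L₀ := hL.le_of_lt hu.le hu.lt
  obtain ⟨x, hx0, hxN, hxY⟩ : ∃ x ∈ L₀, x ∈ normalizer ((pCoreOf p L₀ ⊓ normalizer (Y : Set G) :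
      Subgroup G) : Set G) ∧ x ∉ normalizer (Y : Set G) := by
    by_cases hB : pCoreOf p L₀ ≤ normalizer (Y : Set G)
    · obtain ⟨x, hx, hx'⟩ := SetLike.not_le_iff_exists.mp hcon
      exact ⟨x, hx, by rw [inf_eq_left.mpr hB]; exact le_norm_pCoreOf L₀ hx, hx'⟩
    · obtain ⟨x, hx, hx'⟩ := SetLike.exists_of_lt (lt_inf_normalizer (pCoreOf_isPGroup L₀)
        (inf_lt_left.mpr hB))
      exact ⟨x, pCoreOf_le L₀ hx.1, hx.2, fun e => hx' ⟨hx.1, e⟩⟩
  have hYN : Y ≤ pCoreOf p L₀ ⊓ normalizer (Y : Set G) := le_inf hYB le_normalizer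
  have hc : cj x Y ≤ centralizer (Y : Set G) := asym_iff' h.asym
    ((cj_le_of_norm hYN hxN).trans inf_le_right) (hYN.trans (le_norm_cj inf_le_right hxN))
  have hxL : x ∈ L := hu.lt.le hx0
  obtain ⟨g, hg, hg'⟩ := SetLike.exists_of_lt hu.lt
  have hHA : H ≤ normalizer (A : Set G) := le_norm_pCoreOf H
  obtain ⟨-, q2, q3⟩ := quad_facts (hLH.trans hHA) hL.le hg (YY_le_cent M) h.A_le_norm_Y
    (hL.sup_cj hu hg hg')
  set I := ⁅A, Y⁆ with hI
  have hIY : I ≤ Y := comm_le_right h.A_le_norm_Y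
  have hIA : I ≤ A := comm_le_left (h.Y_le.trans hHA)
  have hxI : x ∈ normalizer (I : Set G) := by
    refine H85.mem_normalizer_of_cj_le (le_trans (le_inf ?_ ((cj_mono x hIY).trans hc)) q2.le)
    show cj x I ≤ _
    rw [cj_comm, cj_eq_self (hHA (hLH hxL))]
    exact commutator_mono le_rfl (cj_le_of_mem hL.le hxL)
  set A₁ := A ⊓ centralizer (Y : Set G) with hA₁
  have hA₁e : A₁ = (A ⊓ centralizer (L : Set G)) ⊔ I :=
    le_antisymm q3 (sup_le (inf_le_inf_left _ (cent_anti hL.le))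
      (le_inf hIA (hIY.trans (YY_le_cent M))))
  have hzI : zpowers x ≤ normalizer (I : Set G) := zpowers_le.mpr hxI
  have hzL : zpowers x ≤ L := zpowers_le.mpr hxL
  have hxA₁ : ⁅A₁, zpowers x⁆ ≤ I := by
    rw [hA₁e]
    refine comm_sup_left_le ?_ (comm_le_left hzI) ?_
    · rw [comm_eq_bot_iff.mpr (hzL.trans (le_centralizer_iff.mp inf_le_right))]
      exact bot_le
    · exact (sup_le inf_le_left hIA).trans (normalizer_commutator_ge_left A Y)
  have hIA₁ : I ≤ A₁ := hA₁e ▸ le_sup_right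
  have hzA₁ : zpowers x ≤ normalizer (A₁ : Set G) :=
    le_normalizer_iff_commutator_le_left.mpr (hxA₁.trans hIA₁)
  have hOH : O ≤ H := h.O_le
  set P := O ⊔ zpowers x with hP
  have hPH : P ≤ H := sup_le hOH (hzL.trans hLH)
  have hPI : P ≤ normalizer (I : Set G) :=
    sup_le (le_norm_comm (hOH.trans hHA) h.O_le_norm_Y) hzI
  have hPA₁ : P ≤ normalizer (A₁ : Set G) :=
    sup_le (le_norm_inf (hOH.trans hHA) (le_norm_cent h.O_le_norm_Y)) hzA₁
  set F := centMod P A A₁ hPA₁ ⊓ centMod P A₁ I hPI ⊓ centralizer (I : Set G) with hF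
  have hn1 : P ≤ normalizer (centMod P A A₁ hPA₁ : Set G) :=
    le_norm_centMod le_normalizer (hPH.trans hHA) hPA₁
  have hn2 : P ≤ normalizer (centMod P A₁ I hPI : Set G) :=
    le_norm_centMod le_normalizer hPA₁ hPI
  have hn3 : P ≤ normalizer ((centralizer (I : Set G) : Subgroup G) : Set G) := le_norm_cent hPI
  have hPF : P ≤ normalizer (F : Set G) := le_norm_inf (le_norm_inf hn1 hn2) hn3
  have hFp : IsPGroup p F := h.charP.isPGroup_of_chain
    ((inf_le_left.trans (inf_le_left.trans centMod_le)).trans hPH)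
    (pCoreOf_isPGroup H).to_inf_left ((pCoreOf_isPGroup H).to_le hIA)
    (le_centMod.mp (inf_le_left.trans inf_le_left)).2
    (le_centMod.mp (inf_le_left.trans inf_le_right)).2 inf_le_right
  have hOx : ⁅O, zpowers x⁆ ≤ F := by
    refine le_inf (le_inf ?_ ?_) ?_
    · refine (commutator_mono (le_centMod.mpr ⟨le_sup_left, le_inf (comm_le_left (hOH.trans hHA))
        ((comm_le_right h.A_le_norm_O).trans (pCoreOf_le_cent_YY M))⟩) le_rfl).trans
        (comm_le_left (le_sup_right.trans hn1))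
    · exact (commutator_mono le_rfl (le_centMod.mpr ⟨le_sup_right, hxA₁⟩)).trans
        (comm_le_right (le_sup_left.trans hn2))
    · exact (commutator_mono ((pCoreOf_le_cent_YY M).trans (cent_anti hIY)) le_rfl).trans
        (comm_le_left (le_sup_right.trans hn3))
  have hfin : zpowers x ≤ normalizer ((O ⊔ F : Subgroup G) : Set G) := by
    rw [le_normalizer_iff_commutator_le_left]
    exact (comm_sup_left_le hOx (comm_le_left (le_sup_right.trans hPF))
      (sup_le (le_sup_left.trans hPF) le_normalizer)).trans le_sup_right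
  exact hxY (h.bp.norm_O_le (h.wc.normalizer_le (isPGroup_sup (pCoreOf_isPGroup M) hFp
    (le_sup_left.trans hPF)) le_sup_left (hfin (mem_zpowers x))))

theorem uniqMax : H85.UniqMax (YY p M) (L ⊓ normalizer (YY p M : Set G)) L := by
  obtain ⟨L₀, hu⟩ := hL.exists_uniqMax
  have e : L ⊓ normalizer (YY p M : Set G) = L₀ :=
    le_antisymm (hu.le_of_lt (le_inf hL.le le_normalizer) hL.inf_norm_lt)
      (le_inf hu.lt.le (h.max_le_norm hLH hL hu))
  rwa [e]

theorem cj_sup_O {g : G} (hg : g ∈ L) (hg' : g ∉ normalizer (YY p M : Set G)) :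
    cj g (YY p M) ⊔ pCoreOf p M = H := by
  refine le_antisymm (sup_le (cj_le_of_mem h.Y_le (hLH hg)) h.O_le) ?_
  rw [← h.L_sup_O hLH hL, ← hL.sup_cj (h.uniqMax hLH hL) hg fun e => hg' e.2]
  exact sup_le (sup_le ((YY_le_pCoreOf M).trans le_sup_right) le_sup_left) le_sup_right

theorem not_comm_res_le {V W : Subgroup G} (hV : V ≤ pCoreOf p H)
    (hHV : H ≤ normalizer (V : Set G)) (hHW : H ≤ normalizer (W : Set G)) (hWV : W < V)
    (hch : ∀ Z : Subgroup G, H ≤ normalizer (Z : Set G) → W ≤ Z → Z ≤ V → Z = W ∨ Z = V)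
    (hn : ¬ ⁅V, H⁆ ≤ W) : ¬ ⁅V, resOf p L⁆ ≤ W := by
  intro hc
  set C := centMod H V W hHW with hC
  have hHC : H ≤ normalizer (C : Set G) := le_norm_centMod le_normalizer hHV hHW
  have hRC : resOf p L ≤ C := le_centMod.mpr ⟨(resOf_le L).trans hLH, hc⟩
  have hVH : V ≤ H := hV.trans (pCoreOf_le H)
  by_cases e : pCoreOf p M ⊔ C = H
  · obtain ⟨v, hv, hvW, hs⟩ := exists_central_mod (pCoreOf_isPGroup M)
      ((pCoreOf_isPGroup H).to_le hV) (h.O_le.trans hHV) (h.O_le.trans hHW) (hVH.trans hHW) hWV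
    have h1 : v ∈ centMod V H W (hVH.trans hHW) := by
      have h2 : ⁅pCoreOf p M ⊔ C, zpowers v⁆ ≤ W := by
        refine comm_sup_left_le (comm_zpowers_le (hHW (hVH hv)) fun a ha =>
          hs a (mem_sup_left ha)) ?_ (e.le.trans hHW)
        rw [commutator_comm]
        exact (commutator_mono (zpowers_le.mpr hv) le_rfl).trans (le_centMod.mp le_rfl).2
      rw [e] at h2
      exact (le_centMod.mpr ⟨zpowers_le.mpr hv, h2⟩) (mem_zpowers v)
    rcases hch (centMod V H W (hVH.trans hHW)) (le_norm_centMod hHV le_normalizer hHW)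
      (le_centMod.mpr ⟨hWV.le, comm_le_right hHW⟩) centMod_le with h3 | h3
    · exact hvW (h3 ▸ h1)
    · exact hn (commutator_comm H V ▸ (le_centMod.mp h3.ge).2)
  · have h1 := h.min le_sup_left (lt_of_le_of_ne (sup_le h.O_le centMod_le) e)
    have h2 : resOf p L ≤ pCoreOf p (pCoreOf p M ⊔ C : Subgroup G) := by
      rw [← hL.comm_res]
      exact (commutator_mono (hRC.trans le_sup_right) h1).trans
        (comm_le_right (le_norm_pCoreOf _))
    have h3 := resOf_eq_bot_of_isPGroup ((pCoreOf_isPGroup _).to_le h2)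
    rw [resOf_resOf] at h3
    exact hL.not_isPGroup (resOf_eq_bot_iff.mp h3)

theorem inf_le_A : pCoreOf p L ⊓ YY p M ≤ pCoreOf p H := by
  set Y := YY p M with hYdef
  set A := pCoreOf p H with hAdef
  set Y₀ := pCoreOf p L ⊓ Y with hY₀
  have hu := h.uniqMax hLH hL
  obtain ⟨g, hg, hg'⟩ := SetLike.exists_of_lt hu.lt
  have hHA : H ≤ normalizer (A : Set G) := le_norm_pCoreOf H
  obtain ⟨q1, -, -⟩ := quad_facts (hLH.trans hHA) hL.le hg (YY_le_cent M) h.A_le_norm_Y
    (hL.sup_cj hu hg hg')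
  have hBY : pCoreOf p L ≤ normalizer (Y : Set G) := (hL.pCoreOf_le hu).trans inf_le_right
  have hBg : pCoreOf p L ≤ normalizer (cj g Y : Set G) := le_norm_cj hBY (le_norm_pCoreOf L hg)
  have hAg : A ≤ normalizer (cj g Y : Set G) := le_norm_cj h.A_le_norm_Y (hHA (hLH hg))
  have hY₀H : Y₀ ≤ H := inf_le_right.trans h.Y_le
  set Z := A ⊓ centralizer (H : Set G) with hZ
  have hHZ : H ≤ normalizer (Z : Set G) := le_norm_inf hHA (le_norm_cent le_normalizer)
  have hAH : A ≤ H := pCoreOf_le H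
  have hgH : cj g Y ≤ H := cj_le_of_mem h.Y_le (hLH hg)
  have h1 : ⁅Y₀, ⁅A, L⁆⁆ ≤ Z := by
    rw [← q1]
    refine comm_sup_right_le ?_ (le_inf ?_ ?_) ?_
    · rw [comm_eq_bot_iff.mpr ((comm_le_right h.A_le_norm_Y).trans ((YY_le_cent M).trans
        (cent_anti inf_le_right)))]
      exact bot_le
    · exact (commutator_mono le_rfl (comm_le_left (hgH.trans hHA))).trans
        (comm_le_right (hY₀H.trans hHA))
    · rw [← h.cj_sup_O hLH hL hg (fun e => hg' ⟨hg, e⟩), centralizer_sup]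
      refine le_inf ?_ ?_
      · refine ((commutator_mono inf_le_left (comm_le_right hAg)).trans (comm_le_right hBg)).trans ?_
        rw [← cj_centralizer]
        exact cj_mono g (YY_le_cent M)
      · exact ((commutator_mono inf_le_right (comm_le_left (hgH.trans hHA))).trans
          (comm_le_left h.A_le_norm_Y)).trans (le_centralizer_iff.mp (pCoreOf_le_cent_YY M))
    · exact (sup_le (comm_le_left (h.Y_le.trans hHA)) (comm_le_left (hgH.trans hHA))).trans
        (hAH.trans hHZ)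
  set C := centMod A Y₀ Z (hAH.trans hHZ) with hC
  have h2 : ⁅A, L⁆ ≤ C := le_centMod.mpr ⟨comm_le_left (hLH.trans hHA), h1⟩
  have hHC : H ≤ normalizer (C : Set G) := by
    nth_rewrite 1 [← h.L_sup_O hLH hL]
    refine sup_le (le_normalizer_iff_commutator_le_left.mpr
      ((commutator_mono centMod_le le_rfl).trans h2)) (le_norm_centMod (h.O_le.trans hHA)
      (le_norm_of_le_cent ((pCoreOf_le_cent_YY M).trans (cent_anti inf_le_right)))
      (h.O_le.trans hHZ))
  set F := centMod H A C hHC ⊓ centMod H C Z hHZ with hF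
  have hFH : F ≤ H := inf_le_left.trans centMod_le
  refine le_trans (le_inf (le_centMod.mpr ⟨hY₀H, (commutator_mono le_rfl
    (inf_le_right.trans hL.le)).trans h2⟩) (le_centMod.mpr ⟨hY₀H, ?_⟩)) (le_pCoreOf hFH
    (le_norm_inf (le_norm_centMod le_normalizer hHA hHC) (le_norm_centMod le_normalizer hHC hHZ))
    (h.charP.isPGroup_of_chain hFH ((pCoreOf_isPGroup H).to_le centMod_le)
    (pCoreOf_isPGroup H).to_inf_left (le_centMod.mp inf_le_left).2 (le_centMod.mp inf_le_right).2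
    (hFH.trans (le_centralizer_iff.mp inf_le_right))))
  rw [commutator_comm]
  exact (le_centMod.mp le_rfl).2

end FH

end Cfsg.Agent.H83
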