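import Cfsg.Agent.H63.GvDefs
import Cfsg.Agent.H58.CyY

/-! Project CY, route GV, piece BLK: a system of good blocks gives a normal `2`-subgroup. -/

set_option autoImplicit false

namespace Cfsg.Agent.H83.CyBlk

open Subgroup MulAction Cfsg.Agent.H11.Cy Cfsg.Agent.H45.Iv Cfsg.Agent.H63.Gv

theorem blk : BlkStmt := by
  intro G _ _ Ω _ _ p A h c P mb mk rel b
  have k := c.sk
  have := Fact.mk Nat.prime_two
  let cls : Ω → Set Ω := fun u => {v | v ∈ P ∧ rel u v}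
  have ga : ∀ u ∈ P, GA A (cls u) u := fun u hu =>
    c.ga _ (b.sub u hu) (b.good u hu) u ⟨hu, b.refl u hu⟩
  have t2 : ∀ u ∈ P, IsPGroup 2 (Ts A (cls u)) := fun u hu =>
    H58.CyY.ts_two (ga u hu) (c.gb _ (b.sub u hu) (b.good u hu) ⟨u, hu, b.refl u hu⟩)
  obtain ⟨N, hN⟩ : ∃ N : Subgroup G, N = ⨆ u ∈ P, Ts A (cls u) := ⟨_, rfl⟩
  have tN : ∀ u ∈ P, Ts A (cls u) ≤ N := fun u hu =>
    hN ▸ le_iSup₂ (f := fun u (_ : u ∈ P) => Ts A (cls u)) u hu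
  have rl : ∀ u ∈ P, ∀ v ∈ P, rel u v → Rl A u v ≤ N := fun u hu v hv huv =>
    (k.fle (cls u) u ⟨hu, b.refl u hu⟩ v ⟨hv, huv⟩).2.trans (tN u hu)
  have gen : ∀ H : Subgroup G, (∀ u ∈ P, ∀ v ∈ P, u ≠ v → rel u v → Rl A u v ≤ H) → N ≤ H :=
    fun H hH => hN ▸ iSup₂_le fun u hu => (ga u hu).teq ▸ iSup₂_le fun v hv =>
      hH u hu v hv.1.1 (Ne.symm hv.2) hv.1.2
  have iv := k.inv P mb.1
  let B : Subgroup G :=
    { carrier := {g | g ∈ Ms A P ∧ ∀ w ∈ P, rel w (g • w)}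
      one_mem' := ⟨one_mem _, fun w hw => by rw [one_smul]; exact b.refl w hw⟩
      mul_mem' := fun {g g'} hg hg' => ⟨mul_mem hg.1 hg'.1, fun w hw => by
        rw [mul_smul]
        exact b.trans w hw _ (iv _ hg'.1 w hw) _ (iv _ hg.1 _ (iv _ hg'.1 w hw)) (hg'.2 w hw)
          (hg.2 _ (iv _ hg'.1 w hw))⟩
      inv_mem' := fun {g} hg => ⟨inv_mem hg.1, fun w hw => by
        have := hg.2 _ (iv _ (inv_mem hg.1) w hw)
        rw [smul_inv_smul] at this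
        exact b.symm _ (iv _ (inv_mem hg.1) w hw) w hw this⟩ }
  have nB : N ≤ B := gen B fun u hu v hv huv e r hr =>
    ⟨mk.tle P ((k.fle P u hu v hv).2 hr), b.fix u hu v hv huv e r hr⟩
  have st : ∀ g ∈ B, ∀ u ∈ P, ∀ w ∈ cls u, g • w ∈ cls u := fun g hg u hu w hw =>
    ⟨iv _ hg.1 w hw.1, b.trans u hu w hw.1 _ (iv _ hg.1 w hw.1) hw.2 (hg.2 w hw.1)⟩
  refine ⟨N, ⟨?_, fun n hn => (nB hn).1, fun m hm => ?_⟩, fun u hu v hv _ => rl u hu v hv⟩
  · obtain ⟨S⟩ := (inferInstance : Nonempty (Sylow 2 N))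
    refine (S.isPGroup'.map N.subtype).to_le (hN.le.trans (iSup₂_le fun u hu t ht => ?_))
    have : ((Ts A (cls u)).subgroupOf N).Normal := ⟨fun x hx g =>
      (k.nrm (cls u) g fun w => ⟨fun e => by
        simpa using st _ (inv_mem (nB g.2)) u hu _ e, st _ (nB g.2) u hu w⟩).2.1 x hx⟩
    obtain ⟨S', hS'⟩ := ((t2 u hu).comap_subtype (K := N)).exists_le_sylow
    obtain ⟨g, rfl⟩ := exists_smul_eq N S' S
    refine ⟨⟨t, tN u hu ht⟩, ?_, rfl⟩
    rw [SetLike.mem_coe, Sylow.coe_subgroup_smul, mem_pointwise_smul_iff_inv_smul_mem]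
    exact hS' (by simpa using this.conj_mem' ⟨t, tN u hu ht⟩ ht g)
  · exact gen (N.comap (MulAut.conj m).toMonoidHom) fun u hu v hv _ e r hr =>
      rl _ (iv m hm u hu) _ (iv m hm v hv) (b.inv m hm u hu v hv e) ((k.cj m u v r).2.1 hr)

set_option linter.all false in
theorem eqns_CyBlk : True := by
  trivial

end Cfsg.Agent.H83.CyBlk
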