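import Cfsg.Agent.H66.DnTL
import Cfsg.Agent.H35.NFc

/-! Signed permutations and perfect matchings in the root system of type `Dₙ`. -/

set_option autoImplicit false

namespace Cfsg.Agent.H83.DnO

open Cfsg Cfsg.Agent.H63.SL Cfsg.Agent.H34 Cfsg.Agent.H40 Cfsg.Agent.H66.Dn Equiv
open Cfsg.Agent.H35.NF (Orth)

variable {m : ℕ}

/-- The permutation `P` of the roots is induced by `p`. -/
def Act (P : Perm (Φ m)) (p : κ m → κ m) : Prop :=
  ∀ a c h, ∃ h', P (rt a c h) = rt (p a) (p c) h'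

/-- The sign change at `k`. -/
def fl (k : Fin (m + 2)) (a : κ m) : κ m := if a.1 = k then bar a else a

/-- A signed permutation. -/
def sp (π : Perm (Fin (m + 2))) (S : Fin (m + 2) → Bool) (a : κ m) : κ m :=
  (π a.1, xor a.2 (S a.1))

/-- `B` is a perfect matching of the coordinates. -/
structure PM (B : List (Φ m)) (μ : Perm (Fin (m + 2))) (s : Fin (m + 2) → Bool) : Prop where
  nd : B.Nodup
  sq : ∀ i, μ (μ i) = i
  ne : ∀ i, i ≠ μ i
  mem : ∀ r, r ∈ B ↔ ∃ i, r = rt (i, s i) (μ i, s (μ i)) (ne i)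

theorem eqns_defs : True := by
  have := @Act.eq_1; have := @fl.eq_1; have := @sp.eq_1; trivial

theorem rt_congr {a c a' c' : κ m} (h : a.1 ≠ c.1) (h' : a'.1 ≠ c'.1) (e : a = a') (e' : c = c') :
    rt a c h = rt a' c' h' := by subst e e'; rfl

theorem Act.mul {P P' : Perm (Φ m)} {p p' : κ m → κ m} (h : Act P p) (h' : Act P' p') :
    Act (P * P') (p ∘ p') := fun a c e => by
  obtain ⟨e1, k1⟩ := h' a c e
  obtain ⟨e2, k2⟩ := h _ _ e1
  exact ⟨e2, by rw [Perm.mul_apply, k1, k2]; rfl⟩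

theorem Act.congr {P : Perm (Φ m)} {p p' : κ m → κ m} (h : Act P p) (e : ∀ a, p a = p' a) :
    Act P p' := funext e ▸ h

theorem act_one : Act (1 : Perm (Φ m)) id := fun _ _ e => ⟨e, rfl⟩

theorem act_γ : Act (γ m) (fl 0) := fun a c e => ⟨_, γ_rt a c e⟩

theorem ε_swap {i j : Fin (m + 2)} (h : i ≠ j) (a : κ m) :
    ε (swap i j a.1, a.2) =
      ε a - (ip (i, true) a + ip (j, false) a) • (ε (i, true) + ε (j, false)) := by
  obtain ⟨l, s⟩ := a
  funext k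
  simp only [ε_apply, ip, Pi.sub_apply, Pi.smul_apply, Pi.add_apply, sg_true, sg_false, smul_eq_mul,
    swap_apply_def]
  by_cases h1 : l = i
  · subst h1; by_cases h2 : k = l <;> by_cases h3 : k = j <;> simp_all [eq_comm]
  · by_cases h4 : l = j
    · subst h4; by_cases h2 : k = l <;> by_cases h3 : k = i <;> simp_all [eq_comm]
    · simp [h1, h4, Ne.symm h1, Ne.symm h4]

theorem act_τ {i j : Fin (m + 2)} (h : i ≠ j) :
    Act ((R m).τ (rt (i, true) (j, false) h)) fun a => (swap i j a.1, a.2) := fun a c e =>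
  ⟨(swap i j).injective.ne e, vec_inj (by
    rw [vec_τ, pair_rt, vec_rt, vec_rt, vec_rt, ε_swap h, ε_swap h]; module)⟩

theorem exists_perm (π : Perm (Fin (m + 2))) : ∃ w ∈ (R m).W, Act w fun a => (π a.1, a.2) := by
  induction π using Perm.swap_induction_on with
  | one => exact ⟨1, one_mem _, act_one⟩
  | swap_mul π i j h ih =>
    obtain ⟨w, hw, e⟩ := ih
    exact ⟨_, mul_mem ((R m).τ_mem_W _) hw, (act_τ h).mul e⟩

theorem exists_flip (k : Fin (m + 2)) : ∃ w ∈ (R m).W, Act (w * γ m * w⁻¹) (fl k) := by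
  obtain ⟨w, hw, e⟩ := exists_perm (m := m) (swap 0 k)
  have e2 : w⁻¹ = w := by
    refine inv_eq_of_mul_eq_one_right (Perm.ext fun r => ?_)
    obtain ⟨a, c, h, rfl⟩ := exists_rt r
    obtain ⟨_, k⟩ := e.mul e a c h
    exact k.trans (rt_congr _ h (by simp) (by simp))
  refine ⟨w, hw, e2.symm ▸ ((e.mul act_γ).mul e).congr fun a => ?_⟩
  obtain ⟨i, s⟩ := a
  by_cases h : i = k
  · subst h; simp [fl, bar]
  · have : swap 0 k i ≠ 0 := fun e => h (by simpa using congrArg (swap 0 k) e)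
    simp [fl, h, this]

theorem exists_at {r : Φ m} {k : Fin (m + 2)} (h : vec r k ≠ 0) :
    ∃ (s : Bool) (c : κ m) (e : k ≠ c.1), r = rt (k, s) c e := by
  obtain ⟨⟨i, s⟩, ⟨j, t⟩, e, rfl⟩ := exists_rt r
  by_cases h1 : k = i
  · subst h1; exact ⟨s, (j, t), e, rfl⟩
  by_cases h2 : k = j
  · subst h2; exact ⟨t, (i, s), h1, rt_comm _ _ _⟩
  simp [vec_rt, ε_apply, h1, h2] at h

theorem vec_ne {a c : κ m} (h : a.1 ≠ c.1) {k : Fin (m + 2)} :
    vec (rt a c h) k ≠ 0 ↔ k = a.1 ∨ k = c.1 := by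
  obtain ⟨i, s⟩ := a
  obtain ⟨j, t⟩ := c
  by_cases h1 : k = i
  · subst h1; cases s <;> simp_all [vec_rt, ε_apply]
  · by_cases h2 : k = j
    · subst h2; cases t <;> simp_all [vec_rt, ε_apply]
    · simp [vec_rt, ε_apply, h1, h2]

theorem Act.fix {ν : Perm (Φ m)} {k : Fin (m + 2)} (h : Act ν (fl k)) {r : Φ m} (e : vec r k = 0) :
    ν r = r := by
  obtain ⟨a, c, e', rfl⟩ := exists_rt r
  obtain ⟨_, k1⟩ := h a c e'
  have := mt (vec_ne e').2 (not_not.2 e)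
  rw [not_or] at this
  exact k1.trans (rt_congr _ _ (if_neg (Ne.symm this.1)) (if_neg (Ne.symm this.2)))

theorem two_at {r r' : Φ m} {k : Fin (m + 2)} (h : vec r k ≠ 0) (h' : vec r' k ≠ 0)
    (o : (R m).pair r r' = 0) :
    ∃ (l : Fin (m + 2)) (s : Bool) (c : κ m) (e : l ≠ c.1), r = rt (l, s) c e ∧ r' = rt (l, !s) c e := by
  obtain ⟨s, c, e, rfl⟩ := exists_at h
  obtain ⟨t, d, e', rfl⟩ := exists_at h'
  rw [pair_rt, ip_ne (a := (k, s)) e', ip_ne (c := (k, t)) e.symm] at o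
  rcases ip_cases c d with b | b | b
  · obtain ⟨rfl, b⟩ := b
    refine ⟨k, s, d, e, rfl, ?_⟩
    cases s <;> cases t <;> simp_all [ip]
  · obtain ⟨rfl, b⟩ := b
    obtain rfl : s = t := by cases s <;> cases t <;> simp_all [ip]
    exact ⟨c.1, c.2, (k, s), e.symm, rt_comm _ _ _, rt_comm _ _ _⟩
  · cases s <;> cases t <;> simp_all [ip]

theorem perm_of_map {B : List (Φ m)} (nd : B.Nodup) {ν : Perm (Φ m)} (h : ∀ b ∈ B, ν b ∈ B) :
    (B.map ν).Perm B :=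
  ((nd.map ν.injective).subperm fun _ hb => by
    obtain ⟨b, hb', rfl⟩ := List.mem_map.1 hb
    exact h b hb').perm_of_length_le (by simp)

theorem pm_of {B : List (Φ m)} (nd : B.Nodup) (h1 : ∀ k, ∃ r ∈ B, vec r k ≠ 0)
    (h2 : ∀ k, ∀ r ∈ B, ∀ r' ∈ B, vec r k ≠ 0 → vec r' k ≠ 0 → r = r') : ∃ μ s, PM B μ s := by
  choose r hr hk using h1
  choose s c e h using fun k => exists_at (hk k)
  have h3 : ∀ k, r (c k).1 = r k := fun k =>
    h2 _ _ (hr _) _ (hr _) (hk _) (h k ▸ (vec_ne _).2 (Or.inr rfl))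
  have h4 : ∀ k, (c (c k).1).1 = k ∧ ((c k).1, s (c k).1) = c k := fun k => by
    rcases rt_inj ((h k).symm.trans ((h3 k).symm.trans (h _))) with a | a
    · exact absurd (congrArg Prod.fst a.1).symm (e k)
    · exact ⟨congrArg Prod.fst a.2, a.1⟩
  have h5 : ∀ k, r k = rt (k, s k) ((c k).1, s (c k).1) (e k) := fun k =>
    (h k).trans (rt_congr _ _ rfl (h4 k).2.symm)
  refine ⟨Function.Involutive.toPerm (fun k => (c k).1) fun k => (h4 k).1, s, nd, fun k => (h4 k).1,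
    e, fun b => ⟨fun hb => ?_, fun ⟨k, hk⟩ => hk ▸ h5 k ▸ hr k⟩⟩
  obtain ⟨a, a', e', rfl⟩ := exists_rt b
  exact ⟨a.1, (h2 a.1 _ hb _ (hr _) ((vec_ne _).2 (Or.inl rfl)) (hk _)).trans (h5 _)⟩

/-- A sign change permutes `B`, or `B` is a perfect matching. -/
theorem dich {B : List (Φ m)} (o : Orth (R m) B) :
    (∃ k, ∀ ν, Act ν (fl k) → (B.map ν).Perm B) ∨ ∃ μ s, PM B μ s := by
  by_cases h1 : ∀ k, ∃ r ∈ B, vec r k ≠ 0
  swap
  · push Not at h1
    obtain ⟨k, h1⟩ := h1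
    exact Or.inl ⟨k, fun ν h => perm_of_map o.1 fun b hb => by rwa [h.fix (h1 b hb)]⟩
  by_cases h2 : ∀ k, ∀ r ∈ B, ∀ r' ∈ B, vec r k ≠ 0 → vec r' k ≠ 0 → r = r'
  · exact Or.inr (pm_of o.1 h1 h2)
  push Not at h2
  obtain ⟨k, r, hr, r', hr', a, a', n⟩ := h2
  obtain ⟨l, s, c, e, rfl, rfl⟩ := two_at a a' (o.2 _ hr _ hr' n)
  refine Or.inl ⟨l, fun ν h => perm_of_map o.1 fun b hb => ?_⟩
  have k1 : ∀ t, ν (rt (l, t) c e) = rt (l, !t) c e := fun t =>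
    let ⟨_, k⟩ := h (l, t) c e
    k.trans (rt_congr _ _ (if_pos rfl) (if_neg e.symm))
  by_cases b1 : rt (l, s) c e = b
  · rwa [← b1, k1]
  by_cases b2 : rt (l, !s) c e = b
  · rwa [← b2, k1, Bool.not_not]
  have p1 := o.2 _ hr _ hb b1
  have p2 := o.2 _ hr' _ hb b2
  rw [H66.Dn.pair_eq, vec_rt, add_dotProduct, ε_dot (l, _)] at p1 p2
  rwa [h.fix (by cases s <;> simp at p1 p2 <;> omega)]

theorem isConj_pm {μ μ' : Perm (Fin (m + 2))} (h : ∀ i, μ (μ i) = i) (e : ∀ i, i ≠ μ i)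
    (h' : ∀ i, μ' (μ' i) = i) (e' : ∀ i, i ≠ μ' i) : IsConj μ μ' := by
  have key : ∀ μ : Perm (Fin (m + 2)), (∀ i, μ (μ i) = i) → (∀ i, i ≠ μ i) →
      μ.cycleType = Multiset.replicate ((m + 2) / 2) 2 := fun μ h e => by
    have h1 := Perm.cycleType_of_pow_prime_eq_one (σ := μ) (p := 2) (Perm.ext h)
    have h2 := Perm.sum_cycleType μ
    rw [show μ.support = Finset.univ from Finset.eq_univ_of_forall fun i =>
      Perm.mem_support.2 (e i).symm, h1] at h2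
    simp only [Multiset.sum_replicate, smul_eq_mul, Finset.card_univ, Fintype.card_fin] at h2
    rw [h1, show μ.cycleType.card = (m + 2) / 2 by omega]
  rw [Perm.isConj_iff_cycleType_eq, key μ h e, key μ' h' e']

/-- Perfect matchings are conjugate. -/
theorem PM.conj {B B' : List (Φ m)} {μ μ' : Perm (Fin (m + 2))} {s s' : Fin (m + 2) → Bool}
    (h : PM B μ s) (h' : PM B' μ' s') : ∃ π S, ∀ P, Act P (sp π S) → (B.map P).Perm B' := by
  obtain ⟨π, e⟩ := isConj_iff.1 (isConj_pm h.sq h.ne h'.sq h'.ne)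
  refine ⟨π, fun i => xor (s i) (s' (π i)), fun P hP => ?_⟩
  have key : ∀ i, P (rt (i, s i) (μ i, s (μ i)) (h.ne i)) =
      rt (π i, s' (π i)) (μ' (π i), s' (μ' (π i))) (h'.ne _) := fun i =>
    let ⟨_, k⟩ := hP (i, s i) (μ i, s (μ i)) (h.ne i)
    k.trans (rt_congr _ _ (by simp [sp]) (by simp [sp, ← e]))
  refine (List.perm_ext_iff_of_nodup (h.nd.map P.injective) h'.nd).2 fun r => ?_
  rw [List.mem_map, h'.mem]
  refine ⟨?_, fun ⟨i, hi⟩ => ?_⟩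
  · rintro ⟨b, hb, rfl⟩
    obtain ⟨i, rfl⟩ := (h.mem b).1 hb
    exact ⟨π i, key i⟩
  · obtain ⟨i, rfl⟩ := π.surjective i
    exact ⟨_, (h.mem _).2 ⟨i, rfl⟩, (key i).trans hi.symm⟩

theorem PM.orth {B : List (Φ m)} {μ : Perm (Fin (m + 2))} {s : Fin (m + 2) → Bool} (h : PM B μ s) :
    Orth (R m) B := by
  refine ⟨h.nd, fun r hr r' hr' n => ?_⟩
  obtain ⟨i, rfl⟩ := (h.mem r).1 hr
  obtain ⟨j, rfl⟩ := (h.mem r').1 hr'
  have a1 : i ≠ j := by rintro rfl; exact n rfl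
  have a2 : i ≠ μ j := by
    rintro rfl
    exact n ((rt_comm _ _ _).trans (rt_congr _ _ (by simp [h.sq]) rfl))
  have a3 : μ i ≠ j := fun e => a2 (by rw [← e, h.sq])
  rw [pair_rt, ip_ne (by exact a1), ip_ne (by exact a2), ip_ne (by exact a3),
    ip_ne (by exact μ.injective.ne a1)]
  rfl

/-- The standard matching. -/
theorem exists_pm (he : Even m) : ∃ (μ : Perm (Fin (m + 2))) (B : List (Φ m)),
    PM (rt (0, true) (1, true) (by simp) :: B) μ (fun _ => true) ∧ μ 0 = 1 := by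
  classical
  obtain ⟨k, rfl⟩ := he
  let f : Fin (k + k + 2) → Fin (k + k + 2) := fun i =>
    if h : (i : ℕ) % 2 = 0 then ⟨i + 1, by omega⟩ else ⟨i - 1, by omega⟩
  have f1 : ∀ i : Fin (k + k + 2), ((i : ℕ) % 2 = 0 ∧ (f i : ℕ) = i + 1) ∨ ((i : ℕ) % 2 = 1 ∧ (f i : ℕ) + 1 = i) :=
    fun i => by
      by_cases h : (i : ℕ) % 2 = 0
      · simp [f, h]
      · simp only [f, h, dif_neg, not_false_eq_true]; omega
  have f2 : Function.Involutive f := fun i => Fin.ext (by have := f1 i; have := f1 (f i); omega)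
  have f3 : ∀ i, i ≠ f i := fun i e => by have := f1 i; rw [← e] at this; omega
  have f4 : f 0 = 1 := Fin.ext (by have := f1 0; simp at this ⊢; omega)
  let T := Finset.univ.image fun i => rt (i, true) (f i, true) (f3 i)
  let ρ : Φ (k + k) := rt (0, true) (1, true) (by simp)
  refine ⟨f2.toPerm, (T.erase ρ).toList, ⟨List.nodup_cons.2 ⟨fun h => (Finset.mem_erase.1 (Finset.mem_toList.1 h)).1 rfl,
    Finset.nodup_toList _⟩, f2, f3,
    fun r => ?_⟩, f4⟩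
  have h1 : ρ = rt (0, true) (f 0, true) (f3 0) := rt_congr _ _ rfl (by rw [f4])
  rw [List.mem_cons, Finset.mem_toList, Finset.mem_erase]
  refine ⟨?_, fun ⟨i, hi⟩ => ?_⟩
  · rintro (rfl | ⟨-, h⟩)
    · exact ⟨0, h1⟩
    · obtain ⟨i, -, rfl⟩ := Finset.mem_image.1 h
      exact ⟨i, rfl⟩
  · by_cases e : r = ρ
    · exact Or.inl e
    · exact Or.inr ⟨e, Finset.mem_image.2 ⟨i, Finset.mem_univ _, hi.symm⟩⟩

set_option linter.all false in
theorem eqns_DnO1 : True := by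
  first | (have := @_root_.Cfsg.Agent.H83.DnO.Act.eq_def.{0,0,0,0}) | (have := @_root_.Cfsg.Agent.H83.DnO.Act.eq_def.{0,0,0}) | (have := @_root_.Cfsg.Agent.H83.DnO.Act.eq_def.{0,0}) | (have := @_root_.Cfsg.Agent.H83.DnO.Act.eq_def.{0}) | (have := @_root_.Cfsg.Agent.H83.DnO.Act.eq_def) | skip
  first | (have := @_root_.Cfsg.Agent.H83.DnO.Act.eq_1.{0,0,0,0}) | (have := @_root_.Cfsg.Agent.H83.DnO.Act.eq_1.{0,0,0}) | (have := @_root_.Cfsg.Agent.H83.DnO.Act.eq_1.{0,0}) | (have := @_root_.Cfsg.Agent.H83.DnO.Act.eq_1.{0}) | (have := @_root_.Cfsg.Agent.H83.DnO.Act.eq_1) | skip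
  first | (have := @_root_.Cfsg.Agent.H83.DnO.Act.eq_2.{0,0,0,0}) | (have := @_root_.Cfsg.Agent.H83.DnO.Act.eq_2.{0,0,0}) | (have := @_root_.Cfsg.Agent.H83.DnO.Act.eq_2.{0,0}) | (have := @_root_.Cfsg.Agent.H83.DnO.Act.eq_2.{0}) | (have := @_root_.Cfsg.Agent.H83.DnO.Act.eq_2) | skip
  first | (have := @_root_.Cfsg.Agent.H83.DnO.Act.congr_simp.{0,0,0,0}) | (have := @_root_.Cfsg.Agent.H83.DnO.Act.congr_simp.{0,0,0}) | (have := @_root_.Cfsg.Agent.H83.DnO.Act.congr_simp.{0,0}) | (have := @_root_.Cfsg.Agent.H83.DnO.Act.congr_simp.{0}) | (have := @_root_.Cfsg.Agent.H83.DnO.Act.congr_simp) | skip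
  first | (have := @_root_.Cfsg.Agent.H83.DnO.fl.eq_def.{0,0,0,0}) | (have := @_root_.Cfsg.Agent.H83.DnO.fl.eq_def.{0,0,0}) | (have := @_root_.Cfsg.Agent.H83.DnO.fl.eq_def.{0,0}) | (have := @_root_.Cfsg.Agent.H83.DnO.fl.eq_def.{0}) | (have := @_root_.Cfsg.Agent.H83.DnO.fl.eq_def) | skip
  first | (have := @_root_.Cfsg.Agent.H83.DnO.fl.eq_1.{0,0,0,0}) | (have := @_root_.Cfsg.Agent.H83.DnO.fl.eq_1.{0,0,0}) | (have := @_root_.Cfsg.Agent.H83.DnO.fl.eq_1.{0,0}) | (have := @_root_.Cfsg.Agent.H83.DnO.fl.eq_1.{0}) | (have := @_root_.Cfsg.Agent.H83.DnO.fl.eq_1) | skip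
  first | (have := @_root_.Cfsg.Agent.H83.DnO.fl.eq_2.{0,0,0,0}) | (have := @_root_.Cfsg.Agent.H83.DnO.fl.eq_2.{0,0,0}) | (have := @_root_.Cfsg.Agent.H83.DnO.fl.eq_2.{0,0}) | (have := @_root_.Cfsg.Agent.H83.DnO.fl.eq_2.{0}) | (have := @_root_.Cfsg.Agent.H83.DnO.fl.eq_2) | skip
  first | (have := @_root_.Cfsg.Agent.H83.DnO.fl.congr_simp.{0,0,0,0}) | (have := @_root_.Cfsg.Agent.H83.DnO.fl.congr_simp.{0,0,0}) | (have := @_root_.Cfsg.Agent.H83.DnO.fl.congr_simp.{0,0}) | (have := @_root_.Cfsg.Agent.H83.DnO.fl.congr_simp.{0}) | (have := @_root_.Cfsg.Agent.H83.DnO.fl.congr_simp) | skip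
  first | (have := @_root_.Cfsg.Agent.H83.DnO.sp.eq_def.{0,0,0,0}) | (have := @_root_.Cfsg.Agent.H83.DnO.sp.eq_def.{0,0,0}) | (have := @_root_.Cfsg.Agent.H83.DnO.sp.eq_def.{0,0}) | (have := @_root_.Cfsg.Agent.H83.DnO.sp.eq_def.{0}) | (have := @_root_.Cfsg.Agent.H83.DnO.sp.eq_def) | skip
  first | (have := @_root_.Cfsg.Agent.H83.DnO.sp.eq_1.{0,0,0,0}) | (have := @_root_.Cfsg.Agent.H83.DnO.sp.eq_1.{0,0,0}) | (have := @_root_.Cfsg.Agent.H83.DnO.sp.eq_1.{0,0}) | (have := @_root_.Cfsg.Agent.H83.DnO.sp.eq_1.{0}) | (have := @_root_.Cfsg.Agent.H83.DnO.sp.eq_1) | skip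
  first | (have := @_root_.Cfsg.Agent.H83.DnO.sp.eq_2.{0,0,0,0}) | (have := @_root_.Cfsg.Agent.H83.DnO.sp.eq_2.{0,0,0}) | (have := @_root_.Cfsg.Agent.H83.DnO.sp.eq_2.{0,0}) | (have := @_root_.Cfsg.Agent.H83.DnO.sp.eq_2.{0}) | (have := @_root_.Cfsg.Agent.H83.DnO.sp.eq_2) | skip
  first | (have := @_root_.Cfsg.Agent.H83.DnO.sp.congr_simp.{0,0,0,0}) | (have := @_root_.Cfsg.Agent.H83.DnO.sp.congr_simp.{0,0,0}) | (have := @_root_.Cfsg.Agent.H83.DnO.sp.congr_simp.{0,0}) | (have := @_root_.Cfsg.Agent.H83.DnO.sp.congr_simp.{0}) | (have := @_root_.Cfsg.Agent.H83.DnO.sp.congr_simp) | skip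
  trivial

end Cfsg.Agent.H83.DnO
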