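import Cfsg.Agent.H83.DnO1
import Cfsg.Agent.H66.DnTr
import Cfsg.Agent.H66.DnTw

/-! Perfect matchings in the linear model of a group of type `Dₙ`. -/

set_option autoImplicit false
set_option linter.unusedSectionVars false

namespace Cfsg.Agent.H83.DnO

open Cfsg Cfsg.Agent.H63.SL Cfsg.Agent.H63.WR Cfsg.Agent.H34 Cfsg.Agent.H40 Cfsg.Agent.H66.Dn
  Cfsg.Agent.H30 Cfsg.Agent.H66.DnT Cfsg.Agent.H66.DnL Equiv QuadraticMap Module LinearMap
open Cfsg.Agent.H35.NF (prodX_cons)
open Cfsg.Agent.H79 (nil rk AltType nil_apply)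

universe u v w

variable {m : ℕ} {F : Type v} [Field F] {V : Type w} [AddCommGroup V] [Module F V]
  {Q : QuadraticForm F V} {Fr : Frame Q (κ m)}

theorem nil_mul (g h : O Q) : range (nil (g * h).1) ≤ range (nil g.1) ⊔ range (nil h.1) := by
  rintro _ ⟨v, rfl⟩
  rw [show nil (g * h).1 v = nil g.1 (h.1 v) + nil h.1 v by
    simp only [nil_apply, O_mul_apply]; abel]
  exact Submodule.add_mem_sup ⟨_, rfl⟩ ⟨_, rfl⟩

theorem nil_eich (a b : V) : range (nil (eich Q a b).1) ≤ Submodule.span F {a, b} := by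
  rintro _ ⟨v, rfl⟩
  have h1 : a ∈ Submodule.span F {a, b} := Submodule.subset_span (by simp)
  have h2 : b ∈ Submodule.span F {a, b} := Submodule.subset_span (by simp)
  by_cases h : Q a = 0 ∧ polar Q a b = 0
  · rw [nil_apply, eich_apply h.1 h.2, show ∀ p q r : V, v + p - q - r - v = p - q - r from
      fun _ _ _ => by abel]
    exact sub_mem (sub_mem (Submodule.smul_mem _ _ h2) (Submodule.smul_mem _ _ h1))
      (Submodule.smul_mem _ _ h1)
  · rw [eich_of_not h, nil_apply, O_one_apply, sub_self]; exact zero_mem _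

theorem span_two (a b : V) : finrank F (Submodule.span F {a, b}) ≤ 2 := by
  classical
  exact (finrank_span_le_card _).trans (by rw [Set.toFinset_insert, Set.toFinset_singleton]; exact Finset.card_le_two)

theorem rk_cj (g h : O Q) : rk (g * h * g⁻¹).1 = rk h.1 :=
  (H79.rk_conj (g := g.1) (congrArg Subtype.val (inv_mul_cancel_right (g * h) g).symm)).symm

variable [FiniteDimensional F V]

theorem rk_xr (r : Φ m) (t : F) : rk (xr Fr r t).1 ≤ 2 :=
  (Submodule.finrank_mono (nil_eich _ _)).trans (span_two _ _)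

variable (H : Hyp Fr) {B : List (Φ m)} {μ : Perm (Fin (m + 2))} {s : Fin (m + 2) → Bool}
include H

theorem pol_s (i j : Fin (m + 2)) : polar Q (Fr.b (i, s i)) (Fr.b (j, s j)) = 0 :=
  H.pol fun e => by
    obtain rfl : j = i := congrArg Prod.fst e
    simpa using congrArg Prod.snd e

theorem sing_s {u : V} (hu : u ∈ Submodule.span F (Set.range fun i => Fr.b (i, s i))) : Q u = 0 := by
  have h1 : ∀ i, ∀ u ∈ Submodule.span F (Set.range fun i => Fr.b (i, s i)),
      polar Q (Fr.b (i, s i)) u = 0 := fun i u hu =>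
    (Submodule.span_le (p := ker (polarBilin Q (Fr.b (i, s i))))).2
      (by rintro _ ⟨j, rfl⟩; exact pol_s H i j) hu
  have h2 : ∀ u ∈ Submodule.span F (Set.range fun i => Fr.b (i, s i)),
      ∀ v ∈ Submodule.span F (Set.range fun i => Fr.b (i, s i)), polar Q u v = 0 := fun u hu v hv =>
    (Submodule.span_le (p := ker (polarBilin Q u))).2
      (by rintro _ ⟨j, rfl⟩; exact (polar_comm _ _ _).trans (h1 j u hu)) hv
  induction hu using Submodule.span_induction with
  | mem _ h => obtain ⟨i, rfl⟩ := h; exact Fr.Q_b _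
  | zero => exact map_zero Q
  | add a b ha hb ea eb => rw [Q_add, ea, eb, h2 a ha b hb]; simp
  | smul c a _ e => rw [Q.map_smul, e, smul_zero]

theorem nil_prod (ne : ∀ i, i ≠ μ i) (h : ∀ r ∈ B, ∃ i, r = rt (i, s i) (μ i, s (μ i)) (ne i)) :
    range (nil (prodX (xr Fr) B).1) ≤ Submodule.span F (Set.range fun i => Fr.b (i, s i)) := by
  induction B with
  | nil => rintro _ ⟨v, rfl⟩; exact (show nil (1 : O Q).1 v = 0 from sub_self v) ▸ zero_mem _
  | cons b B ih =>
    obtain ⟨i, rfl⟩ := h b List.mem_cons_self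
    rw [prodX_cons, H.xr_rt, Frame.X, one_smul]
    refine (nil_mul _ _).trans (sup_le ((nil_eich _ _).trans (Submodule.span_mono ?_))
      (ih fun r hr => h r (List.mem_cons_of_mem _ hr)))
    rintro _ (rfl | rfl)
    exacts [⟨i, rfl⟩, ⟨μ i, rfl⟩]

theorem prod_bar (sq : ∀ i, μ (μ i) = i) (ne : ∀ i, i ≠ μ i) (nd : B.Nodup)
    (h : ∀ r ∈ B, ∃ i, r = rt (i, s i) (μ i, s (μ i)) (ne i)) (i : Fin (m + 2)) :
    (rt (i, s i) (μ i, s (μ i)) (ne i) ∉ B →
      (prodX (xr Fr) B).1 (Fr.b (bar (μ i, s (μ i)))) = Fr.b (bar (μ i, s (μ i)))) ∧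
    (rt (i, s i) (μ i, s (μ i)) (ne i) ∈ B →
      (prodX (xr Fr) B).1 (Fr.b (bar (μ i, s (μ i)))) = Fr.b (bar (μ i, s (μ i))) - Fr.b (i, s i)) := by
  induction B with
  | nil => exact ⟨fun _ => rfl, fun h => absurd h List.not_mem_nil⟩
  | cons b B ih =>
    obtain ⟨j, rfl⟩ := h b List.mem_cons_self
    obtain ⟨n1, n2⟩ := List.nodup_cons.1 nd
    obtain ⟨i1, i2⟩ := ih n2 fun r hr => h r (List.mem_cons_of_mem _ hr)
    rw [prodX_cons, O_mul_apply, List.mem_cons]
    by_cases e : rt (i, s i) (μ i, s (μ i)) (ne i) = rt (j, s j) (μ j, s (μ j)) (ne j)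
    · rw [← e] at n1 ⊢
      refine ⟨fun k => absurd (Or.inl rfl) k, fun _ => ?_⟩
      rw [i1 n1, H.xr_rt, H.X_apply (ne i), one_smul]
    have a1 : j ≠ i := by rintro rfl; exact e rfl
    have a2 : j ≠ μ i := by
      rintro rfl
      exact e ((rt_comm _ _ _).trans (rt_congr _ _ rfl (by simp [sq])))
    have k1 : (xr Fr (rt (j, s j) (μ j, s (μ j)) (ne j)) 1).1 (Fr.b (bar (μ i, s (μ i)))) =
        Fr.b (bar (μ i, s (μ i))) := by
      rw [H.xr_rt, Frame.X, one_smul]
      exact eich_apply_of_orth (H.pol fun k => a2 (congrArg Prod.fst k))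
        (H.pol fun k => a1 (μ.injective (congrArg Prod.fst k)))
    have k2 : (xr Fr (rt (j, s j) (μ j, s (μ j)) (ne j)) 1).1 (Fr.b (i, s i)) = Fr.b (i, s i) := by
      rw [H.xr_rt, Frame.X, one_smul]
      exact eich_apply_of_orth (pol_s H _ _) (pol_s H _ _)
    exact ⟨fun k => by rw [i1 fun k' => k (Or.inr k'), k1],
      fun k => by rw [i2 (k.resolve_left e), map_sub, k1, k2]⟩

theorem card_le_rk {ι : Type} [Fintype ι] {e : ι → κ m} (he : Function.Injective e) {T : O Q}
    (h : ∀ i, ∃ v, T.1 v = v - Fr.b (e i)) : Fintype.card ι ≤ rk T.1 := by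
  have li : LinearIndependent F Fr.b := LinearIndependent.of_pairwise_dual_eq_zero_one _
    (fun a => polarBilin Q (Fr.b (bar a))) (fun a c n => H.pol (by simpa using n.symm))
    fun a => (H.isHyp a).pol'
  rw [← finrank_span_eq_card (li.comp e he)]
  refine Submodule.finrank_mono (Submodule.span_le.2 ?_)
  rintro _ ⟨i, rfl⟩
  obtain ⟨v, hv⟩ := h i
  exact ⟨-v, by simp [nil_apply, hv]⟩

theorem PM.rk (h : PM B μ s) : m + 2 ≤ rk (prodX (xr Fr) B).1 := by
  have := card_le_rk H (e := fun i => (i, s i)) (fun _ _ e => congrArg Prod.fst e) fun i =>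
    ⟨_, (prod_bar H h.sq h.ne h.nd (fun r => (h.mem r).1) i).2 ((h.mem _).2 ⟨i, rfl⟩)⟩
  simpa using this

theorem PM.ne_prod (hm : 2 ≤ m) (h : PM B μ s) {T : O Q} (hT : H79.rk T.1 ≤ 2) (g : O Q) :
    g * (T * (xr Fr (rt (0, true) (1, true) (by simp)) 1 *
      xr Fr (rt (0, false) (1, true) (by simp)) 1)) * g⁻¹ ≠ prodX (xr Fr) B := fun e => by
  rw [H.xr_rt, H.xr_rt, H.X_comm, H.X_comm (0, false), Frame.X, Frame.X, one_smul, one_smul,
    eich_mul (Fr.Q_b _) (H.pol (ne_bar (by simp))) (H.pol (ne_bar (by simp)))] at e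
  have h1 := h.rk H
  have h2 := (H79.altType_iff_sing H.two _).2 fun u hu =>
    sing_s H (nil_prod H h.ne (fun r => (h.mem r).1) hu)
  rw [← e, rk_cj] at h1
  rw [← e, ← H79.altType_conj (g := g.1) (H79.O_le_isom g.2)
    (congrArg Subtype.val (inv_mul_cancel_right (g * _) g).symm), H79.altType_iff_sing H.two] at h2
  have h3 := (nil_mul T _).trans (sup_le_sup_left (nil_eich (Q := Q) (Fr.b (1, true))
    (Fr.b (0, true) + Fr.b (0, false))) _)
  have h4 := Submodule.eq_of_le_of_finrank_le h3 (((Submodule.finrank_add_le_finrank_add_finrank _ _).trans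
    (add_le_add hT (span_two _ _))).trans (le_trans (by omega) h1))
  have := h2 _ (h4.ge (Submodule.mem_sup_right (Submodule.subset_span (Or.inr rfl))))
  rw [Q_r0 H] at this
  exact one_ne_zero this

/-- A frame involution of graph type fixes the other basis vectors. -/
theorem fix_b {T : O Q} (h2 : T * T = 1) (h : ∀ r, ∃ c, T * xr Fr r 1 * T⁻¹ = xr Fr (γ m r) c)
    {a : κ m} (ha : a.1 ≠ 0) : T.1 (Fr.b a) = Fr.b a := by
  obtain ⟨l, e⟩ := H.diag (g := r0 Fr * T) (fun r => by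
    obtain ⟨c, e⟩ := h r
    refine ⟨c, ?_⟩
    rw [show r0 Fr * T * xr Fr r 1 * (r0 Fr * T)⁻¹ = r0 Fr * (T * xr Fr r 1 * T⁻¹) * (r0 Fr)⁻¹ by
      group, e, r0_conj H, γ_γ]) a
  have e1 : T.1 (Fr.b a) = l • Fr.b a := by
    have := congrArg (r0 Fr).1 e
    rwa [← O_mul_apply, ← mul_assoc, r0_sq, one_mul, map_smul, r0_b H, gk_ne ha] at this
  have e2 := congrArg T.1 e1
  rw [← O_mul_apply, h2, O_one_apply, map_smul, e1, smul_smul] at e2
  have e3 : l * l = 1 * 1 := smul_left_injective F (H.isHyp a).left_ne_zero (by simpa using e2.symm)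
  rw [e1, H35.NF.sq_inj H.two e3, one_smul]

theorem rk_out (he : Even m) (hV : finrank F V = 2 * (m + 2))
    (h : PM (rt (0, true) (1, true) (by simp) :: B) μ fun _ => true) (h0 : μ 0 = 1) {T : O Q}
    (hT : ∀ a : κ m, a.1 ≠ 0 → T.1 (Fr.b a) = Fr.b a)
    (h2 : prodX (xr Fr) B * T * (prodX (xr Fr) B * T) = 1)
    (hd : dickson H.nondeg (prodX (xr Fr) B * T) ≠ 1) : rk (prodX (xr Fr) B * T).1 = m + 1 := by
  have h1 := card_le_rk H (e := fun i : Fin m => (i.succ.succ, true))
    (fun _ _ e => by simpa using e) (T := prodX (xr Fr) B * T) fun i => by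
      refine ⟨Fr.b (bar (μ i.succ.succ, true)), ?_⟩
      have a1 : μ i.succ.succ ≠ 0 := fun e => by
        have := h.sq i.succ.succ
        rw [e, h0] at this
        exact Fin.succ_succ_ne_one i this.symm
      rw [O_mul_apply, hT _ a1]
      refine (prod_bar H (s := fun _ => true) h.sq h.ne (List.nodup_cons.1 h.nd).2
        (fun r hr => (h.mem r).1 (List.mem_cons_of_mem _ hr)) _).2 ?_
      refine (List.mem_cons.1 ((h.mem _).2 ⟨_, rfl⟩)).resolve_left fun e => ?_
      rcases rt_inj e with k | k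
      · exact Fin.succ_ne_zero i.succ (congrArg Prod.fst k.1).symm
      · exact a1 (congrArg Prod.fst k.1).symm
  have h3 := H79.two_mul_rk_le H.two H.nondeg (H79.O_le_isom (prodX (xr Fr) B * T).2)
    (congrArg Subtype.val h2)
  rw [Ne, H79.dickson_eq_one_iff_rk, Nat.even_iff] at hd
  rw [Nat.even_iff] at he
  rw [Fintype.card_fin] at h1
  omega

set_option linter.all false in
theorem eqns_DnO2 : True := by
  trivial

end Cfsg.Agent.H83.DnO
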