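import Cfsg.Agent.H83.Large
import Cfsg.Agent.H83.SubCl
import Cfsg.Agent.H83.Misc

/-!
The structure of the members of `ℌ_G(O_p(M))` for asymmetric `Y_M`.
-/

set_option autoImplicit false
open Subgroup Cfsg
open scoped Pointwise commutatorElement

namespace Cfsg.Agent.H83

variable {G : Type*} [Group G] {p : ℕ} [Finite G] [hp : Fact p.Prime]

theorem isPClosed_of_comm {X N : Subgroup G} (hN : N ≤ X) (hn : X ≤ normalizer (N : Set G))
    (h : ⁅N, resOf p X⁆ ≤ pCoreOf p X) : IsPClosed p N := by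
  obtain ⟨T, hT⟩ := exists_isSylowIn p X
  have hS := hT.inf_normal hN hn
  have hA := le_norm_pCoreOf (p := p) X
  have h1 : T ⊓ N ⊔ pCoreOf p X ≤ pCoreOf p X := by
    refine le_pCoreOf (sup_le (inf_le_right.trans hN) (pCoreOf_le X)) ?_
      (isPGroup_sup hS.isPGroup (pCoreOf_isPGroup X) ((inf_le_right.trans hN).trans hA))
    nth_rewrite 1 [← hT.resOf_sup]
    refine sup_le ?_ (le_norm_sup (le_norm_inf le_normalizer (hT.le.trans hn)) (hT.le.trans hA))
    rw [le_normalizer_iff_commutator_le_left]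
    refine (comm_sup_left_le ((commutator_mono inf_le_right le_rfl).trans h)
      (comm_le_left ((resOf_le X).trans hA)) (sup_le ((inf_le_right.trans hN).trans hA)
        le_normalizer)).trans le_sup_right
  refine H85.isPClosed_coe_iff.mpr fun R h2 h3 => ?_
  have h4 : T ⊓ N = pCoreOf p N := le_antisymm
    ((le_inf (le_sup_left.trans h1) inf_le_right).trans (pCoreOf_inf_le hN)) hS.pCoreOf_le
  rw [h4] at hS
  exact hS.le_of_norm' h2 h3 (h2.trans (le_norm_pCoreOf N))

/-- The setting of a member `H` of `ℌ_G(O_p(M))` with `Y_M` asymmetric. -/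
structure FH (p : ℕ) (S M H : Subgroup G) : Prop where
  bp : BP p S M
  asym : ¬ IsSymmetricIn (YY p M)
  frak : IsInFrakH p M H

namespace FH

variable {S M H : Subgroup G} (h : FH p S M H)
include h

theorem wc : H85.WC p (pCoreOf p M) := h.bp.wc h.asym

theorem charP : CharP p H := charP_iff.mpr h.frak.1

theorem O_le : pCoreOf p M ≤ H := h.frak.2.1

theorem Y_le : YY p M ≤ H := (YY_le_pCoreOf M).trans h.O_le

theorem not_le : ¬ YY p M ≤ pCoreOf p H := h.frak.2.2.1

theorem min {P : Subgroup G} (h1 : pCoreOf p M ≤ P) (h2 : P < H) : YY p M ≤ pCoreOf p P :=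
  h.frak.2.2.2 P h1 h2

theorem eq_of_not_le {P : Subgroup G} (h1 : pCoreOf p M ≤ P) (h2 : P ≤ H)
    (h3 : ¬ YY p M ≤ pCoreOf p P) : P = H := by
  by_contra e
  exact h3 (h.min h1 (lt_of_le_of_ne h2 e))

theorem A_le_norm_O : pCoreOf p H ≤ normalizer (pCoreOf p M : Set G) :=
  wc_pCoreOf_le_norm h.wc (pCoreOf_isPGroup M) h.O_le

theorem A_le_norm_Y : pCoreOf p H ≤ normalizer (YY p M : Set G) :=
  h.A_le_norm_O.trans h.bp.norm_O_le

theorem O_le_norm_Y : pCoreOf p M ≤ normalizer (YY p M : Set G) :=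
  (pCoreOf_le M).trans (le_norm_YY M)

theorem scl_O : scl (pCoreOf p M) H = H :=
  h.eq_of_not_le (le_scl h.O_le) (scl_le _ _) fun e =>
    h.not_le (e.trans (subnIn_scl _ _).pCoreOf_le)

theorem ncl_O : ncl (pCoreOf p M) H = H := by
  have := ncl_scl h.O_le
  rwa [h.scl_O] at this

theorem res_sup_O : resOf p H ⊔ pCoreOf p M = H := by
  have := sup_resOf_scl p h.O_le
  rwa [h.scl_O, sup_comm] at this

theorem O_sup_scl_Y : pCoreOf p M ⊔ scl (YY p M) H = H :=
  h.eq_of_not_le le_sup_left (sup_le h.O_le (scl_le _ _)) fun e =>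
    h.not_le (((le_inf e (le_scl h.Y_le)).trans (pCoreOf_inf_le le_sup_right)).trans
      (subnIn_scl _ _).pCoreOf_le)

theorem O_le_norm_scl_Y : pCoreOf p M ≤ normalizer (scl (YY p M) H : Set G) :=
  norm_scl h.Y_le h.O_le_norm_Y (le_norm_of_le h.O_le)

theorem le_norm_scl_Y : H ≤ normalizer (scl (YY p M) H : Set G) := by
  nth_rewrite 1 [← h.O_sup_scl_Y]
  exact sup_le h.O_le_norm_scl_Y le_normalizer

theorem res_scl_Y : resOf p (scl (YY p M) H) = resOf p H := by
  rw [← resOf_sup_of_norm (pCoreOf_isPGroup M) h.O_le_norm_scl_Y, h.O_sup_scl_Y]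

theorem comm_res_Y : ⁅resOf p H, YY p M⁆ = resOf p H := by
  rw [← h.res_scl_Y]
  exact comm_resOf_scl h.Y_le (YY_isPGroup M)

theorem ncl_Y : ncl (YY p M) H = scl (YY p M) H :=
  le_antisymm (ncl_le_of_norm (le_scl h.Y_le) h.le_norm_scl_Y)
    (scl_le_of_subnIn (le_ncl h.Y_le) (SubnIn.of_norm (ncl_le _ _) (le_norm_ncl _ _)))

theorem res_sup_Y : resOf p H ⊔ YY p M = ncl (YY p M) H := by
  rw [h.ncl_Y, ← h.res_scl_Y, sup_comm]
  exact sup_resOf_scl p h.Y_le

theorem exists_sylow : ∃ T, IsSylowIn p T H ∧ pCoreOf p M ≤ T ∧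
    T ≤ normalizer (pCoreOf p M : Set G) :=
  wc_exists_sylow h.wc (pCoreOf_isPGroup M) h.O_le

/-- A normal subgroup of `H` not containing `O^p(H)` centralizes `Y` modulo `O_p(H)`. -/
theorem comm_Y_le {N : Subgroup G} (hN : N ≤ H) (hn : H ≤ normalizer (N : Set G))
    (hr : ¬ resOf p H ≤ N) : ⁅N, YY p M⁆ ≤ pCoreOf p H := by
  have h1 : YY p M ≤ pCoreOf p (pCoreOf p M ⊔ N : Subgroup G) := by
    refine h.min le_sup_left (lt_of_le_of_ne (sup_le h.O_le hN) fun e => hr ?_)
    rw [← e, resOf_sup_of_norm (pCoreOf_isPGroup M) (h.O_le.trans hn)]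
    exact resOf_le N
  refine le_trans (le_inf ((commutator_mono le_rfl h1).trans (comm_le_right
    (le_sup_right.trans (le_norm_pCoreOf _)))) (comm_le_left (h.Y_le.trans hn))) ?_
  exact (pCoreOf_inf_le le_sup_right).trans (pCoreOf_mono_normal hN hn)

/-- A subgroup normalizing all `H`-conjugates of `O_p(M)` normalizes `H`. -/
theorem le_norm_of_cj {P : Subgroup G} (hn : H ≤ normalizer (P : Set G))
    (hP : P ≤ normalizer (pCoreOf p M : Set G)) : P ≤ normalizer (H : Set G) := by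
  rw [← h.ncl_O, ncl_eq_iSup h.O_le]
  intro x hx
  rw [← cj_eq_self_iff, cj, Subgroup.map_iSup]
  refine iSup_congr fun g => cj_eq_self ?_
  rw [← cj_normalizer]
  exact cj_mono _ hP ((cj_eq_self (hn g.2)).ge hx)

end FH

end Cfsg.Agent.H83
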