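import Cfsg.Agent.H83.RkOne
import Cfsg.Agent.H83.AsymL
import Cfsg.Agent.S2836
import Cfsg.Agent.S2837

/-!
The members of `𝔏_G(Y_M)`.
-/

set_option autoImplicit false
open Subgroup Cfsg
open scoped Pointwise commutatorElement

namespace Cfsg.Agent.H83

variable {X : Type*} [Group X] {p : ℕ}

/-- The intrinsic form of membership in `𝔏_G(Y_M)`. -/
structure LS (p : ℕ) (Y : Subgroup X) : Prop where
  ea : IsElementaryAbelian p Y
  cl : pCore p X = normalClosure ((pCore p X ⊓ Y : Subgroup X) : Set X)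
  norm : pCore p X ≤ normalizer (Y : Set X)
  min : IsMinimalOver Y
  char : centralizer (pCore p X : Set X) ≤ pCore p X
  um : H85.UniqMax Y (normalizer (Y : Set X)) ⊤
  rk : Rk p (Y.map (QuotientGroup.mk' (pCore p X)))

theorem normal_Z (Y : Subgroup X) : (Y ⊓ center X).Normal :=
  normalizer_eq_top_iff.mp (top_le_iff.mp (le_norm_of_le_cent
    (le_centralizer_iff.mp (inf_le_right.trans (center_le_centralizer _)))))

theorem comm_mem_iff {Z : Subgroup X} [Z.Normal] {x a : X} :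
    ⁅x, a⁆ ∈ Z ↔ Commute (QuotientGroup.mk' Z x) (QuotientGroup.mk' Z a) := by
  rw [← commutatorElement_eq_one_iff_commute, ← map_commutatorElement]
  exact (QuotientGroup.eq_one_iff _).symm

variable [Finite X] [hp : Fact p.Prime]

omit [Finite X] hp in
theorem not_le_pCore_of_min {Y : Subgroup X} (h : IsMinimalOver Y)
    (hn : pCore p X ≤ normalizer (Y : Set X)) (hlt : normalizer (Y : Set X) < ⊤) :
    ¬ Y ≤ pCore p X := fun e =>
  hlt.not_ge (h.1.ge.trans ((normalClosure_le_normal e).trans hn))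

theorem LS.of_frakL {G : Type*} [Group G] [Finite G] {M L : Subgroup G} (h : IsInFrakL p M L) :
    LS p ((YY p M).subgroupOf L) := by
  obtain ⟨h1, h2, h3, h4, h5, ⟨h6, h7⟩, h8⟩ := h
  have hN : normalizer (((YY p M).subgroupOf L : Subgroup L) : Set L) =
      (L ⊓ normalizer (YY p M : Set G)).subgroupOf L := by
    rw [← map_subtype_subgroupOf (normalizer _), map_normalizer_subtype, subgroupOf_map_of_le h1]
  have hn : pCore p L ≤ normalizer (((YY p M).subgroupOf L : Subgroup L) : Set L) := by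
    rw [hN, ← pCoreOf_subgroupOf]
    exact comap_mono (le_inf (pCoreOf_le L) h3)
  have hu : H85.UniqMax ((YY p M).subgroupOf L)
      (normalizer (((YY p M).subgroupOf L : Subgroup L) : Set L)) ⊤ := by
    rw [hN]
    exact (H85.uniqMax_subgroupOf_iff h1 inf_le_left).mpr ⟨le_inf h1 le_normalizer, h6, h7⟩
  have hea := EA_subgroupOf (EA_YY (p := p) M) L
  have h0 : ((YY p M).subgroupOf L).map (QuotientGroup.mk' (pCore p L)) ≠ ⊥ := by
    rw [Ne, Subgroup.map_eq_bot_iff, QuotientGroup.ker_mk']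
    exact not_le_pCore_of_min h4 hn hu.lt
  have hc : Nat.card (((YY p M).subgroupOf L).map (QuotientGroup.mk' (pCore p L))) =
      (YY p M ⊓ pCoreOf p L).relIndex (YY p M) := by
    rw [← relIndex_ker, QuotientGroup.ker_mk', inf_relIndex_left, ← pCoreOf_subgroupOf,
      relIndex_subgroupOf h1]
  have hea' := EA_map (QuotientGroup.mk' (pCore p L)) hea
  refine ⟨hea, ?_, hn, h4, h5, hu, ?_⟩
  · rw [← map_subtype_subgroupOf (normalClosure _), ← pCoreOf_subgroupOf]
    nth_rewrite 1 [h2]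
    congr 4
    rw [inf_comm]
    rfl
  · rcases h8 with ⟨F, _, _, e1, ⟨e⟩⟩ | ⟨rfl, F, _, _, m, e0, e1, ⟨e⟩⟩ | ⟨rfl, r, hr, hr2, ⟨e⟩⟩
    · refine Rk.of_map e (rk_SL2 (EA_isPGroup (EA_map _ hea')) ?_)
      rw [card_map_of_injective e.injective, hc, e1]
    · refine Rk.of_map e (rk_Sz (H39.lieModel e0) e0 (EA_map _ hea') ?_)
      rw [card_map_of_injective e.injective, hc, e1]
    · exact Rk.of_map e (rk_dihedral hr hr2 (EA_map _ hea') fun e0 =>
        h0 ((Subgroup.map_eq_bot_iff_of_injective _ e.injective).mp e0))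

namespace LS

variable {Y : Subgroup X} (h : LS p Y)
include h

omit [Finite X] hp in
theorem not_le : ¬ Y ≤ pCore p X := not_le_pCore_of_min h.min h.norm h.um.lt

theorem coatom : IsCoatom (normalizer (Y : Set X)) := (H85.uniqMax_top_iff.mp h.um).1.1

omit [Finite X] hp in
theorem comap_norm : (normalizer ((Y.map (QuotientGroup.mk' (pCore p X)) : Subgroup _) :
    Set (X ⧸ pCore p X))).comap (QuotientGroup.mk' (pCore p X)) = normalizer (Y : Set X) := by
  refine le_antisymm (h.um.le_of_ne (map_le_iff_le_comap.mp le_normalizer) le_top fun e => ?_)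
    (map_le_iff_le_comap.mp (le_normalizer_map _))
  apply h.not_le
  have h1 : (Y.map (QuotientGroup.mk' (pCore p X))).Normal := by
    refine normalizer_eq_top_iff.mp (top_le_iff.mp fun x _ => ?_)
    obtain ⟨y, rfl⟩ := QuotientGroup.mk'_surjective _ x
    exact e.ge (mem_top y)
  have h2 : normalClosure (Y : Set X) ≤ (Y.map (QuotientGroup.mk' (pCore p X))).comap
      (QuotientGroup.mk' (pCore p X)) := normalClosure_le_normal (le_comap_map _ _)
  rw [h.min.1, comap_map_eq, QuotientGroup.ker_mk'] at h2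
  exact absurd (h2.trans (sup_le le_normalizer h.norm)) h.um.lt.not_ge

omit [Finite X] hp in
theorem uniq {V : Subgroup X} (h1 : V ≤ normalizer (Y : Set X))
    (h2 : normalizer (Y : Set X) ≤ normalizer (V : Set X))
    (h3 : IsElementaryAbelian p (V.map (QuotientGroup.mk' (pCore p X)))) (h4 : ¬ V ≤ pCore p X) :
    V ⊔ pCore p X = Y ⊔ pCore p X := by
  have hf := QuotientGroup.mk'_surjective (pCore p X)
  have := h.rk.uniq _ (map_le_iff_le_comap.mpr (h.comap_norm ▸ h1)) (by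
    rw [← map_comap_eq_self_of_surjective hf (normalizer _), h.comap_norm]
    exact (map_mono h2).trans (le_normalizer_map _)) h3 (by
    rwa [Ne, Subgroup.map_eq_bot_iff, QuotientGroup.ker_mk'])
  have := congrArg (comap (QuotientGroup.mk' (pCore p X))) this
  rwa [comap_map_eq, comap_map_eq, QuotientGroup.ker_mk'] at this

theorem inf_cj {g : X} (hg : g ∉ normalizer (Y : Set X)) : Y ⊓ cj g Y = Y ⊓ center X :=
  (S2837.result h.char _ h.coatom Y le_normalizer h.ea h.min h.norm _ h.cl g hg).2.2.2.2.1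

theorem comm_le : ⁅pCore p X, pCore p X⁆ ≤ Y ⊓ center X := by
  obtain ⟨g, -, hg⟩ := SetLike.exists_of_lt h.um.lt
  obtain ⟨-, h1, -, h2, -⟩ :=
    S2837.result h.char _ h.coatom Y le_normalizer h.ea h.min h.norm _ h.cl g hg
  exact h1.le.trans h2

theorem Z_le : Y ⊓ center X ≤ pCore p X :=
  inf_le_right.trans ((center_le_centralizer _).trans h.char)

theorem sup_cj {g : X} (hg : g ∉ normalizer (Y : Set X)) : Y ⊔ cj g Y = ⊤ :=
  h.um.sup_cj_eq (H85.not_normal_of_normalClosure_eq_top h.min.1 le_normalizer h.um.lt.ne)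
    (mem_top g) hg

theorem A_eq {g : X} (hg : g ∉ normalizer (Y : Set X)) :
    pCore p X ⊓ Y ⊔ pCore p X ⊓ cj g Y = pCore p X := by
  have hA : ⊤ ≤ normalizer (pCore p X : Set X) := le_normalizer_of_normal
  obtain ⟨q, -, -⟩ := quad_facts hA le_top (mem_top g) (EA_le_cent h.ea) h.norm (h.sup_cj hg)
  have hle : pCore p X ⊓ Y ⊔ pCore p X ⊓ cj g Y ≤ pCore p X := sup_le inf_le_left inf_le_left
  haveI : (pCore p X ⊓ Y ⊔ pCore p X ⊓ cj g Y).Normal := by
    refine normalizer_eq_top_iff.mp (top_le_iff.mp (le_normalizer_iff_commutator_le_left.mpr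
      ((commutator_mono hle le_rfl).trans ?_)))
    rw [← q]
    exact sup_le_sup (le_inf (commutator_le_left _ _) (comm_le_right h.norm))
      (le_inf (commutator_le_left _ _) (comm_le_right (le_norm_cj h.norm (hA (mem_top g)))))
  refine le_antisymm hle ?_
  nth_rewrite 1 [h.cl]
  exact normalClosure_le_normal (SetLike.coe_subset_coe.mpr le_sup_left)

theorem sup_res : Y ⊔ pResidual p X = ⊤ := by
  have h1 : scl Y ⊤ = ⊤ := by
    by_contra e
    rcases (subnIn_scl Y ⊤).eq_or_exists with e' | ⟨N, h1, h2, h3⟩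
    · exact e e'
    · refine h2.not_ge (h.min.1.ge.trans ?_)
      rw [← ncl_top]
      exact ncl_le_of_norm ((le_scl le_top).trans h1) h3
  have := sup_resOf_scl p (le_top : Y ≤ ⊤)
  rwa [h1, resOf_top] at this

/-- The normal subgroup `Y ∩ Z(X)`. -/
theorem top_le_norm_Z : ⊤ ≤ normalizer ((Y ⊓ center X : Subgroup X) : Set X) :=
  le_norm_of_le_cent (le_centralizer_iff.mp (inf_le_right.trans (center_le_centralizer _)))

/-- An element of `Y` outside `O_p` centralizes only `O_p ∩ Y` modulo `Y ∩ Z`. -/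
theorem mem_of_comm {y a : X} (hy : y ∈ Y) (hy' : y ∉ pCore p X) (ha : a ∈ pCore p X)
    (hc : ⁅y, a⁆ ∈ Y ⊓ center X) : a ∈ Y := by
  obtain ⟨g, hg⟩ : ∃ g, g⁻¹ * y * g ∉ normalizer (Y : Set X) := by
    by_contra hcon
    push Not at hcon
    obtain ⟨T, hT, hYT⟩ := exists_isSylowIn_ge (le_normalizer (H := Y)) (EA_isPGroup h.ea)
    have h1 := (S2836.result _ h.coatom hT.toSylow Y (hYT.trans hT.map_toSylow.ge) h.min).1.2.2
    refine hy' (H85.isPClosed_normal_iff.mp h1 (zpowers y) (zpowers_le.mpr fun b => ?_)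
      ((EA_isPGroup h.ea).to_le (zpowers_le.mpr hy)) (mem_zpowers y))
    simpa using hcon b⁻¹
  have hg' : g ∉ normalizer (Y : Set X) := fun e =>
    hg (mul_mem (mul_mem (inv_mem e) (le_normalizer hy)) e)
  have hZ := h.top_le_norm_Z
  have hA : ⊤ ≤ normalizer (pCore p X : Set X) := le_normalizer_of_normal
  obtain ⟨d, hd, b, hb, rfl⟩ := (mem_sup_right_norm (inf_le_left.trans (le_norm_inf le_normalizer
    (le_norm_cj h.norm (hA (mem_top g)))))).mp ((h.A_eq hg').ge ha)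
  refine mul_mem hd.2 ?_
  have h1 : ⁅y, b⁆ ∈ Y ⊓ center X := by
    have e := EA_le_cent h.ea hd.2 y hy
    have := conj_mem' hZ (mem_top d) hc
    have e2 : d⁻¹ * ⁅y, d * b⁆ * d = ⁅y, b⁆ := by
      simp only [commutatorElement_def]
      calc d⁻¹ * (y * (d * b) * y⁻¹ * (d * b)⁻¹) * d = d⁻¹ * (y * d) * b * y⁻¹ * b⁻¹ := by group
        _ = _ := by rw [e]; group
    rwa [e2] at this
  haveI := normal_Z Y
  set b' := g⁻¹ * b * g with hb'
  have hb'Y : b' ∈ Y := mem_cj.mp hb.2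
  set π := QuotientGroup.mk' (Y ⊓ center X) with hπ
  have h2 : (centralizer {π b'}).comap π = ⊤ := by
    have h3 : Y ⊔ zpowers (g⁻¹ * y * g) = ⊤ := h.um.eq_of_not_le le_sup_left le_top
      fun e => hg (e (mem_sup_right (mem_zpowers _)))
    refine top_le_iff.mp (h3.ge.trans (sup_le (fun c hc => ?_) (zpowers_le.mpr ?_)))
    · rw [mem_comap, mem_cent_singleton, ← map_mul, ← map_mul, EA_le_cent h.ea hc _ hb'Y]
    · have := (comm_mem_iff.mp h1).symm.conj (π g)⁻¹
      rw [mem_comap, mem_cent_singleton]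
      simpa [hb', hπ] using this.eq
  have h3 : pResidual p X ≤ centralizer (zpowers b' : Set X) := by
    rw [← resOf_top]
    refine resOf_le_iff.mpr fun x _ hx => mem_cent_of_stable hx (EA_isPGroup h.ea).to_inf_left
      (fun z hz => (mem_center_iff.mp hz.2 x).symm) ?_
    rintro _ ⟨k, rfl⟩
    rw [comm_mem_iff, map_zpow]
    exact Commute.zpow_left (mem_cent_singleton.mp (mem_comap.mp (h2.ge (mem_top x)))) k
  have h4 : ⊤ ≤ centralizer (zpowers b' : Set X) :=
    h.sup_res.ge.trans (sup_le ((EA_le_cent h.ea).trans (cent_anti (zpowers_le.mpr hb'Y))) h3)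
  have h5 : b' * g⁻¹ = g⁻¹ * b' := h4 (mem_top g⁻¹) b' (mem_zpowers _)
  have h6 : b = b' := by
    calc b = g * (b' * g⁻¹) := by rw [hb']; group
      _ = b' := by rw [h5]; group
  rwa [h6]

theorem mem_of_comm_cj {g y a : X} (hy : y ∈ cj g Y) (hy' : y ∉ pCore p X) (ha : a ∈ pCore p X)
    (hc : ⁅y, a⁆ ∈ Y ⊓ center X) : a ∈ cj g Y := by
  have hA : ⊤ ≤ normalizer (pCore p X : Set X) := le_normalizer_of_normal
  refine mem_cj.mpr (h.mem_of_comm (mem_cj.mp hy) (fun e => hy' ?_) (conj_mem' hA (mem_top g) ha) ?_)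
  · simpa [mul_assoc] using conj_mem hA (mem_top g) e
  · have := conj_mem' h.top_le_norm_Z (mem_top g) hc
    simpa [commutatorElement_def, mul_assoc] using this

theorem inf_cj_cj {g₁ g₂ : X} (hne : cj g₁ Y ≠ cj g₂ Y) : cj g₁ Y ⊓ cj g₂ Y ≤ Y ⊓ center X := by
  have h1 : g₁⁻¹ * g₂ ∉ normalizer (Y : Set X) := fun e => hne (by
    rw [← cj_eq_self e, ← cj_mul, mul_inv_cancel_left, cj_eq_self e])
  have := congrArg (cj g₁) (h.inf_cj h1)
  rw [cj_inf, ← cj_mul, mul_inv_cancel_left, cj_eq_self (h.top_le_norm_Z (mem_top g₁))] at this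
  exact this.le

theorem fpf_prod {g₁ g₂ y₁ y₂ a : X} (h1 : y₁ ∈ cj g₁ Y) (h2 : y₂ ∈ cj g₂ Y)
    (hn : ∀ k : ℕ, (y₁ * y₂) ^ p ^ k ∉ pCore p X) (ha : a ∈ pCore p X)
    (hc : ⁅y₁ * y₂, a⁆ ∈ Y ⊓ center X) : a ∈ Y ⊓ center X := by
  haveI := normal_Z Y
  have hA : ⊤ ≤ normalizer (pCore p X : Set X) := le_normalizer_of_normal
  have key : ∀ g, y₁ * y₂ ∉ cj g Y ⊔ pCore p X := fun g e => by
    obtain ⟨k, hk⟩ := isPGroup_iff.mp (isPGroup_sup (isPGroup_cj (EA_isPGroup h.ea) g)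
      pCore_isPGroup (le_top.trans hA)) _ e
    exact hn k (hk ▸ one_mem _)
  have hne : cj g₁ Y ≠ cj g₂ Y := fun e =>
    key g₂ (mem_sup_left (mul_mem (e ▸ h1) h2))
  have hy1 : y₁ ∉ pCore p X := fun e => key g₂ (mul_mem (mem_sup_right e) (mem_sup_left h2))
  have hy2 : y₂ ∉ pCore p X := fun e => key g₁ (mul_mem (mem_sup_left h1) (mem_sup_right e))
  have hZ : ∀ g, Y ⊓ center X ≤ cj g Y := fun g => by
    rw [← cj_eq_self (h.top_le_norm_Z (mem_top g))]; exact cj_mono g inf_le_left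
  have hn1 : ∀ g y, y ∈ cj g Y → ⁅y, a⁆ ∈ cj g Y := fun g y hy =>
    comm_le_left (le_norm_cj h.norm (hA (mem_top g))) (commutator_mem_commutator hy ha)
  have e : ⁅y₂, a⁆ = y₁⁻¹ * ⁅y₁ * y₂, a⁆ * y₁ * ⁅y₁⁻¹, a⁆ := by
    simp only [commutatorElement_def]; group
  have h3 : ⁅y₂, a⁆ ∈ Y ⊓ center X := by
    refine h.inf_cj_cj hne ⟨?_, hn1 _ _ h2⟩
    rw [e]
    exact mul_mem (hZ _ (conj_mem' h.top_le_norm_Z (mem_top _) hc)) (hn1 _ _ (inv_mem h1))
  have h4 : ⁅y₁, a⁆ ∈ Y ⊓ center X := by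
    rw [comm_mem_iff] at hc h3 ⊢
    rw [map_mul] at hc
    simpa using hc.mul_left h3.inv_left
  exact h.inf_cj_cj hne ⟨h.mem_of_comm_cj h1 hy1 ha h4, h.mem_of_comm_cj h2 hy2 ha h3⟩

/-- Elements that are not `p`-elements act without fixed points on `O_p / (Y ∩ Z)`. -/
theorem fpf {x a : X} (hx : ¬ ∃ k : ℕ, x ^ p ^ k = 1) (ha : a ∈ pCore p X)
    (hc : ⁅x, a⁆ ∈ Y ⊓ center X) : a ∈ Y ⊓ center X := by
  haveI := normal_Z Y
  set f := QuotientGroup.mk' (pCore p X) with hf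
  set π := QuotientGroup.mk' (Y ⊓ center X) with hπ
  have hfs : Function.Surjective f := QuotientGroup.mk'_surjective _
  have hfk : ∀ {z}, f z = 1 ↔ z ∈ pCore p X := QuotientGroup.eq_one_iff _
  have hpe : ∀ z : X, ∀ k : ℕ, f z ^ p ^ k = 1 → ∃ k : ℕ, z ^ p ^ k = 1 := fun z k hk => by
    rw [← map_pow, hfk] at hk
    obtain ⟨l, hl⟩ := isPGroup_iff.mp pCore_isPGroup _ hk
    exact ⟨k + l, by rw [pow_add, pow_mul, hl]⟩
  obtain ⟨u, ⟨k, hk⟩, hcom, g₁, g₂, y₁, h1', y₂, h2', e⟩ := h.rk.prod (f x)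
    fun ⟨k, hk⟩ => hx (hpe x k hk)
  obtain ⟨u, rfl⟩ := hfs u
  obtain ⟨g₁, rfl⟩ := hfs g₁
  obtain ⟨g₂, rfl⟩ := hfs g₂
  obtain ⟨y₁, h1, rfl⟩ : y₁ ∈ (cj g₁ Y).map f := (H85.map_cj f g₁ Y).ge h1'
  obtain ⟨y₂, h2, rfl⟩ : y₂ ∈ (cj g₂ Y).map f := (H85.map_cj f g₂ Y).ge h2'
  have hAA : ∀ b ∈ pCore p X, ∀ c ∈ pCore p X, Commute (π b) (π c) := fun b hb c hc =>
    comm_mem_iff.mp (h.comm_le (commutator_mem_commutator hb hc))
  have hmod : ∀ s t : X, f s = f t → ∀ c ∈ pCore p X, Commute (π s) (π c) →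
      Commute (π t) (π c) := fun s t e c hc h0 => by
    have : s⁻¹ * t ∈ pCore p X := hfk.mp (by rw [map_mul, map_inv, e, inv_mul_cancel])
    simpa using h0.mul_left (hAA _ this c hc)
  set W := pCore p X ⊓ (centralizer {π x}).comap π with hW
  have hWm : ∀ {c}, c ∈ W ↔ c ∈ pCore p X ∧ Commute (π x) (π c) := by
    intro c
    rw [hW, mem_inf, mem_comap, mem_cent_singleton]
    rfl
  by_contra hcon
  have hZW : Y ⊓ center X < W := by
    refine lt_of_le_of_ne (fun z hz => hWm.mpr ⟨h.Z_le hz, ?_⟩)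
      fun e => hcon (e.ge (hWm.mpr ⟨ha, comm_mem_iff.mp hc⟩))
    rw [show π z = 1 from (QuotientGroup.eq_one_iff _).mpr hz]
    exact Commute.one_right _
  obtain ⟨l, hl⟩ := hpe u k hk
  have huW : zpowers u ≤ normalizer (W : Set X) := by
    refine zpowers_le.mpr (H85.mem_normalizer_of_cj_le ?_)
    rintro _ ⟨c, hc, rfl⟩
    obtain ⟨c1, c2⟩ := hWm.mp hc
    have c3 := conj_mem le_normalizer_of_normal (mem_top u) c1
    refine hWm.mpr ⟨c3, hmod (u * x * u⁻¹) x ?_ _ c3 ?_⟩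
    · rw [map_mul, map_mul, ← hcom, map_inv, mul_inv_cancel_right]
    · simpa using c2.conj (π u)
  obtain ⟨v, hv, hv', hs⟩ := exists_central_mod (isPGroup_zpowers hl) pCore_isPGroup.to_inf_left
    huW (le_top.trans h.top_le_norm_Z) (le_top.trans h.top_le_norm_Z) hZW
  obtain ⟨v1, v2⟩ := hWm.mp hv
  refine hv' (h.fpf_prod h1 h2 (fun n hn => hx (hpe x (n + k) ?_)) v1 (comm_mem_iff.mpr
    (hmod (x * u) _ (by rw [map_mul, e, map_mul]) v v1 ?_)))
  · rw [← hfk, map_pow, map_mul, ← e, Commute.mul_pow hcom] at hn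
    have := congrArg (· ^ p ^ k) hn
    simp only [one_pow] at this
    rw [(Commute.pow_pow hcom _ _).mul_pow, ← pow_mul, ← pow_mul, mul_comm (p ^ n) (p ^ k),
      pow_mul (f u), hk, one_pow, mul_one] at this
    rw [pow_add, mul_comm, this]
  · rw [map_mul]
    exact v2.mul_left (comm_mem_iff.mp (hs u (mem_sup_left (mem_zpowers u))))

end LS

end Cfsg.Agent.H83
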