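import Cfsg.Agent.H83.Large

/-!
Existence of members of `𝔐_G(T)` (factorization families), and the structure of `ℌ_G(O_p(M))`.
-/

set_option autoImplicit false
open Subgroup Cfsg
open scoped Pointwise commutatorElement

namespace Cfsg.Agent.H83

variable {G : Type*} [Group G] {p : ℕ}

/-- `A ≪ B`: every element of `A` acts on `Y_A` like an element of `B`. -/
def LL (p : ℕ) (A B : Subgroup G) : Prop :=
  ∀ a ∈ A, ∃ b ∈ B, ∃ c ∈ centralizer (YY p A : Set G), b * c = a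

theorem LL.of_le {A B : Subgroup G} (h : A ≤ B) : LL p A B :=
  fun a ha => ⟨a, h ha, 1, one_mem _, mul_one a⟩

theorem LL.sup_eq {A B : Subgroup G} (h : LL p A B) :
    (dag p A ⊓ B) ⊔ centralizer (YY p A : Set G) = dag p A := by
  refine le_antisymm (sup_le inf_le_left le_sup_right) (sup_le (fun a ha => ?_) le_sup_right)
  obtain ⟨b, hb, c, hc, rfl⟩ := h a ha
  refine mul_mem (mem_sup_left ⟨?_, hb⟩) (mem_sup_right hc)
  have := (dag p A).mul_mem (mem_sup_left ha) ((dag p A).inv_mem (mem_sup_right hc))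
  simpa using this

theorem LL.trans {A B C : Subgroup G} (h : LL p A B) (h' : LL p B C) (hY : YY p A ≤ YY p B) :
    LL p A C := by
  intro a ha
  obtain ⟨b, hb, c, hc, rfl⟩ := h a ha
  obtain ⟨d, hd, e, he, rfl⟩ := h' b hb
  exact ⟨d, hd, e * c, mul_mem (cent_anti hY he) hc, (mul_assoc _ _ _).symm⟩

variable [Finite G] [hp : Fact p.Prime]

theorem LL.YY_le {T A B : Subgroup G} (hT : IsSylowIn p T ⊤) (hA : T ≤ A) (hB : T ≤ B)
    (hc : CharP p B) (h : LL p A B) : YY p A ≤ YY p B := by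
  have h1 : T ≤ dag p A ⊓ B := le_inf (hA.trans le_sup_left) hB
  refine (YY_le_of_sup_eq (L := dag p A ⊓ B) (M := A) (((YY_le_pCoreOf A).trans
    (hT.mono hA le_top).pCoreOf_le).trans h1) h.sup_eq).trans ?_
  exact YY_mono hc (hT.mono hB le_top) h1 inf_le_right

/-- Frattini reduction: a supplement to `C(Y_L)` with `Y = Y_L`. -/
theorem exists_reduced {T L K : Subgroup G} (hT : IsSylowIn p T ⊤) (hTL : T ≤ L) (hL : CharP p L)
    (hTK : T ≤ K) (e : K ⊔ centralizer (YY p L : Set G) = dag p L) :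
    (K ⊓ normalizer ((T ⊓ centralizer (YY p L : Set G) : Subgroup G) : Set G)) ⊔
        centralizer (YY p L : Set G) = dag p L ∧
      pCoreOf p (K ⊓ normalizer ((T ⊓ centralizer (YY p L : Set G) : Subgroup G) : Set G)) =
        T ⊓ centralizer (YY p L : Set G) ∧
      YY p (K ⊓ normalizer ((T ⊓ centralizer (YY p L : Set G) : Subgroup G) : Set G)) = YY p L ∧
      T ≤ K ⊓ normalizer ((T ⊓ centralizer (YY p L : Set G) : Subgroup G) : Set G) := by
  set Y := YY p L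
  set K' := K ⊓ normalizer ((T ⊓ centralizer (Y : Set G) : Subgroup G) : Set G)
  have hKY : K ≤ normalizer (Y : Set G) := (le_sup_left.trans e.le).trans (dag_le_norm L)
  have hTK' : T ≤ K' := le_inf hTK (le_norm_inf le_normalizer (le_norm_cent (hTK.trans hKY)))
  have e1 : K' ⊔ centralizer (Y : Set G) = dag p L :=
    (norm_sup_cent_eq (hT.mono hTK le_top) hKY).trans e
  have hYT : Y ≤ T := (YY_le_pCoreOf L).trans (hT.mono hTL le_top).pCoreOf_le
  have hred : PRed p K' Y := (pRed_YY L).of_sup_eq (hYT.trans hTK') e1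
  have e2 : pCoreOf p K' = T ⊓ centralizer (Y : Set G) :=
    pCoreOf_eq_of_red hred.red ((hT.mono hTK' le_top).inf_cent hred.norm) inf_le_right
  refine ⟨e1, e2, le_antisymm ?_ hred.le_YY, hTK'⟩
  have := YY_le_OZ (p := p) K'
  rwa [e2, ← YY_eq_OZ hL (hT.mono hTL le_top)] at this

theorem exists_frakM (hG : IsOfParabolicCharacteristic p G) {T L : Subgroup G}
    (hT : IsSylowIn p T ⊤) (hTL : T ≤ L) (hL : pCoreOf p L ≠ ⊥) :
    ∃ M, T ≤ M ∧ IsInFrakM p M ∧ LL p L M := by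
  have hYne : ∀ A : Subgroup G, T ≤ A → pCoreOf p A ≠ ⊥ → YY p A ≠ ⊥ := fun A h1 h2 =>
    YY_ne_bot (parChar_charP hG hT h1 h2) fun e => h2 (eq_bot_iff.mpr ((pCoreOf_le A).trans e.le))
  let P : Subgroup G → Prop := fun A => T ≤ A ∧ pCoreOf p A ≠ ⊥ ∧ LL p L A
  obtain ⟨Y₀, ⟨F₀, hF₀, rfl⟩, hmax⟩ := H85.exists_max_card (fun Y => ∃ A, P A ∧ YY p A = Y)
    ⟨_, L, ⟨hTL, hL, LL.of_le le_rfl⟩, rfl⟩
  have hstep : ∀ A B, P A → YY p A = YY p F₀ → T ≤ B → pCoreOf p B ≠ ⊥ → LL p A B →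
      P B ∧ YY p B = YY p F₀ := by
    intro A B hA e hB h0 hAB
    have h1 := hAB.YY_le hT hA.1 hB (parChar_charP hG hT hB h0)
    have h2 : P B := ⟨hB, h0, hA.2.2.trans hAB
      (hA.2.2.YY_le hT hTL hA.1 (parChar_charP hG hT hA.1 hA.2.1))⟩
    exact ⟨h2, (eq_of_le_of_card_ge (e ▸ h1) (hmax _ ⟨B, h2, rfl⟩)).symm⟩
  set Y := YY p F₀ with hY
  set F := normalizer (Y : Set G) with hF
  have hY0 : Y ≠ ⊥ := hYne _ hF₀.1 hF₀.2.1
  have hO : ∀ A, Y ≤ A → A ≤ F → pCoreOf p A ≠ ⊥ := fun A h1 h2 e =>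
    hY0 (eq_bot_iff.mpr ((le_pCoreOf h1 h2 (YY_isPGroup F₀)).trans e.le))
  have hTF : T ≤ F := hF₀.1.trans (le_norm_YY F₀)
  have hYT : Y ≤ T := (YY_le_pCoreOf F₀).trans (hT.mono hF₀.1 le_top).pCoreOf_le
  obtain ⟨hPF, hYF⟩ := hstep F₀ F hF₀ rfl hTF (hO F le_normalizer le_rfl)
    (LL.of_le (le_norm_YY F₀))
  have hdF : dag p F = F := by
    rw [dag, hYF]; exact sup_eq_left.mpr (centralizer_le_normalizer _)
  have htop : ∀ B, T ≤ B → pCoreOf p B ≠ ⊥ → LL p F B → B ≤ F := fun B h1 h2 h3 => by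
    have := le_norm_YY (p := p) B
    rwa [(hstep F B hPF hYF h1 h2 h3).2] at this
  obtain ⟨M, hMF, ⟨hTM, hM⟩, hmin⟩ := H81.exists_minimal_subgroup
    (fun K => T ≤ K ∧ K ⊔ centralizer (Y : Set G) = F) (H := F)
    ⟨hTF, sup_eq_left.mpr (centralizer_le_normalizer _)⟩
  obtain ⟨a1, a2, a3, a4⟩ := exists_reduced hT hTF (parChar_charP hG hT hPF.1 hPF.2.1) hTM
    (by rw [hdF, hYF, hM])
  rw [hYF] at a1 a2 a3 a4
  rw [hdF] at a1
  have e := hmin _ ⟨a4, a1⟩ inf_le_left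
  rw [e] at a2 a3
  have hFM : LL p F M := fun a ha => by
    rw [hYF]
    exact (mem_sup_cent hMF).mp (hM ▸ ha)
  have hM0 := hO M (hYT.trans hTM) hMF
  have hFc : F ∈ charPSubgroups p G := parChar_mem hG hT hTF hPF.2.1
  have hsyl : IsSylowIn p (pCoreOf p M) (M ⊓ centralizer (Y : Set G)) := by
    rw [a2]; exact (hT.mono hTM le_top).inf_cent hMF
  refine ⟨M, hTM, ⟨parChar_mem hG hT hTM hM0, ?_⟩, (hstep F M hPF hYF hTM hM0 hFM).1.2.2⟩
  change dag p M ∈ _ ∧ (∀ X ∈ _, M ≤ X → X = dag p M) ∧ YY p M = YY p (dag p M) ∧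
    IsPClosed p (M ⊓ centralizer (YY p M : Set G) : Subgroup G) ∧
    ((M ⊓ centralizer (YY p M : Set G)).subgroupOf M).map _ ≤ _
  rw [dag, a3, hM]
  refine ⟨⟨hFc, fun X hX hFX => le_antisymm (htop X (hTF.trans hFX)
    (mem_charPSubgroups.mp hX).1 (LL.of_le hFX)) hFX⟩, fun X hX hMX => ?_, hYF.symm, ?_, ?_⟩
  · refine (hX.2 F hFc (htop X (hTM.trans hMX) (mem_charPSubgroups.mp hX.1).1 ?_)).symm
    exact hFM.trans (LL.of_le hMX) (by rw [hYF, a3])
  · refine H85.isPClosed_coe_iff.mpr fun R h1 h2 => ?_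
    have hn : M ⊓ centralizer (Y : Set G) ≤ normalizer (pCoreOf p M : Set G) :=
      inf_le_left.trans (le_norm_pCoreOf M)
    exact (hsyl.le_of_norm' h1 h2 (h1.trans hn)).trans (le_pCoreOf hsyl.le hn hsyl.isPGroup)
  · set f := QuotientGroup.mk' (pCore p M)
    have hf : Function.Surjective f := QuotientGroup.mk'_surjective _
    have hCn : M ≤ normalizer ((M ⊓ centralizer (Y : Set G) : Subgroup G) : Set G) :=
      le_norm_inf le_normalizer (le_norm_cent hMF)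
    refine H3.le_frattini_iff.mpr fun X hX => ?_
    by_contra hn
    have h1 := hX.2 _ (left_lt_sup.mpr hn)
    set K := (X.comap f).map M.subtype with hK
    have hKM : K ≤ M := map_subtype_le _
    have h2 : K ⊔ (M ⊓ centralizer (Y : Set G)) = M := by
      have h3 := congrArg (fun U => (U.comap f).map M.subtype) h1
      simp only [comap_top] at h3
      rw [← comap_sup_eq f _ _ hf, comap_map_eq, QuotientGroup.ker_mk', Subgroup.map_sup,
        Subgroup.map_sup, subgroupOf_map_of_le inf_le_left, ← MonoidHom.range_eq_map,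
        range_subtype] at h3
      exact (congrArg (K ⊔ ·) (sup_eq_left.mpr hsyl.le)).symm.trans h3
    have hOK : pCoreOf p M ≤ K := map_mono (by
      have := ker_le_comap f X
      rwa [QuotientGroup.ker_mk'] at this)
    obtain ⟨U, hU⟩ := exists_isSylowIn p K
    have hU' := hU.sup_of_norm hsyl hOK (hKM.trans hCn)
    rw [h2] at hU'
    obtain ⟨m, hm, hmU⟩ := hU'.exists_conj (hT.mono hTM le_top)
    have h4 : cj m K = M := by
      refine hmin _ ⟨hmU ▸ cj_mono m hU.le, ?_⟩ (cj_le_of_mem hKM hm)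
      have h5 := congrArg (cj m) h2
      rw [cj_sup, cj_eq_self (hCn hm), cj_eq_self (le_normalizer hm)] at h5
      rw [← hM]
      conv_rhs => rw [← h5]
      rw [sup_assoc, sup_eq_right.mpr (inf_le_right : M ⊓ centralizer (Y : Set G) ≤ _)]
    have h5 : K = M := by
      rw [← cj_inj (g := m), h4, cj_eq_self (le_normalizer hm)]
    apply hX.1
    rw [← map_comap_eq_self_of_surjective hf X, ← map_subtype_subgroupOf (X.comap f), ← hK, h5,
      subgroupOf_self, map_top_of_surjective f hf]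

theorem exists_frakM' (hG : IsOfParabolicCharacteristic p G) {T L : Subgroup G}
    (hT : IsSylowIn p T ⊤) (hTL : T ≤ L) (hL : pCoreOf p L ≠ ⊥) :
    ∃ M Ls : Subgroup G, T ≤ M ∧ IsInFrakM p M ∧ T ≤ Ls ∧ Ls ≤ M ∧ Ls ∈ charPSubgroups p G ∧
      YY p L = YY p Ls ∧ YY p L ≤ YY p M ∧
      dag p L = Ls ⊔ centralizer (YY p L : Set G) := by
  obtain ⟨M, hTM, hM, hLM⟩ := exists_frakM hG hT hTL hL
  have hc := parChar_charP hG hT hTL hL
  obtain ⟨a1, a2, a3, a4⟩ := exists_reduced hT hTL hc (le_inf (hTL.trans le_sup_left) hTM)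
    hLM.sup_eq
  refine ⟨M, _, hTM, hM, a4, inf_le_left.trans inf_le_right, parChar_mem hG hT a4 fun e => ?_,
    a3.symm, hLM.YY_le hT hTL hTM (charP_of_mem_charPSubgroups hM.1), a1.symm⟩
  refine YY_ne_bot hc (fun e' => hL (eq_bot_iff.mpr ((pCoreOf_le L).trans e'.le))) ?_
  rw [← a3, eq_bot_iff, ← e]
  exact YY_le_pCoreOf _

end Cfsg.Agent.H83
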