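import Cfsg.Agent.H83.J4A

/-!
# The coded centraliser
-/

set_option autoImplicit false
set_option maxRecDepth 1000000

namespace Cfsg.Agent.H83.J4

open H42 Cfsg Subgroup
open H49 (XS LX cact)

theorem chk_R : (mR ^^^ mm mR mR) = mI := by decide +kernel

theorem R_sum {a : ℕ} (ha : a < 4096) : a ^^^ mv mR a ^^^ mv mR (mv mR a) = 0 := by
  rw [← mv_mm mR okM_mR ha, Nat.xor_assoc, ← mv_xor_left _ _ ha, chk_R, mv_mI ha, Nat.xor_self]

theorem chk_KL2 : ∀ i < 6, (ko (nth KL i) = 0 → mm (nth ML i) mR ≠ mm mR (mm mR (nth ML i))) ∧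
    (ko (nth KL i) ≠ 0 → mm (nth ML i) mR ≠ mm mR (nth ML i)) := by decide +kernel

theorem qf_cls {a b : ℕ} (ha : a < 4096) (hb : b < 4096) (h : cls a = cls b) : qf a = qf b := by
  rw [qf_eq ha, qf_eq hb, h]

theorem act_kmul {c d : ℕ} (hc : inD2 (kp c) = true) (hd : inD2 (kp d) = true)
    (oc : okM (km c) = true) (od : okM (km d) = true)
    (cd : ∀ v < 4096, cls (mv (km d) v) = cls v) (x : ℕ) :
    act (kmul c d) x = act c (act d x) := by
  have o : okM (km (kmul c d)) = true := by rw [km_kmul]; exact okM_mm oc _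
  apply eq_of_lo_hi
  · rw [lo_act o, lo_act oc, lo_act od, km_kmul, mv_mm _ od (lo_lt x)]
  · rw [hi_act o, hi_act oc, hi_act od, lo_act od, ko_kmul hc hd,
      qf_cls (mv_lt od (lo_lt x)) (lo_lt x) (cd _ (lo_lt x)), Nat.and_xor_distrib_right,
      Nat.xor_assoc, Nat.xor_comm (ko c &&& _)]

namespace Hyp

variable {G : Type*} [Group G] (h : Hyp G)

/-- An element normalising the group of order three, with its code. -/
structure KD (e : ℕ → G) (k : G) (c : ℕ) : Prop where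
  mem : k ∈ h.H
  inM : inM (kp c) = true
  inD : inD2 (kp c) = true
  φ : h.φ k = toM (kp c)
  ok : okM (km c) = true
  conj : ∀ x < 8192, k * e x * k⁻¹ = e (act c x)
  ρ : k * h.ρ * k⁻¹ = h.ρ * h.ρ ^ ko c
  cls : ∀ v < 4096, cls (mv (km c) v) = cls v

variable {h} {e : ℕ → G}

theorem KD.mul {k k' : G} {c c' : ℕ} (a : h.KD e k c) (b : h.KD e k' c') :
    h.KD e (k * k') (kmul c c') where
  mem := h.H.mul_mem a.mem b.mem
  inM := by rw [kp_kmul]; exact inM_pmul a.inM b.inM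
  inD := by
    have m : H42.inM (kp (kmul c c')) = true := by rw [kp_kmul]; exact inM_pmul a.inM b.inM
    apply inD2_of_mem m
    rw [kp_kmul, toM_pmul a.inM b.inM, ← a.φ, ← b.φ]
    exact mul_mem (h.φ_mem _) (h.φ_mem _)
  φ := by rw [h.φ_mul a.mem b.mem, kp_kmul, toM_pmul a.inM b.inM, a.φ, b.φ]
  ok := by rw [km_kmul]; exact okM_mm a.ok _
  conj x hx := by
    rw [act_kmul a.inD b.inD a.ok b.ok b.cls, ← a.conj _ (act_lt b.ok hx), ← b.conj x hx]; group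
  ρ := by
    have e1 : k * k' * h.ρ * (k * k')⁻¹ = k * (k' * h.ρ * k'⁻¹) * k⁻¹ := by group
    rw [e1, b.ρ, ← conj_mul, ← conj_pow, a.ρ, ko_kmul a.inD b.inD]
    have h1 := ko_le c
    have h2 := ko_le c'
    have h3 := h.ρρρ
    generalize ko c = m at *
    generalize ko c' = n at *
    interval_cases m <;> interval_cases n <;> simp
    rw [← mul_assoc, h3, one_mul]
  cls v hv := by rw [km_kmul, mv_mm _ b.ok hv, a.cls _ (mv_lt b.ok hv), b.cls _ hv]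

theorem KD.of_k1 {k : G} (hk : k ∈ h.Q) (h1 : ∀ x < 8192, k * e x * k⁻¹ = e x)
    (h2 : k * h.ρ * k⁻¹ = h.ρ) : h.KD e k k1 where
  mem := h.Q_le hk
  inM := by rw [kp_k1]; exact inM_pid
  inD := by decide +kernel
  φ := by rw [kp_k1, toM_pid, h.φ_Q hk]
  ok := by rw [km_k1]; exact okM_mI
  conj x hx := by rw [act_k1, h1 x hx]
  ρ := by rw [ko_k1, h2]; simp
  cls v hv := by rw [km_k1, mv_mI hv]

theorem KD.one : h.KD e 1 k1 := KD.of_k1 h.Q.one_mem (by simp) (by simp)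

theorem KD.pw {k : G} {c : ℕ} (a : h.KD e k c) (n : ℕ) : h.KD e (k ^ n) (kpw c n) :=
  pwN_rel (h.KD e) KD.one (fun _ _ _ _ => KD.mul) a n

theorem KD.inv [Finite G] {k : G} {c : ℕ} (a : h.KD e k c) : ∃ c', h.KD e k⁻¹ c' := by
  refine ⟨kpw c (orderOf k - 1), ?_⟩
  have : k⁻¹ = k ^ (orderOf k - 1) := by
    rw [inv_eq_iff_mul_eq_one, ← pow_succ', Nat.sub_add_cancel (orderOf_pos k), pow_orderOf_eq_one]
  rw [this]; exact a.pw _

variable (h)

/-- The norm with respect to the element of order three. -/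
def nrm (x : G) : G := x * (h.ρ * x * h.ρ⁻¹) * (h.ρ * (h.ρ * x * h.ρ⁻¹) * h.ρ⁻¹)

namespace Lift

variable {h} {L : G → ℕ → Prop} {g : ℕ → G} (l : h.Lift L g)
include l

theorem normalise : ∃ g', h.Lift L g' ∧ ∀ i < 6, g' i * h.ρ * (g' i)⁻¹ = h.ρ ∨
    g' i * h.ρ * (g' i)⁻¹ = h.ρ * h.ρ := by
  have := fun i (hi : i < 6) => h.exists_norm (l.gH i hi)
  choose! b hb hb' using this
  refine ⟨fun i => if i = 0 then h.ρ else b i * g i, ⟨l.mem, l.lt, l.mul, l.eq, l.inj, l.z, l.ex,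
    l.ex', by simp, fun i hi => ?_, fun i hi => ?_, fun i hi x a hx => ?_⟩, fun i hi => ?_⟩
  · split_ifs
    · exact h.ρH
    · exact h.H.mul_mem (h.Q_le (hb i hi)) (l.gH i hi)
  · split_ifs with e
    · rw [e, ← l.g0]; exact l.gφ 0 (by norm_num)
    · rw [h.φ_mul (h.Q_le (hb i hi)) (l.gH i hi), h.φ_Q (hb i hi), one_mul, l.gφ i hi]
  · split_ifs with e
    · rw [e, ← l.g0]; exact l.conj 0 (by norm_num) hx
    · have := l.conjQ (hb i hi) (l.conj i hi hx)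
      have e1 : b i * g i * x * (b i * g i)⁻¹ = b i * (g i * x * (g i)⁻¹) * (b i)⁻¹ := by group
      rwa [e1]
  · beta_reduce; split_ifs with e
    · left; simp
    · exact hb' i hi

theorem conjρ {x : G} {a : ℕ} (hx : L x a) : L (h.ρ * x * h.ρ⁻¹) (mv mR a) := by
  have := l.conj 0 (by norm_num) hx
  rwa [l.g0] at this

theorem zero {x : G} (hx : L x 0) : ∃ n ≤ 1, x = h.z ^ n := by
  obtain ⟨n, hn, e⟩ := l.eq' hx l.one
  exact ⟨n, hn, by rw [e, one_mul]⟩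

theorem nrm_eq {x : G} {a : ℕ} (hx : L x a) : ∃ n ≤ 1, h.nrm x = h.z ^ n := by
  have := l.mul (l.mul hx (l.conjρ hx)) (l.conjρ (l.conjρ hx))
  rw [R_sum (l.lt hx)] at this
  exact l.zero this

theorem nrm_zpow {x : G} {a : ℕ} (hx : L x a) (n : ℕ) :
    h.nrm (x * h.z ^ n) = h.nrm x * h.z ^ n := by
  have c : ∀ {y : G}, y ∈ h.H → h.ρ * (y * h.z ^ n) * h.ρ⁻¹ = h.ρ * y * h.ρ⁻¹ * h.z ^ n := by
    intro y hy
    rw [mul_assoc _ _ (h.z ^ n), h.comm_zpow (h.H.inv_mem h.ρH)]; group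
  have m1 := h.Q_le (l.mem (l.conjρ hx))
  have m2 := h.Q_le (l.mem (l.conjρ (l.conjρ hx)))
  unfold nrm
  rw [c (h.Q_le (l.mem hx)), c m1]
  generalize h.ρ * (h.ρ * x * h.ρ⁻¹) * h.ρ⁻¹ = x2 at *
  generalize h.ρ * x * h.ρ⁻¹ = x1 at *
  calc _ = x * (h.z ^ n * x1) * (h.z ^ n * x2) * h.z ^ n := by group
    _ = x * x1 * (h.z ^ n * x2) * (h.z ^ n * h.z ^ n) := by
      rw [← h.comm_zpow m1, ← h.comm_zpow m2]
      have := h.comm_zpow m2 n
      calc _ = x * x1 * (h.z ^ n * x2) * h.z ^ n * h.z ^ n := by group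
        _ = _ := by rw [← this]; group
    _ = _ := by rw [h.zpow_sq, ← h.comm_zpow m2]; group

theorem nrm_uniq {x y : G} {a : ℕ} (hx : L x a) (hy : L y a) (e : h.nrm x = h.nrm y) : x = y := by
  rcases l.eq hx hy with e' | e'
  · exact e'
  · have := l.nrm_zpow hy 1
    rw [pow_one, ← e', e] at this
    exact absurd this.symm (h.xs.mul_z_ne _)

theorem exists_sec {a : ℕ} (ha : a < 4096) : ∃ x, L x a ∧ h.nrm x = 1 := by
  obtain ⟨x, hx⟩ := l.ex a ha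
  obtain ⟨n, -, e⟩ := l.nrm_eq hx
  exact ⟨x * h.z ^ n, l.mul_zpow hx n, by rw [l.nrm_zpow hx, e, h.zpow_sq]⟩

theorem nrm_mul {x y : G} {a b : ℕ} (hx : L x a) (hy : L y b) (ex : h.nrm x = 1)
    (ey : h.nrm y = 1) : h.nrm (x * y) = h.z ^ cc a b := by
  have hx1 := l.conjρ hx
  have hx2 := l.conjρ hx1
  have hy1 := l.conjρ hy
  have hy2 := l.conjρ hy1
  have c1 := l.forms.2 hy hx1
  have c2 := l.forms.2 hy hx2
  have c3 := l.forms.2 hy1 hx2
  have z1 := h.comm_zpow (h.Q_le (l.mem hy1))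
  have z2 := h.comm_zpow (h.Q_le (l.mem hy2))
  have z3 := h.comm_zpow (h.Q_le (l.mem hx2))
  unfold nrm at *
  rw [← conj_mul, ← conj_mul, cc_eq (l.lt hx) (l.lt hy), h.zpow_xor, h.zpow_xor]
  generalize h.ρ * (h.ρ * x * h.ρ⁻¹) * h.ρ⁻¹ = x2 at *
  generalize h.ρ * x * h.ρ⁻¹ = x1 at *
  generalize h.ρ * (h.ρ * y * h.ρ⁻¹) * h.ρ⁻¹ = y2 at *
  generalize h.ρ * y * h.ρ⁻¹ = y1 at *
  generalize bf b (mv mR a) = n1 at *
  generalize bf b (mv mR (mv mR a)) = n2 at *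
  generalize bf (mv mR b) (mv mR (mv mR a)) = n3 at *
  calc _ = x * (y * x1) * (y1 * x2) * y2 := by group
    _ = x * x1 * y * (h.z ^ n1 * x2) * y1 * (h.z ^ n3 * y2) := by rw [c1, c3]; group
    _ = x * x1 * (y * x2) * (h.z ^ n1 * y1) * y2 * h.z ^ n3 := by rw [← z3, ← z2]; group
    _ = x * x1 * x2 * y * (h.z ^ n2 * y1) * (h.z ^ n1 * y2) * h.z ^ n3 := by rw [c2, ← z1]; group
    _ = x * x1 * x2 * y * y1 * (h.z ^ n2 * y2) * h.z ^ n1 * h.z ^ n3 := by rw [← z1, ← z2]; group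
    _ = (x * x1 * x2) * (y * y1 * y2) * (h.z ^ n2 * h.z ^ n1) * h.z ^ n3 := by rw [← z2]; group
    _ = _ := by rw [ex, ey, ← pow_add, add_comm, pow_add]; group

theorem nrm_conj1 {k x : G} (hk : k * h.ρ * k⁻¹ = h.ρ) : h.nrm (k * x * k⁻¹) = k * h.nrm x * k⁻¹ := by
  have c : ∀ y, h.ρ * (k * y * k⁻¹) * h.ρ⁻¹ = k * (h.ρ * y * h.ρ⁻¹) * k⁻¹ := fun y => by
    conv_lhs => rw [← hk]
    group
  unfold nrm
  rw [c, c]; group

theorem nrm_conj2 {k x : G} {a : ℕ} (hkH : k ∈ h.H) (hk : k * h.ρ * k⁻¹ = h.ρ * h.ρ) (hx : L x a)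
    (ex : h.nrm x = 1) : h.nrm (k * x * k⁻¹) = h.z ^ qf a := by
  have e0 : k * (h.ρ * h.ρ) * k⁻¹ = h.ρ := by
    rw [← conj_mul, hk, ← mul_assoc, h.ρρρ, one_mul]
  have c : ∀ y, h.ρ * (k * y * k⁻¹) * h.ρ⁻¹ = k * (h.ρ * (h.ρ * y * h.ρ⁻¹) * h.ρ⁻¹) * k⁻¹ := fun y => by
    conv_lhs => rw [← e0]
    group
  have c4 : h.ρ * (h.ρ * (h.ρ * (h.ρ * x * h.ρ⁻¹) * h.ρ⁻¹) * h.ρ⁻¹) * h.ρ⁻¹ = h.ρ * x * h.ρ⁻¹ := by
    calc _ = (h.ρ * h.ρ * h.ρ) * (h.ρ * x * h.ρ⁻¹) * (h.ρ * h.ρ * h.ρ)⁻¹ := by group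
      _ = _ := by rw [h.ρρρ]; group
  have x1 := l.conjρ hx
  have x2 := l.conjρ x1
  have c1 := l.forms.2 x2 x1
  rw [bf_symm (l.lt x2) (l.lt x1), bf_R (l.lt hx)] at c1
  unfold nrm at *
  rw [c, c, c4, conj_mul, conj_mul, mul_assoc x, c1, ← mul_assoc x, ← mul_assoc x, ex, one_mul,
    h.comm_zpow hkH, mul_inv_cancel_right]

end Lift

end Hyp

/-- The coded centraliser. -/
structure JA (G : Type*) [Group G] extends Hyp G where
  /-- the elements of the extraspecial group -/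
  e : ℕ → G
  /-- the generators -/
  k : ℕ → G
  e_mem : ∀ x < 8192, e x ∈ Q
  e_mul : ∀ x < 8192, ∀ y < 8192, e x * e y = e (qm x y)
  e_inj : ∀ x < 8192, ∀ y < 8192, e x = e y → x = y
  e_surj : ∀ q ∈ Q, ∃ x < 8192, e x = q
  e_z : e 4096 = z
  k0 : k 0 = ρ
  kd : ∀ i < 6, toHyp.KD e (k i) (nth KL i)

theorem Hyp.Lift.exists_JA {G : Type*} [Group G] {h : Hyp G} {L : G → ℕ → Prop} {g : ℕ → G}
    (l : h.Lift L g) : ∃ J : JA G, J.toHyp = h := by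
  obtain ⟨g, l, hg⟩ := l.normalise
  have := fun a (ha : a < 4096) => l.exists_sec ha
  choose! s hs hs' using this
  have s0 : s 0 = 1 := l.nrm_uniq (hs 0 (by norm_num)) l.one (by rw [hs' 0 (by norm_num)]; simp [Hyp.nrm])
  have sm : ∀ a < 4096, ∀ b < 4096, s a * s b = s (a ^^^ b) * h.z ^ cc a b := by
    intro a ha b hb
    have h1 := l.mul (hs a ha) (hs b hb)
    have := l.nrm_uniq (l.mul_zpow h1 (cc a b)) (hs _ (xor_lt12 ha hb)) (by
      rw [l.nrm_zpow h1, l.nrm_mul (hs a ha) (hs b hb) (hs' a ha) (hs' b hb), h.zpow_sq,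
        hs' _ (xor_lt12 ha hb)])
    rw [← this, mul_assoc (s a * s b), h.zpow_sq, mul_one]
  have Le : ∀ x, L (s (lo x) * h.z ^ hi x) (lo x) := fun x => l.mul_zpow (hs _ (lo_lt x)) _
  have sH : ∀ x, s (lo x) ∈ h.H := fun x => h.Q_le (l.mem (hs _ (lo_lt x)))
  refine ⟨⟨h, fun x => s (lo x) * h.z ^ hi x, g, fun x _ => l.mem (Le x), ?_, ?_, ?_, ?_, l.g0, ?_⟩, rfl⟩
  · intro x _ y _
    rw [lo_qm, hi_qm, h.zpow_xor, h.zpow_xor, mul_assoc, ← mul_assoc (h.z ^ hi x),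
      ← h.comm_zpow (sH y), ← mul_assoc, ← mul_assoc, sm _ (lo_lt x) _ (lo_lt y)]
    simp only [mul_assoc, ← pow_add]
    congr 2; omega
  · intro x hx y hy e
    have e1 : lo x = lo y := l.inj (Le x) (by rw [e]; exact Le y)
    rw [e1] at e
    exact eq_of_lo_hi e1 (h.zpow_inj (hi_le hx) (hi_le hy) (mul_left_cancel e))
  · intro q hq
    obtain ⟨a, ha⟩ := l.ex' q hq
    obtain ⟨n, hn, e⟩ := l.eq' ha (hs a (l.lt ha))
    have lt := l.lt ha
    refine ⟨a + 4096 * n, by omega, ?_⟩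
    rw [e, show lo (a + 4096 * n) = a by rw [lo_eq]; omega, show hi (a + 4096 * n) = n by
      rw [hi_eq]; omega]
  · show s 0 * h.z ^ 1 = h.z
    rw [s0]; simp
  · intro i hi
    obtain ⟨k1, k2, k3, k4, -⟩ := chk_KL i hi
    have hρ : g i * h.ρ * (g i)⁻¹ = h.ρ * h.ρ ^ ko (nth KL i) := by
      have key : ∀ a < 4096, L (g i * h.ρ * (g i)⁻¹ * (g i * s a * (g i)⁻¹) * (g i * h.ρ * (g i)⁻¹)⁻¹)
          (mv (mm (nth ML i) mR) a) := by
        intro a ha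
        have := l.conj i hi (l.conjρ (hs a ha))
        rw [mv_mm _ okM_mR ha]
        convert this using 1; group
      rcases hg i hi with e | e
      · have : ko (nth KL i) = 0 := by
          by_contra hne
          apply (chk_KL2 i hi).2 hne
          refine eq_of_mv_eq (mm_lt _ _) (mm_lt _ _) fun a ha => l.inj (key a ha) ?_
          rw [e, mv_mm _ k3 ha]
          exact l.conjρ (l.conj i hi (hs a ha))
        rw [this, e]; simp
      · have : ko (nth KL i) = 1 := by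
          by_contra hne
          have := ko_le (nth KL i)
          apply (chk_KL2 i hi).1 (by omega)
          refine eq_of_mv_eq (mm_lt _ _) (mm_lt _ _) fun a ha => l.inj (key a ha) ?_
          rw [e, mv_mm _ (okM_mm okM_mR _) ha, mv_mm _ k3 ha]
          convert l.conjρ (l.conjρ (l.conj i hi (hs a ha))) using 1; group
        rw [this, e]; simp
    have ok : okM (km (nth KL i)) = true := by rw [k2, k3]
    refine ⟨l.gH i hi, by rw [k1]; exact (MS.inM_PL hi).1, by rw [k1]; exact (MS.inM_PL hi).2,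
      by rw [k1, l.gφ i hi], ok, fun x _ => ?_, hρ, fun v hv => by
        rw [k2]; exact beq_iff.mp (of_allB k4 hv)⟩
    have h1 := l.conj i hi (hs _ (lo_lt x))
    have h2 : g i * s (lo x) * (g i)⁻¹ =
        s (mv (nth ML i) (lo x)) * h.z ^ (ko (nth KL i) &&& qf (lo x)) := by
      apply l.nrm_uniq h1 (l.mul_zpow (hs _ (l.lt h1)) _)
      rw [l.nrm_zpow (hs _ (l.lt h1)), hs' _ (l.lt h1), one_mul]
      have := ko_le (nth KL i)
      generalize ko (nth KL i) = m at *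
      interval_cases m
      · rw [l.nrm_conj1 (by simpa using hρ), hs' _ (lo_lt x)]; simp
      · rw [l.nrm_conj2 (l.gH i hi) (by simpa using hρ) (hs _ (lo_lt x)) (hs' _ (lo_lt x))]
        have := qf_le (lo x)
        generalize qf (lo x) = n at *
        interval_cases n <;> rfl
    show g i * (s (lo x) * h.z ^ J4.hi x) * (g i)⁻¹ = s (lo _) * h.z ^ J4.hi _
    rw [lo_act ok, hi_act ok, k2, Nat.xor_comm, h.zpow_xor, ← mul_assoc (s _), ← h2,
      ← conj_mul, h.comm_zpow (l.gH i hi), mul_inv_cancel_right]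

theorem Hyp.exists_JA {G : Type*} [Group G] [Finite G] (h : Hyp G) :
    ∃ J : JA G, J.z = h.z ∧ J.Q = h.Q ∧ zpowers J.ρ = zpowers h.ρ := by
  rcases h.exists_lift with ⟨L, g, l⟩ | ⟨L, g, l⟩
  · obtain ⟨J, e⟩ := l.exists_JA
    exact ⟨J, by rw [← e], by rw [← e], by rw [← e]⟩
  · obtain ⟨J, e⟩ := l.exists_JA
    refine ⟨J, by rw [e]; rfl, by rw [e]; rfl, ?_⟩
    rw [e]
    show zpowers (h.ρ * h.ρ) = _
    rw [← h.ρ_inv, zpowers_inv]

theorem chk_gen' : okW 6 [1, 2, 2, 2, 2, 3, 1, 1, 1, 1, 1, 1, 1, 1, 1, 1, 4, 1, 2, 2, 2, 2, 1, 5] = true ∧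
    kp (kW [1, 2, 2, 2, 2, 3, 1, 1, 1, 1, 1, 1, 1, 1, 1, 1, 4, 1, 2, 2, 2, 2, 1, 5]) = 11730311429057778731645396677274711 ∧
    okW 6 [4, 1, 1, 1, 1, 1, 1, 1, 1, 1, 1, 1, 1, 1, 1, 1, 1, 1, 1, 1, 1, 4, 1, 1, 1, 1, 1, 1, 1, 1, 1, 1, 2, 2, 4, 1, 2, 1, 1, 1, 1, 1, 1, 1, 1, 1, 1, 5] = true ∧
    kp (kW [4, 1, 1, 1, 1, 1, 1, 1, 1, 1, 1, 1, 1, 1, 1, 1, 1, 1, 1, 1, 1, 4, 1, 1, 1, 1, 1, 1, 1, 1, 1, 1, 2, 2, 4, 1, 2, 1, 1, 1, 1, 1, 1, 1, 1, 1, 1, 5]) = 4001038477237513749057046897007159 := by decide +kernel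

/-- The code of the element of order three. -/
def kR : ℕ := 391114886050946221158770407116504396703415646368268169389055278461303335512865666075694565408

theorem kR_eq : nth KL 0 = kR := by decide +kernel
theorem kp_kR : kp kR = pid := by decide +kernel
theorem km_kR : km kR = mR := by decide +kernel
theorem ko_kR : ko kR = 0 := by decide +kernel

theorem lo_zero : lo 0 = 0 := rfl
theorem hi_zero : hi 0 = 0 := rfl
theorem qm_zero_left (x : ℕ) : qm 0 x = x := by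
  apply eq_of_lo_hi
  · rw [lo_qm, lo_zero, Nat.zero_xor]
  · rw [hi_qm, lo_zero, hi_zero, cc_zero_left, Nat.zero_xor, Nat.xor_zero]
theorem qm_zero_right (x : ℕ) : qm x 0 = x := by
  apply eq_of_lo_hi
  · rw [lo_qm, lo_zero, Nat.xor_zero]
  · rw [hi_qm, lo_zero, hi_zero, cc_zero_right, Nat.xor_zero, Nat.xor_zero]

namespace JA

variable {G : Type*} [Group G] (J : JA G)

/-- An element normalising the group of order three, with its code. -/
abbrev KD (k : G) (c : ℕ) : Prop := J.toHyp.KD J.e k c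

/-- The centraliser. -/
abbrev HH : Subgroup G := J.toHyp.H

theorem e_zero : J.e 0 = 1 := by
  have := J.e_mul 0 (by norm_num) 0 (by norm_num)
  rw [qm_zero_left] at this
  simpa using this

theorem e_inv {x : ℕ} (hx : x < 8192) : (J.e x)⁻¹ = J.e (qinv x) :=
  inv_eq_of_mul_eq_one_right (by rw [J.e_mul x hx _ (qinv_lt hx), qm_qinv, J.e_zero])

theorem e_mul_z {x : ℕ} (hx : x < 8192) : J.e x * J.z = J.e (x ^^^ 4096) := by
  rw [← J.e_z, J.e_mul x hx _ (by norm_num), qm_z]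

theorem e_H {x : ℕ} (hx : x < 8192) : J.e x ∈ J.HH := J.toHyp.Q_le (J.e_mem x hx)

theorem φ_e {x : ℕ} (hx : x < 8192) : J.toHyp.φ (J.e x) = 1 := J.toHyp.φ_Q (J.e_mem x hx)

theorem e_shift {n : ℕ} (hn : n ≤ 1) : J.e (n <<< 12) = J.z ^ n := by
  interval_cases n
  · simpa using J.e_zero
  · simpa using J.e_z

theorem e_sq {x : ℕ} (hx : x < 8192) : J.e x * J.e x = J.z ^ qf (lo x) := by
  rw [J.e_mul x hx x hx, qm_self, J.e_shift (qf_le _)]

theorem e_lo {x y : ℕ} (hx : x < 8192) (hy : y < 8192) (h : lo x = lo y) :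
    J.e x = J.e y ∨ J.e x = J.e y * J.z := by
  by_cases e : hi x = hi y
  · left; rw [eq_of_lo_hi h e]
  · right
    rw [J.e_mul_z hy]; congr 1
    apply eq_of_lo_hi
    · rw [lo_xor, h]; exact (Nat.xor_zero _).symm
    · rw [hi_xor]
      have := hi_le hx; have := hi_le hy
      show _ = _ ^^^ 1
      generalize hi x = a at *; generalize hi y = b at *
      interval_cases a <;> interval_cases b <;> simp_all

theorem lo_of_e {x y : ℕ} (hx : x < 8192) (hy : y < 8192)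
    (h : J.e x = J.e y ∨ J.e x = J.e y * J.z) : lo x = lo y := by
  rcases h with h | h
  · rw [J.e_inj x hx y hy h]
  · rw [J.e_mul_z hy] at h
    rw [J.e_inj x hx _ (xor_lt13 hy (by norm_num)) h, lo_xor]; exact Nat.xor_zero _

theorem e_comm {x y : ℕ} (hx : x < 8192) (hy : y < 8192) :
    J.e x * J.e y = J.e y * J.e x ↔ bf (lo x) (lo y) = 0 := by
  rw [J.e_mul x hx y hy, J.e_mul y hy x hx, ← cc_cc (lo_lt x) (lo_lt y)]
  constructor
  · intro e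
    have := congrArg hi (J.e_inj _ (qm_lt hx hy) _ (qm_lt hy hx) e)
    rw [hi_qm, hi_qm, Nat.xor_comm (hi y)] at this
    rw [Nat.xor_right_injective this, Nat.xor_self]
  · intro e
    congr 1
    apply eq_of_lo_hi
    · rw [lo_qm, lo_qm, Nat.xor_comm]
    · rw [hi_qm, hi_qm, Nat.xor_comm (hi y), Nat.eq_of_xor_eq_zero e]

theorem kd_z : J.KD J.z k1 :=
  Hyp.KD.of_k1 J.toHyp.zQ (fun x hx => by
    rw [← J.toHyp.memH.mp (J.e_H hx), mul_inv_cancel_right]) (by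
    rw [← J.toHyp.memH.mp J.ρH, mul_inv_cancel_right])

theorem kd_ρ : J.KD J.ρ kR := by
  have := J.kd 0 (by norm_num)
  rwa [J.k0, kR_eq] at this

theorem kd_wd {w : List ℕ} (hw : okW 6 w = true) : J.KD (wd J.k w) (kW w) :=
  evW_rel J.KD Hyp.KD.one (fun _ _ _ _ => Hyp.KD.mul) J.kd hw

theorem kmul_k1 {k : G} {c : ℕ} (a : J.KD k c) : kmul c k1 = c := by
  apply eq_of_kp_km
  · rw [kp_kmul, kp_k1]
    exact toM_inj (inM_pmul a.inM inM_pid) a.inM (by rw [toM_pmul a.inM inM_pid, toM_pid, mul_one])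
  · rw [km_kmul, km_k1]
    exact eq_of_mv_eq (mm_lt _ _) (okM_iff.mp a.ok).1 fun v hv => by rw [mv_mm _ okM_mI hv, mv_mI hv]

theorem kd_mul_z {k : G} {c : ℕ} (a : J.KD k c) : J.KD (k * J.z) c := by
  have := a.mul J.kd_z
  rwa [J.kmul_k1 a] at this

/-- the code is determined by the element -/
theorem code_eq {k : G} {c c' : ℕ} (a : J.KD k c) (b : J.KD k c') : c = c' := by
  apply eq_of_kp_km (toM_inj a.inM b.inM (by rw [← a.φ, ← b.φ]))
  refine eq_of_mv_eq (okM_iff.mp a.ok).1 (okM_iff.mp b.ok).1 fun v hv => ?_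
  have h1 := (a.conj v (by omega)).symm.trans (b.conj v (by omega))
  have := congrArg lo (J.e_inj _ (act_lt a.ok (by omega)) _ (act_lt b.ok (by omega)) h1)
  rwa [lo_act a.ok, lo_act b.ok, lo_of_lt hv] at this

theorem eq_of_mem_Q {q : G} (hq : q ∈ J.Q) {n : ℕ} (h : q * J.ρ * q⁻¹ = J.ρ * J.ρ ^ n) (hn : n ≤ 1) :
    q = 1 ∨ q = J.z := by
  have h1 : J.ρ ^ n ∈ J.Q := by
    have e : J.ρ ^ n = (J.ρ⁻¹ * q * J.ρ⁻¹⁻¹) * q⁻¹ := by
      rw [inv_inv, mul_assoc, mul_assoc, ← mul_assoc q, h]; group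
    rw [e]
    exact J.Q.mul_mem (J.toHyp.conjQ (J.HH.inv_mem J.ρH) hq) (J.Q.inv_mem hq)
  interval_cases n
  · apply J.fpf q hq
    rw [pow_zero, mul_one] at h
    calc J.ρ * q * J.ρ⁻¹ = (q * J.ρ * q⁻¹) * q * J.ρ⁻¹ := by rw [h]
      _ = q := by group
  · exact absurd (by simpa using h1) J.toHyp.ρ_notMem

theorem eq_of_kd_Q {q : G} {c : ℕ} (a : J.KD q c) (hq : q ∈ J.Q) : q = 1 ∨ q = J.z :=
  J.eq_of_mem_Q hq a.ρ (ko_le c)

variable [Finite G]

theorem uniq {k k' : G} {c c' : ℕ} (a : J.KD k c) (b : J.KD k' c') (e : km c = km c') :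
    k' = k ∨ k' = k * J.z := by
  obtain ⟨d, hd⟩ := a.inv
  have h1 := hd.mul b
  have h2 : k⁻¹ * k' ∈ J.Q := by
    apply J.lx.mem_of_conj
    intro u hu
    obtain ⟨x, hx, rfl⟩ := J.e_surj u hu
    have e1 := J.e_lo (act_lt b.ok hx) (act_lt a.ok hx) (by rw [lo_act b.ok, lo_act a.ok, e])
    rw [← b.conj x hx, ← a.conj x hx] at e1
    rcases e1 with e1 | e1
    · left
      calc _ = k⁻¹ * (k' * J.e x * k'⁻¹) * k := by group
        _ = _ := by rw [e1]; group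
    · right
      calc _ = k⁻¹ * (k' * J.e x * k'⁻¹) * k := by group
        _ = J.e x * (k⁻¹ * J.z * k⁻¹⁻¹) := by rw [e1]; group
        _ = _ := by rw [J.toHyp.conj_z (J.HH.inv_mem a.mem)]
  rcases J.eq_of_kd_Q h1 h2 with e1 | e1
  · left; rw [inv_mul_eq_one] at e1; exact e1.symm
  · right; rw [← e1]; group

theorem uniq1 {k : G} {c : ℕ} (a : J.KD k c) (e : km c = mI) : k = 1 ∨ k = J.z := by
  simpa using J.uniq Hyp.KD.one a (by rw [km_k1, e])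

theorem conj_uniq {w a b : G} {cw ca cb : ℕ} (hw : J.KD w cw) (ha : J.KD a ca) (hb : J.KD b cb)
    (e : mm (km cb) (km cw) = mm (km cw) (km ca)) : w * a * w⁻¹ = b ∨ w * a * w⁻¹ = b * J.z := by
  rcases J.uniq (hb.mul hw) (hw.mul ha) (by rw [km_kmul, km_kmul, e]) with e1 | e1
  · left; rw [e1]; group
  · right; rw [e1, mul_assoc b, J.toHyp.memH.mp hw.mem]; group

theorem ker_kd {k : G} {c : ℕ} (a : J.KD k c) (h : J.toHyp.φ k = 1) :
    ∃ n < 3, k = J.ρ ^ n ∨ k = J.ρ ^ n * J.z := by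
  have i1 : J.KD J.ρ⁻¹ (kmul kR kR) := by rw [J.toHyp.ρ_inv]; exact J.kd_ρ.mul J.kd_ρ
  have hz := J.toHyp.memH.mp J.ρH
  rcases (J.toHyp.φ_ker a.mem).mp h with e | e | e
  · exact ⟨0, by norm_num, by simpa using J.eq_of_kd_Q a e⟩
  · refine ⟨1, by norm_num, ?_⟩
    rcases J.eq_of_kd_Q (a.mul i1) e with e | e
    · left; rw [pow_one]; exact mul_inv_eq_one.mp e
    · right; rw [pow_one, hz, ← e]; group
  · refine ⟨2, by norm_num, ?_⟩
    rcases J.eq_of_kd_Q ((a.mul i1).mul i1) e with e | e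
    · left; rw [pow_two]; rw [mul_inv_eq_one, mul_inv_eq_iff_eq_mul] at e; exact e
    · right; rw [pow_two, mul_assoc, hz, ← mul_assoc, hz, ← e]; group

theorem exists_kd_P (P : ℕ → Prop) (h1 : P k1) (hm : ∀ i < 6, ∀ c, P c → P (kmul (nth KL i) c))
    {g : M24} (hg : g ∈ GD2) : ∃ k c, J.KD k c ∧ P c ∧ J.toHyp.φ k = g := by
  have hw : ∀ w, okW 6 w = true → ∀ k c, J.KD k c → P c → ∃ c', J.KD (wd J.k w * k) c' ∧ P c' := by
    intro w hw k c hk hc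
    induction w with
    | nil => exact ⟨c, by simpa [wd_nil] using hk, hc⟩
    | cons i w ih =>
      rw [okW_iff] at hw
      obtain ⟨c', h2, h3⟩ := ih (okW_iff.mpr fun j hj => hw j (List.mem_cons_of_mem _ hj))
      have hi := hw i List.mem_cons_self
      exact ⟨_, by rw [wd_cons, mul_assoc]; exact (J.kd i hi).mul h2, hm i hi _ h3⟩
  rw [GD2_eq] at hg
  refine gen_induction (P := fun g => ∃ k c, J.KD k c ∧ P c ∧ J.toHyp.φ k = g)
    ⟨1, k1, Hyp.KD.one, h1, J.toHyp.φ_one⟩ ?_ hg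
  rintro p hp x ⟨k, c, hk, hc, rfl⟩
  obtain ⟨w, w1, w2⟩ : ∃ w, okW 6 w = true ∧ kp (kW w) = p := by
    simp only [gensD2, List.mem_cons, List.not_mem_nil, or_false] at hp
    rcases hp with rfl | rfl
    · exact ⟨_, chk_gen'.1, chk_gen'.2.1⟩
    · exact ⟨_, chk_gen'.2.2.1, chk_gen'.2.2.2⟩
  obtain ⟨c', h2, h3⟩ := hw w w1 k c hk hc
  refine ⟨_, c', h2, h3, ?_⟩
  rw [J.toHyp.φ_mul (J.kd_wd w1).mem hk.mem, (J.kd_wd w1).φ, w2]

theorem exists_kd {g : M24} (hg : g ∈ GD2) : ∃ k c, J.KD k c ∧ J.toHyp.φ k = g := by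
  obtain ⟨k, c, h1, -, h2⟩ := J.exists_kd_P (fun _ => True) trivial (fun _ _ _ _ => trivial) hg
  exact ⟨k, c, h1, h2⟩

theorem eq_of_φ {k k' : G} {c c' : ℕ} (a : J.KD k c) (b : J.KD k' c')
    (e : J.toHyp.φ k = J.toHyp.φ k') : ∃ n < 3, k = J.ρ ^ n * k' ∨ k = J.ρ ^ n * k' * J.z := by
  obtain ⟨d, hd⟩ := b.inv
  obtain ⟨n, hn, e1⟩ := J.ker_kd (a.mul hd) (by
    rw [J.toHyp.φ_mul a.mem hd.mem, J.toHyp.φ_inv b.mem, e, mul_inv_cancel])
  refine ⟨n, hn, e1.imp (fun e1 => by rw [← e1]; group) fun e1 => ?_⟩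
  rw [mul_assoc, J.toHyp.memH.mp b.mem, ← mul_assoc, ← e1]; group

theorem kd_ind (P : ℕ → Prop) (h1 : P k1) (hm : ∀ i < 6, ∀ c, P c → P (kmul (nth KL i) c))
    {k : G} {c : ℕ} (a : J.KD k c) : P c := by
  obtain ⟨k', c', h2, h3, h4⟩ := J.exists_kd_P P h1 hm (J.toHyp.φ_mem k)
  have : ∀ n, ∃ d, J.KD (J.ρ ^ n * k') d ∧ P d := by
    intro n
    induction n with
    | zero => exact ⟨c', by simpa using h2, h3⟩
    | succ n ih =>
      obtain ⟨d, d1, d2⟩ := ih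
      have := (J.kd 0 (by norm_num)).mul d1
      rw [J.k0, ← mul_assoc, ← pow_succ'] at this
      exact ⟨_, this, hm 0 (by norm_num) _ d2⟩
  obtain ⟨n, -, e | e⟩ := J.eq_of_φ a h2 h4.symm
  · obtain ⟨d, d1, d2⟩ := this n
    rw [← e] at d1
    rwa [J.code_eq a d1]
  · obtain ⟨d, d1, d2⟩ := this n
    have := J.kd_mul_z d1
    rw [← e] at this
    rwa [J.code_eq a this]

theorem decomp {h : G} (hh : h ∈ J.HH) : ∃ a < 8192, ∃ k c, J.KD k c ∧ h = J.e a * k := by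
  obtain ⟨k, c, h1, h2⟩ := J.exists_kd (J.toHyp.φ_mem h)
  have m : h * k⁻¹ ∈ J.HH := J.HH.mul_mem hh (J.HH.inv_mem h1.mem)
  rcases (J.toHyp.φ_ker m).mp (by
    rw [J.toHyp.φ_mul hh (J.HH.inv_mem h1.mem), J.toHyp.φ_inv h1.mem, h2, mul_inv_cancel])
    with e | e | e <;> obtain ⟨a, ha, e⟩ := J.e_surj _ e
  · exact ⟨a, ha, k, c, h1, by rw [e]; group⟩
  · exact ⟨a, ha, _, _, J.kd_ρ.mul h1, by rw [e]; group⟩
  · exact ⟨a, ha, _, _, J.kd_ρ.mul (J.kd_ρ.mul h1), by rw [e]; group⟩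

omit [Finite G] in
theorem mul_ek {a b c : ℕ} {k k' : G} (ha : a < 8192) (hb : b < 8192) (hk : J.KD k c) :
    J.e a * k * (J.e b * k') = J.e (qm a (act c b)) * (k * k') := by
  rw [← J.e_mul a ha _ (act_lt hk.ok hb), ← hk.conj b hb]; group

omit [Finite G] in
theorem φ_ek {a c : ℕ} {k : G} (ha : a < 8192) (hk : J.KD k c) :
    J.toHyp.φ (J.e a * k) = toM (kp c) := by
  rw [J.toHyp.φ_mul (J.e_H ha) hk.mem, J.φ_e ha, one_mul, hk.φ]

/-- uniqueness of the decomposition -/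
theorem ek_eq {a b c c' : ℕ} {k k' : G} (ha : a < 8192) (hb : b < 8192) (hk : J.KD k c)
    (hk' : J.KD k' c') (e : J.e a * k = J.e b * k') :
    (a = b ∧ k = k') ∨ (a = b ^^^ 4096 ∧ k = k' * J.z) := by
  obtain ⟨d, hd⟩ := hk'.inv
  have h1 : k * k'⁻¹ = (J.e a)⁻¹ * J.e b := by
    calc _ = (J.e a)⁻¹ * (J.e a * k) * k'⁻¹ := by group
      _ = _ := by rw [e]; group
  rcases J.eq_of_kd_Q (hk.mul hd) (by
    rw [h1]; exact J.Q.mul_mem (J.Q.inv_mem (J.e_mem a ha)) (J.e_mem b hb)) with e1 | e1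
  · have : k = k' := mul_inv_eq_one.mp e1
    subst this
    exact Or.inl ⟨J.e_inj a ha b hb (mul_right_cancel e), rfl⟩
  · have h2 : k = k' * J.z := by rw [J.toHyp.memH.mp hk'.mem, ← e1]; group
    refine Or.inr ⟨J.e_inj a ha _ (xor_lt13 hb (by norm_num)) ?_, h2⟩
    rw [← J.e_mul_z hb]
    rw [h2, J.toHyp.memH.mp hk'.mem, ← mul_assoc] at e
    rw [← mul_right_cancel e, mul_assoc, J.toHyp.zz, mul_one]

omit [Finite G] in
/-- two-elements of the kernel lie in the extraspecial group -/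
theorem mem_Q_of_pow {x : G} (hx : x ∈ J.HH) (h : J.toHyp.φ x = 1) {n : ℕ} (h2 : x ^ 2 ^ n = 1) :
    x ∈ J.Q := by
  have key : ∀ r, r ∈ J.HH → r * r * r = 1 → x * r⁻¹ ∈ J.Q → r ∈ J.Q := by
    intro r hr h3 hq
    have : ∀ m, x ^ m * (r ^ m)⁻¹ ∈ J.Q := by
      intro m
      induction m with
      | zero => simp
      | succ m ih =>
        have e : x ^ (m + 1) * (r ^ (m + 1))⁻¹ =
            x ^ m * (r ^ m)⁻¹ * (r ^ m * (x * r⁻¹) * (r ^ m)⁻¹) := by group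
        rw [e]; exact J.Q.mul_mem ih (J.toHyp.conjQ (J.HH.pow_mem hr m) hq)
    have h4 := this (2 ^ n)
    rw [h2, one_mul, inv_mem_iff] at h4
    have h5 : r ^ 3 = 1 := by rw [pow_succ, pow_two, h3]
    have h6 : (r ^ 2 ^ n) ^ 2 ^ n = r := by
      rw [← pow_mul, ← mul_pow, pow_eq_pow_mod _ h5, Nat.pow_mod]; simp
    rw [← h6]; exact J.Q.pow_mem h4 _
  rcases (J.toHyp.φ_ker hx).mp h with e | e | e
  · exact e
  · exact absurd (key _ J.ρH J.toHyp.ρρρ e) J.toHyp.ρ_notMem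
  · have := key _ (J.HH.mul_mem J.ρH J.ρH) J.toHyp.swap.ρρρ (by rw [mul_inv_rev, ← mul_assoc]; exact e)
    rw [← J.toHyp.ρ_inv, inv_mem_iff] at this
    exact absurd this J.toHyp.ρ_notMem

omit [Finite G] in
theorem mem_Q_of_sq {x : G} (hx : x ∈ J.HH) (h : J.toHyp.φ x = 1) (h2 : x * x = 1) : x ∈ J.Q :=
  J.mem_Q_of_pow hx h (n := 1) (by rw [pow_one, pow_two, h2])

end JA

set_option linter.all false in
theorem eqns_J4B : True := by
  first | (have := @_root_.Cfsg.Agent.H83.J4.Hyp.nrm.eq_def.{0,0}) | (have := @_root_.Cfsg.Agent.H83.J4.Hyp.nrm.eq_def.{0}) | (have := @_root_.Cfsg.Agent.H83.J4.Hyp.nrm.eq_def) | skip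
  first | (have := @_root_.Cfsg.Agent.H83.J4.Hyp.nrm.eq_1.{0,0}) | (have := @_root_.Cfsg.Agent.H83.J4.Hyp.nrm.eq_1.{0}) | (have := @_root_.Cfsg.Agent.H83.J4.Hyp.nrm.eq_1) | skip
  first | (have := @_root_.Cfsg.Agent.H83.J4.Hyp.nrm.eq_2.{0,0}) | (have := @_root_.Cfsg.Agent.H83.J4.Hyp.nrm.eq_2.{0}) | (have := @_root_.Cfsg.Agent.H83.J4.Hyp.nrm.eq_2) | skip
  first | (have := @_root_.Cfsg.Agent.H83.J4.Hyp.nrm.congr_simp.{0,0}) | (have := @_root_.Cfsg.Agent.H83.J4.Hyp.nrm.congr_simp.{0}) | (have := @_root_.Cfsg.Agent.H83.J4.Hyp.nrm.congr_simp) | skip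
  first | (have := @_root_.Cfsg.Agent.H83.J4.JA.KD.eq_def.{0,0}) | (have := @_root_.Cfsg.Agent.H83.J4.JA.KD.eq_def.{0}) | (have := @_root_.Cfsg.Agent.H83.J4.JA.KD.eq_def) | skip
  first | (have := @_root_.Cfsg.Agent.H83.J4.JA.KD.eq_1.{0,0}) | (have := @_root_.Cfsg.Agent.H83.J4.JA.KD.eq_1.{0}) | (have := @_root_.Cfsg.Agent.H83.J4.JA.KD.eq_1) | skip
  first | (have := @_root_.Cfsg.Agent.H83.J4.JA.KD.eq_2.{0,0}) | (have := @_root_.Cfsg.Agent.H83.J4.JA.KD.eq_2.{0}) | (have := @_root_.Cfsg.Agent.H83.J4.JA.KD.eq_2) | skip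
  first | (have := @_root_.Cfsg.Agent.H83.J4.JA.KD.congr_simp.{0,0}) | (have := @_root_.Cfsg.Agent.H83.J4.JA.KD.congr_simp.{0}) | (have := @_root_.Cfsg.Agent.H83.J4.JA.KD.congr_simp) | skip
  trivial

end Cfsg.Agent.H83.J4
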