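import Cfsg.Agent.H83.J4R3
import Cfsg.Agent.S0033

/-!
# An elementary abelian 2-subgroup whose conjugates cannot cross is normal
-/

set_option autoImplicit false

namespace Cfsg.Agent.H83.J4

open Cfsg Subgroup

section TI

variable {L : Type*} [Group L] [Finite L]

theorem card_fib {X D E K : Subgroup L} (hD : D ≤ E) (hK : K ≤ X) (f : L → L) (hf : ∀ x ∈ X, f x ∈ E)
    (h : ∀ x ∈ X, ∀ y ∈ X, (f x)⁻¹ * f y ∈ D → x⁻¹ * y ∈ K) :
    Nat.card X * Nat.card D ≤ Nat.card K * Nat.card E := by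
  let F : X ⧸ K.subgroupOf X → E ⧸ D.subgroupOf E := fun q => QuotientGroup.mk ⟨f q.out, hf _ q.out.2⟩
  have inj : Function.Injective F := fun p q e => by
    have := h _ p.out.2 _ q.out.2 (QuotientGroup.eq (s := D.subgroupOf E).mp e)
    rw [← p.out_eq', ← q.out_eq']
    exact QuotientGroup.eq.mpr this
  have c := Nat.card_le_card_of_injective F inj
  rw [card_eq_card_quotient_mul_card_subgroup (K.subgroupOf X),
    card_eq_card_quotient_mul_card_subgroup (D.subgroupOf E),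
    Nat.card_congr (subgroupOfEquivOfLe hK).toEquiv, Nat.card_congr (subgroupOfEquivOfLe hD).toEquiv]
  calc _ = Nat.card (X ⧸ K.subgroupOf X) * (Nat.card K * Nat.card D) := by ring
    _ ≤ Nat.card (E ⧸ D.subgroupOf E) * (Nat.card K * Nat.card D) := Nat.mul_le_mul_right _ c
    _ = _ := by ring

theorem trans_dvd {A D X : Subgroup L} (hD : D ≤ A) (hX : X ≤ normalizer (A : Set L))
    (hc : ∀ c ∈ X, ∀ d ∈ D, c * d = d * c) {a : L} (ha : a ∈ A) (haD : a ∉ D)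
    (ht : ∀ a' ∈ A, a' ∉ D → ∃ c ∈ X, (c * a * c⁻¹)⁻¹ * a' ∈ D) :
    ∃ m, Nat.card A = (m + 1) * Nat.card D ∧ m ∣ Nat.card X := by
  classical
  have cd : ∀ c ∈ X, ∀ u, c * u * c⁻¹ ∈ D ↔ u ∈ D := fun c hc' u =>
    ⟨fun h => by
      have := hc _ (inv_mem hc') _ h
      rw [show c⁻¹ * (c * u * c⁻¹) = u * c⁻¹ by group, mul_left_inj] at this
      rwa [this], fun h => by rw [hc c hc' u h]; simpa using h⟩
  let S : Subgroup X := ⟨⟨⟨{k | a⁻¹ * (k * a * (k : L)⁻¹) ∈ D}, fun {k l} hk hl => by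
      have := mul_mem hk ((cd k k.2 _).mpr hl)
      simp only [Set.mem_ofPred_eq, Subgroup.coe_mul]
      convert this using 1; group⟩, by simp [one_mem]⟩, fun {k} hk => by
      have := (cd _ (inv_mem k.2) _).mpr (inv_mem hk)
      simp only [Set.mem_ofPred_eq, Subgroup.coe_inv]
      convert this using 1; group⟩
  let F : X ⧸ S → {q : A ⧸ D.subgroupOf A // q ≠ ((1 : A) : A ⧸ D.subgroupOf A)} := fun q =>
    ⟨QuotientGroup.mk ⟨q.out * a * (q.out : L)⁻¹, H83.conj_mem hX q.out.2 ha⟩, fun e => haD (by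
      have := QuotientGroup.eq.mp e.symm
      rw [mem_subgroupOf] at this
      exact (cd _ q.out.2 a).mp (by simpa using this))⟩
  have key : ∀ k l : X, ((k : L) * a * (k : L)⁻¹)⁻¹ * (l * a * (l : L)⁻¹) ∈ D ↔ k⁻¹ * l ∈ S := fun k l => by
    rw [← cd _ (inv_mem k.2)]
    show _ ↔ a⁻¹ * (((k⁻¹ * l : X) : L) * a * ((k⁻¹ * l : X) : L)⁻¹) ∈ D
    rw [Subgroup.coe_mul, Subgroup.coe_inv]
    apply iff_of_eq; congr 1; group
  have bij : Function.Bijective F := ⟨fun p q e => by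
      have := (key p.out q.out).mp (QuotientGroup.eq (s := D.subgroupOf A).mp (congrArg Subtype.val e))
      rw [← p.out_eq', ← q.out_eq']
      exact QuotientGroup.eq.mpr this, fun ⟨q, hq⟩ => by
      obtain ⟨u, rfl⟩ := QuotientGroup.mk_surjective q
      obtain ⟨c, hc', e⟩ := ht u u.2 fun hu => hq (QuotientGroup.eq.mpr (by
        rw [mem_subgroupOf]; simpa using hu))
      refine ⟨QuotientGroup.mk ⟨c, hc'⟩, Subtype.ext (QuotientGroup.eq.mpr ?_)⟩
      have := mul_mem ((key _ ⟨c, hc'⟩).mpr (QuotientGroup.eq.mp (QuotientGroup.out_eq' _))) e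
      rw [mem_subgroupOf]
      convert this using 1
      simp only [Subgroup.coe_mul, Subgroup.coe_inv]; group⟩
  refine ⟨Nat.card (X ⧸ S), ?_, Dvd.intro _ (card_eq_card_quotient_mul_card_subgroup S).symm⟩
  rw [card_eq_card_quotient_mul_card_subgroup (D.subgroupOf A), Nat.card_congr (subgroupOfEquivOfLe hD).toEquiv,
    Nat.card_eq_of_bijective F bij, ← Finite.card_option,
    Nat.card_congr (Equiv.optionSubtypeNe ((1 : A) : A ⧸ D.subgroupOf A))]

/-- The numerical condition that excludes crossing conjugates. -/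
def NC (A : Subgroup L) : Prop :=
  ∀ B A₁ : Subgroup L, B ≤ normalizer (A : Set L) → (∀ b ∈ B, b * b = 1) → ¬ B ≤ A → A₁ ≤ A →
    (∀ t ∈ B, t ∉ A → A ⊓ centralizer {t} ≤ A₁) → Nat.card A₁ ≤ Nat.card B →
    Nat.card A * Nat.card ↥(A ⊓ B) ≤ Nat.card B ^ 2 → False

variable {A : Subgroup L} (sq : ∀ a ∈ A, a * a = 1) (nc : NC A)
include sq

omit [Finite L] in
theorem sq_cj (g : L) : ∀ a ∈ H83.cj g A, a * a = 1 := fun a ha => by
  have := sq _ (mem_cj.mp ha)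
  rw [show g⁻¹ * a * g * (g⁻¹ * a * g) = g⁻¹ * (a * a) * g by group] at this
  simpa [mul_assoc] using congrArg (fun u => g * u * g⁻¹) this

include nc

theorem wc0 (g : L) (h : H83.cj g A ≤ normalizer (A : Set L)) : H83.cj g A = A := by
  by_contra hne
  refine nc _ A h (sq_cj sq g) (fun hl => hne (eq_of_le_of_card_ge hl (H83.card_cj g A).ge)) le_rfl
    (fun _ _ _ => inf_le_left) (H83.card_cj g A).ge ?_
  rw [H83.card_cj, pow_two]
  exact Nat.mul_le_mul_left _ (card_le_of_le inf_le_left)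

theorem wc (g k : L) (h : H83.cj g A ≤ normalizer (H83.cj k A : Set L)) : H83.cj g A = H83.cj k A := by
  have := wc0 sq nc (k⁻¹ * g) (by
    rw [cj_mul, cj_le_iff, inv_inv, H83.cj_normalizer]; exact h)
  rw [cj_mul] at this
  rw [← cj_cj_inv k (H83.cj g A), this]

section max

variable {m : ℕ} (hm : ∀ g k : L, H83.cj g A ≠ H83.cj k A → Nat.card ↥(H83.cj g A ⊓ H83.cj k A) ≤ m)
include hm

omit sq nc in
theorem ti {D : Subgroup L} (hD : Nat.card D = m) {g k a : L} (h1 : D ≤ H83.cj g A) (h2 : D ≤ H83.cj k A)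
    (a1 : a ∈ H83.cj g A) (a2 : a ∈ H83.cj k A) (a3 : a ∉ D) : H83.cj g A = H83.cj k A := by
  by_contra hne
  exact a3 ((eq_of_le_of_card_ge (le_inf h1 h2) (hD ▸ hm g k hne)).ge ⟨a1, a2⟩)

omit sq nc in
theorem norm_of {D : Subgroup L} (hD : Nat.card D = m) {g a w : L} (h1 : D ≤ H83.cj g A)
    (hw : ∀ d ∈ D, w * d = d * w) (a1 : a ∈ H83.cj g A) (a3 : a ∉ D) (e : a⁻¹ * (w * a * w⁻¹) ∈ D) :
    w ∈ normalizer (H83.cj g A : Set L) := by
  rw [← cj_eq_self_iff, ← cj_mul]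
  have h2 : D ≤ H83.cj (w * g) A := fun d hd => by
    rw [cj_mul, mem_cj, mul_assoc, ← hw d hd]; simpa using h1 hd
  refine ti hm hD h2 h1 (a := w * a * w⁻¹) (by rw [cj_mul]; exact conj_mem_cj a1)
    (by simpa using mul_mem a1 (h1 e)) fun h => a3 ?_
  simpa [mul_assoc] using mul_mem h (inv_mem e)

omit [Finite L] sq nc hm in
theorem inv_aux {t a : L} (tt : t * t = 1) (aa : a * a = 1)
    (cc : t⁻¹ * (a * t * a⁻¹) * (t⁻¹ * (a * t * a⁻¹)) = 1) :
    t⁻¹ * (t⁻¹ * (a * t * a⁻¹) * t * (t⁻¹ * (a * t * a⁻¹))⁻¹) = 1 := by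
  rw [inv_eq_of_mul_eq_one_right cc, inv_eq_of_mul_eq_one_right tt, inv_eq_of_mul_eq_one_right aa]
  have t' : ∀ u, t * (t * u) = u := fun u => by rw [← mul_assoc, tt, one_mul]
  have a' : ∀ u, a * (a * u) = u := fun u => by rw [← mul_assoc, aa, one_mul]
  simp only [mul_assoc, t', a', aa]

theorem ncr0 {D : Subgroup L} (hD : Nat.card D = m) {g t : L} (h1 : D ≤ A) (h2 : D ≤ H83.cj g A)
    (hne : H83.cj g A ≠ A) (tB : t ∈ H83.cj g A) (tN : t ∈ normalizer (A : Set L)) : t ∈ D := by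
  by_contra tD
  have cA := @comm_of_sq' _ _ _ sq
  have cB := @comm_of_sq' _ _ _ (sq_cj sq g)
  have h1' : D ≤ H83.cj 1 A := by rwa [cj_one]
  have eD : A ⊓ H83.cj g A = D := (eq_of_le_of_card_ge (le_inf h1 h2) (by
    have := hm 1 g (by rw [cj_one]; exact hne.symm)
    rwa [cj_one, ← hD] at this)).symm
  have wB := wc0 sq nc g
  have nA : ∀ {a w : L}, (∀ d ∈ D, w * d = d * w) → a ∈ A → a ∉ D → a⁻¹ * (w * a * w⁻¹) ∈ D →
      w ∈ normalizer (A : Set L) := fun hw a1 a3 e => by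
    have := norm_of hm hD h1' hw (by rwa [cj_one]) a3 e
    rwa [cj_one] at this
  have nB := @norm_of _ _ _ _ _ hm D hD g
  have sqB := sq_cj sq g
  have cB' := H83.card_cj g A
  generalize H83.cj g A = B at *
  have ab : ∀ a ∈ A ⊓ normalizer (B : Set L), ∀ b ∈ B ⊓ normalizer (A : Set L), b⁻¹ * (a * b * a⁻¹) ∈ D :=
    fun a ha b hb => eD ▸ ⟨by
      simpa [mul_assoc] using mul_mem (H83.conj_mem le_rfl (inv_mem hb.2) ha.1) (A.inv_mem ha.1),
      mul_mem (B.inv_mem hb.1) (H83.conj_mem le_rfl ha.2 hb.1)⟩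
  have v1 : ∀ b ∈ B, b ∉ D → ∀ a ∈ A, b⁻¹ * (a * b * a⁻¹) ∈ D → a ∈ A ⊓ normalizer (B : Set L) :=
    fun b hb hb' a ha e => ⟨ha, nB h2 (fun d hd => cA ha (h1 hd)) hb hb' e⟩
  have v2 : ∀ a ∈ A, a ∉ D → ∀ b ∈ B, a⁻¹ * (b * a * b⁻¹) ∈ D → b ∈ B ⊓ normalizer (A : Set L) :=
    fun a ha ha' b hb e => ⟨hb, nA (fun d hd => cB hb (h2 hd)) ha ha' e⟩
  have DA : D ≤ A ⊓ normalizer (B : Set L) := le_inf h1 (h2.trans le_normalizer)
  have DB : D ≤ B ⊓ normalizer (A : Set L) := le_inf h2 (h1.trans le_normalizer)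
  have tt := sqB t tB
  have ti' : t⁻¹ = t := inv_eq_of_mul_eq_one_right tt
  have fA : ∀ a ∈ A, t⁻¹ * (a * t * a⁻¹) ∈ A := fun a ha => by
    simpa [mul_assoc] using mul_mem (H83.conj_mem le_rfl (inv_mem tN) ha) (inv_mem ha)
  have c1 := card_fib DA inf_le_left (fun a => t⁻¹ * (a * t * a⁻¹)) (fun a ha => v1 t tB tD _ (fA a ha) (by
      rw [inv_aux tt (sq a ha) (sq _ (fA a ha))]; exact one_mem _))
    fun a ha b hb e => v1 t tB tD _ (mul_mem (inv_mem ha) hb) (by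
      convert e using 1
      have c2 := cA (H83.conj_mem le_rfl (inv_mem tN) (mul_mem (inv_mem ha) hb)) ha
      have c3 := cA (inv_mem hb) ha
      calc t⁻¹ * (a⁻¹ * b * t * (a⁻¹ * b)⁻¹) = (t⁻¹ * (a⁻¹ * b) * t⁻¹⁻¹) * (b⁻¹ * a) := by group
        _ = (t⁻¹ * (a⁻¹ * b) * t⁻¹⁻¹ * a) * b⁻¹ := by rw [c3]; group
        _ = _ := by rw [c2]; group)
  obtain ⟨b, hb, hb'⟩ : ∃ b ∈ B, b ∉ B ⊓ normalizer (A : Set L) := by
    by_contra hc
    push Not at hc
    exact hne (wB fun b hb => (hc b hb).2)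
  have c2 := card_fib (X := A ⊓ normalizer (B : Set L)) DB DA (fun a => b⁻¹ * (a * b * a⁻¹))
    (fun a ha => by
      have m : b⁻¹ * (a * b * a⁻¹) ∈ B := mul_mem (inv_mem hb) (H83.conj_mem le_rfl ha.2 hb)
      by_cases h : a ∈ D
      · rw [cB (h2 h) hb]; simp [one_mem]
      · refine v2 a ha.1 h _ m ?_
        have := inv_aux (sq a ha.1) (sqB b hb) (a := b) (by
          have := sqB _ (mul_mem (H83.conj_mem le_rfl (inv_mem ha.2) hb) (inv_mem hb))
          simpa [mul_assoc] using this)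
        have e1 := inv_eq_of_mul_eq_one_right (sq a ha.1)
        have e2 := inv_eq_of_mul_eq_one_right (sqB b hb)
        have e3 := inv_eq_of_mul_eq_one_right (sqB _ m)
        have e4 : b⁻¹ * (a * b * a⁻¹) = a⁻¹ * (b * a * b⁻¹) := by
          rw [← e3, e1, e2]; simp [mul_assoc, e1, e2]
        rw [e4, this]; exact one_mem _)
    fun a ha c hc e => by
      by_contra h
      have u := mul_mem (inv_mem ha) hc
      refine hb' (v2 _ u.1 h b hb ?_)
      have e1 : a⁻¹ * ((b⁻¹ * (a * b * a⁻¹))⁻¹ * (b⁻¹ * (c * b * c⁻¹))) * a ∈ D := by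
        rw [mul_assoc, cA (h1 e) ha.1]; simpa using e
      have e3 : (a⁻¹ * c)⁻¹ * (b * (a⁻¹ * c) * b⁻¹) = (a⁻¹ * c)⁻¹ * (b * (a⁻¹ *
        ((b⁻¹ * (a * b * a⁻¹))⁻¹ * (b⁻¹ * (c * b * c⁻¹))) * a)⁻¹ * b⁻¹) * (a⁻¹ * c) := by
        group
      rw [e3, cB hb (h2 (inv_mem e1)), mul_inv_cancel_right, mul_assoc, cA (h1 (inv_mem e1)) u.1,
        inv_mul_cancel_left]
      exact inv_mem e1
  have p : 0 < Nat.card D := Nat.card_pos
  have c3 : Nat.card ↥(A ⊓ normalizer (B : Set L)) ≤ Nat.card ↥(B ⊓ normalizer (A : Set L)) :=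
    Nat.le_of_mul_le_mul_left (by rwa [mul_comm] at c2) p
  refine nc (B ⊓ normalizer (A : Set L)) _ inf_le_right (fun b hb => sqB b hb.1)
    (fun h => tD (eD ▸ ⟨h ⟨tB, tN⟩, tB⟩)) inf_le_left (fun u hu hu' a ha => v1 u hu.1 (fun h => hu' (h1 h)) a ha.1 (by
      rw [mem_centralizer_singleton_iff.mp ha.2]; simp [one_mem])) c3 ?_
  rw [← inf_assoc, eD, inf_eq_left.mpr (h1.trans le_normalizer), pow_two]
  exact c1.trans (Nat.mul_le_mul c3 c3)

theorem ncr {D : Subgroup L} (hD : Nat.card D = m) {g k t : L} (h1 : D ≤ H83.cj k A) (h2 : D ≤ H83.cj g A)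
    (tB : t ∈ H83.cj g A) (tN : t ∈ normalizer (H83.cj k A : Set L)) (tD : t ∉ D) :
    H83.cj g A = H83.cj k A := by
  by_contra hne
  refine tD ?_
  have := ncr0 sq nc hm (D := H83.cj k⁻¹ D) (by rw [H83.card_cj, hD]) (g := k⁻¹ * g) (t := k⁻¹ * t * k)
    (by rw [cj_le_iff, inv_inv]; exact h1) (by rw [cj_mul]; exact cj_mono _ h2)
    (fun e => hne (by rw [cj_mul] at e; rw [← cj_cj_inv k (H83.cj g A), e]))
    (by rw [cj_mul, mem_cj]; simpa [mul_assoc] using tB) (by rw [← mem_cj, H83.cj_normalizer]; exact tN)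
  rw [mem_cj] at this
  simpa [mul_assoc] using this

theorem conj_mod {D : Subgroup L} (hD : Nat.card D = m) {g a b : L} (h1 : D ≤ A) (h2 : D ≤ H83.cj g A)
    (hne : H83.cj g A ≠ A) (ha : a ∈ A) (ha' : a ∉ D) (hb : b ∈ H83.cj g A) (hb' : b ∉ D) :
    ∃ c ∈ centralizer (D : Set L), (c * a * c⁻¹)⁻¹ * b ∈ D := by
  let C := centralizer (D : Set L)
  have AC : ∀ k, D ≤ H83.cj k A → H83.cj k A ≤ C := fun k h u hu d hd => comm_of_sq' (sq_cj sq k) (h hd) hu
  have h1' : D ≤ H83.cj 1 A := by rwa [cj_one]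
  have ha1 : a ∈ H83.cj 1 A := by rwa [cj_one]
  haveI : (D.subgroupOf C).Normal := ⟨fun d hd c => by
    rw [mem_subgroupOf] at hd ⊢
    simp only [Subgroup.coe_mul, Subgroup.coe_inv]
    rw [← c.2 _ hd]; simpa using hd⟩
  let f := QuotientGroup.mk' (D.subgroupOf C)
  have fe : ∀ u v : C, f u = f v ↔ (u : L)⁻¹ * v ∈ D := fun u v => QuotientGroup.eq
  have fc : ∀ u v : C, IsConj (f u) (f v) → ∃ c ∈ C, (c * u * c⁻¹)⁻¹ * v ∈ D := fun u v h => by
    obtain ⟨c, e⟩ := isConj_iff.mp h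
    obtain ⟨c, rfl⟩ := QuotientGroup.mk'_surjective _ c
    exact ⟨c, c.2, (fe (c * u * c⁻¹) v).mp (by rw [map_mul, map_mul, map_inv]; exact e)⟩
  let a' : C := ⟨a, AC 1 h1' ha1⟩
  let b' : C := ⟨b, AC g h2 hb⟩
  refine fc a' b' (by_contra fun hc => ?_)
  obtain ⟨w, w1, wa, wb, h, -⟩ := dih (a := f a') (b := f b')
    (by rw [← map_mul, show a' * a' = 1 from Subtype.ext (sq a ha), map_one])
    (by rw [← map_mul, show b' * b' = 1 from Subtype.ext (sq_cj sq g b hb), map_one]) hc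
  obtain ⟨w, rfl⟩ := QuotientGroup.mk'_surjective _ w
  have nw : ∀ {k} (u : C), D ≤ H83.cj k A → (u : L) ∈ H83.cj k A → (u : L) ∉ D → f w * f u = f u * f w →
      (w : L) ∈ normalizer (H83.cj k A : Set L) := fun u h3 h4 h5 e =>
    norm_of hm hD h3 (fun d hd => (w.2 d hd).symm) h4 h5 ((fe u (w * u * w⁻¹)).mp (by
      rw [map_mul, map_mul, map_inv, e, mul_inv_cancel_right]))
  have n1 := nw a' h1' ha1 ha' wa
  have n2 := nw b' h2 hb hb' wb
  have wD : (w : L) ∉ D := fun h => w1 ((QuotientGroup.eq_one_iff w).mpr h)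
  obtain ⟨k, k1, k2⟩ : ∃ k, D ≤ H83.cj k A ∧ w * a ∈ H83.cj k A := by
    have key : ∀ k (u : C), D ≤ H83.cj k A → (u : L) ∈ H83.cj k A → IsConj (f u) (f w * f a') →
        ∃ k, D ≤ H83.cj k A ∧ w * a ∈ H83.cj k A := fun k u h3 h4 h5 => by
      obtain ⟨c, hc, e⟩ := fc u (w * a') (by rwa [map_mul])
      have h6 : D ≤ H83.cj (c * k) A := fun d hd => by
        rw [cj_mul, mem_cj, mul_assoc, hc d hd]; simpa using h3 hd
      refine ⟨c * k, h6, ?_⟩
      have := mul_mem (show c * u * c⁻¹ ∈ H83.cj (c * k) A by rw [cj_mul]; exact conj_mem_cj h4) (h6 e)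
      rwa [mul_inv_cancel_left] at this
    exact h.elim (key 1 a' h1' ha1) (key g b' h2 hb)
  have wA : (w : L) ∈ H83.cj 1 A := by
    by_cases h : w * a ∈ D
    · simpa using mul_mem (h1' h) (inv_mem ha1)
    · rw [ncr sq nc hm hD h1' k1 k2 (mul_mem n1 (le_normalizer ha1)) h] at k2
      simpa using mul_mem k2 (inv_mem ha1)
  exact hne (by rw [← ncr sq nc hm hD h2 h1' wA n2 wD, cj_one])

end max

/-- The conjugates of `A` cannot cross, so `A` is normal. -/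
theorem ti_normal
    (tr : ∀ D ≤ A, ∀ m, Nat.card A = (m + 1) * Nat.card D → 1 < m →
      ¬ m ∣ Nat.card ↥(normalizer (A : Set L) ⊓ centralizer (D : Set L)))
    {x : L} (xN : x ∈ normalizer (A : Set L)) (x3 : x ^ 3 = 1)
    (hp : ∀ D ≤ A, Nat.card A ≤ 8 * Nat.card D → ∀ c, c * x = x * c → (∀ d ∈ D, c * d = d * c) → c = 1) :
    normalizer (A : Set L) = ⊤ := by
  classical
  by_contra hne
  let S : Set (L × L) := {p | H83.cj p.1 A ≠ H83.cj p.2 A}
  obtain ⟨⟨k, g⟩, hp', hmax⟩ := Set.exists_max_image S (fun p => Nat.card ↥(H83.cj p.1 A ⊓ H83.cj p.2 A))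
    (Set.toFinite S) (by
      obtain ⟨g, -, hg⟩ := SetLike.not_le_iff_exists.mp (fun h => hne (top_le_iff.mp h))
      exact ⟨(g, 1), fun e => hg (cj_eq_self_iff.mp (e.trans (cj_one A)))⟩)
  have hm : ∀ g' k' : L, H83.cj g' A ≠ H83.cj k' A → Nat.card ↥(H83.cj g' A ⊓ H83.cj k' A) ≤
      Nat.card ↥(A ⊓ H83.cj (k⁻¹ * g) A) := fun g' k' h => by
    rw [← H83.card_cj k (A ⊓ _), H83.cj_inf, cj_mul, cj_cj_inv]; exact hmax (g', k') h
  have hB : H83.cj (k⁻¹ * g) A ≠ A := fun e => hp' (by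
    rw [cj_mul] at e; rw [← cj_cj_inv k (H83.cj g A), e])
  generalize k⁻¹ * g = g at hm hB
  set D := A ⊓ H83.cj g A
  obtain ⟨a, ha, ha'⟩ : ∃ a ∈ A, a ∉ D := by
    by_contra hc
    push Not at hc
    exact hB (eq_of_le_of_card_ge (fun a h => (hc a h).2) (H83.card_cj g A).le).symm
  obtain ⟨b, hb, hb'⟩ : ∃ b ∈ H83.cj g A, b ∉ D := by
    by_contra hc
    push Not at hc
    exact hB (eq_of_le_of_card_ge (fun a h => (hc a h).1) (H83.card_cj g A).ge)
  obtain ⟨m, m1, m2⟩ := trans_dvd (X := normalizer (A : Set L) ⊓ centralizer (D : Set L)) inf_le_left inf_le_left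
    (fun c hc d hd => (hc.2 d hd).symm) ha ha' fun a' h1 h2 => by
      obtain ⟨c, hc, e⟩ := conj_mod sq nc hm rfl inf_le_left inf_le_right hB ha ha' hb hb'
      obtain ⟨c', hc', e'⟩ := conj_mod sq nc hm rfl inf_le_left inf_le_right hB h1 h2 hb hb'
      have u := mul_mem (inv_mem hc') hc
      have e2 : (c'⁻¹ * c * a * (c'⁻¹ * c)⁻¹)⁻¹ * a' ∈ D := by
        have := mul_mem e (inv_mem e')
        rw [show (c'⁻¹ * c * a * (c'⁻¹ * c)⁻¹)⁻¹ * a' = c'⁻¹ * ((c * a * c⁻¹)⁻¹ * b *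
          ((c' * a' * c'⁻¹)⁻¹ * b)⁻¹ * c') by group, hc' _ this]
        simpa using this
      refine ⟨_, ⟨cj_eq_self_iff.mp ?_, u⟩, e2⟩
      have h3 : D ≤ H83.cj (c'⁻¹ * c) A := fun d hd => by
        rw [mem_cj, mul_assoc, u d hd, inv_mul_cancel_left]; exact hd.1
      have := ti hm rfl h3 (k := 1) (by rw [cj_one]; exact inf_le_left)
        (by have := mul_mem (conj_mem_cj (g := c'⁻¹ * c) ha) (h3 e2); rwa [mul_inv_cancel_left] at this) (by rwa [cj_one]) h2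
      rwa [cj_one] at this
  have m0 : m ≠ 0 := fun e => ha' ((eq_of_le_of_card_ge (inf_le_left : D ≤ A) (by rw [m1, e]; simp)).ge ha)
  have m3 : m = 1 := by
    by_contra h
    exact tr D inf_le_left m m1 (by omega) m2
  subst m3
  have two : ∀ U ≤ A, ∀ V ≤ A, Nat.card A = 2 * Nat.card V → Nat.card U ≤ 2 * Nat.card ↥(U ⊓ V) :=
    fun U hU V hV e => by
      have := card_mul_le hU hV
      rw [e] at this
      exact Nat.le_of_mul_le_mul_right (by linarith) (Nat.card_pos (α := V))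
  have xD : ∀ n : ℕ, H83.cj (x ^ n) D ≤ A := fun n => cj_le_of_norm inf_le_left (pow_mem xN n)
  let E := H83.cj (x ^ 0) D ⊓ H83.cj (x ^ 1) D ⊓ H83.cj (x ^ 2) D
  have EA : E ≤ A := inf_le_right.trans (xD 2)
  have c1 := two _ (xD 0) _ (xD 1) (by rw [H83.card_cj, m1])
  have c2 := two _ (inf_le_left.trans (xD 0) : H83.cj (x ^ 0) D ⊓ H83.cj (x ^ 1) D ≤ A) _ (xD 2)
    (by rw [H83.card_cj, m1])
  rw [H83.card_cj] at c1
  have xE : x ∈ normalizer (E : Set L) := by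
    rw [← cj_eq_self_iff, H83.cj_inf, H83.cj_inf, ← cj_mul, ← cj_mul, ← cj_mul, ← pow_succ', ← pow_succ',
      ← pow_succ', x3, inf_comm, ← inf_assoc, ← pow_zero x]
  let Y := centralizer (E : Set L)
  have xY : x ∈ normalizer (Y : Set L) := normalizer_le_normalizer_centralizer _ xE
  let φ : MulAut Y := Y.normalizerMonoidHom ⟨x, xY⟩
  have fpf : MonoidHom.FixedPointFree (φ : Y →* Y) := fun c hc => Subtype.ext (hp E EA (by change _ ≤ 2 * Nat.card E at c2; change _ = _ * Nat.card D at m1; omega) c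
    (mul_inv_eq_iff_eq_mul.mp (congrArg Subtype.val hc)).symm fun d hd => (c.2 d hd).symm)
  have ED : E ≤ D := inf_le_left.trans (inf_le_left.trans (by rw [pow_zero, cj_one]))
  have AY : A ≤ Y := fun u hu d hd => comm_of_sq' sq (EA hd) hu
  have BY : H83.cj g A ≤ Y := fun u hu d hd => comm_of_sq' (sq_cj sq g) (ED hd).2 hu
  haveI : Fact (Nat.Prime 3) := ⟨Nat.prime_three⟩
  haveI := S0033.result φ fpf 3 Nat.prime_three (orderOf_eq_prime (by
      rw [← map_pow, show (⟨x, xY⟩ : normalizer (Y : Set L)) ^ 3 = 1 from Subtype.ext x3, map_one])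
    fun e => ha' (by
      have := congrArg Subtype.val (fpf ⟨a, AY ha⟩ (by rw [e]; rfl))
      rw [show a = 1 from this]; exact one_mem _))
  have nY : (normalizer (A : Set L)).subgroupOf Y = ⊤ := by
    by_contra h
    obtain ⟨s, hs, hs'⟩ := SetLike.exists_of_lt (Group.normalizerCondition_of_isNilpotent _ (lt_top_iff_ne_top.mpr h))
    refine hs' (cj_eq_self_iff.mp (wc0 sq nc s ?_))
    rintro _ ⟨u, hu, rfl⟩
    exact (mem_normalizer_iff.mp hs ⟨u, AY hu⟩).mp (le_normalizer hu)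
  exact hB (wc0 sq nc g (BY.trans (subgroupOf_eq_top.mp nY)))

end TI

set_option linter.all false in
theorem eqns_J4G1 : True := by
  first | (have := @_root_.Cfsg.Agent.H83.J4.NC.eq_def.{0,0}) | (have := @_root_.Cfsg.Agent.H83.J4.NC.eq_def.{0}) | (have := @_root_.Cfsg.Agent.H83.J4.NC.eq_def) | skip
  first | (have := @_root_.Cfsg.Agent.H83.J4.NC.eq_1.{0,0}) | (have := @_root_.Cfsg.Agent.H83.J4.NC.eq_1.{0}) | (have := @_root_.Cfsg.Agent.H83.J4.NC.eq_1) | skip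
  first | (have := @_root_.Cfsg.Agent.H83.J4.NC.eq_2.{0,0}) | (have := @_root_.Cfsg.Agent.H83.J4.NC.eq_2.{0}) | (have := @_root_.Cfsg.Agent.H83.J4.NC.eq_2) | skip
  first | (have := @_root_.Cfsg.Agent.H83.J4.NC.congr_simp.{0,0}) | (have := @_root_.Cfsg.Agent.H83.J4.NC.congr_simp.{0}) | (have := @_root_.Cfsg.Agent.H83.J4.NC.congr_simp) | skip
  trivial

end Cfsg.Agent.H83.J4
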