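import Cfsg.Agent.H83.J4G1

/-!
# The extraspecial group modulo its centre is normal in the centraliser
-/

set_option autoImplicit false
set_option maxRecDepth 100000

namespace Cfsg.Agent.H83.J4

open H42 Cfsg Subgroup
open H49 (XS LX)

/-- Words of the lifts of the involutions. -/
def vI : List (List ℕ) := [[], [0, 1, 1, 1, 1, 1, 1, 1, 1, 1, 1, 3, 1, 1, 3, 1, 1, 1, 1, 1, 1, 1, 1, 1, 1, 4, 2, 2, 2, 2, 4, 1], [2, 3, 1, 1, 1, 1, 1, 1, 1, 1, 1, 1, 2, 2, 2, 2, 4, 2, 4, 1, 2, 3], [1, 2, 2, 4, 2, 2, 2, 2, 2, 2, 2, 2, 4, 1, 1, 1, 1, 1, 1, 1, 1, 1, 1], [1, 2, 3, 4, 2, 2, 2, 2, 2, 2, 2, 2, 4, 2, 2, 2, 2, 1, 1, 1, 1, 1, 1, 1, 1, 1, 1], [1, 1, 2, 2, 2, 2, 4, 2, 2, 2, 2, 1, 4, 1, 1, 1, 1, 1, 1, 1, 1, 1, 1, 1, 1, 1, 1, 1, 1, 1, 1, 1, 1, 3], [1, 3, 4, 2, 4, 1, 1, 1, 1, 1, 1, 1, 1, 1, 1], [1, 2, 2, 2, 2, 2, 2, 2, 2, 4, 2, 4, 2, 1, 1, 1, 1, 1, 1, 1, 1, 1, 1], [1, 2, 2, 2, 2, 2, 2, 2, 2, 4, 2, 2, 1, 1, 1, 1, 1, 1, 1, 1, 1, 1], [1, 2, 4,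 2, 2, 2, 2, 2, 2, 2, 2, 4, 2, 1, 1, 1, 1, 1, 1, 1, 1, 1, 1], [1, 2, 2, 2, 2, 2, 2, 2, 2, 4, 2, 2, 4, 1, 1, 1, 1, 1, 1, 1, 1, 1, 1], [1, 2, 2, 4, 2, 4, 2, 2, 1, 1, 1, 1, 1, 1, 1, 1, 1, 1], [1, 2, 2, 3, 4, 2, 2, 2, 2, 2, 2, 2, 2, 1, 1, 1, 1, 1, 1, 1, 1, 1, 1], [1, 2, 2, 4, 2, 2, 2, 2, 2, 2, 2, 2, 1, 1, 1, 1, 1, 1, 1, 1, 1, 1], [0, 0, 1, 2, 3, 1, 1, 1, 1, 1, 1, 1, 1, 1, 1, 4, 1, 2, 2, 2, 2, 4, 1, 1, 1, 1, 1, 1, 1, 1, 1, 1, 3], [1, 2, 2, 2, 2, 4, 1, 1, 2, 3, 4, 2, 1, 2, 2, 2, 2], [1, 2, 2, 2, 2, 4, 2, 4, 1, 1, 1, 1, 1, 1, 1, 1, 1, 1], [4, 1, 3, 4, 2, 2, 2, 2, 4, 1, 1, 1, 1, 1, 1, 1, 1, 1, 1, 4], [4, 1, 2, 2, 2, 2, 1, 1, 1, 1, 1, 1, 1, 1, 1, 1, 3, 1, 1, 4], [1, 4, 1, 1, 1, 1, 1, 1, 1, 1, 1, 1, 2, 2, 2, 2, 2, 2, 2, 2, 3, 4, 2, 2], [1, 2, 2, 2, 2, 4, 2, 1, 1, 1, 1, 1, 1, 1, 1, 1, 1], [1, 4, 1, 1, 1, 1, 1, 1, 1, 1, 1, 1], [0, 0, 1, 1, 1, 1, 1, 1, 1, 1, 1, 1, 2, 4, 2, 2, 2, 2, 4, 1, 1, 1, 1, 1, 1, 1, 1, 1, 1, 2, 3], [1, 1, 1, 1,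 1, 1, 1, 1, 1, 1, 2, 2, 2, 2, 4, 1, 1, 1, 1, 1, 1, 1, 1, 1, 1, 1, 1, 1, 1, 1, 1, 1, 1, 1, 1, 2, 3, 4, 2, 1, 1, 1, 1, 1, 1, 1, 1, 1, 1, 2, 2, 2, 2], [0, 1, 2, 2, 2, 2, 2, 2, 2, 2, 4, 1, 1, 1, 1, 1, 1, 1, 1, 1, 1, 2, 2, 2, 2, 4, 1, 1, 2, 2, 2, 2, 3], [2, 2, 2, 2, 2, 2, 2, 2, 3, 4, 2, 2], [1, 2, 4, 2, 2, 4, 2, 2, 1, 1, 1, 1, 1, 1, 1, 1, 1, 1], [0, 1, 2, 4, 2, 2, 2, 2, 4, 1, 2, 4, 2, 2, 2, 2, 4], [2, 1, 1, 1, 1, 1, 1, 1, 1, 1, 1, 2, 2, 2, 2, 3, 4, 2, 1, 2, 2, 2, 2], [1, 2, 2, 4, 2, 2, 2, 2, 4, 2, 2, 2, 2, 1, 1, 1, 1, 1, 1, 1, 1, 1, 1], [1, 2, 4, 2, 2, 2, 2, 1, 1, 1, 1, 1, 1, 1, 1, 1, 1], [0, 0, 2, 2, 2, 2, 1, 2, 2, 2, 2, 4, 1, 2, 2, 2, 2, 4, 1, 1, 1, 1, 1, 1, 1, 1, 1, 1, 3], [1, 2, 4, 2, 2, 2, 2, 4, 1, 1, 1, 1, 1, 1, 1, 1, 1, 1], [1, 2, 2, 2, 2, 3, 1, 1, 1, 1, 1, 1, 1, 1, 1, 1], [2, 1, 3, 1, 4, 2, 4, 1, 2, 3], [2, 3, 1, 1, 1, 1, 1, 1, 1, 1, 1, 1, 4, 1, 2, 3]]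

/-- Codes of the lifts of the involutions. -/
def cI : List ℕ := [260742594278937074702415845600573992978181843105694198711246160539379921640389072889588058144, 108346426529259824651996366080133222954119156024952690694194779984778512772950943232774211616, 102999053602218859458446344781189057562132622355471614177973436971403658836853918146921334816, 289517479818500197507327716011179032569409203570595776942585912185776381365125262382780057632, 276275970779260891638989506945992568692636052291379909286072011559605050629041433717850081312, 301229080713765142329274722312155380194028420187840114738498964964957188216834509658083395616, 68114416303762752757519385389153720239308054262062661369500087289349558441069452079130576928, 52708618773043872488070072420898463966181660713874002545431501751218907405895448853196867616, 33357862890579045918770663257463871358789464582200255178921150429253929595378882077366847520, 366670423274403870178812506278808962944175132327420499059570698240180668833052304833606354976,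 375963780198473301411739864397758137970274928277886188463050371814035418290189101822446700576, 58948502224605484402728546319310162636505398049378768247960385043941686612530716705011435552, 79064399621646455372941257474258401316252241390418396223667343722060841368637641632703940640, 79064399627308407198916906505590813032580065996896811582829201058247221256302323332353722400, 301993184794837047474971714931962042624334591555782931683317038199276321129828765678536067104, 364633109513285102356931013932675159766343125447971319519977941138507922730164447014973178944, 68114416294306874936824035921095397904442657692078375898818601839507179102964624569862817824, 271056674213356424134223480562761058617337692269290615301632094025135924963031948430391314464, 375582183713939946547420947304816350367596744873704488736610871752091223259536271200882885696, 371252235092676824759248240649276272439912907111114460120229836732728479643912418411731682368,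 72824453875643626083341536337903302562830737725346788864780689436867222943631440093269919776, 83391348767801961419585793461092974563535412493159715402466453456080249181448590898717198368, 108346426534981062029525010630047366763016723897515991729595423725718158048639280260028925984, 301229080704309103483562643457822375695393267828966446982966509873014568969301088165116872736, 370870009160125356445747082498998447628466528892078803587416602776988059082085757546523984960, 62511796115065738177925738349279802086549118165263831523769662005806801757407797870428521536, 276275970784982054835347504323661300156198850732218392753357183965851607872262597003183228960, 44433107653013441203052637159609425542332394085794151187032661769797898475996029686382691392, 34122198154228741662893187419062108476657415830290202561136367407930213258819003392964625472, 55637737958983828774707489191949703278926637410398253843844234840330098375941883299260172320,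 48381172174379997387443619759453159741509279279669278494647210654310367945068368399957133344, 301993184789175169826439740559811982446432676895514822668667068116737171264341355580770846752, 43669891284952109573347573097339759251356811915943350025299412399226188526163262395841546272, 260742594288452399096174806713516300295681261352828996599901259183679420074948970146596751392, 102999053611734022830473830514738480652523809314683803514230628446116740880496447096304535584, 33739910056272240864831859333264590560008254877823464606176740740540541315293698274841003072]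

/-- A basis of fixed vectors. -/
def mSp : ℕ := 50093510848242852559652580611063199884117345552780886021
/-- Its inverse. -/
def mSpi : ℕ := 334086787230322458539216379975301561165135070951790085122

/-- Fixed vectors. -/
def fxd (c v : ℕ) : Bool := Nat.beq (mv (km c) v) v

set_option synthInstance.maxSize 2000 in
theorem chk_vI : (∀ i < 36, okW 6 (vI.getD i []) = true ∧ kW (vI.getD i []) = nth cI i ∧
      kp (nth cI i) = nth LI i ∧ ko (nth cI i) = 0 ∧ km (kmul (nth cI i) (nth cI i)) = mI ∧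
      (i ≠ 0 → cnt (fxd (nth cI i)) 4096 = 256) ∧ ∀ j < 36, i ≠ 0 → j ≠ 0 → i ≠ j →
        anyL (fun v => Bool.and (fxd (nth cI i) v) (!fxd (nth cI j) v)) (List.range 122) = true) ∧
    nth LI 0 = pid ∧ LI.length = 36 ∧ okM mSp = true ∧ okM mSpi = true ∧ mm mSp mSpi = mI ∧
    (∀ i < 12, ∃ j < 36, j ≠ 0 ∧ inRB (nth LI j) = true ∧ fxd (nth cI j) (fld 16 mSp i) = true) ∧
    cnt (fun v => allL (fun j => fxd (nth cI j) v) [3, 7, 8, 9, 10, 11]) 4096 = 4 ∧
    (∀ j ∈ [3, 7, 8, 9, 10, 11], nth LI j ∈ LR2) ∧ cnt (fxd ca3) 4096 = 16 := by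
  decide +kernel

theorem chk_LI2 : (∀ i < 36, inM (nth LI i) = true) ∧ ∀ i < 36, ∀ j < 36, nth LI i = nth LI j → i = j := by
  decide +kernel

/-- The quotient by the centre, inside a larger group. -/
structure Qt {K L : Type*} [Group K] [Group L] (J : JA K) (f : K →* L) : Prop where
  ker : ∀ k, f k = 1 ↔ k = 1 ∨ k = J.z
  top : ∀ k, k ∈ J.HH
  rng : ∀ l ∈ normalizer (J.Q.map f : Set L), ∃ k, f k = l

namespace Qt

variable {K L : Type*} [Group K] [Group L] [Finite K] [Finite L] {J : JA K} {f : K →* L} (q : Qt J f)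

/-- The elementary abelian group. -/
abbrev A (_ : Qt J f) : Subgroup L := J.Q.map f

/-- The fixed points. -/
abbrev Fx (t : K) : Subgroup L := q.A ⊓ centralizer {f t}

include q

omit [Finite K] [Finite L] in
theorem fz : f J.z = 1 := (q.ker _).mpr (Or.inr rfl)

omit [Finite K] [Finite L] in
theorem ε_lo {x : ℕ} (hx : x < 8192) : f (J.e x) = f (J.e (lo x)) := by
  rcases J.e_lo hx ((lo_lt x).trans (by norm_num)) (lo_of_lt (lo_lt x)).symm with e | e
  · rw [← e]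
  · rw [e, map_mul, q.fz, mul_one]

omit [Finite K] [Finite L] in
theorem ε_inj {a b : ℕ} (ha : a < 4096) (hb : b < 4096) (e : f (J.e a) = f (J.e b)) : a = b := by
  have := J.lo_of_e (x := a) (y := b) (by omega) (by omega) (by
    rw [← inv_mul_eq_one, ← map_inv, ← map_mul, q.ker, inv_mul_eq_one, inv_mul_eq_iff_eq_mul] at e
    rcases e with e | e
    · exact Or.inl e
    · right; rw [e, mul_assoc, J.toHyp.zz, mul_one])
  rwa [lo_of_lt ha, lo_of_lt hb] at this

omit [Finite K] [Finite L] in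
theorem mem_A {a : L} : a ∈ q.A ↔ ∃ v < 4096, f (J.e v) = a := by
  constructor
  · rintro ⟨u, hu, rfl⟩
    obtain ⟨x, hx, rfl⟩ := J.e_surj u hu
    exact ⟨lo x, lo_lt x, (q.ε_lo hx).symm⟩
  · rintro ⟨v, hv, rfl⟩
    exact mem_map_of_mem f (J.e_mem v (by omega))

omit [Finite K] [Finite L] in
theorem hm : Hm fun v => f (J.e v) := ⟨fun a ha b hb => by
  rw [← map_mul, J.e_mul a (by omega) b (by omega), q.ε_lo (qm_lt (by omega) (by omega)), lo_qm,
    lo_of_lt ha, lo_of_lt hb]⟩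

omit [Finite K] [Finite L] in
theorem sq : ∀ a ∈ q.A, a * a = 1 := fun a ha => by
  obtain ⟨v, hv, rfl⟩ := q.mem_A.mp ha
  rw [← q.hm.1 v hv v hv, Nat.xor_self, J.e_zero, map_one]

omit [Finite K] [Finite L] in
theorem comm {a b : L} (ha : a ∈ q.A) (hb : b ∈ q.A) : a * b = b * a := comm_of_sq' q.sq ha hb

omit [Finite K] [Finite L] in
theorem fN (k : K) : f k ∈ normalizer (q.A : Set L) :=
  le_normalizer_map f ⟨k, J.lx.nz (q.top k), rfl⟩

omit [Finite K] [Finite L] in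
theorem card_set (X : Subgroup L) (hX : X ≤ q.A) (p : ℕ → Bool)
    (h : ∀ v < 4096, f (J.e v) ∈ X ↔ p v = true) : Nat.card X = cnt p 4096 := by
  rw [show Nat.card X = (X : Set L).ncard from Nat.card_coe_set_eq _]
  refine ncard_eq_cnt _ (fun v => f (J.e v)) _ _ (fun i hi j hj _ _ e => q.ε_inj hi hj e) fun a => ⟨fun ha => ?_, ?_⟩
  · obtain ⟨v, hv, rfl⟩ := q.mem_A.mp (hX ha)
    exact ⟨v, hv, (h v hv).mp ha, rfl⟩
  · rintro ⟨v, hv, h1, rfl⟩
    exact (h v hv).mpr h1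

omit [Finite K] [Finite L] in
theorem card_A : Nat.card q.A = 4096 := by
  rw [q.card_set _ le_rfl (fun _ => true) fun v hv => by simpa using q.mem_A.mpr ⟨v, hv, rfl⟩]
  decide +kernel

omit [Finite K] [Finite L] in
theorem Fx_Q {b : K} (hb : b ∈ J.Q) (t : K) : q.Fx (b * t) = q.Fx t := by
  ext a
  simp only [mem_inf, mem_centralizer_singleton_iff, map_mul]
  refine and_congr_right fun ha => ?_
  rw [← mul_assoc, q.comm ha (mem_map_of_mem f hb), mul_assoc, mul_assoc, mul_right_inj]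

omit [Finite K] [Finite L] in
theorem mem_Fx {k : K} {c v : ℕ} (hk : J.KD k c) (hv : v < 4096) : f (J.e v) ∈ q.Fx k ↔ fxd c v = true := by
  have := congrArg f (hk.conj v (by omega))
  rw [q.ε_lo (act_lt hk.ok (by omega)), lo_act hk.ok, lo_of_lt hv, map_mul, map_mul, map_inv] at this
  rw [mem_inf, mem_centralizer_singleton_iff, eq_comm, ← mul_inv_eq_iff_eq_mul, this, fxd, beq_iff]
  exact ⟨fun h => q.ε_inj (mv_lt hk.ok hv) hv h.2, fun h => ⟨q.mem_A.mpr ⟨v, hv, rfl⟩, by rw [h]⟩⟩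

omit [Finite K] [Finite L] in
theorem Fx_cj (h t : K) : q.Fx (h * t * h⁻¹) = H49.cj (q.Fx t) (f h) := by
  rw [H49.cj_inf, H49.cj_eq_iff.mpr (q.fN h), H49.cj_centralizer_singleton, Fx, map_mul, map_mul, map_inv]

omit [Finite K] [Finite L] in
theorem fpf {a : L} (ha : a ∈ q.A) (h : a * f J.ρ = f J.ρ * a) : a = 1 := by
  obtain ⟨v, hv, rfl⟩ := q.mem_A.mp ha
  have := (q.mem_Fx J.kd_ρ hv).mp ⟨ha, mem_centralizer_singleton_iff.mpr h⟩
  rw [fxd, beq_iff, km_kR] at this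
  rw [R_fix hv this, J.e_zero, map_one]

omit [Finite K] [Finite L] in
theorem ρ3 : f J.ρ ^ 3 = 1 := by rw [← map_pow, J.ρ3, map_one]

omit [Finite K] in
theorem mod3 {X : Subgroup L} (hX : X ≤ q.A) (h : ∀ a ∈ X, f J.ρ * a * (f J.ρ)⁻¹ ∈ X) :
    ∃ j ≤ 6, Nat.card X = 4 ^ j := by
  haveI : Fact (Nat.Prime 3) := ⟨Nat.prime_three⟩
  have c := card_modEq_cent h q.ρ3
  rw [show X ⊓ centralizer {f J.ρ} = ⊥ from eq_bot_iff.mpr fun a ha =>
    q.fpf (hX ha.1) (mem_centralizer_singleton_iff.mp ha.2), card_bot] at c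
  have d := card_dvd_of_le hX
  rw [q.card_A] at d
  obtain ⟨j, hj, e⟩ := (Nat.dvd_prime_pow Nat.prime_two (m := 12)).mp d
  rw [e] at c ⊢
  refine ⟨j / 2, by omega, ?_⟩
  interval_cases j <;> simp_all [Nat.ModEq]

theorem inner_ρ {t : K} (h : J.toHyp.φ t ∈ G22) : ∀ a ∈ q.Fx t, f J.ρ * a * (f J.ρ)⁻¹ ∈ q.Fx t := by
  obtain ⟨a, ha, k, c, hk, rfl⟩ := J.decomp (q.top t)
  rw [J.toHyp.φ_mul (J.e_H ha) hk.mem, J.φ_e ha, one_mul, J.ko_of_G22 hk, ← J.kd_comm_iff hk] at h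
  rw [q.Fx_Q (J.e_mem a ha)]
  intro u hu
  have := H49.conj_mem_cj (f J.ρ) hu
  rwa [← q.Fx_cj, ← h, mul_inv_cancel_right] at this

theorem outer {s : K} (h : J.toHyp.φ s ∉ G22) {C F : Subgroup L} (hC : C ≤ q.A)
    (hρ : ∀ a ∈ C, f J.ρ * a * (f J.ρ)⁻¹ ∈ C) (hF : F ≤ C) (hs : F ≤ q.Fx s) :
    Nat.card F * Nat.card F ≤ Nat.card C := by
  obtain ⟨a, ha, k, c, hk, rfl⟩ := J.decomp (q.top s)
  rw [J.toHyp.φ_mul (J.e_H ha) hk.mem, J.φ_e ha, one_mul, J.ko_of_G22 hk] at h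
  rw [q.Fx_Q (J.e_mem a ha)] at hs
  have e := congrArg f hk.ρ
  rw [show ko c = 1 by have := ko_le c; omega, pow_one, map_mul, map_mul, map_mul, map_inv] at e
  have h1 := card_mul_le hF (show H49.cj F (f J.ρ) ≤ C by
    rintro _ ⟨u, hu, rfl⟩; exact hρ u (hF hu))
  rw [H49.card_cj, show F ⊓ H49.cj F (f J.ρ) = ⊥ from eq_bot_iff.mpr ?_, card_bot, one_mul] at h1
  · exact h1
  rintro _ ⟨h1, u, hu, rfl⟩
  have c1 := mem_centralizer_singleton_iff.mp (hs hu).2
  have c2 : f J.ρ * u * (f J.ρ)⁻¹ * f k = f k * (f J.ρ * u * (f J.ρ)⁻¹) := mem_centralizer_singleton_iff.mp (hs h1).2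
  refine q.fpf (hC (hF h1)) ?_
  show f J.ρ * u * (f J.ρ)⁻¹ * f J.ρ = f J.ρ * (f J.ρ * u * (f J.ρ)⁻¹)
  generalize f J.ρ = r at *
  generalize f k = w at *
  calc r * u * r⁻¹ * r = (r * u * r⁻¹ * w) * w⁻¹ * r := by group
    _ = (w * r * w⁻¹) * (w * u * w⁻¹) * (w * r * w⁻¹)⁻¹ * r := by rw [c2]; group
    _ = _ := by rw [e, ← c1]; group

theorem inner_kd {t : K} (tt : t * t ∈ J.Q) (h : J.toHyp.φ t ∈ P22) :
    ∃ i < 36, J.toHyp.φ t = toM (nth LI i) ∧ ∀ v < 4096, f (J.e v) ∈ q.Fx t ↔ fxd (nth cI i) v = true := by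
  obtain ⟨y, hy, e⟩ := mem_LI h (by rw [← J.toHyp.φ_mul (q.top t) (q.top t), J.toHyp.φ_Q tt])
  obtain ⟨i, hi, e2⟩ := List.getElem_of_mem hy
  have hi' : i < 36 := chk_vI.2.2.1 ▸ hi
  rw [← List.getD_eq_getElem _ 0 hi, ← nth_eq] at e2
  subst e2
  obtain ⟨c1, c2, c3, c4, c5, -⟩ := chk_vI.1 i hi'
  have hk := J.kd_wd c1
  rw [c2] at hk
  obtain ⟨a, ha, rfl⟩ := J.eq_ek_inner hk c4 (J.kd_sq hk c5) (q.top t) tt (by rw [hk.φ, c3, ← e])
  exact ⟨i, hi', e.symm, fun v hv => by rw [q.Fx_Q (J.e_mem a ha), q.mem_Fx hk hv]⟩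

theorem three {c : L} (hc : c ∈ normalizer (q.A : Set L)) (c3 : c ^ 3 = 1) (c1 : c ≠ 1) :
    Nat.card ↥(q.A ⊓ centralizer {c}) ≤ 16 := by
  haveI : Fact (Nat.Prime 3) := ⟨Nat.prime_three⟩
  obtain ⟨k, rfl⟩ := q.rng c hc
  have k3 : (k ^ 4) ^ 3 = 1 := by
    rw [← pow_mul, mul_comm, pow_mul]
    rcases (q.ker (k ^ 3)).mp (by rw [map_pow, c3]) with e | e <;> rw [e]
    exacts [one_pow _, J.z4]
  have e : f (k ^ 4) = f k := by rw [map_pow, pow_succ, c3, one_mul]
  rw [← e] at c1 ⊢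
  generalize k ^ 4 = u at *
  obtain ⟨h, -, hh⟩ := J.sylIn_R3.exists_conj_le (zpowers_le.mpr (q.top u)) (isPGroup_zpowers (k := 1) k3)
  have m := hh (H98.conj_mem_map_conj (g := h) (mem_zpowers u))
  have : Nat.card (q.Fx (h * u * h⁻¹)) = Nat.card (q.Fx u) := by rw [q.Fx_cj, H49.card_cj]
  rw [← this]
  rcases J.R3_cases m (fun e => c1 (by rw [show u = 1 by simpa using e, map_one])) with e | ⟨e, -⟩
  · rw [show q.Fx (h * u * h⁻¹) = ⊥ from eq_bot_iff.mpr fun a ha => q.fpf ha.1 ?_]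
    · simp
    rcases e with e | e <;> rw [e] at ha
    · exact mem_centralizer_singleton_iff.mp ha.2
    · rw [Fx, map_mul, cent_sq q.ρ3] at ha
      exact mem_centralizer_singleton_iff.mp ha.2
  · obtain ⟨w, e⟩ := isConj_iff.mp e
    rw [← e, q.Fx_cj, H49.card_cj, q.card_set _ inf_le_left _ fun v hv => q.mem_Fx J.kd_a3.1 hv,
      chk_vI.2.2.2.2.2.2.2.2.2]

theorem two {t : K} (tt : t * t ∈ J.Q) (h : t ∉ J.Q) : Nat.card (q.Fx t) ≤ 256 := by
  by_cases h1 : J.toHyp.φ t ∈ G22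
  · have p : IsPGroup 2 (zpowers t) := isPGroup_zpowers (k := 3) (by
      rw [show 2 ^ 3 = 2 * 4 by rfl, pow_mul, pow_two, J.toHyp.xs.pow_four tt])
    obtain ⟨k, hk, e⟩ := J.exists_conj_P22' p
    have tk : k * t * k⁻¹ * (k * t * k⁻¹) ∈ J.Q := by
      rw [show k * t * k⁻¹ * (k * t * k⁻¹) = k * (t * t) * k⁻¹ by group]; exact J.toHyp.conjQ hk tt
    obtain ⟨i, hi, e1, e2⟩ := q.inner_kd tk (e _ (J.mem_im.mpr ⟨_, H49.conj_mem_cj k (mem_zpowers t), q.top _, rfl⟩)
      (by rwa [J.toHyp.φ_conj hk (q.top t), conj_mem_G22_iff (J.toHyp.φ_mem k)]))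
    rw [← H49.card_cj _ (f k), ← q.Fx_cj, q.card_set _ inf_le_left _ e2, (chk_vI.1 i hi).2.2.2.2.2.1]
    rintro rfl
    rw [chk_vI.2.1, toM_pid] at e1
    have := J.mem_Q_of_pow (q.top _) e1 (n := 3) (by
      rw [show 2 ^ 3 = 2 * 4 by rfl, pow_mul, pow_two, J.toHyp.xs.pow_four tk])
    exact h (by simpa [mul_assoc] using J.toHyp.conjQ (inv_mem hk) this)
  · have := q.outer h1 le_rfl (fun a ha => H83.conj_mem le_rfl (q.fN _) ha) inf_le_left le_rfl
    rw [q.card_A] at this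
    nlinarith

omit [Finite K] [Finite L] in
theorem mem_Q {t : K} : f t ∈ q.A ↔ t ∈ J.Q := by
  refine ⟨?_, mem_map_of_mem f⟩
  rintro ⟨u, hu, e⟩
  rw [← inv_mul_eq_one, ← map_inv, ← map_mul, q.ker] at e
  rw [← J.Q.mul_mem_cancel_left (inv_mem hu)]
  rcases e with e | e <;> rw [e]
  exacts [one_mem _, J.toHyp.zQ]

theorem fix_prime {c : L} (hc : c ∈ normalizer (q.A : Set L)) {p : ℕ} (hp : p.Prime) (cp : c ^ p = 1)
    (c1 : c ∉ q.A) : Nat.card ↥(q.A ⊓ centralizer {c}) ≤ 256 := by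
  haveI := Fact.mk hp
  by_cases p3 : p = 3
  · subst p3
    exact (q.three hc cp fun e => c1 (e ▸ one_mem _)).trans (by norm_num)
  obtain ⟨k, rfl⟩ := q.rng c hc
  rcases hp.eq_two_or_odd' with rfl | ⟨n, hn⟩
  · exact q.two (by rw [← q.mem_Q, map_mul, ← pow_two, cp]; exact one_mem _) (by rwa [← q.mem_Q])
  have h1 : J.toHyp.φ (k ^ (p + 1)) ∈ G22 := by
    rw [show p + 1 = (n + 1) + (n + 1) by omega, pow_add, J.toHyp.φ_mul (q.top _) (q.top _)]
    by_cases h : J.toHyp.φ (k ^ (n + 1)) ∈ G22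
    exacts [mul_mem h h, mul_mem_G22 (J.toHyp.φ_mem _) (J.toHyp.φ_mem _) h h]
  have h2 := q.inner_ρ h1
  rw [Fx, map_pow, pow_succ, cp, one_mul] at h2
  obtain ⟨j, hj, e⟩ := q.mod3 inf_le_left h2
  have c := card_modEq_cent (fun a ha => H83.conj_mem le_rfl hc ha) cp
  have j6 : j ≠ 6 := fun e2 => by
    have e3 : q.A ⊓ centralizer {f k} = q.A := eq_of_le_of_card_ge inf_le_left (by rw [e, e2, q.card_A]; norm_num)
    refine c1 (q.mem_Q.mpr (J.lx.mem_of_conj fun u hu => ?_))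
    have := mem_centralizer_singleton_iff.mp (e3.ge (mem_map_of_mem f hu)).2
    rw [← map_mul, ← map_mul, eq_comm, ← mul_inv_eq_one, ← map_inv, ← map_mul, q.ker,
      mul_inv_eq_one, mul_inv_eq_iff_eq_mul] at this
    rcases this with e | e <;> rw [e]
    · simp
    · right; rw [mul_assoc, mul_inv_cancel_right, J.toHyp.xs.cen u hu]
  have j5 : j ≠ 5 := fun e2 => by
    rw [e, e2, q.card_A] at c
    have := (Nat.modEq_iff_dvd' (by norm_num)).mp c.symm
    rcases (Nat.Prime.dvd_mul hp (m := 3) (n := 2 ^ 10)).mp this with h | h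
    · exact p3 ((Nat.prime_dvd_prime_iff_eq hp Nat.prime_three).mp h)
    · have := (Nat.prime_dvd_prime_iff_eq hp Nat.prime_two).mp (hp.dvd_of_dvd_pow h); omega
  rw [e]
  exact (Nat.pow_le_pow_right (by norm_num) (show j ≤ 4 by omega)).trans (by norm_num)

theorem card_comap {X : Subgroup L} (hX : X ≤ normalizer (q.A : Set L)) :
    Nat.card (X.comap f) = 2 * Nat.card X := by
  let g : X.comap f →* X := (f.comp (X.comap f).subtype).codRestrict X fun a => a.2
  have s : Function.Surjective g := fun a => by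
    obtain ⟨k, e⟩ := q.rng a (hX a.2)
    exact ⟨⟨k, by rw [mem_comap, e]; exact a.2⟩, Subtype.ext e⟩
  have zX : zpowers J.z ≤ X.comap f := zpowers_le.mpr (by rw [mem_comap, q.fz]; exact one_mem _)
  have e : g.ker = (zpowers J.z).subgroupOf (X.comap f) := by
    ext a
    rw [MonoidHom.mem_ker, mem_subgroupOf, H49.mem_zpowers_invol J.toHyp.zz, ← q.ker]
    exact Subtype.ext_iff
  rw [card_eq_card_quotient_mul_card_subgroup g.ker, Nat.card_congr (QuotientGroup.quotientKerEquivOfSurjective g s).toEquiv,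
    e, Nat.card_congr (subgroupOfEquivOfLe zX).toEquiv, H49.card_zpowers_invol J.toHyp.z_ne J.toHyp.zz, mul_comm]

theorem nc0 {B A₁ : Subgroup L} (hB : B ≤ normalizer (q.A : Set L)) (sq : ∀ b ∈ B, b * b = 1)
    (hne : ¬ B ≤ q.A) (h1 : A₁ ≤ q.A) (h2 : ∀ t ∈ B, t ∉ q.A → q.A ⊓ centralizer {t} ≤ A₁)
    (h3 : Nat.card A₁ ≤ Nat.card B) (h4 : Nat.card q.A * Nat.card ↥(q.A ⊓ B) ≤ Nat.card B ^ 2)
    (hP : ∀ g ∈ J.im (B.comap f), g ∈ G22 → g ∈ P22) : False := by
  have tQ : ∀ t ∈ B.comap f, t * t ∈ J.Q := fun t ht => by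
    rw [← q.mem_Q, map_mul, sq _ ht]; exact one_mem _
  have p2 : IsPGroup 2 (B.comap f) := isPGroup_iff.mpr fun t ht => ⟨3, by
    rw [show 2 ^ 3 = 2 * 4 by rfl, pow_mul, pow_two, J.toHyp.xs.pow_four (tQ t ht)]⟩
  have c1 := J.card_im2 (fun k _ => q.top k) p2
  rw [show B.comap f ⊓ J.Q = (q.A ⊓ B).comap f by ext a; simp only [mem_inf, mem_comap, q.mem_Q, and_comm],
    q.card_comap hB, q.card_comap (inf_le_right.trans hB)] at c1
  have c2 := card_le_two_mul (J.im_le (B.comap f))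
  have sqW : ∀ g ∈ J.im (B.comap f) ⊓ G22, g * g = 1 := fun g hg => by
    obtain ⟨t, ht, h, rfl⟩ := J.mem_im.mp hg.1
    rw [← J.toHyp.φ_mul h h, J.toHyp.φ_Q (tQ t ht)]
  have c3 := g22_elab inf_le_right sqW
  have DF : ∀ t ∈ B.comap f, q.A ⊓ B ≤ q.Fx t := fun t ht d hd =>
    ⟨hd.1, mem_centralizer_singleton_iff.mpr (comm_of_sq' sq hd.2 ht)⟩
  have nQ : ∀ t, J.toHyp.φ t ≠ 1 → f t ∉ q.A := fun t h h' => h (J.toHyp.φ_Q (q.mem_Q.mp h'))
  have p : 0 < Nat.card ↥(q.A ⊓ B) := Nat.card_pos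
  rw [q.card_A] at h4
  have eW : (∀ s ∈ B.comap f, J.toHyp.φ s ∈ G22) → J.im (B.comap f) ⊓ G22 = J.im (B.comap f) := fun h =>
    inf_eq_left.mpr fun g hg => by obtain ⟨t, ht, -, rfl⟩ := J.mem_im.mp hg; exact h t ht
  by_cases w2 : Nat.card ↥(J.im (B.comap f) ⊓ G22) ≤ 2
  · by_cases ho : ∀ s ∈ B.comap f, J.toHyp.φ s ∈ G22
    · obtain ⟨b, hb, hb'⟩ := SetLike.not_le_iff_exists.mp hne
      obtain ⟨t, rfl⟩ := q.rng b (hB hb)
      have := (card_le_of_le (DF t hb)).trans (q.two (tQ t hb) (by rwa [← q.mem_Q]))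
      rw [eW ho] at w2
      have : Nat.card B ≤ Nat.card ↥(q.A ⊓ B) * 2 := by nlinarith
      nlinarith
    · push Not at ho
      obtain ⟨s, hs, ho⟩ := ho
      have := q.outer ho le_rfl (fun a ha => H83.conj_mem le_rfl (q.fN _) ha) inf_le_left (DF s hs)
      rw [q.card_A] at this
      have : Nat.card ↥(q.A ⊓ B) ≤ 64 := by nlinarith
      have : Nat.card B ≤ Nat.card ↥(q.A ⊓ B) * 4 := by nlinarith
      nlinarith
  have kd : ∀ g ∈ J.im (B.comap f) ⊓ G22, g ≠ 1 → ∃ t ∈ B.comap f, J.toHyp.φ t = g ∧ ∃ i < 36, i ≠ 0 ∧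
      g = toM (nth LI i) ∧ ∀ v < 4096, f (J.e v) ∈ q.Fx t ↔ fxd (nth cI i) v = true := fun g hg g1 => by
    obtain ⟨t, ht, h, rfl⟩ := J.mem_im.mp hg.1
    obtain ⟨i, hi, e1, e2⟩ := q.inner_kd (tQ t ht) (hP _ hg.1 hg.2)
    exact ⟨t, ht, rfl, i, hi, fun e => g1 (by rw [e1, e, chk_vI.2.1, toM_pid]), e1, e2⟩
  obtain ⟨g, hg, g', hg', g1, g2, g3⟩ : ∃ g ∈ J.im (B.comap f) ⊓ G22, ∃ g' ∈ J.im (B.comap f) ⊓ G22,
      g ≠ 1 ∧ g' ≠ 1 ∧ g ≠ g' := by
    by_contra hc
    push Not at hc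
    obtain ⟨g, hg, g1⟩ : ∃ g ∈ J.im (B.comap f) ⊓ G22, g ≠ 1 := by
      by_contra h; push Not at h
      rw [(eq_bot_iff_forall _).mpr h, card_bot] at w2; omega
    refine w2 ((ncard_le_length (J.im (B.comap f) ⊓ G22 : Subgroup M24) (fun i => if i = 0 then 1 else g) [0, 1]
      fun u hu => ?_).trans (by simp))
    by_cases h : u = 1
    · exact ⟨0, by simp, by simp [h]⟩
    · exact ⟨1, by simp, by simp [hc g hg u hu g1 h]⟩
  obtain ⟨t, ht, e0, i, hi, i0, e1, e2⟩ := kd g hg g1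
  obtain ⟨t', ht', e0', j, hj, j0, e1', e2'⟩ := kd g' hg' g2
  have d1 : Nat.card (q.Fx t) = 256 := by rw [q.card_set _ inf_le_left _ e2, (chk_vI.1 i hi).2.2.2.2.2.1 i0]
  have d2 : Nat.card (q.Fx t') = 256 := by rw [q.card_set _ inf_le_left _ e2', (chk_vI.1 j hj).2.2.2.2.2.1 j0]
  have r1 := q.inner_ρ (e0 ▸ hg.2)
  have d3 : Nat.card ↥(q.Fx t ⊓ q.Fx t') ≤ 64 := by
    obtain ⟨k, -, e⟩ := q.mod3 (X := q.Fx t ⊓ q.Fx t') (inf_le_left.trans inf_le_left)
      fun a ha => ⟨r1 a ha.1, q.inner_ρ (e0' ▸ hg'.2) a ha.2⟩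
    have l := card_le_of_le (inf_le_left (a := q.Fx t) (b := q.Fx t'))
    have : Nat.card ↥(q.Fx t ⊓ q.Fx t') ≠ 256 := fun e' => by
      obtain ⟨v, hv, h⟩ := anyL_iff.mp ((chk_vI.1 i hi).2.2.2.2.2.2 j hj i0 j0 fun e => g3 (by rw [e1, e1', e]))
      have hv' : v < 4096 := (List.mem_range.mp hv).trans (by norm_num)
      rw [Bool.and_eq_true, ← e2 v hv', Bool.not_eq_true', Bool.eq_false_iff, Ne, ← e2' v hv'] at h
      exact h.2 ((eq_of_le_of_card_ge (inf_le_left (a := q.Fx t) (b := q.Fx t')) (by omega)).ge h.1).2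
    rw [e] at l this ⊢
    rw [d1] at l
    have : k < 4 := by
      by_contra hk
      have := Nat.pow_le_pow_right (show 0 < 4 by norm_num) (show 4 ≤ k by omega)
      omega
    exact (Nat.pow_le_pow_right (by norm_num) (show k ≤ 3 by omega)).trans (by norm_num)
  have d4 := card_mul_le (h2 _ ht (nQ t (e0 ▸ g1))) (h2 _ ht' (nQ t' (e0' ▸ g2)))
  change Nat.card (q.Fx t) * Nat.card (q.Fx t') ≤ Nat.card ↥(q.Fx t ⊓ q.Fx t') * _ at d4
  rw [d1, d2] at d4
  have d5 : 1024 ≤ Nat.card B := by nlinarith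
  by_cases ho : ∀ s ∈ B.comap f, J.toHyp.φ s ∈ G22
  swap
  · push Not at ho
    obtain ⟨s, hs, ho⟩ := ho
    have := q.outer ho inf_le_left r1 (DF t ht) (DF s hs)
    rw [d1] at this
    have : Nat.card ↥(q.A ⊓ B) ≤ 16 := by nlinarith
    nlinarith
  have d6 := (card_le_of_le (le_inf (DF t ht) (DF t' ht'))).trans d3
  have d7 : 16 ≤ Nat.card ↥(J.im (B.comap f) ⊓ G22) := by rw [eW ho]; nlinarith
  have inj : ∀ {i j}, i < 36 → j < 36 → toM (nth LI i) = toM (nth LI j) → i = j := fun {i j} hi hj e =>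
    chk_LI2.2 i hi j hj (toM_inj (chk_LI2.1 i hi) (chk_LI2.1 j hj) e)
  rw [eW ho] at c3
  rcases elab_P22 (J.im (B.comap f) ⊓ G22) (fun g hg => hP g hg.1 hg.2) sqW with h | h | h
  · have e3 := eq_of_le_of_card_ge h (by rw [card_RB]; exact d7)
    obtain ⟨-, -, -, o1, o2, o3, o4, -⟩ := chk_vI
    have : A₁ = q.A := le_antisymm h1 fun a ha => by
      obtain ⟨v, hv, rfl⟩ := q.mem_A.mp ha
      rw [← mv_mI hv, ← o3, mv_mm _ o2 hv, mv_eq _ (mv_lt o2 hv), q.hm.mvS o1]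
      refine pr_mem _ _ _ fun k hk => ?_
      obtain ⟨j, hj, j0, j1, j2⟩ := o4 k hk
      have m := chk_LI2.1 j hj
      have n1 : toM (nth LI j) ≠ 1 := fun e => j0 (inj hj (by norm_num) (by rw [e, chk_vI.2.1, toM_pid]))
      obtain ⟨t, ht, e0, i, hi, -, e1, e2⟩ := kd _ (e3.ge ((inRB_iff m).mp j1)) n1
      rw [← inj hj hi e1] at e2
      exact h2 _ ht (nQ t (e0 ▸ n1)) ((e2 _ ((okM_iff.mp o1).2 k hk)).mpr j2)
    rw [this, q.card_A] at h3
    nlinarith
  · have h5 := mem_of_length_le (J.im (B.comap f) ⊓ G22 : Subgroup M24) toM LR2 h (chk_w9.2.2.2.1 ▸ d7)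
    obtain ⟨-, -, -, -, -, -, -, o1, o2, -⟩ := chk_vI
    have : Nat.card ↥(q.A ⊓ B) ≤ 4 := by
      rw [← o1, ← ncard_eq_cnt {a | ∃ v < 4096, allL (fun j => fxd (nth cI j) v) [3, 7, 8, 9, 10, 11] = true ∧
        f (J.e v) = a} (fun v => f (J.e v)) _ _ (fun i hi j hj _ _ e => q.ε_inj hi hj e) fun a => Iff.rfl]
      refine Set.ncard_le_ncard (s := ((q.A ⊓ B : Subgroup L) : Set L)) (fun a ha => ?_) (Set.toFinite _)
      obtain ⟨v, hv, rfl⟩ := q.mem_A.mp ha.1
      refine ⟨v, hv, allL_iff.mpr fun j hj => ?_, rfl⟩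
      have j1 : j < 36 ∧ j ≠ 0 := by revert j; decide
      obtain ⟨t, ht, -, i, hi, -, e1, e2⟩ := kd _ (h5 _ (o2 j hj))
        fun e => j1.2 (inj j1.1 (by norm_num) (by rw [e, chk_vI.2.1, toM_pid]))
      rw [← inj j1.1 hi e1] at e2
      exact (e2 v hv).mp (DF t ht ha)
    nlinarith
  · omega

theorem nc : NC q.A := fun B A₁ hB sq hne h1 h2 h3 h4 => by
  obtain ⟨h, -, hP⟩ := J.exists_conj_P22' (S := B.comap f) (isPGroup_iff.mpr fun t ht => ⟨3, by
    rw [show 2 ^ 3 = 2 * 4 by rfl, pow_mul, pow_two, J.toHyp.xs.pow_four (by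
      rw [← q.mem_Q, map_mul, sq _ ht]; exact one_mem _)]⟩)
  have eA := H49.cj_eq_iff.mpr (q.fN h)
  refine q.nc0 (B := H49.cj B (f h)) (A₁ := H49.cj A₁ (f h)) (cj_le_of_mem hB (q.fN h)) (cj_sq sq _)
    (fun hl => hne fun b hb => ?_) (eA ▸ H49.cj_mono h1 _) ?_ (by rwa [H49.card_cj, H49.card_cj])
    (by rw [H49.card_cj]; nth_rw 2 [← eA]; rwa [← H49.cj_inf, H49.card_cj]) (by
      rwa [show (H49.cj B (f h)).comap f = H49.cj (B.comap f) h by
        ext a; simp only [mem_comap, H49.mem_cj, map_mul, map_inv]])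
  · have := hl (H49.conj_mem_cj (f h) hb)
    rw [← eA, H49.mem_cj] at this
    simpa [mul_assoc] using this
  · rintro _ ⟨t, ht, rfl⟩ h'
    have := H49.cj_mono (h2 t ht fun h'' => h' (H83.conj_mem le_rfl (q.fN h) h'')) (f h)
    rwa [H49.cj_inf, eA, H49.cj_centralizer_singleton] at this

theorem normal (hC : ∀ c, c * f J.ρ = f J.ρ * c → c ∈ normalizer (q.A : Set L)) :
    normalizer (q.A : Set L) = ⊤ := by
  refine ti_normal q.sq q.nc (fun D hD m h1 h2 h3 => ?_) (q.fN J.ρ) q.ρ3 fun D hD h1 c h2 h3 => ?_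
  · have c1 := q.card_comap (X := normalizer (q.A : Set L)) le_rfl
    rw [show (normalizer (q.A : Set L)).comap f = J.HH from
      eq_top_iff.mpr (fun k _ => q.fN k) |>.trans (eq_top_iff.mpr fun k _ => q.top k).symm, J.card_HH] at c1
    have c2 := h3.trans (card_dvd_of_le inf_le_left)
    rw [show Nat.card (normalizer (q.A : Set L)) = 10899947520 by omega] at c2
    have key : ∀ p, p.Prime → p ≠ 2 → p ∣ m → Nat.card D ≤ 256 ∧ (p = 3 → Nat.card D ≤ 16) := fun p hp p2 hd => by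
      haveI := Fact.mk hp
      obtain ⟨⟨c, hc⟩, e⟩ := exists_prime_orderOf_dvd_card' p (hd.trans h3)
      have e' : orderOf c = p := by rw [← e]; exact (orderOf_mk _ _).symm
      have l := card_le_of_le (show D ≤ q.A ⊓ centralizer {c} from fun d hd =>
        ⟨hD hd, mem_centralizer_singleton_iff.mpr (hc.2 d hd)⟩)
      refine ⟨l.trans (q.fix_prime hc.1 hp (e' ▸ pow_orderOf_eq_one c) fun h => p2 ?_), fun p3 => l.trans
        (q.three hc.1 (p3 ▸ e' ▸ pow_orderOf_eq_one c) fun e => hp.one_lt.ne' (by rw [← e', e, orderOf_one]))⟩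
      exact (Nat.prime_dvd_prime_iff_eq hp Nat.prime_two).mp
        (e' ▸ orderOf_dvd_of_pow_eq_one (by rw [pow_two, q.sq c h]))
    have d := card_dvd_of_le hD
    rw [q.card_A] at d h1
    obtain ⟨j, hj, e⟩ := (Nat.dvd_prime_pow Nat.prime_two (m := 12)).mp d
    have k3 := key 3 Nat.prime_three (by norm_num)
    have k7 := key 7 (by norm_num) (by norm_num)
    rw [e] at h1 k3 k7
    have em : m = 2 ^ (12 - j) - 1 := by interval_cases j <;> omega
    subst em
    clear key h1 h3 e d c1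
    interval_cases j <;> omega
  · by_contra c1
    obtain ⟨p, hp, hd⟩ := Nat.exists_prime_and_dvd (n := orderOf c) (by simpa using c1)
    have o := orderOf_pow_orderOf_div (orderOf_pos c).ne' hd
    have l := card_le_of_le (show D ≤ q.A ⊓ centralizer {c ^ (orderOf c / p)} from fun d hd =>
      ⟨hD hd, mem_centralizer_singleton_iff.mpr ((show Commute c d from h3 d hd).pow_left _).eq.symm⟩)
    have := q.fix_prime (pow_mem (hC c h2) (orderOf c / p)) hp (by rw [← pow_mul, Nat.div_mul_cancel hd, pow_orderOf_eq_one]) fun h =>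
      hp.one_lt.ne' (by rw [← o, q.fpf h ((show Commute c _ from h2).pow_left _).eq, orderOf_one])
    rw [q.card_A] at h1
    omega

end Qt

namespace Cov

variable {G : Type*} [Group G] {x z : G} (h : Cov x z)

/-- Restriction to a subgroup containing the centraliser. -/
noncomputable def pull {K : Type*} [Group K] (f : K →* G) (inj : Function.Injective f) {x' z' : K}
    (hx : f x' = x) (hz : f z' = z) (hr : h.C ≤ f.range) : Cov x' z' where
  π := h.π.comp ((f.comp (centralizer {x'}).subtype).codRestrict (centralizer {x}) fun c => by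
    have := congrArg f (mem_centralizer_singleton_iff.mp c.2)
    rw [map_mul, map_mul, hx] at this
    exact mem_centralizer_singleton_iff.mpr this)
  x3 := inj (by rw [map_pow, hx, h.x3, map_one])
  x1 := fun e => h.x1 (by rw [← hx, e, map_one])
  zz := inj (by rw [map_mul, hz, h.zz, map_one])
  cz := fun c hc => inj (by
    have := congrArg f hc
    rw [map_mul, map_mul, hx] at this
    rw [map_mul, map_mul, hz, h.cz _ this])
  mem := fun c => h.mem _
  surj := fun k hk => by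
    obtain ⟨c, e⟩ := h.surj k hk
    obtain ⟨d, e'⟩ := hr c.2
    refine ⟨⟨d, mem_centralizer_singleton_iff.mpr (inj ?_)⟩, ?_⟩
    · rw [map_mul, map_mul, hx, e']; exact mem_centralizer_singleton_iff.mp c.2
    · rw [← e, MonoidHom.comp_apply]; congr 1; exact Subtype.ext e'
  ker := fun c => by
    rw [MonoidHom.comp_apply, h.ker, ← mem_map_iff_mem inj, ← mem_map_iff_mem (x := c * z') inj,
      MonoidHom.map_zpowers, map_mul]
    subst hx hz
    rfl
  perf := fun c hc => by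
    have e : (centralizer {x'}).map f = h.C := le_antisymm (by
      rintro _ ⟨d, hd, rfl⟩
      have := congrArg f (mem_centralizer_singleton_iff.mp hd)
      rw [map_mul, map_mul, hx] at this
      exact h.memC.mpr this) fun c hc => by
        obtain ⟨d, rfl⟩ := hr hc
        exact ⟨d, mem_centralizer_singleton_iff.mpr (inj (by
          rw [map_mul, map_mul, hx]; exact h.memC.mp hc)), rfl⟩
    rw [← mem_map_iff_mem inj, map_commutator, e]
    exact h.perf (e.le (mem_map_of_mem f hc))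

theorem memC_of_map {L : Type*} [Group L] {f : G →* L} (ker : ∀ k, f k = 1 → k = 1 ∨ k = z)
    {c : G} (hc : f c * f x = f x * f c) : c ∈ h.C := by
  rcases ker (x⁻¹ * (c * x * c⁻¹)) (by simp [hc]) with e | e
  · rw [inv_mul_eq_one, eq_mul_inv_iff_mul_eq] at e
    exact h.memC.mpr e.symm
  · have e2 : (x * z) ^ 3 = 1 := by rw [← e, mul_inv_cancel_left, conj_pow, h.x3]; simp
    rw [(show Commute x z from h.cz x rfl).mul_pow, h.x3, one_mul, pow_succ, pow_two, h.zz, one_mul] at e2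
    rw [e2, inv_mul_eq_one, eq_mul_inv_iff_mul_eq] at e
    exact h.memC.mpr e.symm

include h in
theorem push {L : Type*} [Group L] (f : G →* L) (surj : Function.Surjective f)
    (ker : ∀ k, f k = 1 ↔ k = 1 ∨ k = z) : Nonempty (Cov (f x) 1) := by
  have mC : ∀ {c}, f c ∈ centralizer {f x} → c ∈ h.C := fun hc =>
    h.memC_of_map (fun k => (ker k).mp) (mem_centralizer_singleton_iff.mp hc)
  have mC' : ∀ {c}, c ∈ h.C → f c ∈ centralizer {f x} := fun hc =>
    mem_centralizer_singleton_iff.mpr (by rw [← map_mul, ← map_mul, h.memC.mp hc])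
  have wd : ∀ {c d}, c ∈ h.C → d ∈ h.C → f c = f d → h.φ c = h.φ d := fun {c d} hc hd e => by
    rw [← inv_mul_eq_one, ← map_inv, ← map_mul, ker] at e
    rw [← inv_mul_eq_one, ← h.φ_inv hc, ← h.φ_mul (inv_mem hc) hd]
    rcases e with e | e <;> rw [e]
    exacts [h.φ_one, h.φ_z]
  choose s hs using surj
  have sC : ∀ c : centralizer {f x}, s c ∈ h.C := fun c => mC (by rw [hs]; exact c.2)
  have fz : f z = 1 := (ker z).mpr (Or.inr rfl)
  refine ⟨⟨MonoidHom.mk' (fun c => h.φ (s c)) fun a b => ?_, by rw [← map_pow, h.x3, map_one], fun e => ?_,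
    mul_one _, fun c _ => by simp, fun c => h.φ_mem _, fun k hk => ?_, fun c => ?_, fun c hc => ?_⟩⟩
  · rw [← h.φ_mul (sC a) (sC b)]
    exact wd (sC _) (mul_mem (sC a) (sC b)) (by rw [map_mul, hs, hs, hs]; rfl)
  · rcases (ker x).mp e with e | e
    · exact h.x1 e
    · have := h.x3
      rw [pow_succ, pow_two, e, h.zz, one_mul, ← e] at this
      exact h.x1 this
  · obtain ⟨c, hc, rfl⟩ := h.φ_surj hk
    exact ⟨⟨f c, mC' hc⟩, wd (sC ⟨f c, mC' hc⟩) hc (hs _)⟩
  · show h.φ (s c) = 1 ↔ _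
    rw [mul_one, or_self, h.φ_ker (sC c), ← MonoidHom.map_zpowers]
    constructor
    · rintro (e | e)
      · exact ⟨_, e, hs _⟩
      · exact ⟨_, e, by rw [map_mul, fz, mul_one, hs]⟩
    · rintro ⟨u, hu, e⟩
      rw [← hs c, ← inv_mul_eq_one, ← map_inv, ← map_mul, ker, inv_mul_eq_one, inv_mul_eq_iff_eq_mul] at e
      rcases e with e | e
      · exact Or.inl (e ▸ hu)
      · right; rw [e, mul_assoc, h.zz, mul_one]; exact hu
  · have e : h.C.map f = centralizer {f x} := le_antisymm (by rintro _ ⟨d, hd, rfl⟩; exact mC' hd)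
      fun c hc => ⟨s c, sC ⟨c, hc⟩, hs c⟩
    rw [← e, ← map_commutator]
    exact ⟨s c, h.perf (sC ⟨c, hc⟩), hs c⟩

/-- An extraspecial group normalised by the normaliser of `⟨x⟩` is normal in the centraliser of `z`. -/
theorem lx_of_norm [Finite G] {Q : Subgroup G} (xs : XS Q z) (hc : Nat.card Q = 8192)
    (cQ : centralizer (Q : Set G) ≤ Q) (hN : h.N ≤ normalizer (Q : Set G)) {n : G}
    (hn : n * x * n⁻¹ = x * x) : LX Q z := by
  let K := normalizer (Q : Set G)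
  have QK : Q ≤ K := le_normalizer
  have CK : h.C ≤ K := h.C_le_N.trans hN
  let H := centralizer ({z} : Set G)
  have KH : K ≤ H := fun k hk => by
    rcases xs.cent _ (H83.conj_mem le_rfl hk xs.mem) (fun u hu => by
      have := xs.cen _ (H83.conj_mem' le_rfl hk hu)
      calc k * z * k⁻¹ * u = k * (z * (k⁻¹ * u * k)) * k⁻¹ := by group
        _ = _ := by rw [← this]; group) with e | e
    · exact absurd (by simpa using e) xs.ne
    · exact mem_centralizer_singleton_iff.mpr (mul_inv_eq_iff_eq_mul.mp e)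
  let x' : K := ⟨x, CK h.xC⟩
  let z' : K := ⟨z, QK xs.mem⟩
  have hm : (Q.subgroupOf K).map K.subtype = Q := map_subgroupOf_eq_of_le QK
  have lx' : LX (Q.subgroupOf K) z' :=
    ⟨XS.of_map (f := K.subtype) K.subtype_injective (by rw [hm]; exact xs), fun c hc => cQ fun q hq =>
      congrArg Subtype.val (hc ⟨q, QK hq⟩ hq), fun c _ =>
      H49.mem_normalizer_of_conj_mem fun u hu => H83.conj_mem (N := Q) le_rfl c.2 hu⟩
  obtain ⟨k, k1, k2, k3⟩ := (h.pull K.subtype K.subtype_injective (x' := x') (z' := z') rfl rfl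
    (by rwa [range_subtype])).hyp lx' (by rw [Nat.card_congr (subgroupOfEquivOfLe QK).toEquiv, hc])
    (n := ⟨n, hN (h.mem_N.mpr (Or.inr hn))⟩) (Subtype.ext hn)
  obtain ⟨J, j1, j2, j3⟩ := k.exists_JA
  rw [k1] at j1
  rw [k2] at j2
  rw [k3] at j3
  let zH : H := ⟨z, KH z'.2⟩
  haveI : (zpowers zH).Normal := ⟨fun a ha c => by
    obtain ⟨m, rfl⟩ := ha
    have : Commute c zH := Subtype.ext (mem_centralizer_singleton_iff.mp c.2)
    simp only
    rw [(this.zpow_right m).eq, mul_inv_cancel_right]; exact zpow_mem (mem_zpowers _) m⟩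
  let π := QuotientGroup.mk' (zpowers zH)
  have kπ : ∀ c, π c = 1 ↔ c = 1 ∨ c = zH := fun c =>
    (QuotientGroup.eq_one_iff c).trans (H49.mem_zpowers_invol (Subtype.ext h.zz))
  let f : K →* H ⧸ zpowers zH := π.comp (inclusion KH)
  have mA : ∀ c : H, π c ∈ J.Q.map f ↔ (c : G) ∈ Q := fun c => by
    rw [j2]
    refine ⟨?_, fun hc => ⟨⟨c, QK hc⟩, hc, rfl⟩⟩
    rintro ⟨u, hu, e⟩
    rw [show f u = π (inclusion KH u) from rfl, ← inv_mul_eq_one, ← map_inv, ← map_mul, kπ] at e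
    rw [← Q.mul_mem_cancel_left (inv_mem (show (u : G) ∈ Q from hu))]
    rcases e with e | e
    · rw [show ((u : G))⁻¹ * c = 1 from congrArg Subtype.val e]; exact one_mem _
    · rw [show ((u : G))⁻¹ * c = z from congrArg Subtype.val e]; exact xs.mem
  have nA : ∀ c : H, π c ∈ normalizer (J.Q.map f : Set (H ⧸ zpowers zH)) ↔ (c : G) ∈ K := fun c =>
    ⟨fun hc => H49.mem_normalizer_of_conj_mem fun u hu => (mA (c * ⟨u, KH (QK hu)⟩ * c⁻¹)).mp (by
      rw [map_mul, map_mul, map_inv]; exact H83.conj_mem le_rfl hc ((mA _).mpr hu)),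
    fun hc => H49.mem_normalizer_of_conj_mem fun a ha => by
      obtain ⟨u, rfl⟩ := QuotientGroup.mk'_surjective _ a
      rw [← map_inv, ← map_mul, ← map_mul, mA]
      exact H83.conj_mem le_rfl hc ((mA u).mp ha)⟩
  have q : Qt J f := ⟨fun k => by
      rw [j1]; exact (kπ _).trans (by simp only [Subtype.ext_iff]; rfl), fun k => by
      rw [JA.HH, Hyp.H, j1]
      exact mem_centralizer_singleton_iff.mpr (Subtype.ext (mem_centralizer_singleton_iff.mp (KH k.2))),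
    fun l hl => by
      obtain ⟨c, rfl⟩ := QuotientGroup.mk'_surjective _ l
      exact ⟨⟨c, (nA c).mp hl⟩, rfl⟩⟩
  have := q.normal fun c hc => by
    obtain ⟨c, rfl⟩ := QuotientGroup.mk'_surjective _ c
    have c2 : Commute (π c) (f x') := by
      obtain ⟨m, e⟩ : x' ∈ zpowers J.ρ := j3 ▸ mem_zpowers x'
      rw [← e, map_zpow]; exact (show Commute (π c) _ from hc).zpow_right m
    have := (h.pull H.subtype H.subtype_injective (x' := inclusion KH x') (z' := zH) rfl rfl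
      (by rw [range_subtype]; exact CK.trans KH)).memC_of_map (fun k => (kπ k).mp) c2
    exact (nA c).mpr (CK (h.memC.mpr (congrArg Subtype.val (mem_centralizer_singleton_iff.mp this))))
  exact ⟨xs, cQ, fun c hc => (nA ⟨c, hc⟩).mp (this.ge trivial)⟩

end Cov

set_option linter.all false in
theorem eqns_J4G2 : True := by
  first | (have := @_root_.Cfsg.Agent.H83.J4.fxd.eq_def.{0,0}) | (have := @_root_.Cfsg.Agent.H83.J4.fxd.eq_def.{0}) | (have := @_root_.Cfsg.Agent.H83.J4.fxd.eq_def) | skip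
  first | (have := @_root_.Cfsg.Agent.H83.J4.fxd.eq_1.{0,0}) | (have := @_root_.Cfsg.Agent.H83.J4.fxd.eq_1.{0}) | (have := @_root_.Cfsg.Agent.H83.J4.fxd.eq_1) | skip
  first | (have := @_root_.Cfsg.Agent.H83.J4.fxd.eq_2.{0,0}) | (have := @_root_.Cfsg.Agent.H83.J4.fxd.eq_2.{0}) | (have := @_root_.Cfsg.Agent.H83.J4.fxd.eq_2) | skip
  first | (have := @_root_.Cfsg.Agent.H83.J4.fxd.congr_simp.{0,0}) | (have := @_root_.Cfsg.Agent.H83.J4.fxd.congr_simp.{0}) | (have := @_root_.Cfsg.Agent.H83.J4.fxd.congr_simp) | skip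
  first | (have := @_root_.Cfsg.Agent.H83.J4.Qt.A.eq_def.{0,0}) | (have := @_root_.Cfsg.Agent.H83.J4.Qt.A.eq_def.{0}) | (have := @_root_.Cfsg.Agent.H83.J4.Qt.A.eq_def) | skip
  first | (have := @_root_.Cfsg.Agent.H83.J4.Qt.A.eq_1.{0,0}) | (have := @_root_.Cfsg.Agent.H83.J4.Qt.A.eq_1.{0}) | (have := @_root_.Cfsg.Agent.H83.J4.Qt.A.eq_1) | skip
  first | (have := @_root_.Cfsg.Agent.H83.J4.Qt.A.eq_2.{0,0}) | (have := @_root_.Cfsg.Agent.H83.J4.Qt.A.eq_2.{0}) | (have := @_root_.Cfsg.Agent.H83.J4.Qt.A.eq_2) | skip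
  first | (have := @_root_.Cfsg.Agent.H83.J4.Qt.A.congr_simp.{0,0}) | (have := @_root_.Cfsg.Agent.H83.J4.Qt.A.congr_simp.{0}) | (have := @_root_.Cfsg.Agent.H83.J4.Qt.A.congr_simp) | skip
  first | (have := @_root_.Cfsg.Agent.H83.J4.Qt.Fx.eq_def.{0,0}) | (have := @_root_.Cfsg.Agent.H83.J4.Qt.Fx.eq_def.{0}) | (have := @_root_.Cfsg.Agent.H83.J4.Qt.Fx.eq_def) | skip
  first | (have := @_root_.Cfsg.Agent.H83.J4.Qt.Fx.eq_1.{0,0}) | (have := @_root_.Cfsg.Agent.H83.J4.Qt.Fx.eq_1.{0}) | (have := @_root_.Cfsg.Agent.H83.J4.Qt.Fx.eq_1) | skip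
  first | (have := @_root_.Cfsg.Agent.H83.J4.Qt.Fx.eq_2.{0,0}) | (have := @_root_.Cfsg.Agent.H83.J4.Qt.Fx.eq_2.{0}) | (have := @_root_.Cfsg.Agent.H83.J4.Qt.Fx.eq_2) | skip
  first | (have := @_root_.Cfsg.Agent.H83.J4.Qt.Fx.congr_simp.{0,0}) | (have := @_root_.Cfsg.Agent.H83.J4.Qt.Fx.congr_simp.{0}) | (have := @_root_.Cfsg.Agent.H83.J4.Qt.Fx.congr_simp) | skip
  first | (have := @_root_.Cfsg.Agent.H83.J4.Cov.pull.eq_def.{0,0}) | (have := @_root_.Cfsg.Agent.H83.J4.Cov.pull.eq_def.{0}) | (have := @_root_.Cfsg.Agent.H83.J4.Cov.pull.eq_def) | skip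
  first | (have := @_root_.Cfsg.Agent.H83.J4.Cov.pull.eq_1.{0,0}) | (have := @_root_.Cfsg.Agent.H83.J4.Cov.pull.eq_1.{0}) | (have := @_root_.Cfsg.Agent.H83.J4.Cov.pull.eq_1) | skip
  first | (have := @_root_.Cfsg.Agent.H83.J4.Cov.pull.eq_2.{0,0}) | (have := @_root_.Cfsg.Agent.H83.J4.Cov.pull.eq_2.{0}) | (have := @_root_.Cfsg.Agent.H83.J4.Cov.pull.eq_2) | skip
  first | (have := @_root_.Cfsg.Agent.H83.J4.Cov.pull.congr_simp.{0,0}) | (have := @_root_.Cfsg.Agent.H83.J4.Cov.pull.congr_simp.{0}) | (have := @_root_.Cfsg.Agent.H83.J4.Cov.pull.congr_simp) | skip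
  trivial

end Cfsg.Agent.H83.J4
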