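import Cfsg.Agent.H83.Base

/-!
# Computations in an elementary abelian 2-group with a group of order nine acting
-/

set_option autoImplicit false

namespace Cfsg.Agent.H83.J4

open Subgroup

variable {Γ M : Type*} [Group Γ] [AddCommGroup M] [DistribMulAction Γ M]

/-- The norm map. -/
def Nm (e : Γ) (v : M) : M := v + e • v + e • e • v

theorem Nm_add (e : Γ) (v w : M) : Nm e (v + w) = Nm e v + Nm e w := by
  simp only [Nm, smul_add]; abel

theorem Nm_zero (e : Γ) : Nm e (0 : M) = 0 := by simp [Nm]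

theorem Nm_cj {a e e' : Γ} (h : a * e = e' * a) (v : M) : a • Nm e v = Nm e' (a • v) := by
  have : ∀ v : M, a • e • v = e' • a • v := fun v => by rw [← mul_smul, h, mul_smul]
  simp only [Nm, smul_add, this]

theorem Nm_sq {e : Γ} (h : e * e * e = 1) (v : M) : Nm (e * e) v = Nm e v := by
  have : ∀ v : M, e • e • e • v = v := fun v => by rw [← mul_smul, ← mul_smul, h, one_smul]
  simp only [Nm, mul_smul, this]; abel

theorem Nm_fix {e : Γ} (h : e * e * e = 1) (v : M) : e • Nm e v = Nm e v := by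
  have : ∀ v : M, e • e • e • v = v := fun v => by rw [← mul_smul, ← mul_smul, h, one_smul]
  simp only [Nm, smul_add, this]; abel

/-- The norm map as a homomorphism. -/
def NmH (M : Type*) [AddCommGroup M] [DistribMulAction Γ M] (e : Γ) : M →+ M :=
  AddMonoidHom.mk' (Nm e) (Nm_add e)

theorem card_ge [Finite M] (X : AddSubgroup M) (f : M →+ M) {k : ℕ} (s : Finset M) (hs : s.card = k)
    (h : ∀ a ∈ s, ∃ v ∈ X, f v = a) : k * Nat.card ↥(X ⊓ f.ker) ≤ Nat.card X := by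
  let g := f.comp X.subtype
  have e : g.ker = (X ⊓ f.ker).addSubgroupOf X := by
    ext a; simp [g, AddSubgroup.mem_addSubgroupOf]
  rw [AddSubgroup.card_eq_card_quotient_mul_card_addSubgroup g.ker,
    Nat.card_congr (QuotientAddGroup.quotientKerEquivRange g).toEquiv, e,
    Nat.card_congr (AddSubgroup.addSubgroupOfEquivOfLe inf_le_left).toEquiv]
  refine Nat.mul_le_mul_right _ ?_
  rw [← hs, ← Set.ncard_coe_finset, show Nat.card g.range = (g.range : Set M).ncard from Nat.card_coe_set_eq _]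
  exact Set.ncard_le_ncard (fun a ha => let ⟨v, hv, e⟩ := h a ha; ⟨⟨v, hv⟩, e⟩) (Set.toFinite _)

/-- The fixed points of an element. -/
def fixS' (M : Type*) [AddCommGroup M] [DistribMulAction Γ M] (a : Γ) : AddSubgroup M where
  carrier := {v | a • v = v}
  add_mem' := fun {v w} hv hw => by simp only [Set.mem_ofPred_eq] at *; rw [smul_add, hv, hw]
  zero_mem' := smul_zero a
  neg_mem' := fun {v} hv => by simp only [Set.mem_ofPred_eq] at *; rw [smul_neg, hv]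

/-- The stabiliser of the chain. -/
def Dm (h2 : ∀ v : M, v + v = 0) (x : Γ) (z : M) : Subgroup Γ where
  carrier := {d | d • z = z ∧ (∀ v : M, Nm x (d • v + v) = 0 ∨ Nm x (d • v + v) = z) ∧
    ∀ u : M, Nm x u = 0 ∨ Nm x u = z → d • u + u = 0 ∨ d • u + u = z}
  one_mem' := ⟨one_smul _ _, fun v => Or.inl (by rw [one_smul, h2, Nm_zero]), fun u _ =>
    Or.inl (by rw [one_smul, h2])⟩
  mul_mem' := fun {a b} ha hb => ⟨by rw [mul_smul, hb.1, ha.1], fun v => by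
      have : (a * b) • v + v = (a • b • v + b • v) + (b • v + v) := by
        rw [mul_smul, add_assoc, ← add_assoc (b • v), h2, zero_add]
      rw [this, Nm_add]
      rcases ha.2.1 (b • v) with e | e <;> rcases hb.2.1 v with e' | e' <;> simp [e, e', h2], fun u hu => by
      have : (a * b) • u + u = a • (b • u + u) + (a • u + u) := by
        rw [mul_smul, smul_add, add_assoc, ← add_assoc (a • u), h2, zero_add]
      rw [this]
      rcases ha.2.2 u hu with e | e <;> rcases hb.2.2 u hu with e' | e' <;> simp [e, e', h2, ha.1]⟩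
  inv_mem' := fun {a} ha => ⟨by rw [inv_smul_eq_iff, ha.1], fun v => by
      have := ha.2.1 (a⁻¹ • v)
      rwa [smul_inv_smul, add_comm] at this, fun u hu => by
      have e : a⁻¹ • u + u = a⁻¹ • (a • u + u) := by rw [smul_add, inv_smul_smul, add_comm]
      have e2 : a⁻¹ • z = z := by rw [inv_smul_eq_iff, ha.1]
      rw [e]
      rcases ha.2.2 u hu with e | e <;> simp [e, e2]⟩

theorem Dm_conj {h2 : ∀ v : M, v + v = 0} {x : Γ} {z : M} (x3 : x * x * x = 1) {n : Γ}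
    (hn : n * x = x * n ∨ n * x = x * x * n) (nz : n • z = z) {d : Γ} (hd : d ∈ Dm h2 x z) :
    n * d * n⁻¹ ∈ Dm h2 x z := by
  have k : ∀ v : M, n • Nm x v = Nm x (n • v) := fun v => by
    rcases hn with e | e
    · exact Nm_cj e v
    · rw [Nm_cj e v, Nm_sq x3]
  have nz' : n⁻¹ • z = z := by rw [inv_smul_eq_iff, nz]
  have e : ∀ v : M, (n * d * n⁻¹) • v + v = n • (d • n⁻¹ • v + n⁻¹ • v) := fun v => by
    rw [smul_add, smul_inv_smul, mul_smul, mul_smul]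
  refine ⟨by rw [mul_smul, mul_smul, nz', hd.1, nz], fun v => ?_, fun u hu => ?_⟩
  · rw [e, ← k]
    rcases hd.2.1 (n⁻¹ • v) with e | e <;> simp [e, nz]
  · rw [e]
    rcases hd.2.2 (n⁻¹ • u) (by
      rw [← smul_inv_smul n u, ← k] at hu
      rcases hu with e | e
      · left; simpa using congrArg (n⁻¹ • ·) e
      · right; simpa [nz'] using congrArg (n⁻¹ • ·) e) with e | e <;> simp [e, nz]

theorem Dm_pow {h2 : ∀ v : M, v + v = 0} {x : Γ} {z : M} {d : Γ} (hd : d ∈ Dm h2 x z) (v : M) :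
    (d ^ 4) • v = v := by
  have e : ∀ v : M, d • d • v = v + (d • (d • v + v) + (d • v + v)) := fun v => by
    rw [smul_add, add_assoc (d • d • v), ← add_assoc (d • v), h2, zero_add, add_comm (d • d • v),
      ← add_assoc, h2, zero_add]
  have e2 : d • d • v = v ∨ d • d • v = v + z := by
    rcases hd.2.2 _ (hd.2.1 v) with h | h <;> rw [e, h] <;> simp
  rw [show d ^ 4 = d * d * d * d by simp only [pow_succ, pow_zero, one_mul], mul_smul, mul_smul, mul_smul]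
  rcases e2 with h | h
  · rw [h, h]
  · rw [h, smul_add, smul_add, h, hd.1, hd.1, add_assoc, h2, add_zero]

/-- The configuration. -/
structure MD (x y s j g b : Γ) (z t q u : M) : Prop where
  h2 : ∀ v : M, v + v = 0
  x3 : x * x * x = 1
  xy : x * y = y * x
  gx : g * x = y * g
  gy : g * y = x * g
  sx : s * x = x * s
  sy : s * y = x * y * s
  s3 : s * s * s = 1
  jx : j * x = x * j
  jy : j * y = y * y * j
  bx : b * x = x * b
  bb : b * b = 1
  jb : j * b = b * j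
  bc : b * (y * b * y⁻¹) = y * b * y⁻¹ * b
  b3 : y * (y * b * y⁻¹) * y⁻¹ = b * (y * b * y⁻¹)
  xz : x • z = z
  yz : y • z = z
  bz : b • z = z
  xt : x • t = t
  yt : y • t = t
  t3 : s • s • t = t + s • t
  t0 : t ≠ 0
  xq : x • q = q
  q3 : y • y • q = q + y • q
  q0 : q ≠ 0
  sq : s • q = q
  bt : b • t = t
  bq : b • q = q
  bp : b • y • q = y • q + u
  bt2 : b • s • t = s • t + q + u
  gt : g • t = t
  gt2 : g • s • t = t + s • t
  hA : ∀ v : M, x • v = v → Nm y v = 0 → v = 0 ∨ v = q ∨ v = y • q ∨ v = q + y • q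
  hF : ∀ v : M, x • v = v → y • v = v → ∃ w, (w = 0 ∨ w = t ∨ w = s • t ∨ w = t + s • t) ∧
    (v = w ∨ v = w + z)

namespace MD

variable {x y s j g b : Γ} {z t q u : M} (h : MD x y s j g b z t q u)
include h

theorem h2' (v w : M) : v + (v + w) = w := by rw [← add_assoc, h.h2, zero_add]

theorem add_eq {v w : M} : v + w = 0 ↔ v = w :=
  ⟨fun e => by rw [← h.h2' w v, add_comm w v, e, add_zero], fun e => by rw [e, h.h2]⟩

theorem y3 : y * y * y = 1 := by
  have : y = g * x * g⁻¹ := by rw [h.gx]; simp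
  rw [this, show g * x * g⁻¹ * (g * x * g⁻¹) * (g * x * g⁻¹) = g * (x * x * x) * g⁻¹ by group, h.x3]; simp

theorem Nm_self {e : Γ} {v : M} (hv : e • v = v) : Nm e v = v := by rw [Nm, hv, hv, h.h2, zero_add]

theorem xxx (v : M) : x • x • x • v = v := by rw [← mul_smul, ← mul_smul, h.x3, one_smul]
theorem yyy (v : M) : y • y • y • v = v := by rw [← mul_smul, ← mul_smul, h.y3, one_smul]
theorem sss (v : M) : s • s • s • v = v := by rw [← mul_smul, ← mul_smul, h.s3, one_smul]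
theorem bbv (v : M) : b • b • v = v := by rw [← mul_smul, h.bb, one_smul]
theorem yx (v : M) : y • x • v = x • y • v := by rw [← mul_smul, ← h.xy, mul_smul]
theorem gxv (v : M) : g • x • v = y • g • v := by rw [← mul_smul, h.gx, mul_smul]
theorem gyv (v : M) : g • y • v = x • g • v := by rw [← mul_smul, h.gy, mul_smul]
theorem sxv (v : M) : s • x • v = x • s • v := by rw [← mul_smul, h.sx, mul_smul]
theorem syv (v : M) : s • y • v = x • y • s • v := by rw [← mul_smul, h.sy, mul_smul, mul_smul]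
theorem jxv (v : M) : j • x • v = x • j • v := by rw [← mul_smul, h.jx, mul_smul]
theorem jyv (v : M) : j • y • v = y • y • j • v := by rw [← mul_smul, h.jy, mul_smul, mul_smul]
theorem bxv (v : M) : b • x • v = x • b • v := by rw [← mul_smul, h.bx, mul_smul]

theorem dec {v : M} (hv : Nm x v = 0) : v = Nm y v + Nm (x * y) v + Nm (x * x * y) v := by
  have e1 : Nm x (y • v) = 0 := by rw [← Nm_cj h.xy.symm, hv, smul_zero]
  have e2 : Nm x (y • y • v) = 0 := by rw [← Nm_cj h.xy.symm, e1, smul_zero]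
  calc v = v + (v + v) + Nm x (y • v) + Nm x (y • y • v) := by rw [h.h2, e1, e2]; simp
    _ = _ := by simp only [Nm, mul_smul, h.yx, h.xxx]; abel

theorem Nx0 (v : M) : Nm x (v + Nm x v) = 0 := by
  rw [Nm_add, h.Nm_self (Nm_fix h.x3 v), h.h2]

/-- The first line. -/
def L1 (_ : MD x y s j g b z t q u) (v : M) : Prop := Nm x v = 0 ∧ y • v = v
/-- The second line. -/
def L2 (_ : MD x y s j g b z t q u) (v : M) : Prop := Nm x v = 0 ∧ x • y • v = v
/-- The third line. -/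
def L3 (_ : MD x y s j g b z t q u) (v : M) : Prop := Nm x v = 0 ∧ x • x • y • v = v

theorem L1_cases {v : M} (hv : h.L1 v) :
    v = 0 ∨ v = g • q ∨ v = x • g • q ∨ v = g • q + x • g • q := by
  rw [← smul_inv_smul g v] at hv ⊢
  generalize g⁻¹ • v = w at *
  rcases h.hA w (smul_left_cancel g (by rw [h.gxv, hv.2])) (smul_left_cancel g (by
    rw [Nm_cj h.gy, hv.1, smul_zero])) with rfl | rfl | rfl | rfl <;> simp [h.gyv]

theorem L1q : h.L1 (g • q) :=
  ⟨by rw [← Nm_cj h.gy, Nm, h.q3, h.h2, smul_zero], by rw [← h.gxv, h.xq]⟩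

theorem L12 {v : M} : h.L2 (s • v) ↔ h.L1 v := by
  rw [L1, L2, ← Nm_cj h.sx, ← h.syv, smul_left_cancel_iff, smul_eq_zero_iff_eq]

theorem L23 {v : M} : h.L3 (s • v) ↔ h.L2 v := by
  rw [L3, L2, ← Nm_cj h.sx, ← h.syv, ← h.sxv, smul_left_cancel_iff, smul_eq_zero_iff_eq]

theorem L31 {v : M} : h.L1 (s • v) ↔ h.L3 v := by
  rw [← h.L12, ← h.L23, h.sss]

theorem j1 {v : M} (hv : h.L1 v) : h.L1 (j • v) :=
  ⟨by rw [← Nm_cj h.jx, hv.1, smul_zero], by
    have := h.jyv v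
    rw [hv.2] at this
    conv_lhs => rw [this, h.yyy]⟩

theorem j2 {v : M} (hv : h.L2 v) : h.L3 (j • v) :=
  ⟨by rw [← Nm_cj h.jx, hv.1, smul_zero], by
    have := congrArg (j • ·) hv.2
    simp only [h.jxv, h.jyv] at this
    conv_lhs => rw [← this]
    simp only [h.yx, h.xxx, h.yyy]⟩

theorem j3 {v : M} (hv : h.L3 v) : h.L2 (j • v) :=
  ⟨by rw [← Nm_cj h.jx, hv.1, smul_zero], by
    have := congrArg (j • ·) hv.2
    simp only [h.jxv, h.jyv] at this
    conv_lhs => rw [← this]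
    simp only [h.yx, h.xxx, h.yyy]⟩

theorem g2' {k : Γ} (kx : k * x = y * k) (ky : k * y = x * k) {v : M} (hv : h.L2 v) : h.L2 (k • v) := by
  have a : ∀ v : M, k • x • v = y • k • v := fun v => by rw [← mul_smul, kx, mul_smul]
  have c : ∀ v : M, k • y • v = x • k • v := fun v => by rw [← mul_smul, ky, mul_smul]
  refine ⟨?_, by rw [← a, ← c, h.yx, hv.2]⟩
  rw [← Nm_cj ky, ← smul_zero k]
  congr 1
  have e1 : y • v = x • x • v := by conv_rhs => rw [← hv.2, h.xxx]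
  rw [Nm, e1, h.yx, h.yx, e1, h.xxx, ← hv.1, Nm]; abel

theorem g3' {k : Γ} (kx : k * x = y * k) (ky : k * y = x * k) {v : M} (hv : h.L3 v) : h.L3 (k • v) := by
  have a : ∀ v : M, k • x • v = y • k • v := fun v => by rw [← mul_smul, kx, mul_smul]
  have c : ∀ v : M, k • y • v = x • k • v := fun v => by rw [← mul_smul, ky, mul_smul]
  have e1 : y • v = x • v := by conv_rhs => rw [← hv.2, h.xxx]
  refine ⟨?_, by rw [← a, ← c, ← c, ← e1, h.yyy]⟩
  rw [← Nm_cj ky, ← smul_zero k]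
  congr 1
  rw [Nm, e1, h.yx, e1, ← hv.1, Nm]

theorem gx' : g⁻¹ * x = y * g⁻¹ := by rw [inv_mul_eq_iff_eq_mul, ← mul_assoc, h.gy]; simp
theorem gy' : g⁻¹ * y = x * g⁻¹ := by rw [inv_mul_eq_iff_eq_mul, ← mul_assoc, h.gx]; simp

theorem xy3 : x * y * (x * y) * (x * y) = 1 := by
  have c : Commute x y := h.xy
  rw [← pow_three', c.mul_pow, pow_three', pow_three', h.x3, h.y3, one_mul]

theorem xxy3 : x * x * y * (x * x * y) * (x * x * y) = 1 := by
  have c : Commute x y := h.xy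
  rw [← pow_three', (c.mul_left c).mul_pow, (Commute.refl x).mul_pow, pow_three', pow_three', h.x3, h.y3]
  simp

theorem dec' {v : M} (hv : Nm x v = 0) : ∃ a c d, h.L1 a ∧ h.L2 c ∧ h.L3 d ∧ v = a + c + d ∧
    a = Nm y v ∧ c = Nm (x * y) v ∧ d = Nm (x * x * y) v := by
  have e := h.dec hv
  have c : Commute x y := h.xy
  have k : ∀ e : Γ, Commute e x → Nm x (Nm e v) = 0 := fun e he => by
    rw [show Nm e v = v + e • v + e • e • v from rfl, Nm_add, Nm_add, ← Nm_cj he.eq (e • v),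
      ← Nm_cj he.eq v, hv]; simp
  refine ⟨_, _, _, ⟨k y c.symm, Nm_fix h.y3 v⟩, ⟨k _ ((Commute.refl x).mul_left c.symm), ?_⟩,
    ⟨k _ (((Commute.refl x).mul_left (Commute.refl x)).mul_left c.symm), ?_⟩, e, rfl, rfl, rfl⟩
  · rw [← mul_smul]; exact Nm_fix h.xy3 v
  · rw [← mul_smul, ← mul_smul]; exact Nm_fix h.xxy3 v

theorem Ny2 {v : M} (hv : h.L2 v) : Nm y v = 0 := by
  have e1 : y • v = x • x • v := by conv_rhs => rw [← hv.2, h.xxx]
  rw [Nm, e1, h.yx, h.yx, e1, h.xxx, ← hv.1, Nm]; abel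

theorem Ny3 {v : M} (hv : h.L3 v) : Nm y v = 0 := by
  have e1 : y • v = x • v := by conv_rhs => rw [← hv.2, h.xxx]
  rw [Nm, e1, h.yx, e1, ← hv.1, Nm]

theorem Nxy1 {v : M} (hv : h.L1 v) : Nm (x * y) v = 0 := by
  rw [← smul_eq_zero_iff_eq (s * s), mul_smul, Nm_cj (e' := x * x * y) (by
    rw [← mul_assoc, h.sx, mul_assoc, h.sy]; group), Nm_cj (e' := y) (by
    rw [← mul_assoc, ← mul_assoc, h.sx, mul_assoc x s, h.sx, mul_assoc, mul_assoc, h.sy]
    simp only [← mul_assoc, h.x3, one_mul])]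
  exact h.Ny3 (h.L23.mpr (h.L12.mpr hv))

theorem Nxy3 {v : M} (hv : h.L3 v) : Nm (x * y) v = 0 := by
  rw [← h.sss v, ← Nm_cj h.sy, h.Ny2 (h.L12.mpr (h.L31.mpr hv)), smul_zero]

theorem line {P : M → Prop} (p0 : P 0) (pa : ∀ v w, P v → P w → P (v + w)) (px : ∀ v, P v → P (x • v))
    {r a v : M} (hr : Nm x r = 0) (ha : a = 0 ∨ a = r ∨ a = x • r ∨ a = r + x • r) (a0 : a ≠ 0) (hp : P a)
    (hv : v = 0 ∨ v = r ∨ v = x • r ∨ v = r + x • r) : P v := by
  have : P r := by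
    rcases ha with e | rfl | rfl | rfl
    · exact absurd e a0
    · exact hp
    · simpa [h.xxx] using px _ (px _ hp)
    · have := px _ hp
      rwa [h.add_eq.mp hr, h.xxx] at this
  rcases hv with rfl | rfl | rfl | rfl
  exacts [p0, this, px _ this, pa _ _ this (px _ this)]

theorem L2_cases {v : M} (hv : h.L2 v) :
    v = 0 ∨ v = s • g • q ∨ v = x • s • g • q ∨ v = s • g • q + x • s • g • q := by
  rw [← smul_inv_smul s v] at hv ⊢
  rcases h.L1_cases (h.L12.mp hv) with e | e | e | e <;> simp [e, h.sxv]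

theorem L3_cases {v : M} (hv : h.L3 v) :
    v = 0 ∨ v = s • s • g • q ∨ v = x • s • s • g • q ∨ v = s • s • g • q + x • s • s • g • q := by
  rw [← smul_inv_smul s v] at hv ⊢
  rcases h.L2_cases (h.L23.mp hv) with e | e | e | e <;> simp [e, h.sxv]

theorem L2q : h.L2 (s • g • q) := h.L12.mpr h.L1q
theorem L3q : h.L3 (s • s • g • q) := h.L23.mpr h.L2q

theorem all23 {P : M → Prop} (p0 : P 0) (pa : ∀ v w, P v → P w → P (v + w)) (px : ∀ v, P v → P (x • v))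
    (pj : ∀ v, P v → P (j • v)) {a : M} (ha : h.L2 a ∨ h.L3 a) (a0 : a ≠ 0) (hp : P a) :
    ∀ v, h.L2 v ∨ h.L3 v → P v := by
  have j0 : j • a ≠ 0 := by rwa [Ne, smul_eq_zero_iff_eq]
  rintro v (hv | hv) <;> rcases ha with ha | ha
  · exact h.line p0 pa px h.L2q.1 (h.L2_cases ha) a0 hp (h.L2_cases hv)
  · exact h.line p0 pa px h.L2q.1 (h.L2_cases (h.j3 ha)) j0 (pj a hp) (h.L2_cases hv)
  · exact h.line p0 pa px h.L3q.1 (h.L3_cases (h.j2 ha)) j0 (pj a hp) (h.L3_cases hv)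
  · exact h.line p0 pa px h.L3q.1 (h.L3_cases ha) a0 hp (h.L3_cases hv)

theorem exists_fix {S : M → Prop} (s0 : S 0) (sb : ∀ v, S v → S ((y * b * y⁻¹) • v + v)) {v : M}
    (hv : Nm x v = 0) (hs : ¬ S v) :
    ∃ v, Nm x v = 0 ∧ ¬ S v ∧ S (b • v + v) ∧ S ((y * b * y⁻¹) • v + v) := by
  have c : y * b * y⁻¹ * x = x * (y * b * y⁻¹) :=
    (((show Commute y x from h.xy.symm).mul_left h.bx).mul_left (show Commute y x from h.xy.symm).inv_left).eq
  obtain ⟨v, hv, hs, h1⟩ : ∃ v, Nm x v = 0 ∧ ¬ S v ∧ S (b • v + v) := by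
    by_cases h1 : S (b • v + v)
    · exact ⟨v, hv, hs, h1⟩
    · exact ⟨_, by rw [Nm_add, ← Nm_cj h.bx, hv, smul_zero, add_zero], h1, by
        rwa [smul_add, h.bbv, add_comm v, h.h2]⟩
  by_cases h1' : S ((y * b * y⁻¹) • v + v)
  · exact ⟨v, hv, hs, h1, h1'⟩
  · refine ⟨_, by rw [Nm_add, ← Nm_cj c, hv, smul_zero, add_zero], h1', ?_, ?_⟩
    · have := sb _ h1
      rw [smul_add, ← mul_smul, ← h.bc, mul_smul] at this
      convert this using 1
      rw [smul_add]; abel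
    · rwa [smul_add, ← mul_smul, show y * b * y⁻¹ * (y * b * y⁻¹) = y * (b * b) * y⁻¹ by group, h.bb,
        mul_one, mul_inv_cancel, one_smul, add_comm v, h.h2]

/-- Closure properties of the vectors that are fixed modulo `S`. -/
theorem closed {S : M → Prop} (s0 : S 0) (sa : ∀ v w, S v → S w → S (v + w)) (sx : ∀ v, S v → S (x • v))
    (sy : ∀ v, S v → S (y • v)) (sj : ∀ v, S v → S (j • v)) (sb : ∀ v, S v → b • v = v) {P : M → Prop}
    (hP : ∀ v, P v ↔ S (b • v + v) ∧ S ((y * b * y⁻¹) • v + v)) :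
    P 0 ∧ (∀ v w, P v → P w → P (v + w)) ∧ (∀ v, P v → P (x • v)) ∧ (∀ v, P v → P (y • v)) ∧
      ∀ v, P v → P (j • v) := by
  have yi : y⁻¹ = y * y := inv_eq_of_mul_eq_one_right (by rw [← mul_assoc, h.y3])
  have e3 : ∀ v, P v → S (y • y • b • y • v + v) := fun v hv => by
    have := congrArg (· • v) h.b3
    simp only [yi, mul_smul, h.yyy] at this
    have h1 := (hP v).mp hv
    have h3 := sa _ _ h1.1 h1.2
    rw [← sb _ h1.2, smul_add] at h3
    simp only [yi, mul_smul] at h3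
    rw [this]
    convert h3 using 1
    simp only [add_assoc, add_comm, add_left_comm, h.h2, h.h2', add_zero]
  refine ⟨by simpa [hP] using s0, fun v w hv hw => ?_, fun v hv => ?_, fun v hv => ?_, fun v hv => ?_⟩
  · rw [hP] at hv hw ⊢
    exact ⟨by convert sa _ _ hv.1 hw.1 using 1; rw [smul_add]; abel,
      by convert sa _ _ hv.2 hw.2 using 1; rw [smul_add]; abel⟩
  · rw [hP] at hv ⊢
    exact ⟨by simpa [h.bxv] using sx _ hv.1, by simpa [yi, mul_smul, h.bxv, h.yx] using sx _ hv.2⟩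
  · have := e3 v hv
    rw [hP] at hv ⊢
    exact ⟨by simpa [h.yyy] using sy _ this, by simpa [mul_smul] using sy _ hv.1⟩
  · have := e3 v hv
    have jb : ∀ v : M, j • b • v = b • j • v := fun v => by rw [← mul_smul, h.jb, mul_smul]
    rw [hP] at hv ⊢
    exact ⟨by simpa [jb] using sj _ hv.1, by simpa [yi, mul_smul, jb, h.jyv, h.yyy] using sj _ this⟩

theorem comp {P : M → Prop} (pa : ∀ v w, P v → P w → P (v + w)) (px : ∀ v, P v → P (x • v))
    (py : ∀ v, P v → P (y • v)) {v : M} (hv : P v) :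
    P (Nm y v) ∧ P (Nm (x * y) v) ∧ P (Nm (x * x * y) v) := by
  simp only [Nm, mul_smul]
  refine ⟨?_, ?_, ?_⟩ <;> repeat (first | exact hv | apply pa | apply px | apply py)

/-- The two possible actions of the four-group. -/
theorem dich : ((∀ v, h.L2 v ∨ h.L3 v → b • v = v) ∧ ∀ v, h.L1 v → Nm y (b • v + v) = 0) ∨
    ((∀ v, h.L1 v → b • v = v) ∧ (∀ v, h.L2 v ∨ h.L3 v → h.L1 (b • v + v)) ∧
      b • s • g • q ≠ s • g • q) := by
  have q0 : g • q ≠ 0 := by rw [Ne, smul_eq_zero_iff_eq]; exact h.q0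
  obtain ⟨p0, pa, px, py, pj⟩ := h.closed (S := fun v => v = 0) rfl (fun v w a b => by simp [a, b])
    (fun v a => by simp [a]) (fun v a => by simp [a]) (fun v a => by simp [a]) (fun v a => by simp [a])
    (fun v => Iff.rfl)
  by_cases hM : ∀ v, h.L2 v ∨ h.L3 v → b • v + v = 0 ∧ (y * b * y⁻¹) • v + v = 0
  · refine Or.inl ⟨fun v hv => h.add_eq.mp (hM v hv).1, fun v hv => ?_⟩
    have fx : ∀ v : M, Nm x v = 0 ∧ Nm y v = 0 → b • v + v = 0 ∧ (y * b * y⁻¹) • v + v = 0 := fun v hv => by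
      obtain ⟨a, c, d, -, h2, h3, e, e1, -⟩ := h.dec' hv.1
      rw [e, e1, hv.2, zero_add]
      exact pa _ _ (hM c (Or.inl h2)) (hM d (Or.inr h3))
    obtain ⟨r0, ra, rx, ry, -⟩ := h.closed (S := fun v => Nm x v = 0 ∧ Nm y v = 0) ⟨Nm_zero _, Nm_zero _⟩
      (fun v w a b => by simp [Nm_add, a.1, a.2, b.1, b.2])
      (fun v a => ⟨by rw [← Nm_cj rfl, a.1, smul_zero], by rw [← Nm_cj h.xy, a.2, smul_zero]⟩)
      (fun v a => ⟨by rw [← Nm_cj h.xy.symm, a.1, smul_zero], by rw [← Nm_cj rfl, a.2, smul_zero]⟩)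
      (fun v a => ⟨by rw [← Nm_cj h.jx, a.1, smul_zero], by rw [← Nm_sq h.y3, ← Nm_cj h.jy, a.2, smul_zero]⟩)
      (fun v a => h.add_eq.mp (fx v a).1) (fun v => Iff.rfl)
    obtain ⟨w, w1, w2, w3⟩ := h.exists_fix (S := fun v => Nm x v = 0 ∧ Nm y v = 0) ⟨Nm_zero _, Nm_zero _⟩
      (fun v a => by rw [(fx v a).2]; exact ⟨Nm_zero _, Nm_zero _⟩) h.L1q.1
      (fun a => q0 (by rw [← h.Nm_self h.L1q.2, a.2]))
    obtain ⟨a, -, -, h1, -, -, -, e1, -⟩ := h.dec' w1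
    exact (h.line r0 ra rx h.L1q.1 (h.L1_cases h1) (fun e => w2 ⟨w1, e1 ▸ e⟩) (e1 ▸ (h.comp ra rx ry w3).1)
      (h.L1_cases hv)).1.2
  right
  have n23 : ∀ a, h.L2 a ∨ h.L3 a → b • a + a = 0 ∧ (y * b * y⁻¹) • a + a = 0 → a = 0 := fun a ha hp =>
    by_contra fun a0 => hM (h.all23 p0 pa px pj ha a0 hp)
  obtain ⟨w, w1, w2, w3⟩ := h.exists_fix (S := fun v => v = 0) rfl (fun v a => by simp [a]) h.L1q.1 q0
  obtain ⟨a, c, d, h1, h2, h3, e, e1, e2, e3⟩ := h.dec' w1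
  have cp := h.comp pa px py w3
  rw [← e1, ← e2, ← e3] at cp
  rw [n23 c (Or.inl h2) cp.2.1, n23 d (Or.inr h3) cp.2.2, add_zero, add_zero] at e
  have f1 : ∀ v, h.L1 v → b • v + v = 0 ∧ (y * b * y⁻¹) • v + v = 0 := fun v hv =>
    h.line p0 pa px h.L1q.1 (h.L1_cases h1) (e ▸ w2) cp.1 (h.L1_cases hv)
  have l0 : h.L1 0 := ⟨Nm_zero _, smul_zero _⟩
  obtain ⟨r0, ra, rx, ry, rj⟩ := h.closed (S := h.L1) l0
    (fun v w a b => ⟨by rw [Nm_add, a.1, b.1, add_zero], by rw [smul_add, a.2, b.2]⟩)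
    (fun v a => ⟨by rw [← Nm_cj rfl, a.1, smul_zero], by rw [h.yx, a.2]⟩)
    (fun v a => by rwa [a.2]) (fun v a => h.j1 a) (fun v a => h.add_eq.mp (f1 v a).1) (fun v => Iff.rfl)
  have q1 : s • g • q ≠ 0 := by rwa [Ne, smul_eq_zero_iff_eq]
  refine ⟨fun v hv => h.add_eq.mp (f1 v hv).1, fun v hv => ?_, fun e => q1 (n23 _ (Or.inl h.L2q) ?_)⟩
  · obtain ⟨w, w1, w2, w3⟩ := h.exists_fix (S := h.L1) l0 (fun v a => by rw [(f1 v a).2]; exact l0) h.L2q.1
      (fun a => q1 (by rw [← h.Nm_self a.2, h.Ny2 h.L2q]))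
    obtain ⟨a, c, d, h1, h2, h3, e, -, e2, e3⟩ := h.dec' w1
    have cp := h.comp ra rx ry w3
    rw [← e2, ← e3] at cp
    by_cases c0 : c = 0
    · exact (h.all23 r0 ra rx rj (Or.inr h3) (fun d0 => w2 (by rwa [e, c0, d0, add_zero, add_zero])) cp.2.2 v hv).1
    · exact (h.all23 r0 ra rx rj (Or.inl h2) c0 cp.2.1 v hv).1
  · have e1 : y⁻¹ • s • g • q = x • s • g • q := by rw [inv_smul_eq_iff, h.yx, h.L2q.2]
    rw [mul_smul, mul_smul, e1, h.bxv, e, h.yx, h.L2q.2]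
    exact ⟨h.h2 _, h.h2 _⟩

theorem span_H {P : M → Prop} (pa : ∀ v w, P v → P w → P (v + w)) (p1 : ∀ v, h.L1 v → P v)
    (p2 : ∀ v, h.L2 v ∨ h.L3 v → P v) {v : M} (hv : Nm x v = 0) : P v := by
  obtain ⟨a, c, d, h1, h2, h3, rfl, -⟩ := h.dec' hv
  exact pa _ _ (pa _ _ (p1 a h1) (p2 c (Or.inl h2))) (p2 d (Or.inr h3))

theorem span_x {P : M → Prop} (p0 : P 0) (pa : ∀ v w, P v → P w → P (v + w)) (pz : P z) (pt : P t)
    (pt2 : P (s • t)) (pq : P q) (pp : P (y • q)) {v : M} (hv : x • v = v) : P v := by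
  have e : x • Nm y v = Nm y v := by rw [Nm_cj h.xy, hv]
  rw [← h.h2' (Nm y v) v]
  apply pa
  · obtain ⟨w, hw, e | e⟩ := h.hF _ e (Nm_fix h.y3 v) <;> rw [e] <;> rcases hw with rfl | rfl | rfl | rfl
    exacts [p0, pt, pt2, pa _ _ pt pt2, pa _ _ p0 pz, pa _ _ pt pz, pa _ _ pt2 pz, pa _ _ (pa _ _ pt pt2) pz]
  · rcases h.hA (Nm y v + v) (by rw [smul_add, e, hv]) (by
      rw [Nm_add, h.Nm_self (Nm_fix h.y3 v), h.h2]) with e | e | e | e <;> rw [e]
    exacts [p0, pq, pp, pa _ _ pq pp]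

theorem span_all {P : M → Prop} (pa : ∀ v w, P v → P w → P (v + w)) (p1 : ∀ v, x • v = v → P v)
    (p2 : ∀ v, Nm x v = 0 → P v) (v : M) : P v := by
  rw [← h.h2' (Nm x v) v]
  exact pa _ _ (p1 _ (Nm_fix h.x3 v)) (p2 _ (by rw [add_comm]; exact h.Nx0 v))

theorem xst : x • s • t = s • t := by rw [← h.sxv, h.xt]

theorem yst : y • s • t = s • t := by
  have := h.syv t
  rw [h.yt, ← h.yx, h.xst] at this
  exact this.symm

theorem xp : x • y • q = y • q := by rw [← h.yx, h.xq]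

theorem sp : s • y • q = y • q := by rw [h.syv, h.sq, h.xp]

theorem Nyq : Nm y q = 0 := by rw [Nm, h.q3, h.h2]

theorem Nyp : Nm y (y • q) = 0 := by rw [← Nm_cj rfl, h.Nyq, smul_zero]

theorem b'g (v : M) : (g * b * g⁻¹) • g • v = g • b • v := by simp [mul_smul]

theorem b't : (g * b * g⁻¹) • t = t := by rw [← h.gt, h.b'g, h.bt]

theorem b'st : (g * b * g⁻¹) • s • t = s • t + g • q + (t + t) + g • u := by
  have : s • t = g • (t + s • t) := by rw [smul_add, h.gt, h.gt2, h.h2']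
  conv_lhs => rw [this, h.b'g]
  simp only [smul_add, h.bt, h.bt2, h.gt, h.gt2]; abel

theorem gA {a : M} (ha : x • a = a ∧ Nm y a = 0) : h.L1 (g⁻¹ • a) :=
  ⟨by rw [← Nm_cj h.gy', ha.2, smul_zero], by rw [← mul_smul, ← h.gx', mul_smul, ha.1]⟩

theorem gL {a : M} (ha : h.L1 a) : x • g • a = g • a ∧ Nm y (g • a) = 0 :=
  ⟨by rw [← h.gyv, ha.2], by rw [← Nm_cj h.gx, ha.1, smul_zero]⟩

theorem g23 {v : M} (hv : h.L2 v ∨ h.L3 v) : h.L2 (g⁻¹ • v) ∨ h.L3 (g⁻¹ • v) :=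
  hv.imp (h.g2' h.gx' h.gy') (h.g3' h.gx' h.gy')

theorem sA {a : M} (ha : x • a = a ∧ Nm y a = 0) : s • a = a := by
  rcases h.hA a ha.1 ha.2 with rfl | rfl | rfl | rfl <;> simp [h.sq, h.sp]

theorem cyc {β γ : Γ} {A : M → Prop} (aa : ∀ v w, A v → A w → A (v + w)) (a1 : ∀ v, A v → β • v = v)
    (a2 : ∀ v, A v → γ • v = v) (a3 : ∀ v, A v → Nm x (Nm y v) = 0) {c d : M} (e1 : β • t = t)
    (e2 : β • s • t = t + s • t + c) (e3 : γ • s • t = s • t) (e4 : γ • t = t + s • t + d)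
    (hc : Nm x (Nm y c) = 0 ∧ A (β • c + c) ∧ A (γ • c + c))
    (hd : Nm x (Nm y d) = 0 ∧ A (β • d + d) ∧ A (γ • d + d)) {n : ℕ} (hn : (β * γ) ^ n • t = t) : 3 ∣ n := by
  let S : M → Prop := fun c => Nm x (Nm y c) = 0 ∧ A (β • c + c) ∧ A (γ • c + c)
  have sa : ∀ v w, S v → S w → S (v + w) := fun v w a b => ⟨by rw [Nm_add, Nm_add, a.1, b.1, add_zero],
    by convert aa _ _ a.2.1 b.2.1 using 1; rw [smul_add]; abel,
    by convert aa _ _ a.2.2 b.2.2 using 1; rw [smul_add]; abel⟩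
  have s0 : ∀ v, A v → S v := fun v a => ⟨a3 v a, by rw [a1 v a]; exact aa _ _ a a, by rw [a2 v a]; exact aa _ _ a a⟩
  have sβ : ∀ v, S v → S (β • v) := fun v a => by
    simpa only [add_assoc, h.h2, add_zero] using sa _ _ (s0 _ a.2.1) a
  have sγ : ∀ v, S v → S (γ • v) := fun v a => by
    simpa only [add_assoc, h.h2, add_zero] using sa _ _ (s0 _ a.2.2) a
  have key : ∀ n : ℕ, ∃ m, S m ∧ (β * γ) ^ n • t =
      (if n % 3 = 0 then t else if n % 3 = 1 then s • t else t + s • t) + m := by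
    intro n
    induction n with
    | zero => exact ⟨c + c, sa _ _ hc hc, by simp [h.h2]⟩
    | succ n ih =>
      obtain ⟨m, hm, e⟩ := ih
      have m' := sβ _ (sγ _ hm)
      rw [pow_succ', mul_smul, e, mul_smul]
      have : n % 3 = 0 ∨ n % 3 = 1 ∨ n % 3 = 2 := by omega
      rcases this with h3 | h3 | h3
      · refine ⟨_, sa _ _ (sa _ _ hc (sβ _ hd)) m', ?_⟩
        rw [if_pos h3, if_neg (by omega), if_pos (by omega)]
        simp only [smul_add, e1, e2, e4]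
        calc _ = (t + t) + (s • t + (c + β • d + β • γ • m)) := by abel
          _ = _ := by rw [h.h2, zero_add]
      · refine ⟨_, sa _ _ hc m', ?_⟩
        rw [if_neg (by omega), if_pos h3, if_neg (by omega), if_neg (by omega)]
        simp only [smul_add, e2, e3]; abel
      · refine ⟨_, sa _ _ (sβ _ hd) m', ?_⟩
        rw [if_neg (by omega), if_neg (by omega), if_pos (by omega), smul_add γ, smul_add γ, e3, e4,
          add_right_comm _ d, add_assoc t, h.h2, add_zero, smul_add, smul_add, e1]; abel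
  obtain ⟨m, hm, e⟩ := key n
  rw [hn] at e
  have e' := congrArg (fun v => Nm x (Nm y v)) e
  have Tt : Nm x (Nm y t) = t := by rw [h.Nm_self h.yt, h.Nm_self h.xt]
  have Ts : Nm x (Nm y (s • t)) = s • t := by rw [h.Nm_self h.yst, h.Nm_self h.xst]
  have s0 : s • t ≠ 0 := by rw [Ne, smul_eq_zero_iff_eq]; exact h.t0
  simp only [Nm_add, hm.1, add_zero, Tt] at e'
  by_contra h3
  split_ifs at e' with h4 h5
  · omega
  · rw [Ts] at e'
    have := h.t3
    rw [← e', ← e', h.h2] at this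
    exact h.t0 this
  · rw [Nm_add, Nm_add, Tt, Ts] at e'
    exact s0 (by simpa using e')

theorem fix_sq {β γ : Γ} {A : M → Prop} (a1 : ∀ v, A v → β • v = v) (a2 : ∀ v, A v → γ • v = v) {v : M}
    (h1 : A (β • v + v)) (h3 : A (γ • v + v)) : v ∈ fixS' M (β * γ * (β * γ)) := by
  have e : (β * γ) • v = v + (β • v + v) + (γ • v + v) := by
    have := a1 _ h3
    rw [smul_add] at this
    rw [mul_smul, ← this, add_comm (β • v) v, h.h2', add_comm (β • γ • v), h.h2']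
  show (β * γ * (β * γ)) • v = v
  rw [mul_smul, e, smul_add, smul_add, e, mul_smul, mul_smul, a2 _ h1, a1 _ h1, a2 _ h3, a1 _ h3]
  calc _ = v + (β • v + v + (β • v + v)) + (γ • v + v + (γ • v + v)) := by abel
    _ = v := by simp only [h.h2, add_zero]

/-- If the involution is trivial, then an element of order divisible by three fixes too much. -/
theorem zero [Finite M] (hu : u = t) :
    ∃ γ : Γ, (∀ n : ℕ, γ ^ n • t = t → 3 ∣ n) ∧ 16 < Nat.card (fixS' M (γ * γ)) := by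
  have q0 : g • q ≠ 0 := by rw [Ne, smul_eq_zero_iff_eq]; exact h.q0
  have q1 : s • g • q ≠ 0 := by rwa [Ne, smul_eq_zero_iff_eq]
  have q2 : s • s • g • q ≠ 0 := by rwa [Ne, smul_eq_zero_iff_eq]
  have b'' : ∀ v : M, (s * (g * b * g⁻¹) * s⁻¹) • s • v = s • (g * b * g⁻¹) • v := fun v => by
    rw [mul_smul, mul_smul, inv_smul_smul]
  have e2 : (g * b * g⁻¹) • s • t = t + s • t + g • q := by rw [h.b'st, hu, h.gt, h.h2]; abel
  have e3 : (s * (g * b * g⁻¹) * s⁻¹) • s • t = s • t := by rw [b'', h.b't]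
  have e4 : (s * (g * b * g⁻¹) * s⁻¹) • t = t + s • t + s • g • q := by
    conv_lhs => rw [← h.sss t, b'', h.t3, smul_add, h.b't, e2, add_assoc t, h.h2', smul_add, h.t3]
  have f1 : (g * b * g⁻¹) • g • q = g • q := by rw [h.b'g, h.bq]
  have f2 : (s * (g * b * g⁻¹) * s⁻¹) • s • g • q = s • g • q := by rw [b'', f1]
  have T1 : Nm x (Nm y (g • q)) = 0 := by rw [h.Nm_self h.L1q.2, h.L1q.1]
  have T2 : Nm x (Nm y (s • g • q)) = 0 := by rw [h.Ny2 h.L2q, Nm_zero]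
  have three : ∀ (X : AddSubgroup M) (f : M →+ M) (e : Γ) (a : M), a ≠ 0 → Nm e a = 0 → (∃ v ∈ X, f v = a) →
      (∃ v ∈ X, f v = e • a) → 3 * Nat.card ↥(X ⊓ f.ker) ≤ Nat.card X := fun X f e a a0 a1 h1 h2 => by
    classical
    refine card_ge X f {0, a, e • a} (Finset.card_eq_three.mpr ⟨_, _, _, a0.symm,
      (by rwa [Ne, eq_comm, smul_eq_zero_iff_eq]), fun e => a0 (by rw [← h.Nm_self e.symm, a1]), rfl⟩) ?_
    simp only [Finset.mem_insert, Finset.mem_singleton]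
    rintro _ (rfl | rfl | rfl)
    exacts [⟨0, zero_mem _, map_zero f⟩, h1, h2]
  have two : ∀ (X : AddSubgroup M) (f : M →+ M) (v : M), v ∈ X → f v ≠ 0 →
      2 * Nat.card ↥(X ⊓ f.ker) ≤ Nat.card X := fun X f v h1 h2 => by
    classical
    refine card_ge X f {0, f v} (Finset.card_pair h2.symm) ?_
    simp only [Finset.mem_insert, Finset.mem_singleton]
    rintro _ (rfl | rfl)
    exacts [⟨0, zero_mem _, map_zero f⟩, ⟨v, h1, rfl⟩]
  have l3 : h.L3 (x • s • s • g • q) := ⟨by rw [← Nm_cj rfl, h.L3q.1, smul_zero], by rw [h.yx, h.L3q.2]⟩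
  refine ⟨g * b * g⁻¹ * (s * (g * b * g⁻¹) * s⁻¹), ?_⟩
  rcases h.dich with ⟨m1, -⟩ | ⟨d1, d2, -⟩
  · have m2 : ∀ v, h.L2 v ∨ h.L3 v → (g * b * g⁻¹) • v = v := fun v hv => by
      rw [← smul_inv_smul g v, h.b'g, m1 _ (h.g23 hv)]
    have m3 : ∀ v, h.L3 v ∨ h.L1 v → (s * (g * b * g⁻¹) * s⁻¹) • v = v := fun v hv => by
      rw [← smul_inv_smul s v] at hv ⊢
      rw [b'', m2 _ (hv.imp h.L23.mp h.L31.mp)]
    have fs := @h.fix_sq _ _ _ _ _ _ _ _ _ _ _ _ _ _ _ (g * b * g⁻¹) (s * (g * b * g⁻¹) * s⁻¹) (fun v => v = 0)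
      (fun v a => by simp [a]) (fun v a => by simp [a])
    refine ⟨fun n => h.cyc (A := fun v => v = 0) (fun v w a b => by simp [a, b]) (fun v a => by simp [a])
      (fun v a => by simp [a]) (fun v a => by simp [a, Nm_zero]) h.b't e2 e3 e4
      ⟨T1, by rw [f1, h.h2], by rw [m3 _ (Or.inr h.L1q), h.h2]⟩
      ⟨T2, by rw [m2 _ (Or.inl h.L2q), h.h2], by rw [f2, h.h2]⟩, ?_⟩
    have k3 : ∀ v, h.L3 v → v ∈ fixS' M _ := fun v hv =>
      fs (by rw [m2 _ (Or.inr hv), h.h2]) (by rw [m3 _ (Or.inl hv), h.h2])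
    have k1 := fs (v := g • q) (by rw [f1, h.h2]) (by rw [m3 _ (Or.inr h.L1q), h.h2])
    have k2 := fs (v := s • g • q) (by rw [m2 _ (Or.inl h.L2q), h.h2]) (by rw [f2, h.h2])
    have lp : h.L1 (x • g • q) := ⟨by rw [← Nm_cj rfl, h.L1q.1, smul_zero], by rw [h.yx, h.L1q.2]⟩
    have k4 : x • g • q + s • t ∈ fixS' M (g * b * g⁻¹ * (s * (g * b * g⁻¹) * s⁻¹) *
        (g * b * g⁻¹ * (s * (g * b * g⁻¹) * s⁻¹))) := by
      have e : (g * b * g⁻¹ * (s * (g * b * g⁻¹) * s⁻¹)) • (x • g • q + s • t) = x • g • q + s • t + g • q := by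
        rw [mul_smul, smul_add, smul_add, m3 _ (Or.inr lp), e3, e2, ← h.gyv, h.b'g, h.bp, hu, smul_add, h.gt,
          add_assoc, add_assoc t, h.h2', add_assoc]
      show _ • _ = _
      rw [mul_smul, e, smul_add, e, mul_smul, m3 _ (Or.inr h.L1q), f1, add_assoc, h.h2, add_zero]
    have c1 := two _ ((NmH M x).comp (NmH M y)) _ k4 (by
      show Nm x (Nm y _) ≠ 0
      rw [Nm_add, Nm_add, h.Nm_self lp.2, lp.1, h.Nm_self h.yst, h.Nm_self h.xst, zero_add, Ne,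
        smul_eq_zero_iff_eq]
      exact h.t0)
    have c2 := two (_ ⊓ ((NmH M x).comp (NmH M y)).ker) (NmH M (x * y)) _ ⟨k2, T2⟩ (by
      show Nm _ _ ≠ 0
      rwa [h.Nm_self (by rw [mul_smul]; exact h.L2q.2)])
    have c3 := two (_ ⊓ ((NmH M x).comp (NmH M y)).ker ⊓ (NmH M (x * y)).ker) (NmH M y) _
      ⟨⟨k1, T1⟩, h.Nxy1 h.L1q⟩ (by
      show Nm _ _ ≠ 0
      rwa [h.Nm_self h.L1q.2])
    have k5 : ∀ v, h.L3 v → v ∈ fixS' M _ ⊓ ((NmH M x).comp (NmH M y)).ker ⊓ (NmH M (x * y)).ker ⊓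
        (NmH M y).ker := fun v hv => ⟨⟨⟨k3 v hv, show Nm x (Nm y v) = 0 by rw [h.Ny3 hv, Nm_zero]⟩,
      h.Nxy3 hv⟩, h.Ny3 hv⟩
    have c4 := three _ (AddMonoidHom.id M) x _ q2 h.L3q.1 ⟨_, k5 _ h.L3q, rfl⟩ ⟨_, k5 _ l3, rfl⟩
    have := Nat.card_pos (α := ↥(fixS' M (g * b * g⁻¹ * (s * (g * b * g⁻¹) * s⁻¹) *
        (g * b * g⁻¹ * (s * (g * b * g⁻¹) * s⁻¹))) ⊓ ((NmH M x).comp (NmH M y)).ker ⊓ (NmH M (x * y)).ker ⊓
        (NmH M y).ker ⊓ (AddMonoidHom.id M).ker))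
    omega
  · have a1 : ∀ v : M, x • v = v ∧ Nm y v = 0 → (g * b * g⁻¹) • v = v := fun v hv => by
      rw [← smul_inv_smul g v, h.b'g, d1 _ (h.gA hv)]
    have a2 : ∀ v : M, x • v = v ∧ Nm y v = 0 → (s * (g * b * g⁻¹) * s⁻¹) • v = v := fun v hv => by
      rw [← h.sA hv, b'', a1 v hv]
    have m2 : ∀ v, h.L2 v ∨ h.L3 v → x • ((g * b * g⁻¹) • v + v) = (g * b * g⁻¹) • v + v ∧
        Nm y ((g * b * g⁻¹) • v + v) = 0 := fun v hv => by
      rw [← smul_inv_smul g v, h.b'g, ← smul_add]; exact h.gL (d2 _ (h.g23 hv))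
    have m3 : ∀ v, h.L3 v ∨ h.L1 v → x • ((s * (g * b * g⁻¹) * s⁻¹) • v + v) = (s * (g * b * g⁻¹) * s⁻¹) • v + v ∧
        Nm y ((s * (g * b * g⁻¹) * s⁻¹) • v + v) = 0 := fun v hv => by
      rw [← smul_inv_smul s v] at hv ⊢
      have := m2 _ (hv.imp h.L23.mp h.L31.mp)
      rwa [b'', ← smul_add, h.sA this]
    have a0 : x • (0 : M) = 0 ∧ Nm y (0 : M) = 0 := ⟨smul_zero _, Nm_zero _⟩
    have fs := @h.fix_sq _ _ _ _ _ _ _ _ _ _ _ _ _ _ _ _ _ _ a1 a2
    refine ⟨fun n => h.cyc (fun v w a b => ⟨by rw [smul_add, a.1, b.1], by rw [Nm_add, a.2, b.2, add_zero]⟩) a1 a2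
      (fun v a => by rw [a.2, Nm_zero]) h.b't e2 e3 e4
      ⟨T1, by rwa [f1, h.h2], m3 _ (Or.inr h.L1q)⟩ ⟨T2, m2 _ (Or.inl h.L2q), by rwa [f2, h.h2]⟩, ?_⟩
    have k1 := fs (v := g • q) (by rwa [f1, h.h2]) (m3 _ (Or.inr h.L1q))
    have k2 : ∀ v : M, x • v = v ∧ Nm y v = 0 → v ∈ fixS' M _ ⊓ (NmH M y).ker := fun v hv =>
      ⟨fs (by rwa [a1 v hv, h.h2]) (by rwa [a2 v hv, h.h2]), hv.2⟩
    have k3 : ∀ v, h.L3 v → v ∈ fixS' M _ ⊓ (NmH M y).ker ⊓ (NmH M x).ker := fun v hv =>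
      ⟨⟨fs (m2 _ (Or.inr hv)) (m3 _ (Or.inl hv)), h.Ny3 hv⟩, hv.1⟩
    have c1 := two _ (NmH M y) _ k1 (by
      show Nm _ _ ≠ 0
      rwa [h.Nm_self h.L1q.2])
    have c2 := three _ (NmH M x) y q h.q0 h.Nyq ⟨_, k2 _ ⟨h.xq, h.Nyq⟩, h.Nm_self h.xq⟩
      ⟨_, k2 _ ⟨h.xp, h.Nyp⟩, h.Nm_self h.xp⟩
    have c4 := three _ (AddMonoidHom.id M) x _ q2 h.L3q.1 ⟨_, k3 _ h.L3q, rfl⟩ ⟨_, k3 _ l3, rfl⟩
    have := Nat.card_pos (α := ↥(fixS' M (g * b * g⁻¹ * (s * (g * b * g⁻¹) * s⁻¹) *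
        (g * b * g⁻¹ * (s * (g * b * g⁻¹) * s⁻¹))) ⊓ (NmH M y).ker ⊓ (NmH M x).ker ⊓ (AddMonoidHom.id M).ker))
    omega

/-- If the involution is not trivial, the conjugate four-group stabilises the chain. -/
theorem one (hu : u = t + z) (gz : g • z = t + z) (z0 : z ≠ 0)
    (hc : ∀ c : Γ, (∀ v : M, x • v = v → c • v = v) → c • g • q = g • q → ∀ v : M, c • v = v) :
    g * b * g⁻¹ ∈ Dm h.h2 x z := by
  have gu : g • u = z := by rw [hu, smul_add, h.gt, gz, h.h2']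
  have bu : b • u = u := by rw [hu, smul_add, h.bt, h.bz]
  have b'u : (g * b * g⁻¹) • u = u := by rw [hu, ← gz, h.b'g, h.bz]
  have b'z : (g * b * g⁻¹) • z = z := by rw [← gu, h.b'g, bu]
  have e2 : (g * b * g⁻¹) • s • t = s • t + g • q + z := by rw [h.b'st, gu, h.h2, add_zero]
  have nA : ∀ v : M, x • v = v ∧ Nm y v = 0 → b • v + v = 0 ∨ b • v + v = u := fun v hv => by
    rcases h.hA v hv.1 hv.2 with rfl | rfl | rfl | rfl
    · simp
    · simp [h.bq, h.h2]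
    · right; rw [h.bp, add_right_comm, h.h2, zero_add]
    · right; rw [smul_add, h.bq, h.bp, ← add_assoc q, add_right_comm, h.h2, zero_add]
  have nL : ∀ v, h.L1 v → (g * b * g⁻¹) • v + v = 0 ∨ (g * b * g⁻¹) • v + v = z := fun v hv => by
    have k : h.L1 v → x • g⁻¹ • v = g⁻¹ • v ∧ Nm y (g⁻¹ • v) = 0 := fun hv =>
      ⟨by rw [← mul_smul, ← h.gy', mul_smul, hv.2], by rw [← Nm_cj h.gx', hv.1, smul_zero]⟩
    rw [← smul_inv_smul g v, h.b'g, ← smul_add]
    rcases nA _ (k hv) with e | e <;> simp [e, gu]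
  rcases h.dich with ⟨m1, m2⟩ | ⟨d1, d2, d3⟩
  · have m3 : ∀ v, h.L2 v ∨ h.L3 v → (g * b * g⁻¹) • v = v := fun v hv => by
      rw [← smul_inv_smul g v, h.b'g, m1 _ (h.g23 hv)]
    have m4 : ∀ v : M, x • v = v ∧ Nm y v = 0 → Nm x ((g * b * g⁻¹) • v + v) = 0 := fun v hv => by
      rw [← smul_inv_smul g v, h.b'g, ← smul_add, ← Nm_cj h.gy, m2 _ (h.gA hv), smul_zero]
    have pa : ∀ v w : M, (g * b * g⁻¹) • v + v = 0 ∨ (g * b * g⁻¹) • v + v = z →
        (g * b * g⁻¹) • w + w = 0 ∨ (g * b * g⁻¹) • w + w = z →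
        (g * b * g⁻¹) • (v + w) + (v + w) = 0 ∨ (g * b * g⁻¹) • (v + w) + (v + w) = z := fun v w a c => by
      rw [smul_add, add_add_add_comm]
      rcases a with a | a <;> rcases c with c | c <;> simp [a, c, h.h2]
    have pH : ∀ v : M, Nm x v = 0 → (g * b * g⁻¹) • v + v = 0 ∨ (g * b * g⁻¹) • v + v = z := fun v hv =>
      h.span_H pa nL (fun v hv => Or.inl (by rw [m3 v hv, h.h2])) hv
    have pb : ∀ v w : M, Nm x ((g * b * g⁻¹) • v + v) = 0 ∨ Nm x ((g * b * g⁻¹) • v + v) = z →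
        Nm x ((g * b * g⁻¹) • w + w) = 0 ∨ Nm x ((g * b * g⁻¹) • w + w) = z →
        Nm x ((g * b * g⁻¹) • (v + w) + (v + w)) = 0 ∨ Nm x ((g * b * g⁻¹) • (v + w) + (v + w)) = z :=
      fun v w a c => by
        rw [smul_add, add_add_add_comm, Nm_add]
        rcases a with a | a <;> rcases c with c | c <;> simp [a, c, h.h2]
    refine ⟨b'z, h.span_all pb (fun v hv => h.span_x (by simp [Nm_zero]) pb (by simp [b'z, h.h2, Nm_zero])
      (by simp [h.b't, h.h2, Nm_zero]) (Or.inr ?_) (Or.inl (m4 _ ⟨h.xq, h.Nyq⟩)) (Or.inl (m4 _ ⟨h.xp, h.Nyp⟩)) hv)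
      fun v hv => ?_, fun v hv => ?_⟩
    · rw [e2, add_comm, add_assoc (s • t), h.h2', Nm_add, h.L1q.1, h.Nm_self h.xz, zero_add]
    · rcases pH v hv with e | e <;> simp [e, Nm_zero, h.Nm_self h.xz]
    · rw [← h.h2' (Nm x v) v]
      refine pa _ _ ?_ (pH _ (by rw [add_comm]; exact h.Nx0 v))
      rcases hv with e | e <;> simp [e, b'z, h.h2]
  · exfalso
    have a1 : ∀ v : M, x • v = v ∧ Nm y v = 0 → (g * b * g⁻¹) • v = v := fun v hv => by
      rw [← smul_inv_smul g v, h.b'g, d1 _ (h.gA hv)]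
    have m2 : ∀ v, h.L2 v → x • ((g * b * g⁻¹) • v + v) = (g * b * g⁻¹) • v + v ∧
        Nm y ((g * b * g⁻¹) • v + v) = 0 := fun v hv => by
      rw [← smul_inv_smul g v, h.b'g, ← smul_add]; exact h.gL (d2 _ (h.g23 (Or.inl hv)))
    have f1 : (g * b * g⁻¹) • g • q = g • q := by rw [h.b'g, h.bq]
    have f2 : (g * b * g⁻¹) • x • g • q = x • g • q + z := by rw [← h.gyv, h.b'g, h.bp, smul_add, gu]
    have b't := h.b't
    have f3 := d1 _ h.L1q
    generalize g * b * g⁻¹ = β at *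
    have key := hc (b * β * (b * β)) (fun v hv => by
      simp only [mul_smul]
      refine h.span_x (P := fun v => b • β • b • β • v = v) (by simp) (fun v w a c => by simp [a, c])
        (by simp [b'z, h.bz]) (by simp [b't, h.bt]) ?_ (by simp [a1 _ ⟨h.xq, h.Nyq⟩, h.bq]) ?_ hv
      · simp only [e2, smul_add, h.bt2, f3, f1, h.bz, b'z, a1 _ ⟨h.xq, h.Nyq⟩, b'u, h.bq, bu]
        calc _ = s • t + (q + q) + (u + u) + (g • q + g • q) + (z + z) := by abel
          _ = _ := by simp only [h.h2, add_zero]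
      · simp only [a1 _ ⟨h.xp, h.Nyp⟩, h.bp, smul_add, b'u, bu, add_assoc, h.h2, add_zero])
      (by simp [mul_smul, f1, f3])
    have fin : ∀ a, h.L2 a → β • (b • a + a) + (b • a + a) = z → False := fun a ha e => by
      have h1 := key a
      have h2 := m2 a ha
      have h3 := d2 a (Or.inl ha)
      have h4 := nA _ h2
      have h5 := a1 _ h2
      have h6 := d1 _ h3
      have e1 : β • a = a + (β • a + a) := by rw [add_comm (β • a), h.h2']
      have e3 : b • a = a + (b • a + a) := by rw [add_comm (b • a), h.h2']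
      generalize β • a + a = c at *
      generalize b • a + a = d at *
      have e4 : β • d = d + z := by rw [← e, add_comm (β • d), h.h2']
      have tz : t ≠ 0 := h.t0
      simp only [mul_smul, e1, e3, smul_add, h5, h6, e4, h.bz] at h1
      rcases h4 with h4 | h4
      · rw [h.add_eq.mp h4] at h1
        simp only [h5, h.add_eq.mp h4] at h1
        refine z0 (add_left_cancel (a := a) ?_)
        rw [add_zero]
        conv_rhs => rw [← h1]
        calc _ = a + (d + d) + (c + c) + z := by simp only [h.h2, add_zero]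
          _ = _ := by abel
      · have h7 : b • c = c + u := by rw [← h4, add_comm (b • c), h.h2']
        simp only [h7, smul_add, h5, b'u, bu] at h1
        refine tz (add_left_cancel (a := a) ?_)
        rw [add_zero]
        conv_rhs => rw [← h1, hu]
        calc _ = a + (d + d) + (c + c) + (z + z) + (t + t) + (z + z) + t := by simp only [h.h2, add_zero]
          _ = _ := by abel
    have l2 : h.L2 (x • s • g • q) := ⟨by rw [← Nm_cj rfl, h.L2q.1, smul_zero], by rw [h.yx, h.L2q.2]⟩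
    rcases h.L1_cases (d2 _ (Or.inl h.L2q)) with e | e | e | e
    · exact d3 (h.add_eq.mp e)
    · exact fin _ l2 (by rw [h.bxv, ← smul_add x, e, f2, add_right_comm, h.h2, zero_add])
    · exact fin _ h.L2q (by rw [e, f2, add_right_comm, h.h2, zero_add])
    · exact fin _ h.L2q (by rw [e, smul_add, f1, f2, ← add_assoc (g • q), add_right_comm, h.h2, zero_add])

end MD

set_option linter.all false in
theorem eqns_J4G3 : True := by
  first | (have := @_root_.Cfsg.Agent.H83.J4.Nm.eq_def.{0,0}) | (have := @_root_.Cfsg.Agent.H83.J4.Nm.eq_def.{0}) | (have := @_root_.Cfsg.Agent.H83.J4.Nm.eq_def) | skip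
  first | (have := @_root_.Cfsg.Agent.H83.J4.Nm.eq_1.{0,0}) | (have := @_root_.Cfsg.Agent.H83.J4.Nm.eq_1.{0}) | (have := @_root_.Cfsg.Agent.H83.J4.Nm.eq_1) | skip
  first | (have := @_root_.Cfsg.Agent.H83.J4.Nm.eq_2.{0,0}) | (have := @_root_.Cfsg.Agent.H83.J4.Nm.eq_2.{0}) | (have := @_root_.Cfsg.Agent.H83.J4.Nm.eq_2) | skip
  first | (have := @_root_.Cfsg.Agent.H83.J4.Nm.congr_simp.{0,0}) | (have := @_root_.Cfsg.Agent.H83.J4.Nm.congr_simp.{0}) | (have := @_root_.Cfsg.Agent.H83.J4.Nm.congr_simp) | skip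
  first | (have := @_root_.Cfsg.Agent.H83.J4.NmH.eq_def.{0,0}) | (have := @_root_.Cfsg.Agent.H83.J4.NmH.eq_def.{0}) | (have := @_root_.Cfsg.Agent.H83.J4.NmH.eq_def) | skip
  first | (have := @_root_.Cfsg.Agent.H83.J4.NmH.eq_1.{0,0}) | (have := @_root_.Cfsg.Agent.H83.J4.NmH.eq_1.{0}) | (have := @_root_.Cfsg.Agent.H83.J4.NmH.eq_1) | skip
  first | (have := @_root_.Cfsg.Agent.H83.J4.NmH.eq_2.{0,0}) | (have := @_root_.Cfsg.Agent.H83.J4.NmH.eq_2.{0}) | (have := @_root_.Cfsg.Agent.H83.J4.NmH.eq_2) | skip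
  first | (have := @_root_.Cfsg.Agent.H83.J4.NmH.congr_simp.{0,0}) | (have := @_root_.Cfsg.Agent.H83.J4.NmH.congr_simp.{0}) | (have := @_root_.Cfsg.Agent.H83.J4.NmH.congr_simp) | skip
  first | (have := @_root_.Cfsg.Agent.H83.J4.fixS'.eq_def.{0,0}) | (have := @_root_.Cfsg.Agent.H83.J4.fixS'.eq_def.{0}) | (have := @_root_.Cfsg.Agent.H83.J4.fixS'.eq_def) | skip
  first | (have := @_root_.Cfsg.Agent.H83.J4.fixS'.eq_1.{0,0}) | (have := @_root_.Cfsg.Agent.H83.J4.fixS'.eq_1.{0}) | (have := @_root_.Cfsg.Agent.H83.J4.fixS'.eq_1) | skip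
  first | (have := @_root_.Cfsg.Agent.H83.J4.fixS'.eq_2.{0,0}) | (have := @_root_.Cfsg.Agent.H83.J4.fixS'.eq_2.{0}) | (have := @_root_.Cfsg.Agent.H83.J4.fixS'.eq_2) | skip
  first | (have := @_root_.Cfsg.Agent.H83.J4.fixS'.congr_simp.{0,0}) | (have := @_root_.Cfsg.Agent.H83.J4.fixS'.congr_simp.{0}) | (have := @_root_.Cfsg.Agent.H83.J4.fixS'.congr_simp) | skip
  first | (have := @_root_.Cfsg.Agent.H83.J4.Dm.eq_def.{0,0}) | (have := @_root_.Cfsg.Agent.H83.J4.Dm.eq_def.{0}) | (have := @_root_.Cfsg.Agent.H83.J4.Dm.eq_def) | skip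
  first | (have := @_root_.Cfsg.Agent.H83.J4.Dm.eq_1.{0,0}) | (have := @_root_.Cfsg.Agent.H83.J4.Dm.eq_1.{0}) | (have := @_root_.Cfsg.Agent.H83.J4.Dm.eq_1) | skip
  first | (have := @_root_.Cfsg.Agent.H83.J4.Dm.eq_2.{0,0}) | (have := @_root_.Cfsg.Agent.H83.J4.Dm.eq_2.{0}) | (have := @_root_.Cfsg.Agent.H83.J4.Dm.eq_2) | skip
  first | (have := @_root_.Cfsg.Agent.H83.J4.Dm.congr_simp.{0,0}) | (have := @_root_.Cfsg.Agent.H83.J4.Dm.congr_simp.{0}) | (have := @_root_.Cfsg.Agent.H83.J4.Dm.congr_simp) | skip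
  first | (have := @_root_.Cfsg.Agent.H83.J4.MD.L1.eq_def.{0,0}) | (have := @_root_.Cfsg.Agent.H83.J4.MD.L1.eq_def.{0}) | (have := @_root_.Cfsg.Agent.H83.J4.MD.L1.eq_def) | skip
  first | (have := @_root_.Cfsg.Agent.H83.J4.MD.L1.eq_1.{0,0}) | (have := @_root_.Cfsg.Agent.H83.J4.MD.L1.eq_1.{0}) | (have := @_root_.Cfsg.Agent.H83.J4.MD.L1.eq_1) | skip
  first | (have := @_root_.Cfsg.Agent.H83.J4.MD.L1.eq_2.{0,0}) | (have := @_root_.Cfsg.Agent.H83.J4.MD.L1.eq_2.{0}) | (have := @_root_.Cfsg.Agent.H83.J4.MD.L1.eq_2) | skip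
  first | (have := @_root_.Cfsg.Agent.H83.J4.MD.L1.congr_simp.{0,0}) | (have := @_root_.Cfsg.Agent.H83.J4.MD.L1.congr_simp.{0}) | (have := @_root_.Cfsg.Agent.H83.J4.MD.L1.congr_simp) | skip
  first | (have := @_root_.Cfsg.Agent.H83.J4.MD.L2.eq_def.{0,0}) | (have := @_root_.Cfsg.Agent.H83.J4.MD.L2.eq_def.{0}) | (have := @_root_.Cfsg.Agent.H83.J4.MD.L2.eq_def) | skip
  first | (have := @_root_.Cfsg.Agent.H83.J4.MD.L2.eq_1.{0,0}) | (have := @_root_.Cfsg.Agent.H83.J4.MD.L2.eq_1.{0}) | (have := @_root_.Cfsg.Agent.H83.J4.MD.L2.eq_1) | skip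
  first | (have := @_root_.Cfsg.Agent.H83.J4.MD.L2.eq_2.{0,0}) | (have := @_root_.Cfsg.Agent.H83.J4.MD.L2.eq_2.{0}) | (have := @_root_.Cfsg.Agent.H83.J4.MD.L2.eq_2) | skip
  first | (have := @_root_.Cfsg.Agent.H83.J4.MD.L2.congr_simp.{0,0}) | (have := @_root_.Cfsg.Agent.H83.J4.MD.L2.congr_simp.{0}) | (have := @_root_.Cfsg.Agent.H83.J4.MD.L2.congr_simp) | skip
  first | (have := @_root_.Cfsg.Agent.H83.J4.MD.L3.eq_def.{0,0}) | (have := @_root_.Cfsg.Agent.H83.J4.MD.L3.eq_def.{0}) | (have := @_root_.Cfsg.Agent.H83.J4.MD.L3.eq_def) | skip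
  first | (have := @_root_.Cfsg.Agent.H83.J4.MD.L3.eq_1.{0,0}) | (have := @_root_.Cfsg.Agent.H83.J4.MD.L3.eq_1.{0}) | (have := @_root_.Cfsg.Agent.H83.J4.MD.L3.eq_1) | skip
  first | (have := @_root_.Cfsg.Agent.H83.J4.MD.L3.eq_2.{0,0}) | (have := @_root_.Cfsg.Agent.H83.J4.MD.L3.eq_2.{0}) | (have := @_root_.Cfsg.Agent.H83.J4.MD.L3.eq_2) | skip
  first | (have := @_root_.Cfsg.Agent.H83.J4.MD.L3.congr_simp.{0,0}) | (have := @_root_.Cfsg.Agent.H83.J4.MD.L3.congr_simp.{0}) | (have := @_root_.Cfsg.Agent.H83.J4.MD.L3.congr_simp) | skip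
  trivial

end Cfsg.Agent.H83.J4
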