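import Cfsg.Agent.H83.J4G2

/-!
# Explicit elements of `M₂₂`
-/

set_option autoImplicit false
set_option maxRecDepth 100000

namespace Cfsg.Agent.H83.J4

open H42 Cfsg Subgroup MulAction
open scoped Pointwise

/-- Codes of the named elements. -/
def NL : List ℕ := [980235356534672358056767767414510656, 969241303082418123964318462941631552,
  984797642623984997567594628879848480, 983548720921252936276249910206105632,
  966182099583441531322624363496310816, 984806227379088838201018984694921248,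
  983549310955746530506231437997410400, 975346028712660580592452217730074656,
  970499966350631336865513127433832480, 967108836203849983852575182709543040,
  29435610948763618421167709975787639, 24852745630756601795166343186695639]

/-- Code of a named element. -/
noncomputable def gc (i : ℕ) : ℕ := nthD NL i

theorem inM_gc (i : ℕ) : inM (gc i) = true := by
  rcases nthD_mem NL i with h | h
  · rw [gc, h]; exact inM_pid
  · exact inM_of_allL (show allL inM NL = true by decide +kernel) _ h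

/-- A named element. -/
noncomputable def mo (i : ℕ) : M24 := toM (gc i)

/-- Letters with a variable. -/
noncomputable def gy (y i : ℕ) : ℕ := Bool.rec (gc i) y (Nat.beq i 20)

/-- Letters with a variable. -/
noncomputable def my (k : M24) (i : ℕ) : M24 := if i = 20 then k else mo i

/-- Value of a word. -/
noncomputable def evy (y : ℕ) (w : List ℕ) : ℕ := evW pm pid (gy y) w

theorem evy_spec {y : ℕ} (hy : inM y = true) (w : List ℕ) :
    inM (evy y w) = true ∧ toM (evy y w) = wd (my (toM y)) w := by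
  induction w with
  | nil => exact ⟨inM_pid, toM_pid⟩
  | cons c w ih =>
    have : inM (gy y c) = true ∧ toM (gy y c) = my (toM y) c := by
      unfold gy my
      by_cases h : c = 20
      · rw [h, if_pos rfl]; exact ⟨hy, rfl⟩
      · rw [if_neg h, Bool.eq_false_iff.mpr fun e => h (beq_iff.mp e)]; exact ⟨inM_gc c, rfl⟩
    rw [evy, evW_cons, pm_eq, wd_cons, ← ih.2, ← this.2]
    exact ⟨inM_pmul this.1 ih.1, toM_pmul this.1 ih.1⟩

/-- Equality of words. -/
noncomputable def eqw (y : ℕ) (a b : List ℕ) : Bool := Nat.beq (evy y a) (evy y b)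

theorem eqw_iff {y : ℕ} (hy : inM y = true) {a b : List ℕ} :
    eqw y a b = true ↔ wd (my (toM y)) a = wd (my (toM y)) b := by
  rw [eqw, beq_iff, ← (evy_spec hy a).2, ← (evy_spec hy b).2, toM_eq_iff (evy_spec hy a).1 (evy_spec hy b).1]

theorem rbw_iff {y : ℕ} (hy : inM y = true) {a : List ℕ} :
    inRB (evy y a) = true ↔ wd (my (toM y)) a ∈ RB := by
  rw [inRB_iff (evy_spec hy a).1, (evy_spec hy a).2]

theorem e8w_iff {y : ℕ} (hy : inM y = true) {a : List ℕ} :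
    Nat.beq (sqN (evy y a) 3) pid = true ↔ wd (my (toM y)) a ^ 8 = 1 := by
  have := sqN_spec (evy_spec hy a).1 3
  rw [beq_iff, ← toM_eq_one_iff this.1, this.2, (evy_spec hy a).2]; rfl

theorem k22_iff {y : ℕ} (hy : inM y = true) : inK22 y = true ↔ toM y ∈ G22 := by
  rw [toM_mem_G22_iff hy, inK22, Bool.and_eq_true, beq_iff, beq_iff]

theorem wd_append {X : Type*} [Monoid X] (g : ℕ → X) (a b : List ℕ) : wd g (a ++ b) = wd g a * wd g b := by
  induction a with
  | nil => simp [wd_nil]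
  | cons c a ih => rw [List.cons_append, wd_cons, wd_cons, ih, mul_assoc]

theorem rel (a b : List ℕ) (h : eqw pid a b = true := by decide +kernel) : wd (my 1) a = wd (my 1) b := by
  rwa [eqw_iff inM_pid, toM_pid] at h

theorem nrel (a b : List ℕ) (h : eqw pid a b = false := by decide +kernel) : wd (my 1) a ≠ wd (my 1) b := by
  rwa [Bool.eq_false_iff, Ne, eqw_iff inM_pid, toM_pid] at h

theorem cm_mo (i k : ℕ) (h : comm (gc i) (gc k) = true := by decide +kernel) : mo i * mo k = mo k * mo i :=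
  (comm_iff (inM_gc i) (inM_gc k)).mp h

theorem sq_mo (i : ℕ) (h : Nat.beq (pmul (gc i) (gc i)) pid = true := by decide +kernel) : mo i * mo i = 1 := by
  rw [mo, ← toM_pmul (inM_gc i) (inM_gc i), beq_iff.mp h, toM_pid]

theorem g22_mo (i : ℕ) (h : inK22 (gc i) = true := by decide +kernel) : mo i ∈ G22 := (k22_iff (inM_gc i)).mp h

theorem rb_mo (i : ℕ) (h : inRB (gc i) = true := by decide +kernel) : mo i ∈ RB := (inRB_iff (inM_gc i)).mp h

/-- Membership test. -/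
noncomputable def inBB (g : ℕ) : Bool := Bool.and (inD2 g) (Nat.beq (img g oct0) oct0)

theorem mem_of_inBB {g : ℕ} (hg : inM g = true) (h : inBB g = true) : toM g ∈ BB :=
  ⟨mem_of_inD2 g hg (Bool.and_eq_true_iff.mp h).1,
    (toM_mem_stabilizer_toSet hg oct0_lt).mpr (beq_iff.mp (Bool.and_eq_true_iff.mp h).2)⟩

theorem bb_mo (i : ℕ) (h : inBB (gc i) = true := by decide +kernel) : mo i ∈ BB := mem_of_inBB (inM_gc i) h

theorem ne_mo (i : ℕ) (h : Nat.beq (gc i) pid = false := by decide +kernel) : mo i ≠ 1 :=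
  toM_ne_one (inM_gc i) fun e => by rw [e, beq_iff.mpr rfl] at h; exact absurd h (by simp)

theorem r_p3 : mo 0 ^ 3 = 1 := by simpa [wd_cons, wd_nil, my, pow_three] using rel [0, 0, 0] []
theorem r_s3 : mo 1 ^ 3 = 1 := by simpa [wd_cons, wd_nil, my, pow_three] using rel [1, 1, 1] []
theorem r_jp : mo 2 * mo 0 * (mo 2)⁻¹ = mo 0 * mo 0 := mul_inv_eq_iff_eq_mul.mpr (by
  simpa [wd_cons, wd_nil, my, mul_assoc] using rel [2, 0] [0, 0, 2])
theorem r_js : mo 2 * mo 1 * (mo 2)⁻¹ = mo 1 * mo 1 := mul_inv_eq_iff_eq_mul.mpr (by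
  simpa [wd_cons, wd_nil, my, mul_assoc] using rel [2, 1] [1, 1, 2])
theorem r_st : mo 1 * mo 3 * (mo 1)⁻¹ = mo 4 := mul_inv_eq_iff_eq_mul.mpr (by
  simpa [wd_cons, wd_nil, my, mul_assoc] using rel [1, 3] [4, 1])
theorem r_st2 : mo 1 * mo 4 * (mo 1)⁻¹ = mo 3 * mo 4 := mul_inv_eq_iff_eq_mul.mpr (by
  simpa [wd_cons, wd_nil, my, mul_assoc] using rel [1, 4] [3, 4, 1])
theorem r_pb : mo 0 * mo 5 * (mo 0)⁻¹ = mo 6 := mul_inv_eq_iff_eq_mul.mpr (by
  simpa [wd_cons, wd_nil, my, mul_assoc] using rel [0, 5] [6, 0])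
theorem r_pb2 : mo 0 * mo 6 * (mo 0)⁻¹ = mo 5 * mo 6 := mul_inv_eq_iff_eq_mul.mpr (by
  simpa [wd_cons, wd_nil, my, mul_assoc] using rel [0, 6] [5, 6, 0])
theorem r_pq : mo 0 * mo 7 * (mo 0)⁻¹ = mo 8 := mul_inv_eq_iff_eq_mul.mpr (by
  simpa [wd_cons, wd_nil, my, mul_assoc] using rel [0, 7] [8, 0])
theorem r_pp : mo 0 * mo 8 * (mo 0)⁻¹ = mo 7 * mo 8 := mul_inv_eq_iff_eq_mul.mpr (by
  simpa [wd_cons, wd_nil, my, mul_assoc] using rel [0, 8] [7, 8, 0])
theorem r_bp : mo 5 * mo 8 * (mo 5)⁻¹ = mo 8 * mo 3 := mul_inv_eq_iff_eq_mul.mpr (by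
  simpa [wd_cons, wd_nil, my, mul_assoc] using rel [5, 8] [8, 3, 5])
theorem r_bt2 : mo 5 * mo 4 * (mo 5)⁻¹ = mo 4 * mo 7 * mo 3 := mul_inv_eq_iff_eq_mul.mpr (by
  simpa [wd_cons, wd_nil, my, mul_assoc] using rel [5, 4] [4, 7, 3, 5])
theorem r_j4 : mo 2 * mo 4 ≠ mo 4 * mo 2 := by simpa [wd_cons, wd_nil, my] using nrel [2, 4] [4, 2]
theorem r_34 : mo 3 * mo 4 ≠ 1 := by simpa [wd_cons, wd_nil, my] using nrel [3, 4] []
theorem r_37 : mo 3 * mo 7 ≠ 1 := by simpa [wd_cons, wd_nil, my] using nrel [3, 7] []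
theorem r_47 : mo 4 * mo 7 ≠ 1 := by simpa [wd_cons, wd_nil, my] using nrel [4, 7] []
theorem r_347 : mo 3 * mo 4 * mo 7 ≠ 1 := by simpa [wd_cons, wd_nil, my, mul_assoc] using nrel [3, 4, 7] []

theorem bb_n (i : ℕ) (h : inBB (pconj (gc 9) (gc i)) = true := by decide +kernel) :
    mo 9 * mo i * (mo 9)⁻¹ ∈ BB := by
  rw [mo, mo, ← toM_pconj (inM_gc 9) (inM_gc i)]; exact mem_of_inBB (inM_pconj (inM_gc 9) (inM_gc i)) h

/-- The four-group centralising the element of order three. -/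
def F4 (r : M24) : Prop := r = 1 ∨ r = mo 3 ∨ r = mo 4 ∨ r = mo 3 * mo 4
/-- The complementary four-group. -/
def A4 (r : M24) : Prop := r = 1 ∨ r = mo 7 ∨ r = mo 8 ∨ r = mo 7 * mo 8
/-- The outer four-group. -/
def B4 (r : M24) : Prop := r = 1 ∨ r = mo 5 ∨ r = mo 6 ∨ r = mo 5 * mo 6

theorem rb_pass {r : M24} (hr : r ∈ RB) : (∃ f a, F4 f ∧ A4 a ∧ r = f * a) ∧
    (r * mo 0 = mo 0 * r → F4 r) ∧ (r * mo 0 * (r * mo 0) * (r * mo 0) = 1 → A4 r) ∧
    (r * (mo 9 * mo 0 * (mo 9)⁻¹) = mo 9 * mo 0 * (mo 9)⁻¹ * r → r = 1) := by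
  rw [RB, fixS_oct0_eq.1] at hr
  obtain ⟨y, hy, rfl, h⟩ := forall_gen' inM_gensE16 (fuel := 20) (p := fun y =>
    Bool.and ([[], [3], [4], [3, 4]].any fun f => [[], [7], [8], [7, 8]].any fun a => eqw y [20] (f ++ a))
    (Bool.and (Bool.or (!eqw y [20, 0] [0, 20]) ([[], [3], [4], [3, 4]].any fun f => eqw y [20] f))
    (Bool.and (Bool.or (!eqw y [20, 0, 20, 0, 20, 0] []) ([[], [7], [8], [7, 8]].any fun f => eqw y [20] f))
      (Bool.or (!comm y (pconj (gc 9) (gc 0))) (eqw y [20] []))))) (by decide +kernel) hr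
  simp only [Bool.and_eq_true, Bool.or_eq_true, Bool.not_eq_true', Bool.eq_false_iff, Ne, List.any_eq_true,
    eqw_iff hy, comm_iff hy (inM_pconj (inM_gc 9) (inM_gc 0)), toM_pconj (inM_gc 9) (inM_gc 0), wd_append] at h
  obtain ⟨⟨f, hf, a, ha, e⟩, h2, h3, h4⟩ := h
  refine ⟨⟨_, _, ?_, ?_, by simpa [wd_cons, wd_nil, my] using e⟩, fun e => ?_, fun e => ?_, fun e => ?_⟩
  · simp only [List.mem_cons, List.not_mem_nil, or_false] at hf
    rcases hf with rfl | rfl | rfl | rfl <;> simp [wd_cons, wd_nil, my, F4]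
  · simp only [List.mem_cons, List.not_mem_nil, or_false] at ha
    rcases ha with rfl | rfl | rfl | rfl <;> simp [wd_cons, wd_nil, my, A4]
  · simpa [wd_cons, wd_nil, my, F4] using h2.resolve_left (by simpa [wd_cons, wd_nil, my] using e)
  · simpa [wd_cons, wd_nil, my, A4] using h3.resolve_left (by simpa [wd_cons, wd_nil, my, mul_assoc] using e)
  · simpa [wd_cons, wd_nil, my] using h4.resolve_left (not_not.mpr e)

theorem bb_pass {k : M24} (hk : k ∈ G22) (h1 : k * mo 3 = mo 3 * k) : (k * k * k) ^ 8 = 1 ∧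
    (k ^ 8 = 1 → (k * (mo 0 * k * (mo 0)⁻¹)) ^ 8 = 1 → ∃ β, B4 β ∧ k * β ∈ RB) ∧
    (k * mo 4 = mo 4 * k → k ∈ RB ∨ k * mo 0 ∈ RB ∨ k * (mo 0 * mo 0) ∈ RB) := by
  have hb : k ∈ BB := ⟨G22_le_GD2 hk, mem_GO_of_conj (rb_mo 3) (ne_mo 3) (by
    rw [h1, mul_inv_cancel_right]; exact rb_mo 3)⟩
  rw [BB_eq] at hb
  obtain ⟨y, hy, rfl, h⟩ := forall_gen' inM_gensBB (fuel := 11600) (p := fun y =>
    Bool.or (!inK22 y) (Bool.or (!Nat.beq (pm y (gc 3)) (pm (gc 3) y))
    (Bool.and (Nat.beq (sqN (evy y [20, 20, 20]) 3) pid)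
    (Bool.and (Bool.or (!Nat.beq (sqN (evy y [20]) 3) pid) (Bool.or (!Nat.beq (sqN (evy y [20, 0, 20, 0, 0]) 3) pid)
      ([[], [5], [6], [5, 6]].any fun f => inRB (evy y (20 :: f)))))
      (Bool.or (!eqw y [20, 4] [4, 20]) ([[], [0], [0, 0]].any fun f => inRB (evy y (20 :: f))))))))
    (by decide +kernel) hb
  have e1 : Nat.beq (pm y (gc 3)) (pm (gc 3) y) = true := by
    rw [pm_eq, pm_eq]; exact (comm_iff hy (inM_gc 3)).mpr h1
  rw [(k22_iff hy).mpr hk, e1] at h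
  simp only [Bool.and_eq_true, Bool.or_eq_true, Bool.not_eq_true', Bool.eq_false_iff, Ne, List.any_eq_true,
    eqw_iff hy, e8w_iff hy, rbw_iff hy, Bool.not_true, Bool.false_eq_true, false_or] at h
  obtain ⟨h1, h2, h3⟩ := h
  have pi : (mo 0)⁻¹ = mo 0 * mo 0 := inv_eq_of_mul_eq_one_right (by rw [← pow_three, r_p3])
  refine ⟨by simpa [wd_cons, wd_nil, my, mul_assoc] using h1, fun e e' => ?_, fun e => ?_⟩
  · obtain ⟨f, hf, e⟩ := (h2.resolve_left (by simpa [wd_cons, wd_nil, my] using e)).resolve_left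
      (by simpa [wd_cons, wd_nil, my, pi, mul_assoc] using e')
    refine ⟨_, ?_, by simpa [wd_cons, my] using e⟩
    simp only [List.mem_cons, List.not_mem_nil, or_false] at hf
    rcases hf with rfl | rfl | rfl | rfl <;> simp [wd_cons, wd_nil, my, B4]
  · simpa [wd_cons, wd_nil, my] using h3.resolve_left (by simpa [wd_cons, wd_nil, my] using e)

theorem p3_pass {k : M24} (hk : k ∈ GD2) (h1 : k * mo 0 * k⁻¹ = mo 0 ∨ k * mo 0 * k⁻¹ = mo 0 * mo 0) : k ∈ BB ∧
    (k ∈ G22 → k * mo 0 = mo 0 * k → ∃ a c, (a = 1 ∨ a = mo 1 ∨ a = mo 1 * mo 1) ∧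
      (c = 1 ∨ c = mo 0 ∨ c = mo 0 * mo 0) ∧ F4 (k * a * c)) := by
  have lt : 45120 < 2 ^ 24 := by norm_num
  have hg : ∀ g ∈ [gc 0, gc 1, gc 2, gc 3, gc 11], inM g = true := fun g hg => by
    simp only [List.mem_cons, List.not_mem_nil, or_false] at hg
    rcases hg with rfl | rfl | rfl | rfl | rfl <;> exact inM_gc _
  have c1 : Nat.card ↥(GD2 ⊓ stabilizer M24 (toSet 45120)) = 144 :=
    encSet.card_inf_stabilizer_eq (gens := gensD2) (x0 := 45120) inM_gensD2 GD2 GD2_eq lt 6200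
      (n := 6160) (by norm_num) (orbSize_set (by decide +kernel)) (by rw [card_GD2])
  have e1 : gen [gc 0, gc 1, gc 2, gc 3, gc 11] = GD2 ⊓ stabilizer M24 (toSet 45120) :=
    eq_of_le_of_card_ge (gen_le _ fun g h => ⟨allL_fix_set hg duad0_lt (by decide +kernel) g h,
      allL_fix_set hg lt (by decide +kernel) g h⟩)
      (by rw [c1, card_gen_of_orbSize hg (fuel := 150) (n := 144) (by norm_num) (by decide +kernel)])
  have f1 : fixSet (mo 0) = toSet 45120 ∪ toSet duad0 ∧ fixSet (mo 0 * mo 0) = toSet 45120 ∪ toSet duad0 ∧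
      Disjoint (toSet 45120) (toSet duad0) := by
    rw [mo, ← toM_pmul (inM_gc 0) (inM_gc 0), fixSet_toM (inM_gc 0), fixSet_toM (inM_pmul (inM_gc 0) (inM_gc 0))]
    decide +kernel
  have hs : k ∈ stabilizer M24 (toSet 45120) := by
    have e := fixSet_conj k (mo 0)
    have e2 : k • toSet duad0 = toSet duad0 := hk
    rw [f1.1, Finset.smul_finset_union, e2] at e
    have e3 : fixSet (k * mo 0 * k⁻¹) = toSet 45120 ∪ toSet duad0 := by
      rcases h1 with h | h <;> rw [h]; exacts [f1.1, f1.2.1]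
    have d : Disjoint (k • toSet 45120) (toSet duad0) := by
      rw [← e2]; exact (disjoint_msmul k).mpr f1.2.2
    rw [mem_stabilizer_iff, ← Finset.union_sdiff_cancel_right d, ← e, e3, Finset.union_sdiff_cancel_right f1.2.2]
  have hb : k ∈ gen [gc 0, gc 1, gc 2, gc 3, gc 11] := e1 ▸ ⟨hk, hs⟩
  obtain ⟨y, hy, rfl, h⟩ := forall_gen' hg (fuel := 150) (p := fun y => Bool.and (inBB y)
    (Bool.or (!inK22 y) (Bool.or (!eqw y [20, 0] [0, 20]) ([[], [1], [1, 1]].any fun a =>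
      [[], [0], [0, 0]].any fun c => [[], [3], [4], [3, 4]].any fun f => eqw y (20 :: (a ++ c)) f))))
    (by decide +kernel) hb
  simp only [Bool.and_eq_true, Bool.or_eq_true, Bool.not_eq_true', Bool.eq_false_iff, Ne, List.any_eq_true,
    eqw_iff hy, k22_iff hy, wd_cons, wd_append] at h
  refine ⟨mem_of_inBB hy h.1, fun e e' => ?_⟩
  obtain ⟨a, ha, c, hc, f, hf, e⟩ := (h.2.resolve_left (not_not.mpr e)).resolve_left
    (by simpa [wd_cons, wd_nil, my] using e')
  simp only [List.mem_cons, List.not_mem_nil, or_false] at ha hc hf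
  refine ⟨wd (my (toM y)) a, wd (my (toM y)) c, ?_, ?_, ?_⟩
  · rcases ha with rfl | rfl | rfl <;> simp [wd_cons, wd_nil, my]
  · rcases hc with rfl | rfl | rfl <;> simp [wd_cons, wd_nil, my]
  · rw [mul_assoc, show toM y = my (toM y) 20 from rfl, show my (my (toM y) 20) = my (toM y) from rfl, e]
    rcases hf with rfl | rfl | rfl | rfl <;> simp [wd_cons, wd_nil, my, F4]

theorem g22_conj3 {g : M24} (hg : g ∈ G22) (h3 : g ^ 3 = 1) (h1 : g ≠ 1) : ∃ k ∈ G22, k * mo 0 * k⁻¹ = g := by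
  haveI : Fact (Nat.Prime 3) := ⟨Nat.prime_three⟩
  obtain ⟨k, hk, h⟩ := sylIn_P9.exists_conj_le (zpowers_le.mpr hg) (isPGroup_zpowers (k := 1) h3)
  let L : List ℕ := [984818244535754528103549039458486304, 967108836203849983852575182709543040,
    965972864124916166551408430007145120, 970500119315863743489150393640323232,
    984565534579005918838370534678378592, 984556737895558535688333252646454368,
    980636146509153514334651670250789344, 976295816081274210735877562695302336]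
  obtain ⟨y, hy, e, h⟩ := forall_gen' inM_gP9 (fuel := 20) (p := fun y => Bool.or (Nat.beq y pid)
    (anyL (fun c => Bool.and (inM c) (Bool.and (inK22 c) (Nat.beq (pconj c (gc 0)) y))) L)) (by decide +kernel)
    (h (H98.conj_mem_map_conj (g := k) (mem_zpowers g)))
  simp only [Bool.and_eq_true, Bool.or_eq_true, anyL_iff, beq_iff] at h
  rcases h with rfl | ⟨c, -, c1, c2, rfl⟩
  · rw [toM_pid] at e; exact absurd (by simpa using e.symm) h1
  · rw [toM_pconj c1 (inM_gc 0)] at e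
    exact ⟨k⁻¹ * toM c, mul_mem (inv_mem hk) (mem_of_inK22 c c1 c2), by
      rw [show k⁻¹ * toM c * mo 0 * (k⁻¹ * toM c)⁻¹ = k⁻¹ * (toM c * toM (gc 0) * (toM c)⁻¹) * k by
        rw [mo]; group, e]; group⟩

theorem g22_gen {S : Subgroup M24} (h : BB ⊓ G22 ≤ S) (h9 : mo 9 ∈ S) : G22 ≤ S := by
  rw [G22_eq]
  refine (gen_le_of_slpChk (gens := [gc 0, gc 1, gc 2, gc 5, gc 3, gc 7, gc 9])
    (prog := [[6, 10, 1, 6, 13, 8, 3, 6], [2, 10, 15, 12, 15, 8, 14, 8, 14, 10]]) (by decide +kernel)).trans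
    (gen_le _ fun g hg => ?_)
  simp only [List.mem_cons, List.not_mem_nil, or_false] at hg
  rcases hg with rfl | rfl | rfl | rfl | rfl | rfl | rfl
  exacts [h ⟨bb_mo 0, g22_mo 0⟩, h ⟨bb_mo 1, g22_mo 1⟩, h ⟨bb_mo 2, g22_mo 2⟩, h ⟨bb_mo 5, g22_mo 5⟩,
    h ⟨bb_mo 3, g22_mo 3⟩, h ⟨bb_mo 7, g22_mo 7⟩, h9]

theorem card_ge_128 {S : Subgroup M24} (h4 : mo 4 ∈ S) (h6 : mo 6 ∈ S) (h2 : mo 2 ∈ S) : 128 ≤ Nat.card S := by
  have hg : ∀ g ∈ [gc 4, gc 6, gc 2], inM g = true := fun g hg => by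
    simp only [List.mem_cons, List.not_mem_nil, or_false] at hg
    rcases hg with rfl | rfl | rfl <;> exact inM_gc _
  rw [← card_gen_of_orbSize hg (fuel := 150) (n := 128) (by norm_num) (by decide +kernel)]
  refine card_le_of_le (gen_le _ fun g hg => ?_)
  simp only [List.mem_cons, List.not_mem_nil, or_false] at hg
  rcases hg with rfl | rfl | rfl <;> assumption

/-- A Sylow subgroup of the duad stabiliser. -/
noncomputable def PD : Subgroup M24 := gen [gc 4, gc 6, gc 2, gc 10]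

theorem inM_gPD : ∀ g ∈ [gc 4, gc 6, gc 2, gc 10], inM g = true := fun g hg => by
  simp only [List.mem_cons, List.not_mem_nil, or_false] at hg
  rcases hg with rfl | rfl | rfl | rfl <;> exact inM_gc _

theorem card_PD : Nat.card PD = 256 := card_gen_of_orbSize inM_gPD (fuel := 300) (by norm_num) (by decide +kernel)

theorem PD_le {S : Subgroup M24} (h4 : mo 4 ∈ S) (h6 : mo 6 ∈ S) (h2 : mo 2 ∈ S) (h10 : mo 10 ∈ S) : PD ≤ S := by
  refine gen_le _ fun g hg => ?_
  simp only [List.mem_cons, List.not_mem_nil, or_false] at hg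
  rcases hg with rfl | rfl | rfl | rfl <;> assumption

theorem mem_PD : mo 4 ∈ PD ∧ mo 6 ∈ PD ∧ mo 2 ∈ PD ∧ mo 10 ∈ PD :=
  ⟨toM_mem_gen (by simp), toM_mem_gen (by simp), toM_mem_gen (by simp), toM_mem_gen (by simp)⟩

theorem r_t : mo 3 = mo 4 * mo 2 * mo 4 * mo 2 := by
  simpa [wd_cons, wd_nil, my, mul_assoc] using rel [3] [4, 2, 4, 2]
theorem r_b : mo 5 = mo 6 * mo 2 * mo 6 * mo 2 := by
  simpa [wd_cons, wd_nil, my, mul_assoc] using rel [5] [6, 2, 6, 2]
theorem r_sq : mo 4 * mo 6 * (mo 4 * mo 6) * (mo 6 * mo 2 * (mo 6 * mo 2)) =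
    mo 3 * (mo 6 * mo 2 * (mo 6 * mo 2)) * (mo 4 * mo 6 * (mo 4 * mo 6)) := by
  simpa only [wd_cons, wd_nil, my, mul_assoc, mul_one, reduceIte, Nat.reduceEqDiff] using
    rel [4, 6, 4, 6, 6, 2, 6, 2] [3, 6, 2, 6, 2, 4, 6, 4, 6]
theorem r_o : mo 4 * mo 10 = mo 10 * mo 3 * mo 4 := by
  simpa [wd_cons, wd_nil, my, mul_assoc] using rel [4, 10] [10, 3, 4]

theorem PD_le_BB : PD ≤ BB := PD_le (bb_mo 4) (bb_mo 6) (bb_mo 2) (bb_mo 10)

theorem PD_comm {k : M24} (hk : k ∈ PD) : k * mo 3 = mo 3 * k :=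
  mem_centralizer_singleton_iff.mp (PD_le (S := centralizer {mo 3}) (mem_centralizer_singleton_iff.mpr (cm_mo 4 3))
    (mem_centralizer_singleton_iff.mpr (cm_mo 6 3)) (mem_centralizer_singleton_iff.mpr (cm_mo 2 3))
    (mem_centralizer_singleton_iff.mpr (cm_mo 10 3)) hk)

theorem o_not : mo 10 ∉ G22 := by rw [mo, ← k22_iff (inM_gc 10)]; decide +kernel

/-- A conjugacy class under a subgroup. -/
def clsT {G : Type*} [Group G] (T : Subgroup G) (w : G) : Set G := {v | ∃ c ∈ T, c * w * c⁻¹ = v}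

theorem PD_o {k : M24} (hk : k ∈ PD) : k * mo 10 * k⁻¹ = mo 10 ∨ k * mo 10 * k⁻¹ = mo 10 * mo 3 := by
  obtain ⟨y, hy, rfl, h⟩ := forall_gen' inM_gPD (fuel := 300) (p := fun y =>
    Bool.or (eqw y [20, 10] [10, 20]) (eqw y [20, 10] [10, 3, 20])) (by decide +kernel) hk
  rw [mul_inv_eq_iff_eq_mul, mul_inv_eq_iff_eq_mul]
  simpa [eqw_iff hy, wd_cons, wd_nil, my, mul_assoc] using h

theorem le_ncard_cls : 5 ≤ (clsT PD (mo 4)).ncard := by
  classical
  let l : List ℕ := [evy pid [4], evy pid [6, 4, 6], evy pid [2, 4, 2], evy pid [6, 2, 4, 2, 6], evy pid [2, 6, 4, 6, 2]]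
  have h1 : l.Nodup := by decide +kernel
  have h2 : ∀ y ∈ l, inM y = true := inM_of_allL (by decide +kernel)
  have i6 : (mo 6)⁻¹ = mo 6 := inv_eq_of_mul_eq_one_right (sq_mo 6)
  have i2 : (mo 2)⁻¹ = mo 2 := inv_eq_of_mul_eq_one_right (sq_mo 2)
  obtain ⟨-, m6, m2, -⟩ := mem_PD
  have h3 : ((l.map toM).toFinset : Set M24) ⊆ clsT PD (mo 4) := fun y hy => by
    simp only [l, List.coe_toFinset, List.map_cons, List.map_nil, List.mem_cons, List.not_mem_nil, or_false,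
      Set.mem_ofPred_eq, (evy_spec inM_pid _).2, wd_cons, wd_nil, my, mul_one, reduceIte, Nat.reduceEqDiff] at hy
    rcases hy with rfl | rfl | rfl | rfl | rfl
    exacts [⟨1, one_mem _, by simp⟩, ⟨_, m6, by simp [i6, mul_assoc]⟩, ⟨_, m2, by simp [i2, mul_assoc]⟩,
      ⟨_, mul_mem m6 m2, by simp [i6, i2, mul_assoc]⟩, ⟨_, mul_mem m2 m6, by simp [i6, i2, mul_assoc]⟩]
  have := Set.ncard_le_ncard h3 (Set.toFinite _)
  rwa [Set.ncard_coe_finset, List.toFinset_card_of_nodup (h1.map_on fun a ha b hb => toM_inj (h2 a ha) (h2 b hb))]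
    at this

/-- The short outer classes. -/
def LL : List (List ℕ) := [[16190892181738073761706325615609975, 19982780501449371641641090241562743,
    29423617025262996122360935273760887, 28178099544003410202651033216256119],
  [29435610948763618421167709975787639, 28166109638943914996476167295383671],
  [29415009036994604398546549813068919, 19984019110013899519015137704985719,
    29434394412773751724422352316961911, 16211488914476476618173055970088055],
  [16199476704735240578846184153597047, 19972002881831610171778655256089719,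
    28176882079530032273517671640777847, 28157502579158665581416326249878647],
  [24841762784943064674727289500514423, 15117335252818615994979033626490999,
    26436077282608793593742678503241847, 5982887659023704440996624878057591],
  [16210249377428363723688706441263223, 19963417430351227261161954154166391]]

theorem ncard_cls_le {k : M24} (hk : k ∈ PD) (h22 : k ∉ G22) (kk : k * k = 1)
    (ab : ∀ c ∈ PD, k * (c * k * c⁻¹) = c * k * c⁻¹ * k) : (clsT PD k).ncard ≤ 4 := by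
  obtain ⟨y, hy, rfl, h⟩ := forall_gen' inM_gPD (fuel := 300) (p := fun y => Bool.or (inK22 y)
    (Bool.or (!eqw y [20, 20] []) (Bool.or (!eqw y [20, 4, 6, 2, 20, 2, 6, 4] [4, 6, 2, 20, 2, 6, 4, 20])
      (LL.any fun L => memL y L)))) (by decide +kernel) hk
  have i6 : (mo 6)⁻¹ = mo 6 := inv_eq_of_mul_eq_one_right (sq_mo 6)
  have i2 : (mo 2)⁻¹ = mo 2 := inv_eq_of_mul_eq_one_right (sq_mo 2)
  have i4 : (mo 4)⁻¹ = mo 4 := inv_eq_of_mul_eq_one_right (sq_mo 4)
  obtain ⟨m4, m6, m2, -⟩ := mem_PD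
  simp only [Bool.or_eq_true, Bool.not_eq_true', Bool.eq_false_iff, Ne, List.any_eq_true,
    eqw_iff hy, k22_iff hy, memL_iff] at h
  obtain ⟨L, hL, h⟩ := ((h.resolve_left h22).resolve_left (by simpa [wd_cons, wd_nil, my] using kk)).resolve_left
    (by simpa [wd_cons, wd_nil, my, i2, i4, i6, mul_assoc] using ab _ (mul_mem (mul_mem m4 m6) m2))
  have c : ∀ L ∈ LL, L.length ≤ 4 ∧ allL inM L = true ∧
      allL (fun g => allL (fun v => memL (pconj g v) L) L) [gc 4, gc 6, gc 2, gc 10] = true := by decide +kernel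
  obtain ⟨c1, c2, c3⟩ := c L hL
  have : PD ≤ normalizer (toM '' {v | v ∈ L}) := gen_le _ fun g hg => by
    haveI : Finite (toM '' {v | v ∈ L}) := Set.toFinite _
    refine mem_normalizer_fintype ?_
    rintro _ ⟨v, hv, rfl⟩
    exact ⟨_, memL_iff.mp (allL_iff.mp (allL_iff.mp c3 g hg) v hv), toM_pconj (inM_gPD g hg) (inM_of_allL c2 v hv)⟩
  refine (ncard_le_length _ toM L ?_).trans c1
  rintro _ ⟨c, hc, rfl⟩
  exact (mem_set_normalizer_iff.mp (this hc) _).mp ⟨y, h, rfl⟩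

set_option linter.all false in
theorem eqns_J4G4 : True := by
  first | (have := @_root_.Cfsg.Agent.H83.J4.mo.eq_def.{0,0}) | (have := @_root_.Cfsg.Agent.H83.J4.mo.eq_def.{0}) | (have := @_root_.Cfsg.Agent.H83.J4.mo.eq_def) | skip
  first | (have := @_root_.Cfsg.Agent.H83.J4.mo.eq_1.{0,0}) | (have := @_root_.Cfsg.Agent.H83.J4.mo.eq_1.{0}) | (have := @_root_.Cfsg.Agent.H83.J4.mo.eq_1) | skip
  first | (have := @_root_.Cfsg.Agent.H83.J4.mo.eq_2.{0,0}) | (have := @_root_.Cfsg.Agent.H83.J4.mo.eq_2.{0}) | (have := @_root_.Cfsg.Agent.H83.J4.mo.eq_2) | skip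
  first | (have := @_root_.Cfsg.Agent.H83.J4.mo.congr_simp.{0,0}) | (have := @_root_.Cfsg.Agent.H83.J4.mo.congr_simp.{0}) | (have := @_root_.Cfsg.Agent.H83.J4.mo.congr_simp) | skip
  first | (have := @_root_.Cfsg.Agent.H83.J4.my.eq_def.{0,0}) | (have := @_root_.Cfsg.Agent.H83.J4.my.eq_def.{0}) | (have := @_root_.Cfsg.Agent.H83.J4.my.eq_def) | skip
  first | (have := @_root_.Cfsg.Agent.H83.J4.my.eq_1.{0,0}) | (have := @_root_.Cfsg.Agent.H83.J4.my.eq_1.{0}) | (have := @_root_.Cfsg.Agent.H83.J4.my.eq_1) | skip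
  first | (have := @_root_.Cfsg.Agent.H83.J4.my.eq_2.{0,0}) | (have := @_root_.Cfsg.Agent.H83.J4.my.eq_2.{0}) | (have := @_root_.Cfsg.Agent.H83.J4.my.eq_2) | skip
  first | (have := @_root_.Cfsg.Agent.H83.J4.my.congr_simp.{0,0}) | (have := @_root_.Cfsg.Agent.H83.J4.my.congr_simp.{0}) | (have := @_root_.Cfsg.Agent.H83.J4.my.congr_simp) | skip
  first | (have := @_root_.Cfsg.Agent.H83.J4.F4.eq_def.{0,0}) | (have := @_root_.Cfsg.Agent.H83.J4.F4.eq_def.{0}) | (have := @_root_.Cfsg.Agent.H83.J4.F4.eq_def) | skip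
  first | (have := @_root_.Cfsg.Agent.H83.J4.F4.eq_1.{0,0}) | (have := @_root_.Cfsg.Agent.H83.J4.F4.eq_1.{0}) | (have := @_root_.Cfsg.Agent.H83.J4.F4.eq_1) | skip
  first | (have := @_root_.Cfsg.Agent.H83.J4.F4.eq_2.{0,0}) | (have := @_root_.Cfsg.Agent.H83.J4.F4.eq_2.{0}) | (have := @_root_.Cfsg.Agent.H83.J4.F4.eq_2) | skip
  first | (have := @_root_.Cfsg.Agent.H83.J4.F4.congr_simp.{0,0}) | (have := @_root_.Cfsg.Agent.H83.J4.F4.congr_simp.{0}) | (have := @_root_.Cfsg.Agent.H83.J4.F4.congr_simp) | skip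
  first | (have := @_root_.Cfsg.Agent.H83.J4.A4.eq_def.{0,0}) | (have := @_root_.Cfsg.Agent.H83.J4.A4.eq_def.{0}) | (have := @_root_.Cfsg.Agent.H83.J4.A4.eq_def) | skip
  first | (have := @_root_.Cfsg.Agent.H83.J4.A4.eq_1.{0,0}) | (have := @_root_.Cfsg.Agent.H83.J4.A4.eq_1.{0}) | (have := @_root_.Cfsg.Agent.H83.J4.A4.eq_1) | skip
  first | (have := @_root_.Cfsg.Agent.H83.J4.A4.eq_2.{0,0}) | (have := @_root_.Cfsg.Agent.H83.J4.A4.eq_2.{0}) | (have := @_root_.Cfsg.Agent.H83.J4.A4.eq_2) | skip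
  first | (have := @_root_.Cfsg.Agent.H83.J4.A4.congr_simp.{0,0}) | (have := @_root_.Cfsg.Agent.H83.J4.A4.congr_simp.{0}) | (have := @_root_.Cfsg.Agent.H83.J4.A4.congr_simp) | skip
  first | (have := @_root_.Cfsg.Agent.H83.J4.B4.eq_def.{0,0}) | (have := @_root_.Cfsg.Agent.H83.J4.B4.eq_def.{0}) | (have := @_root_.Cfsg.Agent.H83.J4.B4.eq_def) | skip
  first | (have := @_root_.Cfsg.Agent.H83.J4.B4.eq_1.{0,0}) | (have := @_root_.Cfsg.Agent.H83.J4.B4.eq_1.{0}) | (have := @_root_.Cfsg.Agent.H83.J4.B4.eq_1) | skip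
  first | (have := @_root_.Cfsg.Agent.H83.J4.B4.eq_2.{0,0}) | (have := @_root_.Cfsg.Agent.H83.J4.B4.eq_2.{0}) | (have := @_root_.Cfsg.Agent.H83.J4.B4.eq_2) | skip
  first | (have := @_root_.Cfsg.Agent.H83.J4.B4.congr_simp.{0,0}) | (have := @_root_.Cfsg.Agent.H83.J4.B4.congr_simp.{0}) | (have := @_root_.Cfsg.Agent.H83.J4.B4.congr_simp) | skip
  first | (have := @_root_.Cfsg.Agent.H83.J4.clsT.eq_def.{0,0}) | (have := @_root_.Cfsg.Agent.H83.J4.clsT.eq_def.{0}) | (have := @_root_.Cfsg.Agent.H83.J4.clsT.eq_def) | skip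
  first | (have := @_root_.Cfsg.Agent.H83.J4.clsT.eq_1.{0,0}) | (have := @_root_.Cfsg.Agent.H83.J4.clsT.eq_1.{0}) | (have := @_root_.Cfsg.Agent.H83.J4.clsT.eq_1) | skip
  first | (have := @_root_.Cfsg.Agent.H83.J4.clsT.eq_2.{0,0}) | (have := @_root_.Cfsg.Agent.H83.J4.clsT.eq_2.{0}) | (have := @_root_.Cfsg.Agent.H83.J4.clsT.eq_2) | skip
  first | (have := @_root_.Cfsg.Agent.H83.J4.clsT.congr_simp.{0,0}) | (have := @_root_.Cfsg.Agent.H83.J4.clsT.congr_simp.{0}) | (have := @_root_.Cfsg.Agent.H83.J4.clsT.congr_simp) | skip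
  trivial

end Cfsg.Agent.H83.J4
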