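import Cfsg.Agent.H83.J4G4
import Cfsg.Agent.H83.Misc

/-!
# Named elements in a cover of `M₂₂`
-/

set_option autoImplicit false

namespace Cfsg.Agent.H83.J4

open H42 Cfsg Subgroup

theorem RB_comm {a b : M24} (ha : a ∈ RB) (hb : b ∈ RB) : a * b = b * a := by
  rw [← inv_eq_of_mul_eq_one_right (RB_sq (mul_mem ha hb)), mul_inv_rev, inv_eq_of_mul_eq_one_right (RB_sq ha),
    inv_eq_of_mul_eq_one_right (RB_sq hb)]

theorem F4.rb {r : M24} (h : F4 r) : r ∈ RB := by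
  rcases h with rfl | rfl | rfl | rfl
  exacts [one_mem _, rb_mo 3, rb_mo 4, mul_mem (rb_mo 3) (rb_mo 4)]

theorem F4.comm {r : M24} (h : F4 r) : r * mo 0 = mo 0 * r := by
  rcases h with rfl | rfl | rfl | rfl
  exacts [by simp, cm_mo 3 0, cm_mo 4 0, ((show Commute _ _ from cm_mo 3 0).mul_left (cm_mo 4 0)).eq]

theorem cj_mul' {G : Type*} [Group G] (a b c : G) : a * (b * c) * a⁻¹ = a * b * a⁻¹ * (a * c * a⁻¹) := by group

theorem cj_cj {G : Type*} [Group G] (a b c : G) : a * b * c * (a * b)⁻¹ = a * (b * c * b⁻¹) * a⁻¹ := by group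

theorem cj_inv2 {G : Type*} [Group G] (a : G) {b : G} (h : b * b = 1) : a * b * a⁻¹ * (a * b * a⁻¹) = 1 := by
  rw [← cj_mul', h]; simp

theorem cj_of_comm {G : Type*} [Group G] {a b : G} (h : a * b = b * a) : a * b * a⁻¹ = b := by rw [h]; simp

theorem cj_comm' {G : Type*} [Group G] (a : G) {b c : G} (h : b * c = c * b) :
    a * b * a⁻¹ * (a * c * a⁻¹) = a * c * a⁻¹ * (a * b * a⁻¹) := by rw [← cj_mul', h, cj_mul']

namespace Cov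

variable {G : Type*} [Group G] {x z : G} (h : Cov x z)

theorem zc {a : G} (ha : a ∈ h.C) : z * a = a * z := (h.cz a (h.memC.mp ha)).symm

theorem eq_pow {a b : G} (ha : a ∈ h.C) (hb : b ∈ h.C) (e : h.φ a = h.φ b) {n : ℕ} (an : a ^ n = 1)
    (bn : b ^ n = 1) : h.φ (a * b⁻¹) = 1 ∧ (a * b⁻¹) ^ n = 1 := by
  have m := mul_mem ha (inv_mem hb)
  have e1 : h.φ (a * b⁻¹) = 1 := by rw [h.φ_mul ha (inv_mem hb), h.φ_inv hb, e, mul_inv_cancel]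
  have c : Commute a b⁻¹ := by
    have := h.ker_comm m e1 ha
    rw [mul_assoc] at this
    exact mul_left_cancel this
  exact ⟨e1, by rw [c.mul_pow, inv_pow, an, bn]; simp⟩

theorem eq2 {a b : G} (ha : a ∈ h.C) (hb : b ∈ h.C) (e : h.φ a = h.φ b) {k : ℕ} (an : a ^ 2 ^ k = 1)
    (bn : b ^ 2 ^ k = 1) : a = b ∨ a = b * z := by
  have := h.eq_pow ha hb e an bn
  rcases h.ker_two (mul_mem ha (inv_mem hb)) this.1 this.2 with e | e
  · exact Or.inl (mul_inv_eq_one.mp e)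
  · exact Or.inr (by rw [← h.zc hb, ← e]; simp)

theorem eq2' {a b : G} (ha : a ∈ h.C) (hb : b ∈ h.C) (e : h.φ a = h.φ b) (an : a * a = 1)
    (bn : b * b = 1) : a = b ∨ a = b * z :=
  h.eq2 ha hb e (k := 1) (by rwa [pow_one, pow_two]) (by rwa [pow_one, pow_two])

theorem eq3 {a b : G} (ha : a ∈ h.C) (hb : b ∈ h.C) (e : h.φ a = h.φ b) {k : ℕ} (an : a ^ 3 ^ k = 1)
    (bn : b ^ 3 ^ k = 1) : ∃ c ∈ zpowers x, a = c * b :=
  have := h.eq_pow ha hb e an bn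
  ⟨_, h.ker_three (mul_mem ha (inv_mem hb)) this.1 this.2, by simp⟩

theorem comm_of_eq {a b c : G} (ha : a ∈ h.C) (hb : b ∈ h.C) (hc : c ∈ h.C) (e : h.φ a = h.φ b)
    (bc : b * c = c * b) : a * c = c * a := by
  have := h.ker_comm (mul_mem ha (inv_mem hb)) (by
    rw [h.φ_mul ha (inv_mem hb), h.φ_inv hb, e, mul_inv_cancel]) hc
  calc a * c = a * b⁻¹ * (b * c) := by group
    _ = _ := by rw [bc, ← mul_assoc, ← this]; group

theorem comm_or {a b : G} (ha : a ∈ h.C) (hb : b ∈ h.C) (e : h.φ a * h.φ b = h.φ b * h.φ a)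
    (aa : h.φ a * h.φ a = 1) : a * b = b * a ∨ a * b = z * (b * a) := by
  have m := mul_mem (mul_mem (mul_mem ha hb) (inv_mem ha)) (inv_mem hb)
  have e1 : h.φ (a * b * a⁻¹ * b⁻¹) = 1 := by
    rw [h.φ_mul (mul_mem (mul_mem ha hb) (inv_mem ha)) (inv_mem hb), h.φ_conj ha hb, h.φ_inv hb, e]; simp
  have e2 := h.ker_comm (mul_mem ha ha) (by rw [h.φ_mul ha ha, aa]) hb
  have e3 := h.ker_comm m e1 ha
  have : (a * b * a⁻¹ * b⁻¹) ^ 2 ^ 1 = 1 := by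
    calc _ = (a * b * a⁻¹ * b⁻¹ * a) * b * a⁻¹ * b⁻¹ := by rw [pow_one, pow_two]; group
      _ = (a * a * b) * a⁻¹ * b⁻¹ * b * a⁻¹ * b⁻¹ := by rw [← e3]; group
      _ = 1 := by rw [← e2]; group
  rcases h.ker_two m e1 this with e | e
  · left; rwa [mul_inv_eq_one, mul_inv_eq_iff_eq_mul] at e
  · right; rw [← e]; group

theorem comm23 {a c : G} (ha : a ∈ h.C) (hc : c ∈ h.C) (e : h.φ a * h.φ c = h.φ c * h.φ a)
    (aa : h.φ a * h.φ a = 1) (c3 : c ^ 3 = 1) : a * c = c * a := by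
  rcases h.comm_or ha hc e aa with e | e
  · exact e
  · have : (a * c * a⁻¹) ^ 3 = 1 := by rw [conj_pow, c3]; simp
    rw [e, show z * (c * a) * a⁻¹ = z * c by group, (show Commute z c from h.zc hc).mul_pow, c3, mul_one,
      pow_three, h.zz, mul_one] at this
    rw [e, this, one_mul]

theorem lift2 {k : M24} (hk : k ∈ G22) (kk : k * k = 1) : ∃ a ∈ h.C, h.φ a = k ∧ a ^ 4 = 1 := by
  obtain ⟨c, hc, rfl⟩ := h.φ_surj hk
  refine ⟨c ^ 3, pow_mem hc _, by rw [h.φ_pow hc, pow_three, kk, mul_one], ?_⟩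
  have := h.ker_pow (mul_mem hc hc) (by rw [h.φ_mul hc hc, kk])
  rwa [← pow_two, ← pow_mul, show 2 * 6 = 3 * 4 by rfl, pow_mul] at this

theorem lift3 {k : M24} (hk : k ∈ G22) (k3 : k ^ 3 = 1) : ∃ a ∈ h.C, h.φ a = k ∧ a ^ 3 = 1 := by
  obtain ⟨c, hc, rfl⟩ := h.φ_surj hk
  obtain ⟨k, hk, e⟩ := g22_inv hk k3
  obtain ⟨d, hd, rfl⟩ := h.φ_surj hk
  have m := pow_mem hc 10
  have e1 : h.φ (c ^ 10) = h.φ c := by rw [h.φ_pow hc, pow_succ _ 9, show 9 = 3 * 3 by rfl, pow_mul, k3]; simp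
  have e2 : (c ^ 10) ^ 3 ^ 2 = 1 := by
    have := h.ker_pow (pow_mem hc 3) (by rw [h.φ_pow hc, k3])
    rw [← pow_mul] at this ⊢
    rw [show 10 * 3 ^ 2 = 3 * 6 * 5 by rfl, pow_mul, this, one_pow]
  refine ⟨_, m, e1, ?_⟩
  generalize c ^ 10 = a at *
  obtain ⟨v, hv, e3⟩ := h.eq3 (mul_mem (mul_mem hd m) (inv_mem hd)) (inv_mem m)
    (by rw [h.φ_conj hd m, e1, e, h.φ_inv m, e1]) (k := 2) (by rw [conj_pow, e2]; simp) (by rw [inv_pow, e2, inv_one])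
  have e4 := congrArg (· ^ 3) e3
  have v3 : v ^ 3 = 1 := by
    obtain ⟨i, rfl⟩ := hv
    rw [← zpow_natCast, ← zpow_mul, mul_comm, zpow_mul, zpow_natCast, h.x3, one_zpow]
  simp only [conj_pow] at e4
  rw [cj_of_comm (h.ker_comm (pow_mem m 3) (by rw [h.φ_pow m, e1, k3]) hd),
    (show Commute v a⁻¹ from (h.zp_comm hv (inv_mem m)).symm).mul_pow, v3, one_mul, inv_pow, eq_inv_iff_mul_eq_one] at e4
  rwa [show 3 ^ 2 = 3 + 3 + 3 by rfl, pow_add, pow_add, e4, one_mul] at e2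

variable [Finite G]

open Classical in
/-- The map to the automorphism group, as a function. -/
noncomputable def χ (a : G) : M24 := if ha : a ∈ h.N then h.ψ ⟨a, ha⟩ else 1

theorem χ_eq {a : G} (ha : a ∈ h.N) : h.χ a = h.ψ ⟨a, ha⟩ := dif_pos ha

theorem χ_mul {a b : G} (ha : a ∈ h.N) (hb : b ∈ h.N) : h.χ (a * b) = h.χ a * h.χ b := by
  rw [h.χ_eq ha, h.χ_eq hb, h.χ_eq (mul_mem ha hb), ← map_mul]; rfl

theorem χ_inv {a : G} (ha : a ∈ h.N) : h.χ a⁻¹ = (h.χ a)⁻¹ := by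
  rw [h.χ_eq ha, h.χ_eq (inv_mem ha), ← map_inv]; rfl

theorem χ_conj {a b : G} (ha : a ∈ h.N) (hb : b ∈ h.N) : h.χ (a * b * a⁻¹) = h.χ a * h.χ b * (h.χ a)⁻¹ := by
  rw [h.χ_mul (mul_mem ha hb) (inv_mem ha), h.χ_mul ha hb, h.χ_inv ha]

theorem χ_C {a : G} (ha : a ∈ h.C) : h.χ a = h.φ a := by rw [h.χ_eq (h.C_le_N ha), h.ψ_C _ ha]

theorem χ_mem {a : G} (ha : a ∈ h.N) : h.χ a ∈ GD2 := by rw [h.χ_eq ha]; exact h.ψ_mem _

theorem χ_spec {a c : G} (ha : a ∈ h.N) (hc : c ∈ h.C) : h.φ (a * c * a⁻¹) = h.χ a * h.φ c * (h.χ a)⁻¹ := by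
  rw [h.χ_eq ha]; exact h.ψ_spec ⟨a, ha⟩ hc

theorem memC_of_χ {a : G} (ha : a ∈ h.N) (e : h.χ a ∈ G22) : a ∈ h.C := by
  obtain ⟨c, hc, e⟩ := h.φ_surj e
  have m := mul_mem ha (inv_mem (h.C_le_N hc))
  have := ((h.ψ_ker ⟨_, m⟩).mp (by
    rw [← h.χ_eq, h.χ_mul ha (inv_mem (h.C_le_N hc)), h.χ_inv (h.C_le_N hc), h.χ_C hc, e, mul_inv_cancel])).1
  simpa using mul_mem this hc

theorem conj3 {y a : G} (hy : y ∈ h.C) (e : h.φ y = mo 0) (y3 : y ^ 3 = 1) (ha : a ∈ h.C) (a3 : a ^ 3 = 1)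
    (an : a ∉ zpowers x) : ∃ c ∈ h.C, c * y * c⁻¹ = a := by
  obtain ⟨k, hk, e1⟩ := g22_conj3 (h.φ_mem a) (by rw [← h.φ_pow ha, a3, h.φ_one])
    fun e => an (h.ker_three ha e (k := 1) a3)
  obtain ⟨c, hc, rfl⟩ := h.φ_surj hk
  obtain ⟨v, hv, e2⟩ := h.eq3 ha (mul_mem (mul_mem hc hy) (inv_mem hc)) (by rw [h.φ_conj hc hy, e, e1]) (k := 1) a3
    (by rw [conj_pow, pow_one, y3]; simp)
  obtain ⟨r, hr, e3⟩ := h.conj_xy hy y3 (fun hm => (ne_mo 0 :) (by rw [← e, h.φ_ker hy]; exact Or.inl hm)) hv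
  exact ⟨c * r, mul_mem hc hr, by rw [cj_cj, e3, cj_mul', cj_of_comm (h.zp_comm hv hc), e2]⟩

theorem cent_p {y s r : G} (hy : y ∈ h.C) (e : h.φ y = mo 0) (hs : s ∈ h.C)
    (e' : h.φ s = mo 1 ∨ h.φ s = mo 1 * mo 1) (hr : r ∈ h.C) (c : h.φ r * mo 0 = mo 0 * h.φ r) :
    ∃ a c, (a = 1 ∨ a = s ∨ a = s * s) ∧ (c = 1 ∨ c = y ∨ c = y * y) ∧ F4 (h.φ (r * a * c)) := by
  obtain ⟨a, c, ha, hc, f⟩ := (p3_pass (G22_le_GD2 (h.φ_mem r)) (Or.inl (cj_of_comm c))).2 (h.φ_mem r) c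
  obtain ⟨a', h1, h2, rfl⟩ : ∃ a', (a' = 1 ∨ a' = s ∨ a' = s * s) ∧ a' ∈ h.C ∧ h.φ a' = a := by
    have ss := h.φ_mul hs hs
    rcases ha with rfl | rfl | rfl <;> rcases e' with e' | e'
    exacts [⟨1, by simp, one_mem _, h.φ_one⟩, ⟨1, by simp, one_mem _, h.φ_one⟩, ⟨s, by simp, hs, e'⟩,
      ⟨s * s, by simp, mul_mem hs hs, by rw [ss, e', ← mul_assoc, ← pow_three', r_s3, one_mul]⟩,
      ⟨s * s, by simp, mul_mem hs hs, by rw [ss, e']⟩, ⟨s, by simp, hs, e'⟩]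
  obtain ⟨c', h3, h4, rfl⟩ : ∃ a', (a' = 1 ∨ a' = y ∨ a' = y * y) ∧ a' ∈ h.C ∧ h.φ a' = c := by
    rcases hc with rfl | rfl | rfl
    exacts [⟨1, by simp, one_mem _, h.φ_one⟩, ⟨y, by simp, hy, e⟩,
      ⟨y * y, by simp, mul_mem hy hy, by rw [h.φ_mul hy hy, e]⟩]
  exact ⟨a', c', h1, h3, by rwa [h.φ_mul (mul_mem hr h2) h4, h.φ_mul hr h2]⟩

variable (hn : ∃ n : G, n * x * n⁻¹ = x * x)
include hn

theorem χ_surj {k : M24} (hk : k ∈ GD2) : ∃ m ∈ h.N, h.χ m = k := by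
  obtain ⟨n, hn⟩ := hn
  obtain ⟨m, e⟩ := h.ψ_surj hn hk
  exact ⟨m, m.2, by rw [h.χ_eq m.2, e]⟩

theorem sq_of {a : G} (ha : a ∈ h.C) (aa : h.φ a * h.φ a = 1) (a4 : a ^ 4 = 1) : a * a = 1 := by
  by_contra hne
  have az := (h.ker_two (mul_mem ha ha) (by rw [h.φ_mul ha ha, aa]) (k := 1) (by
    rwa [← pow_two, ← pow_mul])).resolve_left hne
  have z1 : z ≠ 1 := az ▸ hne
  have o2 : ∀ b : M24, b ≠ 1 → b * b = 1 → orderOf b = 2 := fun b h1 h2 => orderOf_eq_prime (by rwa [pow_two]) h1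
  obtain ⟨k, hk, e⟩ := g22_invol (h.φ_mem a) (o2 _ (fun e => by
    rcases h.ker_two ha e (k := 2) a4 with rfl | rfl
    exacts [hne (one_mul _), hne h.zz]) aa)
  have key : ∀ b ∈ h.C, h.φ b ≠ 1 → h.φ b * h.φ b = 1 → b ^ 4 = 1 → b * b = z := fun b hb h1 h2 h3 => by
    obtain ⟨l, hl, e'⟩ := g22_invol (h.φ_mem b) (o2 _ h1 h2)
    obtain ⟨m, hm, e2⟩ := h.χ_surj hn (mul_mem hl (inv_mem hk))
    have c : m * a * m⁻¹ * (m * a * m⁻¹) = z := by rw [← cj_mul', az, cj_of_comm (h.N_z hm)]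
    rcases h.eq2 hb (h.conjC hm ha) (by rw [h.χ_spec hm ha, e2, ← e, ← e']; group) (k := 2) h3
      (by rw [conj_pow, show 2 ^ 2 = 4 by rfl, a4]; simp) with e3 | e3
    · rw [e3, c]
    · rw [e3, mul_assoc, ← mul_assoc z, h.zc (h.conjC hm ha), mul_assoc _ z, h.zz, mul_one, c]
  have anti : ∀ b ∈ h.C, ∀ c ∈ h.C, h.φ b ∈ RB → h.φ c ∈ RB → h.φ b * h.φ c ≠ 1 → b * b = z → c * c = z →
      b * c = z * (c * b) ∧ b * c * (b * c) = z := fun b hb c hc h1 h2 h3 h4 h5 => by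
    rcases h.comm_or hb hc (RB_comm h1 h2) (RB_sq h1) with e | e
    · have : b * c * (b * c) = 1 := by
        rw [mul_assoc, ← mul_assoc c, ← e, mul_assoc, h5, ← mul_assoc, h4, h.zz]
      exact absurd ((key _ (mul_mem hb hc) (by rwa [h.φ_mul hb hc]) (by
        rw [h.φ_mul hb hc]; exact RB_sq (mul_mem h1 h2)) (by
        rw [show 4 = 2 * 2 by rfl, pow_mul, pow_two (b * c), this, one_pow])).symm.trans this) z1
    · refine ⟨e, ?_⟩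
      nth_rw 1 [e]
      rw [show z * (c * b) * (b * c) = z * (c * (b * b) * c) by group, h4, ← h.zc hc, mul_assoc, h5, h.zz, mul_one]
  obtain ⟨b, hb, b1, b4⟩ := h.lift2 (g22_mo 3) (sq_mo 3)
  obtain ⟨c, hc, c1, c4⟩ := h.lift2 (g22_mo 4) (sq_mo 4)
  obtain ⟨d, hd, d1, d4⟩ := h.lift2 (g22_mo 7) (sq_mo 7)
  have b2 := key b hb (b1 ▸ ne_mo 3) (b1 ▸ sq_mo 3) b4
  have c2 := key c hc (c1 ▸ ne_mo 4) (c1 ▸ sq_mo 4) c4
  have d2 := key d hd (d1 ▸ ne_mo 7) (d1 ▸ sq_mo 7) d4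
  have e1 := anti b hb c hc (b1 ▸ rb_mo 3) (c1 ▸ rb_mo 4) (b1 ▸ c1 ▸ r_34) b2 c2
  have e2 := anti b hb d hd (b1 ▸ rb_mo 3) (d1 ▸ rb_mo 7) (b1 ▸ d1 ▸ r_37) b2 d2
  have e3 := anti c hc d hd (c1 ▸ rb_mo 4) (d1 ▸ rb_mo 7) (c1 ▸ d1 ▸ r_47) c2 d2
  have e4 := anti _ (mul_mem hb hc) d hd (by rw [h.φ_mul hb hc, b1, c1]; exact mul_mem (rb_mo 3) (rb_mo 4))
    (d1 ▸ rb_mo 7) (by rw [h.φ_mul hb hc, b1, c1, d1]; exact r_347) e1.2 d2
  have := e4.1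
  rw [mul_assoc, e3.1, ← mul_assoc, ← h.zc hb, mul_assoc, ← mul_assoc b, e2.1, mul_left_cancel_iff, mul_assoc,
    mul_assoc] at this
  exact z1 (by simpa using this)

theorem inv2 {k : M24} (hk : k ∈ G22) (kk : k * k = 1) : ∃ a ∈ h.C, h.φ a = k ∧ a * a = 1 := by
  obtain ⟨a, ha, e, a4⟩ := h.lift2 hk kk
  exact ⟨a, ha, e, h.sq_of hn ha (e ▸ kk) a4⟩

theorem comm2 {a b : G} (ha : a ∈ h.C) (hb : b ∈ h.C) (e : h.φ a * h.φ b = h.φ b * h.φ a)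
    (aa : a * a = 1) (bb : b * b = 1) : a * b = b * a := by
  have a1 : h.φ a * h.φ a = 1 := by rw [← h.φ_mul ha ha, aa, h.φ_one]
  have b1 : h.φ b * h.φ b = 1 := by rw [← h.φ_mul hb hb, bb, h.φ_one]
  rcases h.comm_or ha hb e a1 with e1 | e1
  · exact e1
  · have e2 : a * b * (a * b) = z := by
      nth_rw 1 [e1]
      rw [show z * (b * a) * (a * b) = z * (b * (a * a) * b) by group, aa, mul_one, bb, mul_one]
    rw [h.sq_of hn (mul_mem ha hb) (by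
      rw [h.φ_mul ha hb, mul_assoc, ← mul_assoc (h.φ b), ← e, mul_assoc, b1, mul_one, a1]) (by
      rw [show 4 = 2 * 2 by rfl, pow_mul, pow_two (a * b), e2, pow_two, h.zz])] at e2
    rw [e1, ← e2, one_mul]

theorem comm_F4 {v a : G} (hv : v ∈ h.C) (f : F4 (h.φ v)) (ha : a ∈ h.C) (e : h.φ a ∈ RB) (aa : a * a = 1) :
    v * a = a * v := by
  obtain ⟨c, hc, e1, cc⟩ := h.inv2 hn (h.φ_mem v) (RB_sq f.rb)
  exact h.comm_of_eq hv hc ha e1.symm (h.comm2 hn hc ha (RB_comm (e1 ▸ f.rb) e) cc aa)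

theorem norm3 {c : G} {k : M24} (hc : c ∈ h.C) (hk : k ∈ G22) (kk : k * k = 1)
    (e1 : k * (h.φ c * k * (h.φ c)⁻¹) = h.φ c * k * (h.φ c)⁻¹ * k)
    (e2 : h.φ c * (h.φ c * k * (h.φ c)⁻¹) * (h.φ c)⁻¹ = k * (h.φ c * k * (h.φ c)⁻¹)) :
    ∃ a ∈ h.C, h.φ a = k ∧ a * a = 1 ∧ c * (c * a * c⁻¹) * c⁻¹ = a * (c * a * c⁻¹) := by
  obtain ⟨a, ha, rfl, aa⟩ := h.inv2 hn hk kk
  have m := mul_mem (mul_mem hc ha) (inv_mem hc)
  have cm := h.comm2 hn ha m (by rwa [h.φ_conj hc ha]) aa (cj_inv2 c aa)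
  rcases h.eq2' (mul_mem (mul_mem hc m) (inv_mem hc)) (mul_mem ha m)
    (by rw [h.φ_conj hc m, h.φ_mul ha m, h.φ_conj hc ha, e2]) (cj_inv2 c (cj_inv2 c aa))
    (by rw [mul_assoc, ← mul_assoc _ a, ← cm, mul_assoc a, cj_inv2 c aa, mul_one, aa]) with e | e
  · exact ⟨a, ha, rfl, aa, e⟩
  · refine ⟨a * z, mul_mem ha h.zC, by rw [h.φ_mul ha h.zC, h.φ_z, mul_one], ?_, ?_⟩
    · rw [mul_assoc, ← mul_assoc z, h.zc ha, mul_assoc, h.zz, mul_one, aa]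
    · rw [cj_mul' c a, cj_of_comm (h.zc hc).symm, cj_mul' c _ z, cj_of_comm (h.zc hc).symm, e, mul_assoc _ z z,
        h.zz, mul_one, mul_assoc a z, ← mul_assoc z, h.zc m, mul_assoc _ z z, h.zz, mul_one]

end Cov

/-- The named elements. -/
structure NF {G : Type*} [Group G] (x z : G) extends Cov x z where
  /-- element -/
  y : G
  /-- element -/
  s : G
  /-- element -/
  j : G
  /-- element -/
  t : G
  /-- element -/
  b : G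
  /-- element -/
  q : G
  /-- element -/
  n : G
  /-- element -/
  g : G
  yC : y ∈ toCov.C
  sC : s ∈ toCov.C
  jC : j ∈ toCov.C
  tC : t ∈ toCov.C
  bC : b ∈ toCov.C
  qC : q ∈ toCov.C
  nC : n ∈ toCov.C
  φy : toCov.φ y = mo 0
  φs : toCov.φ s = mo 1 ∨ toCov.φ s = mo 1 * mo 1
  φj : toCov.φ j = mo 2
  φt : toCov.φ t = mo 3
  φb : toCov.φ b = mo 5
  φq : toCov.φ q = mo 7
  φn : toCov.φ n = mo 9
  y3 : y ^ 3 = 1
  s3 : s ^ 3 = 1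
  jj : j * j = 1
  tt : t * t = 1
  bb : b * b = 1
  qq : q * q = 1
  sy : s * y * s⁻¹ = x * y
  jy : j * y * j⁻¹ = y * y
  t3 : s * (s * t * s⁻¹) * s⁻¹ = t * (s * t * s⁻¹)
  q3 : y * (y * q * y⁻¹) * y⁻¹ = q * (y * q * y⁻¹)
  b3 : y * (y * b * y⁻¹) * y⁻¹ = b * (y * b * y⁻¹)
  gx : g * x * g⁻¹ = y
  gy : g * y * g⁻¹ = x

theorem r_st3 : mo 1 * (mo 3 * mo 4) * (mo 1)⁻¹ = mo 3 := by
  rw [cj_mul', r_st, r_st2, cm_mo 3 4, ← mul_assoc, sq_mo 4, one_mul]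

theorem Cov.exists_nf {G : Type*} [Group G] [Finite G] {x z : G} (h : Cov x z) {g : G}
    (yC : g * x * g⁻¹ ∈ h.C) (yn : g * x * g⁻¹ ∉ zpowers x) : Nonempty (NF x z) := by
  have hn := h.exists_inv yC yn
  obtain ⟨j, jC, φj, jj⟩ := h.inv2 hn (g22_mo 2) (sq_mo 2)
  obtain ⟨y, yC', φy, y3, jy⟩ : ∃ y ∈ h.C, h.φ y = mo 0 ∧ y ^ 3 = 1 ∧ j * y * j⁻¹ = y * y := by
    obtain ⟨y, hy, φy, y3⟩ := h.lift3 (g22_mo 0) r_p3
    obtain ⟨a, ha, e⟩ := h.eq3 (mul_mem (mul_mem jC hy) (inv_mem jC)) (mul_mem hy hy) (k := 1)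
      (by rw [h.φ_conj jC hy, h.φ_mul hy hy, φj, φy, r_jp]) (by rw [conj_pow, pow_one, y3]; simp)
      (by rw [pow_one, (Commute.refl y).mul_pow, y3, one_mul])
    have aC := zpowers_le.mpr h.xC ha
    have c : Commute a y := (h.zp_comm ha hy).symm
    refine ⟨a * y, mul_mem aC hy, by rw [h.φ_mul aC hy, (h.φ_ker aC).mpr (Or.inl ha), one_mul, φy], ?_, ?_⟩
    · rw [c.mul_pow, y3, mul_one]
      rcases (mem_zp3 h.x3).mp ha with rfl | rfl | rfl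
      exacts [one_pow _, h.x3, by rw [(Commute.refl x).mul_pow, h.x3, one_mul]]
    · rw [cj_mul', e, cj_of_comm (h.zp_comm ha jC), mul_assoc a y, ← mul_assoc y a, ← c.eq, mul_assoc a]
  have yn' : y ∉ zpowers x := fun hm => (ne_mo 0 :) (by rw [← φy, h.φ_ker yC']; exact Or.inl hm)
  obtain ⟨s, sC, φs, s3, sy⟩ : ∃ s ∈ h.C, (h.φ s = mo 1 ∨ h.φ s = mo 1 * mo 1) ∧ s ^ 3 = 1 ∧
      s * y * s⁻¹ = x * y := by
    obtain ⟨s, hs, φs, s3⟩ := h.lift3 (g22_mo 1) r_s3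
    obtain ⟨a, ha, e⟩ := h.eq3 (mul_mem (mul_mem hs yC') (inv_mem hs)) yC' (k := 1)
      (by rw [h.φ_conj hs yC', φs, φy, cj_of_comm (cm_mo 1 0)]) (by rw [conj_pow, pow_one, y3]; simp) y3
    rcases (mem_zp3 h.x3).mp ha with rfl | rfl | rfl
    · obtain ⟨r, hr, e1⟩ := h.exists_r yC' y3 yn'
      obtain ⟨a, c, ha, hc, f⟩ := h.cent_p yC' φy hs (Or.inl φs) hr (mul_inv_eq_iff_eq_mul.mp (by
        rw [← φy, ← h.φ_conj hr yC', e1, h.φ_mul h.xC yC', h.φ_x, one_mul]))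
      have c1 : Commute s y := by rw [one_mul] at e; exact mul_inv_eq_iff_eq_mul.mp e
      have c2 : Commute a y ∧ a ∈ h.C := by
        rcases ha with rfl | rfl | rfl
        exacts [⟨Commute.one_left _, one_mem _⟩, ⟨c1, hs⟩, ⟨c1.mul_left c1, mul_mem hs hs⟩]
      have c3 : Commute c y ∧ c ∈ h.C := by
        rcases hc with rfl | rfl | rfl
        exacts [⟨Commute.one_left _, one_mem _⟩, ⟨Commute.refl _, yC'⟩,
          ⟨(Commute.refl _).mul_left (Commute.refl _), mul_mem yC' yC'⟩]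
      have c4 : Commute (r * a * c) y := h.comm23 (mul_mem (mul_mem hr c2.2) c3.2) yC' (φy ▸ f.comm) (RB_sq f.rb) y3
      have c5 : Commute r y := by simpa using (c4.mul_left c3.1.inv_left).mul_left c2.1.inv_left
      rw [cj_of_comm c5] at e1
      exact absurd (by simpa using e1) h.x1
    · exact ⟨s, hs, Or.inl φs, s3, e⟩
    · refine ⟨s * s, mul_mem hs hs, Or.inr (by rw [h.φ_mul hs hs, φs]), by
        rw [(Commute.refl s).mul_pow, s3, one_mul], ?_⟩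
      rw [cj_cj, e, cj_mul', e, cj_of_comm (h.zp_comm ha hs), ← mul_assoc, ← mul_assoc, ← pow_three', h.x3, one_mul]
  obtain ⟨t, tC, φt, tt, t3⟩ := h.norm3 hn sC (g22_mo 3) (sq_mo 3)
    (by rcases φs with e | e <;> simp only [e, cj_cj, r_st, r_st2, cm_mo 3 4, ← mul_assoc])
    (by rcases φs with e | e <;> simp only [e, cj_cj, r_st, r_st2, r_st3, ← mul_assoc (mo 3), sq_mo 3, one_mul])
  obtain ⟨b, bC, φb, bb, b3⟩ := h.norm3 hn yC' (g22_mo 5) (sq_mo 5) (by rw [φy, r_pb, cm_mo 5 6])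
    (by rw [φy, r_pb, r_pb2])
  obtain ⟨q, qC, φq, qq, q3⟩ := h.norm3 hn yC' (g22_mo 7) (sq_mo 7) (by rw [φy, r_pq, cm_mo 7 8])
    (by rw [φy, r_pq, r_pp])
  obtain ⟨n, nC, φn⟩ := h.φ_surj (g22_mo 9)
  obtain ⟨c, hc, e1⟩ := h.conj3 yC' φy y3 yC (h.cj g).x3 yn
  have e2 : c⁻¹ * g * x * (c⁻¹ * g)⁻¹ = y := by rw [cj_cj, ← e1]; group
  generalize c⁻¹ * g = g at e2
  obtain ⟨c, hc, e1⟩ := h.conj3 yC' φy y3 (a := g⁻¹ * x * g) (h.memC.mpr (by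
      have := h.memC.mp yC'
      rw [← e2] at this
      calc _ = g⁻¹ * (x * (g * x * g⁻¹)) * g := by group
        _ = _ := by rw [← this]; group))
    (by simpa using (h.cj g⁻¹).x3) (fun hm => h.x_notMem (e2 ▸ yC') (e2 ▸ yn') (by
      rw [← H49.cj_zpowers, H49.mem_cj]; exact hm))
  exact ⟨⟨h, y, s, j, t, b, q, n, g * c, yC', sC, jC, tC, bC, qC, nC, φy, φs, φj, φt, φb, φq, φn, y3, s3, jj, tt,
    bb, qq, sy, jy, t3, q3, b3, by rw [cj_cj, cj_of_comm (h.memC.mp hc), e2], by rw [cj_cj, e1]; group⟩⟩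

set_option linter.all false in
theorem eqns_J4G5 : True := by
  first | (have := @_root_.Cfsg.Agent.H83.J4.Cov.χ.eq_def.{0,0}) | (have := @_root_.Cfsg.Agent.H83.J4.Cov.χ.eq_def.{0}) | (have := @_root_.Cfsg.Agent.H83.J4.Cov.χ.eq_def) | skip
  first | (have := @_root_.Cfsg.Agent.H83.J4.Cov.χ.eq_1.{0,0}) | (have := @_root_.Cfsg.Agent.H83.J4.Cov.χ.eq_1.{0}) | (have := @_root_.Cfsg.Agent.H83.J4.Cov.χ.eq_1) | skip
  first | (have := @_root_.Cfsg.Agent.H83.J4.Cov.χ.eq_2.{0,0}) | (have := @_root_.Cfsg.Agent.H83.J4.Cov.χ.eq_2.{0}) | (have := @_root_.Cfsg.Agent.H83.J4.Cov.χ.eq_2) | skip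
  first | (have := @_root_.Cfsg.Agent.H83.J4.Cov.χ.congr_simp.{0,0}) | (have := @_root_.Cfsg.Agent.H83.J4.Cov.χ.congr_simp.{0}) | (have := @_root_.Cfsg.Agent.H83.J4.Cov.χ.congr_simp) | skip
  trivial

end Cfsg.Agent.H83.J4
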