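import Cfsg.Agent.H83.J4G5

/-!
# Relations between the named elements
-/

set_option autoImplicit false

namespace Cfsg.Agent.H83.J4

open H42 Cfsg Subgroup

section general

variable {G : Type*} [Group G]

/-- The subgroup generated by a list. -/
def cl (l : List G) : Subgroup G := closure {a | a ∈ l}

theorem mem_cl {l : List G} {a : G} (h : a ∈ l) : a ∈ cl l := subset_closure h

theorem cl_le {l : List G} {S : Subgroup G} (h : ∀ a ∈ l, a ∈ S) : cl l ≤ S := (closure_le _).mpr h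

theorem cl_norm [Finite G] {l : List G} {u : G} (h : ∀ a ∈ l, u * a * u⁻¹ ∈ cl l) :
    u ∈ normalizer (cl l : Set G) :=
  H49.mem_normalizer_of_conj_mem fun _ ha => cl_le (S := (cl l).comap (MulAut.conj u).toMonoidHom) h ha

theorem card_cl_cons [Finite G] {l : List G} {u : G} {k : ℕ} (hk : Nat.card (cl l) ≤ 2 ^ k)
    (h : ∀ a ∈ l, u * a * u⁻¹ ∈ cl l) (hu : u * u = 1) : Nat.card (cl (u :: l)) ≤ 2 ^ (k + 1) := by
  have hn : ∀ a ∈ cl l, u * a * u⁻¹ ∈ cl l := fun a ha => H49.conj_mem_of_mem_normalizer (cl_norm h) ha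
  have := card_adj_le (hn := hn) (hu := by rw [hu]; exact one_mem _)
  refine (card_le_of_le (K := adj (cl l) u hn (by rw [hu]; exact one_mem _)) (cl_le fun a ha => ?_)).trans (by omega)
  rcases List.mem_cons.mp ha with rfl | ha
  exacts [self_mem_adj, le_adj (mem_cl ha)]

theorem card_cl_comm [Finite G] {l : List G} (h : ∀ a ∈ l, ∀ b ∈ l, a * b = b * a) (sq : ∀ a ∈ l, a * a = 1) :
    Nat.card (cl l) ≤ 2 ^ l.length := by
  induction l with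
  | nil => simp [cl]
  | cons u l ih =>
    exact card_cl_cons (ih (fun a ha b hb => h a (by simp [ha]) b (by simp [hb])) fun a ha => sq a (by simp [ha]))
      (fun a ha => by rw [cj_of_comm (h u (by simp) a (by simp [ha]))]; exact mem_cl ha) (sq u (by simp))

theorem cj_cent (g a : G) : cj g (centralizer {a}) = centralizer {g * a * g⁻¹} := H49.cj_centralizer_singleton a g

theorem card_inf_cent {K : Subgroup G} {g : G} (hg : g ∈ normalizer (K : Set G)) (a : G) :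
    Nat.card ↥(K ⊓ centralizer {g * a * g⁻¹}) = Nat.card ↥(K ⊓ centralizer {a}) := by
  rw [← cj_cent, ← card_cj g (K ⊓ centralizer {a}), cj_inf, cj_eq_self hg]

theorem gen9 [Finite G] {x y : G} (x3 : x ^ 3 = 1) (y3 : y ^ 3 = 1) (xy : x * y = y * x) (x1 : x ≠ 1)
    (hy : y ∉ zpowers x) {K L : Subgroup G} (hK : ¬ 3 ∣ Nat.card K) (nx : x ∈ normalizer (K : Set G))
    (ny : y ∈ normalizer (K : Set G)) (lx : x ∈ normalizer (L : Set G)) (ly : y ∈ normalizer (L : Set G))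
    (h1 : K ⊓ centralizer {x} ≤ L) (h2 : K ⊓ centralizer {y} ≤ L) (h3 : K ⊓ centralizer {x * y} ≤ L)
    (h4 : K ⊓ centralizer {x * x * y} ≤ L) : K ≤ L := by
  have e1 := fix9 x3 y3 xy x1 hy K hK nx ny
  have e2 := fix9 x3 y3 xy x1 hy (K ⊓ L) (fun d => hK (d.trans (card_dvd_of_le inf_le_left)))
    (inf_normalizer_le_normalizer_inf ⟨nx, lx⟩) (inf_normalizer_le_normalizer_inf ⟨ny, ly⟩)
  have k : ∀ X : Subgroup G, K ⊓ X ≤ L → K ⊓ L ⊓ X = K ⊓ X := fun X hX =>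
    le_antisymm (inf_le_inf_right _ inf_le_left) (le_inf (le_inf inf_le_left hX) inf_le_right)
  rw [k _ h1, k _ h2, k _ h3, k _ h4, k _ ((inf_le_inf_left _ inf_le_left).trans h1), e1] at e2
  exact inf_eq_left.mp (eq_of_le_of_card_ge inf_le_left (Nat.eq_of_mul_eq_mul_right (pow_pos Nat.card_pos _) e2).le)

theorem syl_of_norm [Finite G] {p : ℕ} [Fact p.Prime] {U H : Subgroup G} (hU : U ≤ H) (hp : IsPGroup p U)
    (h : ∀ P ≤ H, IsPGroup p P → U ≤ P → P ≤ normalizer (U : Set G) → P ≤ U) : IsSylowIn p U H :=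
  ⟨hU, hp, fun P hP hp' hle => by
    by_contra hne
    have := H8.lt_inf_normalizer_of_lt hp' (lt_of_le_of_ne hle (Ne.symm hne))
    exact this.not_ge (h _ (inf_le_left.trans hP) (hp'.to_inf_left) this.le inf_le_right)⟩

theorem burn3 [Finite G] {X : Subgroup G} {x : G} (x3 : x ^ 3 = 1) (xX : x ∈ X)
    (h1 : ∀ c ∈ X, c ∈ normalizer (zpowers x : Set G) → c * x = x * c ∧ ∀ k, c ^ 3 ^ k = 1 → c ∈ zpowers x) :
    ∃ Y ≤ X, ¬ 3 ∣ Nat.card Y ∧ normalizer (X : Set G) ≤ normalizer (Y : Set G) ∧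
      ∀ c ∈ X, ∃ a ∈ zpowers x, c * a ∈ Y := by
  haveI : Fact (Nat.Prime 3) := ⟨Nat.prime_three⟩
  have hS : IsSylowIn 3 (zpowers x) X := syl_of_norm (zpowers_le.mpr xX) (isPGroup_zpowers (k := 1) x3)
    fun P hP hp _ hn c hc => let ⟨k, hk⟩ := isPGroup_iff.mp hp c hc; (h1 c (hP hc) (hn hc)).2 k hk
  have hP : normalizer ((hS.toSylow : Subgroup X) : Set X) ≤ centralizer ((hS.toSylow : Subgroup X) : Set X) := by
    intro n hn a ha
    have c := (h1 n n.2 (H49.mem_normalizer_of_conj_mem fun v hv =>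
      H49.conj_mem_of_mem_normalizer hn (x := ⟨v, hS.le hv⟩) hv)).1
    obtain ⟨i, e⟩ : (a : G) ∈ zpowers x := ha
    exact Subtype.ext (by
      show (a : G) * n = n * a
      rw [← e]; exact ((show Commute (n : G) x from c).zpow_right i).eq.symm)
  let τ := MonoidHom.transferSylow hS.toSylow hP
  have d := MonoidHom.not_dvd_card_ker_transferSylow hS.toSylow hP
  refine ⟨τ.ker.map X.subtype, map_subtype_le _, by rwa [card_map_of_injective X.subtype_injective],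
    fun n hn => H49.mem_normalizer_of_conj_mem ?_, fun c hc => ?_⟩
  · rintro _ ⟨c, hc, rfl⟩
    refine ⟨⟨_, H49.conj_mem_of_mem_normalizer hn c.2⟩, ?_, rfl⟩
    obtain ⟨k, hk⟩ := hS.toSylow.2 (τ ⟨_, H49.conj_mem_of_mem_normalizer hn c.2⟩)
    refine eq_one_of_ppow hk (Nat.Coprime.coprime_dvd_left (orderOf_dvd_of_pow_eq_one (n := Nat.card τ.ker) ?_)
      ((Nat.Prime.coprime_iff_not_dvd Nat.prime_three).mpr d).symm)
    have : c ^ Nat.card τ.ker = 1 := congrArg Subtype.val (pow_card_eq_one' (x := (⟨c, hc⟩ : τ.ker)))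
    rw [← map_pow, ← map_one τ]
    congr 1
    refine Subtype.ext (show (n * c * n⁻¹) ^ _ = 1 from ?_)
    rw [conj_pow, show (c : G) ^ Nat.card τ.ker = 1 from congrArg Subtype.val this]; simp
  · obtain ⟨⟨a, b⟩, e, -⟩ := (MonoidHom.ker_transferSylow_isComplement' hS.toSylow hP).existsUnique ⟨c, hc⟩
    refine ⟨((b : X) : G)⁻¹, inv_mem b.2, a, a.2, ?_⟩
    rw [show c = (a : X) * (b : X) from (congrArg Subtype.val e).symm]; simp

theorem cfix [Finite G] {D R : Subgroup G} {y d : G} (y3 : y ^ 3 = 1) (h2 : IsPGroup 2 D)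
    (nD : y ∈ normalizer (D : Set G)) (nR : y ∈ normalizer (R : Set G)) (h : D ⊓ centralizer {y} ≤ R) (hd : d ∈ D)
    (h1 : y * d * y⁻¹ * d⁻¹ ∈ R) : d ∈ R := by
  haveI : Fact (Nat.Prime 3) := ⟨Nat.prime_three⟩
  have p3 := isPGroup_zpowers (p := 3) (k := 1) y3
  have n := zpowers_le.mpr (inf_normalizer_le_normalizer_inf ⟨nD, nR⟩)
  haveI := p3.isNilpotent
  obtain ⟨r, hr, e⟩ := H4.exists_mul_mem_centralizer' (x := d) n
    (IsPGroup.coprime_card_of_ne 3 2 (by norm_num) _ _ p3 h2.to_inf_left) (Or.inl inferInstance) fun a ha => by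
      refine mem_inf.mpr ⟨mul_mem (H49.conj_mem_of_mem_normalizer (zpowers_le.mpr nD ha) hd) (inv_mem hd), ?_⟩
      rcases (mem_zp3 y3).mp ha with rfl | rfl | rfl
      · simp
      · exact h1
      · convert mul_mem (H49.conj_mem_of_mem_normalizer nR h1) h1 using 1; group
  rw [H49.centralizer_zpowers'] at e
  exact (R.mul_mem_cancel_left hr.2).mp (h ⟨D.mul_mem hr.1 hd, e⟩)

theorem klein {σ τ γ : MulAut G} {a c : G} (aa : a * a = 1) (cc : c * c = 1) (ac : c * a = a * c) (a1 : a ≠ 1)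
    (c1 : c ≠ 1) (ne : a ≠ c) (σa : σ a = c) (σc : σ c = a * c) (τa : τ a = a) (τc : τ c = a * c)
    (γa : γ a = 1 ∨ γ a = a ∨ γ a = c ∨ γ a = a * c) (γc : γ c = 1 ∨ γ c = a ∨ γ c = c ∨ γ c = a * c)
    (r1 : σ (γ (σ (σ (γ (σ a))))) = τ (γ a)) (r2 : σ (γ (σ (σ (γ (σ c))))) = τ (γ c)) : γ a = a ∧ γ c = a * c := by
  have l1 : ∀ v, a * (a * v) = v := fun v => by rw [← mul_assoc, aa, one_mul]
  have l2 : ∀ v, c * (c * v) = v := fun v => by rw [← mul_assoc, cc, one_mul]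
  have l3 : ∀ v, c * (a * v) = a * (c * v) := fun v => by rw [← mul_assoc, ac, mul_assoc]
  have n1 : a * c ≠ 1 := fun e => ne (by rw [← l2 a, ac, e, mul_one])
  rcases γa with e | e | e | e <;> rcases γc with e' | e' | e' | e' <;>
    first
    | exact absurd (by simpa using e) a1
    | exact absurd (by simpa using e') c1
    | exact absurd (γ.injective (e.trans e'.symm)) ne
    | exact ⟨e, e'⟩
    | simp [σa, σc, τa, τc, e, e', aa, cc, ac, l1, l2, l3, mul_assoc, a1, c1, ne, ne.symm, n1] at r1 r2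

end general

namespace NF

variable {G : Type*} [Group G] {x z : G} (h : NF x z)

/-- element -/
def t2 : G := h.s * h.t * h.s⁻¹
/-- element -/
def p : G := h.y * h.q * h.y⁻¹
/-- element -/
def b2 : G := h.y * h.b * h.y⁻¹
/-- element -/
def u : G := h.p * (h.b * h.p * h.b⁻¹)

theorem st : h.s * h.t * h.s⁻¹ = h.t2 := rfl
theorem yq : h.y * h.q * h.y⁻¹ = h.p := rfl
theorem yb : h.y * h.b * h.y⁻¹ = h.b2 := rfl
theorem st2 : h.s * h.t2 * h.s⁻¹ = h.t * h.t2 := h.t3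
theorem yp : h.y * h.p * h.y⁻¹ = h.q * h.p := h.q3
theorem yb2 : h.y * h.b2 * h.y⁻¹ = h.b * h.b2 := h.b3

theorem inv_x : h.g * h.j * h.g⁻¹ * x * (h.g * h.j * h.g⁻¹)⁻¹ = x * x := by
  have := congrArg (fun a => h.g * a * h.g⁻¹) h.jy
  simp only [cj_mul' h.g, h.gy] at this
  rw [← this]; group

include h in
theorem hn : ∃ n : G, n * x * n⁻¹ = x * x := ⟨_, h.inv_x⟩

theorem yqp : h.y * (h.q * h.p) * h.y⁻¹ = h.q := by
  rw [← h.yp, ← h.yq, ← cj_cj, ← cj_cj, ← pow_three', h.y3]; simp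

theorem yn : h.y ∉ zpowers x := fun hm => (ne_mo 0 :) (by rw [← h.φy, h.φ_ker h.yC]; exact Or.inl hm)
theorem xy : x * h.y = h.y * x := (h.memC.mp h.yC).symm
theorem cjC {a c : G} (ha : a ∈ h.C) (hc : c ∈ h.C) : a * c * a⁻¹ ∈ h.C := mul_mem (mul_mem ha hc) (inv_mem ha)
theorem t2C : h.t2 ∈ h.C := h.cjC h.sC h.tC
theorem pC : h.p ∈ h.C := h.cjC h.yC h.qC
theorem b2C : h.b2 ∈ h.C := h.cjC h.yC h.bC
theorem φp : h.φ h.p = mo 8 := by rw [p, h.φ_conj h.yC h.qC, h.φy, h.φq, r_pq]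
theorem φb2 : h.φ h.b2 = mo 6 := by rw [b2, h.φ_conj h.yC h.bC, h.φy, h.φb, r_pb]
theorem φt2 : h.φ h.t2 = mo 4 ∨ h.φ h.t2 = mo 3 * mo 4 := by
  rw [t2, h.φ_conj h.sC h.tC, h.φt]
  rcases h.φs with e | e <;> simp only [e, cj_cj, r_st, r_st2, true_or, or_true]
theorem F4t2 : F4 (h.φ h.t2) := Or.inr (Or.inr h.φt2)
theorem F4t : F4 (h.φ h.t) := Or.inr (Or.inl h.φt)
theorem t2t2 : h.t2 * h.t2 = 1 := cj_inv2 _ h.tt
theorem pp : h.p * h.p = 1 := cj_inv2 _ h.qq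
theorem b2b2 : h.b2 * h.b2 = 1 := cj_inv2 _ h.bb
theorem bp : h.b * h.p * h.b⁻¹ = h.p * h.u := by rw [u, ← mul_assoc h.p h.p, h.pp, one_mul]
theorem t1 : h.t ≠ 1 := fun e => (ne_mo 3 :) (by rw [← h.φt, e, h.φ_one])
theorem q1 : h.q ≠ 1 := fun e => (ne_mo 7 :) (by rw [← h.φq, e, h.φ_one])
theorem sBB : h.φ h.s ∈ BB := by rcases h.φs with e | e <;> rw [e]; exacts [bb_mo 1, mul_mem (bb_mo 1) (bb_mo 1)]

theorem yF {a : G} (ha : a ∈ h.C) (f : F4 (h.φ a)) : h.y * a = a * h.y :=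
  (h.comm23 ha h.yC (h.φy ▸ f.comm) (RB_sq f.rb) h.y3).symm

theorem sq : h.s * h.q = h.q * h.s := (h.comm23 h.qC h.sC (by
  have c : Commute (mo 7) (mo 1) := cm_mo 7 1
  rcases h.φs with e | e <;> rw [e, h.φq]; exacts [c.eq, (c.mul_right c).eq]) (h.φq ▸ sq_mo 7) h.s3).symm

theorem s2y : h.s * (x * h.y) * h.s⁻¹ = x * x * h.y := by
  rw [cj_mul', h.sy, cj_of_comm (h.memC.mp h.sC), mul_assoc]

theorem gC {a : G} (ha : a ∈ h.C) (e : h.y * a = a * h.y) :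
    h.g * a * h.g⁻¹ ∈ h.C ∧ h.y * (h.g * a * h.g⁻¹) = h.g * a * h.g⁻¹ * h.y :=
  ⟨h.memC.mpr (by simpa only [h.gy] using cj_comm' h.g e.symm), by
    rw [← h.gx]; exact cj_comm' _ (h.memC.mp ha).symm⟩

variable [Finite G]

/-- The lifted elementary abelian group. -/
def W : Subgroup G where
  carrier := {w | w ∈ h.C ∧ h.φ w ∈ RB ∧ w * w = 1}
  one_mem' := ⟨one_mem _, h.φ_one ▸ one_mem _, one_mul _⟩
  mul_mem' := fun {a b} ha hb => ⟨mul_mem ha.1 hb.1, by rw [h.φ_mul ha.1 hb.1]; exact mul_mem ha.2.1 hb.2.1, by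
    have := h.comm2 h.hn ha.1 hb.1 (RB_comm ha.2.1 hb.2.1) ha.2.2 hb.2.2
    rw [mul_assoc, ← mul_assoc b, ← this, mul_assoc, hb.2.2, mul_one, ha.2.2]⟩
  inv_mem' := fun {a} ha => by rwa [inv_eq_of_mul_eq_one_right ha.2.2]

theorem W_comm {a b : G} (ha : a ∈ h.W) (hb : b ∈ h.W) : a * b = b * a :=
  h.comm2 h.hn ha.1 hb.1 (RB_comm ha.2.1 hb.2.1) ha.2.2 hb.2.2

theorem tW : h.t ∈ h.W := ⟨h.tC, h.F4t.rb, h.tt⟩
theorem t2W : h.t2 ∈ h.W := ⟨h.t2C, h.F4t2.rb, h.t2t2⟩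
theorem qW : h.q ∈ h.W := ⟨h.qC, h.φq ▸ rb_mo 7, h.qq⟩
theorem pW : h.p ∈ h.W := ⟨h.pC, h.φp ▸ rb_mo 8, h.pp⟩
theorem zW : z ∈ h.W := ⟨h.zC, h.φ_z ▸ one_mem _, h.zz⟩

theorem normW {m : G} (hm : m ∈ h.N) (e : h.χ m ∈ BB) : m ∈ normalizer (h.W : Set G) :=
  H49.mem_normalizer_of_conj_mem fun _ hw => ⟨h.conjC hm hw.1, by
    rw [h.χ_spec hm hw.1]; exact conj_mem_RB e.2 hw.2.1, cj_inv2 _ hw.2.2⟩

theorem normW' {m : G} (hm : m ∈ h.C) (e : h.φ m ∈ BB) : m ∈ normalizer (h.W : Set G) :=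
  h.normW (h.C_le_N hm) (h.χ_C hm ▸ e)

theorem decRB {c : G} (hc : c ∈ h.C) (e : h.φ c ∈ RB) : ∃ a ∈ zpowers x, c * a ∈ h.W := by
  obtain ⟨w, hw, e1, ww⟩ := h.inv2 h.hn (h.φ_mem c) (RB_sq e)
  have m : w ∈ h.W := ⟨hw, e1 ▸ e, ww⟩
  rcases (h.φ_ker (mul_mem (inv_mem hc) hw)).mp (by
    rw [h.φ_mul (inv_mem hc) hw, h.φ_inv hc, e1, inv_mul_cancel]) with k | k
  exacts [⟨_, k, by simpa using m⟩, ⟨_, k, by simpa [← mul_assoc] using mul_mem m h.zW⟩]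

theorem memW {c : G} (hc : c ∈ h.C) (e : h.φ c ∈ RB) {k : ℕ} (c2 : c ^ k = 1) (hk : ¬ 3 ∣ k) : c ∈ h.W := by
  obtain ⟨a, ha, m⟩ := h.decRB hc e
  have c1 : Commute c a := h.zp_comm ha hc
  have e1 : (c * a) ^ (2 * k) = 1 := by rw [pow_mul, pow_two, m.2.2, one_pow]
  rw [c1.mul_pow, mul_comm, pow_mul, c2, one_pow, one_mul] at e1
  have : a = 1 := eq_one_of_mem_pgroup (isPGroup_zpowers (p := 3) (k := 1) h.x3) ha
    (Nat.Coprime.coprime_dvd_left (orderOf_dvd_of_pow_eq_one e1) (Nat.Coprime.mul_left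
      ((Nat.Prime.coprime_iff_not_dvd Nat.prime_three).mpr hk).symm (by norm_num)))
  simpa [this] using m

theorem centW {c : G} (hc : c ∈ h.N) (e : ∀ w ∈ h.W, c * w = w * c) : c ∈ h.C ∧ h.φ c ∈ RB := by
  have : h.χ c ∈ RB := cent_RB (h.χ_mem hc) fun r hr => by
    obtain ⟨w, hw, rfl, ww⟩ := h.inv2 h.hn (RB_le_G22 hr) (RB_sq hr)
    rw [← mul_inv_eq_iff_eq_mul, ← h.χ_spec hc hw, cj_of_comm (e w ⟨hw, hr, ww⟩)]
  have hC := h.memC_of_χ hc (RB_le_G22 this)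
  exact ⟨hC, h.χ_C hC ▸ this⟩

theorem lift4 {v a c : G} (hv : v ∈ h.W) (ha : a ∈ h.W) (hc : c ∈ h.W)
    (e : h.φ v = 1 ∨ h.φ v = h.φ a ∨ h.φ v = h.φ c ∨ h.φ v = h.φ a * h.φ c) :
    ∃ w, (w = 1 ∨ w = a ∨ w = c ∨ w = a * c) ∧ (v = w ∨ v = w * z) := by
  have k : ∀ w ∈ h.W, h.φ v = h.φ w → v = w ∨ v = w * z := fun w hw e => h.eq2' hv.1 hw.1 e hv.2.2 hw.2.2
  rcases e with e | e | e | e
  exacts [⟨_, by simp, k _ (one_mem _) (h.φ_one ▸ e)⟩, ⟨_, by simp, k _ ha e⟩, ⟨_, by simp, k _ hc e⟩,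
    ⟨_, by simp, k _ (mul_mem ha hc) (h.φ_mul ha.1 hc.1 ▸ e)⟩]

theorem liftF {v : G} (hv : v ∈ h.W) (f : F4 (h.φ v)) :
    ∃ w, (w = 1 ∨ w = h.t ∨ w = h.t2 ∨ w = h.t * h.t2) ∧ (v = w ∨ v = w * z) :=
  h.lift4 hv h.tW h.t2W (by
    rcases h.φt2 with e | e <;> rw [e, h.φt]
    · exact f
    · rw [← mul_assoc, sq_mo 3, one_mul]; unfold F4 at f; tauto)

theorem liftF' {v : G} (hv : v ∈ h.W) (e : h.y * v = v * h.y) :
    ∃ w, (w = 1 ∨ w = h.t ∨ w = h.t2 ∨ w = h.t * h.t2) ∧ (v = w ∨ v = w * z) :=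
  h.liftF hv ((rb_pass hv.2.1).2.1 (by rw [← h.φy, ← h.φ_mul hv.1 h.yC, ← e, h.φ_mul h.yC hv.1]))

theorem liftA {v : G} (hv : v ∈ h.W) (e : v * (h.y * v * h.y⁻¹) * (h.y * (h.y * v * h.y⁻¹) * h.y⁻¹) = 1) :
    v = 1 ∨ v = h.q ∨ v = h.p ∨ v = h.q * h.p := by
  have e' : v * h.y * (v * h.y) * (v * h.y) = 1 := by
    rw [← e, ← mul_one (_ * (h.y * _ * h.y⁻¹)), ← h.y3, pow_three]; group
  have m := mul_mem hv.1 h.yC
  obtain ⟨w, hw, e1 | e1⟩ := h.lift4 hv h.qW h.pW (by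
    rw [h.φq, h.φp]
    exact (rb_pass hv.2.1).2.2.1 (by
      rw [← h.φy, ← h.φ_mul hv.1 h.yC, ← h.φ_mul m m, ← h.φ_mul (mul_mem m m) m, e', h.φ_one]))
  · rwa [e1]
  · have c := cj_of_comm (h.zc h.yC).symm
    have qp := h.W_comm h.qW h.pW
    have e2 : w * (h.y * w * h.y⁻¹) * (h.y * (h.y * w * h.y⁻¹) * h.y⁻¹) = 1 := by
      have l := (mul_mem h.qW h.pW).2.2
      rcases hw with rfl | rfl | rfl | rfl
      · simp
      · rw [h.yq, h.yp, l]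
      · rw [h.yp, h.yqp, ← mul_assoc, ← qp, mul_assoc, ← qp, l]
      · rw [h.yqp, h.yq, mul_assoc, l]
    have wW : w ∈ h.W := by
      rcases hw with rfl | rfl | rfl | rfl
      exacts [one_mem _, h.qW, h.pW, mul_mem h.qW h.pW]
    have m1 := h.cjC h.yC wW.1
    rw [e1, cj_mul', c, cj_mul' _ _ z, c, mul_assoc w, ← mul_assoc z, h.zc m1, mul_assoc _ z, h.zz, mul_one,
      ← mul_assoc _ _ z, e2, one_mul] at e
    rwa [show v = w by rw [e1, e, mul_one]]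

theorem CE {c : G} (hc : c ∈ h.C) (e : h.y * c = c * h.y) :
    ∃ a, (a = 1 ∨ a = h.y ∨ a = h.y * h.y) ∧ F4 (h.φ (c * a)) := by
  obtain ⟨a, d, ha, hd, f⟩ := h.cent_p h.yC h.φy h.sC h.φs hc (by
    rw [← h.φy, ← h.φ_mul hc h.yC, ← e, h.φ_mul h.yC hc])
  have c3 : Commute h.y d ∧ d ∈ h.C := by
    rcases hd with rfl | rfl | rfl
    exacts [⟨Commute.one_right _, one_mem _⟩, ⟨Commute.refl _, h.yC⟩,
      ⟨(Commute.refl _).mul_right (Commute.refl _), mul_mem h.yC h.yC⟩]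
  have k : a ∈ h.C → a * h.y * a⁻¹ = h.y := fun aC => by
    have c4 : Commute h.y (c * a * d) := h.yF (mul_mem (mul_mem hc aC) c3.2) f
    have : Commute h.y a := by
      simpa [mul_assoc] using (show Commute h.y c from e).inv_right.mul_right (c4.mul_right c3.1.inv_right)
    exact cj_of_comm this.symm
  rcases ha with rfl | rfl | rfl
  · exact ⟨d, hd, by simpa using f⟩
  · exact absurd (by simpa [h.sy] using k h.sC) h.x1
  · have := k (mul_mem h.sC h.sC)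
    rw [cj_cj, h.sy, h.s2y, mul_eq_right] at this
    exact absurd (by rw [← h.x3, pow_three, this, mul_one]) h.x1

theorem CE_comm {c a : G} (hc : c ∈ h.C) (e : h.y * c = c * h.y) (ha : a ∈ h.W) (e' : h.y * a = a * h.y) :
    c * a = a * c := by
  obtain ⟨d, hd, f⟩ := h.CE hc e
  have c3 : Commute d a ∧ d ∈ h.C := by
    have c : Commute h.y a := e'
    rcases hd with rfl | rfl | rfl
    exacts [⟨Commute.one_left _, one_mem _⟩, ⟨c, h.yC⟩, ⟨c.mul_left c, mul_mem h.yC h.yC⟩]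
  have : Commute (c * d) a := h.comm_F4 h.hn (mul_mem hc c3.2) f ha.1 ha.2.1 ha.2.2
  simpa using (this.mul_left c3.1.inv_left).eq

theorem CE_W {c : G} (hc : c ∈ h.C) (e : h.y * c = c * h.y) (cc : c * c = 1) : c ∈ h.W := by
  obtain ⟨d, hd, f⟩ := h.CE hc e
  have k : d ∈ h.C → Commute c d → h.φ (d * d) = 1 := fun dC c1 => by
    have := RB_sq f.rb
    rwa [← h.φ_mul (mul_mem hc dC) (mul_mem hc dC), c1.symm.mul_mul_mul_comm, cc, one_mul] at this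
  have c : Commute c h.y := e.symm
  have yy := mul_mem h.yC h.yC
  rcases hd with rfl | rfl | rfl
  · exact ⟨hc, by simpa using f.rb, cc⟩
  · have := k h.yC c
    rw [h.φ_mul h.yC h.yC, h.φy] at this
    exact absurd (by rw [← r_p3, pow_three, this, mul_one]) (ne_mo 0)
  · have := k yy (c.mul_right c)
    rw [← mul_assoc, ← pow_three', h.y3, one_mul, h.φy] at this
    exact absurd this (ne_mo 0)

theorem cm {a c : G} (ha : a ∈ h.C) (hc : c ∈ h.C) {i k : ℕ} (e1 : h.φ a = mo i) (e2 : h.φ c = mo k)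
    (aa : a * a = 1) (cc : c * c = 1) (e : comm (gc i) (gc k) = true := by decide +kernel) : a * c = c * a :=
  h.comm2 h.hn ha hc (e1 ▸ e2 ▸ cm_mo i k e) aa cc

theorem bt : h.b * h.t = h.t * h.b := h.cm h.bC h.tC h.φb h.φt h.bb h.tt
theorem bq : h.b * h.q = h.q * h.b := h.cm h.bC h.qC h.φb h.φq h.bb h.qq
theorem jb : h.j * h.b = h.b * h.j := h.cm h.jC h.bC h.φj h.φb h.jj h.bb
theorem jt : h.j * h.t = h.t * h.j := h.cm h.jC h.tC h.φj h.φt h.jj h.tt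
theorem jq : h.j * h.q = h.q * h.j := h.cm h.jC h.qC h.φj h.φq h.jj h.qq
theorem bb2 : h.b * h.b2 = h.b2 * h.b := h.cm h.bC h.b2C h.φb h.φb2 h.bb h.b2b2
theorem yt : h.y * h.t = h.t * h.y := h.yF h.tC h.F4t
theorem yt2 : h.y * h.t2 = h.t2 * h.y := h.yF h.t2C h.F4t2
theorem bN : h.b ∈ normalizer (h.W : Set G) := h.normW' h.bC (h.φb ▸ bb_mo 5)
theorem yN : h.y ∈ normalizer (h.W : Set G) := h.normW' h.yC (h.φy ▸ bb_mo 0)
theorem jN : h.j ∈ normalizer (h.W : Set G) := h.normW' h.jC (h.φj ▸ bb_mo 2)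
theorem sN : h.s ∈ normalizer (h.W : Set G) := h.normW' h.sC h.sBB
theorem uW : h.u ∈ h.W := mul_mem h.pW (H49.conj_mem_of_mem_normalizer h.bN h.pW)

theorem u_cases : h.u = h.t ∨ h.u = h.t * z := h.eq2' h.uW.1 h.tC (by
  rw [u, h.φ_mul h.pC (h.cjC h.bC h.pC), h.φ_conj h.bC h.pC, h.φp, h.φb, r_bp, ← mul_assoc, sq_mo 8, one_mul, h.φt])
  h.uW.2.2 h.tt

theorem cu {a : G} (ha : a ∈ h.C) (e : a * h.t = h.t * a) {v : G} (hv : v = h.t ∨ v = h.t * z) :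
    a * v * a⁻¹ = v := by
  rcases hv with rfl | rfl
  · exact cj_of_comm e
  · rw [cj_mul', cj_of_comm e, cj_of_comm (h.zc ha).symm]

theorem bt2 : h.b * h.t2 * h.b⁻¹ = h.t2 * h.q * h.u := by
  obtain ⟨v, hv, e⟩ : ∃ v, (v = h.t ∨ v = h.t * z) ∧ h.b * h.t2 * h.b⁻¹ = h.t2 * h.q * v := by
    have m := mul_mem (mul_mem h.t2W h.qW) h.tW
    rcases h.eq2' (h.cjC h.bC h.t2C) m.1 (by
      rw [h.φ_conj h.bC h.t2C, h.φ_mul (mul_mem h.t2C h.qC) h.tC, h.φ_mul h.t2C h.qC, h.φb, h.φq, h.φt]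
      rcases h.φt2 with e | e <;> rw [e]
      · exact r_bt2
      · rw [cj_mul', r_bt2, cj_of_comm (cm_mo 5 3)]; group) (cj_inv2 _ h.t2t2) m.2.2 with e | e
    exacts [⟨_, Or.inl rfl, e⟩, ⟨_, Or.inr rfl, by rw [e, mul_assoc]⟩]
  have k : ∀ a b c : G, a * b * a⁻¹ * (a * c * a⁻¹) * (a * b * a⁻¹)⁻¹ = a * (b * c * b⁻¹) * a⁻¹ := fun a b c => by group
  have e1 : h.b2 * h.t2 * h.b2⁻¹ = h.t2 * h.p * v := by
    rw [← h.yb, ← cj_of_comm h.yt2, k, e, cj_mul', cj_mul', h.cu h.yC h.yt hv, cj_of_comm h.yt2, h.yq]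
  have e2 : h.b * h.b2 * h.t2 * (h.b * h.b2)⁻¹ = h.t2 * (h.q * h.p) * v := by
    rw [← h.yb2, ← cj_of_comm h.yt2, k, e1, cj_mul', cj_mul', h.cu h.yC h.yt hv, cj_of_comm h.yt2, h.yp]
  rw [cj_cj, e1, cj_mul', cj_mul', e, h.bp, h.cu h.bC h.bt hv, mul_left_inj, mul_assoc, mul_assoc, mul_right_inj,
    mul_right_inj, ← mul_assoc] at e2
  have vW : v ∈ h.W := by rcases hv with rfl | rfl; exacts [h.tW, mul_mem h.tW h.zW]
  rw [h.W_comm vW h.pW, mul_assoc, mul_eq_left] at e2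
  rw [e, ← inv_eq_of_mul_eq_one_right e2, inv_eq_of_mul_eq_one_right vW.2.2]

theorem jt2 : h.j * h.t2 * h.j⁻¹ = h.t * h.t2 := by
  obtain ⟨a, ha, e⟩ := h.eq3 (h.cjC h.jC h.sC) (mul_mem h.sC h.sC) (k := 1) (by
    rw [h.φ_conj h.jC h.sC, h.φ_mul h.sC h.sC, h.φj]
    rcases h.φs with e | e <;> simp only [e, cj_mul', r_js]) (by rw [conj_pow, pow_one, h.s3]; simp)
    (by rw [pow_one, (Commute.refl h.s).mul_pow, h.s3, one_mul])
  rw [show h.j * h.t2 * h.j⁻¹ = h.j * h.s * h.j⁻¹ * (h.j * h.t * h.j⁻¹) * (h.j * h.s * h.j⁻¹)⁻¹ by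
    simp only [t2]; group, e, cj_of_comm h.jt, cj_cj, cj_cj, h.st, h.st2,
    cj_of_comm (h.zp_comm ha (mul_mem h.tC h.t2C)).symm]

theorem jp : h.j * h.p * h.j⁻¹ = h.q * h.p := by
  rw [show h.j * h.p * h.j⁻¹ = h.j * h.y * h.j⁻¹ * (h.j * h.q * h.j⁻¹) * (h.j * h.y * h.j⁻¹)⁻¹ by
    simp only [p]; group, h.jy, cj_of_comm h.jq, cj_cj, h.yq, h.yp]

theorem jb2 : h.j * h.b2 * h.j⁻¹ = h.b * h.b2 := by
  rw [show h.j * h.b2 * h.j⁻¹ = h.j * h.y * h.j⁻¹ * (h.j * h.b * h.j⁻¹) * (h.j * h.y * h.j⁻¹)⁻¹ by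
    simp only [b2]; group, h.jy, cj_of_comm h.jb, cj_cj, h.yb, h.yb2]

theorem b2_cj (v : G) : h.b2 * (h.y * v * h.y⁻¹) * h.b2⁻¹ = h.y * (h.b * v * h.b⁻¹) * h.y⁻¹ := by
  simp only [b2]; group

theorem b2u {v : G} (hv : v = h.t ∨ v = h.t * z) : h.b2 * v * h.b2⁻¹ = v := by
  rw [← h.cu h.yC h.yt hv, h.b2_cj, h.cu h.bC h.bt hv]

theorem b2p : h.b2 * h.p * h.b2⁻¹ = h.p := by rw [← h.yq, h.b2_cj, cj_of_comm h.bq]

theorem b2q : h.b2 * h.q * h.b2⁻¹ = h.q * h.u := by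
  rw [← h.yqp, h.b2_cj, cj_mul' h.b, cj_of_comm h.bq, h.bp, ← mul_assoc h.q, cj_mul' h.y, h.cu h.yC h.yt h.u_cases]

theorem b2t2 : h.b2 * h.t2 * h.b2⁻¹ = h.t2 * h.p * h.u := by
  rw [← cj_of_comm h.yt2, h.b2_cj, h.bt2, cj_mul', cj_mul', h.cu h.yC h.yt h.u_cases, h.yq]

include h in
theorem zfix {k m : G} (e : m * (k * x * k⁻¹) * m⁻¹ = k * x * k⁻¹ ∨
    m * (k * x * k⁻¹) * m⁻¹ = k * x * k⁻¹ * (k * x * k⁻¹)) : m * (k * z * k⁻¹) * m⁻¹ = k * z * k⁻¹ :=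
  cj_of_comm ((h.cj k).N_z ((h.cj k).mem_N.mpr e))

theorem ggC : h.g * h.g ∈ h.C := h.memC.mpr (mul_inv_eq_iff_eq_mul.mp (by rw [cj_cj, h.gx, h.gy]))

theorem g_one (z1 : h.g * z * h.g⁻¹ ≠ z) : h.g * z * h.g⁻¹ = h.t * z ∧ h.g * h.t * h.g⁻¹ = h.t ∧
    h.g * h.t2 * h.g⁻¹ = h.t * h.t2 := by
  have m := h.gC h.zC (h.zc h.yC).symm
  have mW := h.CE_W m.1 m.2 (cj_inv2 _ h.zz)
  have e1 := h.zfix (k := h.g) (m := h.j) (Or.inr (by rw [h.gx, h.jy]))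
  have e2 := h.zfix (k := h.s * h.g) (m := h.g) (Or.inl (by rw [cj_cj, h.gx, h.sy, cj_mul', h.gx, h.gy, h.xy]))
  have e3 := h.zfix (k := h.s * (h.s * h.g)) (m := h.g) (Or.inr (by
    have c : Commute x h.y := h.xy
    rw [cj_cj, cj_cj, h.gx, h.sy, h.s2y, cj_mul', cj_mul', h.gx, h.gy, ← pow_two (x * x * h.y),
      (c.mul_left c).mul_pow, pow_two, ← mul_assoc, ← pow_three', h.x3, one_mul, (c.pow_right 2).eq, pow_two]))
  have e4 : h.g * (h.g * z * h.g⁻¹) * h.g⁻¹ = z := by rw [← cj_cj, cj_of_comm (h.zc h.ggC).symm]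
  have tt2 := h.W_comm h.tW h.t2W
  rw [cj_cj] at e2
  rw [cj_cj, cj_cj] at e3
  have jz := cj_of_comm (h.zc h.jC).symm
  have sz := cj_of_comm (h.zc h.sC).symm
  obtain ⟨w, rfl | rfl | rfl | rfl, e | e⟩ := h.liftF' mW m.2
  · exact absurd (by rw [e, (by simpa using e : z = 1)]) z1
  · exact absurd (by rw [e, one_mul]) z1
  · rw [e] at e2 e3 e4
    rw [h.st] at e2
    rw [h.st, h.st2, cj_mul', e2, e4, mul_left_inj] at e3
    exact absurd (by rw [← h.φt, ← e3, h.φ_z]) (ne_mo 3)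
  · rw [e] at e2 e4
    rw [cj_mul', e, ← mul_assoc, mul_eq_right, mul_eq_one_iff_eq_inv, inv_eq_of_mul_eq_one_right h.tt] at e4
    rw [cj_mul' h.s, sz, h.st, cj_mul', e, ← mul_assoc, mul_left_inj, ← eq_mul_inv_iff_mul_eq,
      inv_eq_of_mul_eq_one_right h.tt, ← tt2] at e2
    exact ⟨e, e4, e2⟩
  · exact absurd (by simpa [e, h.jt2] using e1) h.t1
  · exact absurd (by simpa [e, cj_mul', h.jt2, jz] using e1) h.t1
  · rw [e, cj_mul', h.jt2, cj_of_comm h.jt, mul_right_inj] at e1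
    exact absurd (by simpa using e1) h.t1
  · rw [e, cj_mul', cj_mul', h.jt2, jz, cj_of_comm h.jt, mul_left_inj, mul_right_inj] at e1
    exact absurd (by simpa using e1) h.t1

theorem g_zero (h : NF x 1) : h.g * h.t * h.g⁻¹ = h.t ∧ h.g * h.t2 * h.g⁻¹ = h.t * h.t2 := by
  have k : ∀ a ∈ h.W, h.y * a = a * h.y → (h.g * a * h.g⁻¹ = 1 ∨ h.g * a * h.g⁻¹ = h.t ∨ h.g * a * h.g⁻¹ = h.t2 ∨
      h.g * a * h.g⁻¹ = h.t * h.t2) ∧ h.s * (h.g * (h.s * (h.s * (h.g * (h.s * a * h.s⁻¹) * h.g⁻¹) * h.s⁻¹) * h.s⁻¹) *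
        h.g⁻¹) * h.s⁻¹ = h.j * (h.g * a * h.g⁻¹) * h.j⁻¹ := fun a ha e => by
    have m := h.gC ha.1 e
    obtain ⟨w, hw, e'⟩ := h.liftF' (h.CE_W m.1 m.2 (cj_inv2 _ ha.2.2)) m.2
    rw [mul_one, or_self] at e'
    refine ⟨e' ▸ hw, ?_⟩
    have sx := cj_of_comm (h.memC.mp h.sC)
    have c : Commute x h.y := h.xy
    have a1 : h.s * (h.g * (h.s * (h.s * (h.g * h.s)))) * x * (h.s * (h.g * (h.s * (h.s * (h.g * h.s)))))⁻¹ =
        h.j * h.g * x * (h.j * h.g)⁻¹ := by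
      simp only [cj_cj, sx, h.gx, h.sy, h.s2y, cj_mul', h.gy, h.jy]
      rw [← pow_two, c.mul_pow, ← (c.pow_left 2).symm.pow_left 2 |>.eq, mul_assoc, ← pow_succ, h.x3, mul_one, pow_two]
    have a2 : h.s * (h.g * (h.s * (h.s * (h.g * h.s)))) * h.y * (h.s * (h.g * (h.s * (h.s * (h.g * h.s)))))⁻¹ =
        h.j * h.g * h.y * (h.j * h.g)⁻¹ := by
      have : x * (x * h.y) * x = h.y := by rw [mul_assoc, mul_assoc, ← c.eq, ← mul_assoc, ← mul_assoc,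
        ← pow_three', h.x3, one_mul]
      rw [cj_cj, cj_cj, cj_cj, cj_cj, cj_cj, h.sy, cj_mul' h.g x, h.gx, h.gy, cj_mul' h.s h.y, h.sy, sx,
        cj_mul' h.s _ x, cj_mul' h.s x, sx, h.sy, this, h.gy, sx, cj_cj, h.gy, cj_of_comm (h.memC.mp h.jC)]
    have a3 : ∀ a b c : G, a * c * a⁻¹ = b * c * b⁻¹ ↔ b⁻¹ * a * c = c * (b⁻¹ * a) := fun a b c =>
      ⟨fun e => by rw [mul_assoc, mul_inv_eq_iff_eq_mul.mp e]; group,
        fun e => by rw [show a * c * a⁻¹ = b * (b⁻¹ * a * c) * a⁻¹ by group, e]; group⟩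
    simpa only [cj_cj] using (a3 _ _ _).mpr (h.CE_comm (h.memC.mpr ((a3 _ _ _).mp a1)) ((a3 _ _ _).mp a2).symm ha e)
  have k1 := k _ h.tW h.yt
  have k2 := k _ h.t2W h.yt2
  exact klein (σ := MulAut.conj h.s) (τ := MulAut.conj h.j) (γ := MulAut.conj h.g) h.tt h.t2t2
    (h.W_comm h.t2W h.tW) h.t1 (by simpa [t2] using h.t1) (fun e => h.t1 (by
      have := h.jt2
      rw [← e, cj_of_comm h.jt, h.tt] at this; exact this)) rfl h.t3 (cj_of_comm h.jt) h.jt2 k1.1 k2.1 k1.2 k2.2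

theorem nonsplit (z1 : z ≠ 1) : h.u = h.t * z := by
  refine h.u_cases.resolve_left fun hu => ?_
  have m : ∀ a ∈ [h.t, h.t2, h.q, h.p], a ∈ h.W := by simp [h.tW, h.t2W, h.qW, h.pW]
  have c4 := card_cl_comm (fun a ha b hb => h.W_comm (m a ha) (m b hb)) fun a ha => (m a ha).2.2
  have c5 := card_cl_cons c4 (u := h.b) (by
    simp only [List.forall_mem_cons, cj_of_comm h.bt, h.bt2, cj_of_comm h.bq, h.bp, hu]
    refine ⟨?_, ?_, ?_, ?_, by simp⟩ <;> repeat' (first | with_reducible apply mul_mem | exact mem_cl (by simp))) h.bb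
  have c6 := card_cl_cons c5 (u := h.b2) (by
    simp only [List.forall_mem_cons, h.b2u (Or.inl rfl), h.b2t2, h.b2q, h.b2p, hu, cj_of_comm h.bb2.symm]
    refine ⟨?_, ?_, ?_, ?_, ?_, by simp⟩ <;> repeat' (first | with_reducible apply mul_mem | exact mem_cl (by simp))) h.b2b2
  have c7 := card_cl_cons c6 (u := h.j) (by
    simp only [List.forall_mem_cons, cj_of_comm h.jt, h.jt2, cj_of_comm h.jq, h.jp, h.jb2, cj_of_comm h.jb]
    refine ⟨?_, ?_, ?_, ?_, ?_, ?_, by simp⟩ <;> repeat' (first | with_reducible apply mul_mem | exact mem_cl (by simp))) h.jj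
  have hT : cl [h.j, h.b2, h.b, h.t, h.t2, h.q, h.p] ≤ h.C :=
    cl_le (by simp [h.jC, h.b2C, h.bC, h.tC, h.t2C, h.qC, h.pC])
  have i : ∀ a ∈ cl [h.j, h.b2, h.b, h.t, h.t2, h.q, h.p], h.φ a ∈ h.im (cl [h.j, h.b2, h.b, h.t, h.t2, h.q, h.p]) :=
    fun a ha => h.mem_im.mpr ⟨a, ha, hT ha, rfl⟩
  have c8 := card_ge_128 (S := h.im (cl [h.j, h.b2, h.b, h.t, h.t2, h.q, h.p])) (by
    have a := i h.t (mem_cl (by simp))
    have b := i h.t2 (mem_cl (by simp))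
    rw [h.φt] at a
    rcases h.φt2 with e | e <;> rw [e] at b
    exacts [b, (mul_mem_cancel_left a).mp b]) (h.φb2 ▸ i _ (mem_cl (by simp))) (h.φj ▸ i _ (mem_cl (by simp)))
  generalize cl [h.j, h.b2, h.b, h.t, h.t2, h.q, h.p] = T at *
  have c9 := h.card_im hT (F := h.π.ker.map h.C.subtype) fun a ha => ⟨fun e => ⟨⟨a, hT ha⟩, by
    rwa [h.φ_eq (hT ha)] at e, rfl⟩, by rintro ⟨a, e, rfl⟩; exact (h.φ_coe a).trans e⟩
  have p := Nat.card_pos (α := ↥(T ⊓ h.π.ker.map h.C.subtype))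
  have c10 : Nat.card ↥(T ⊓ h.π.ker.map h.C.subtype) = 1 := by
    by_contra hne
    have := Nat.mul_le_mul (show 2 ≤ Nat.card ↥(T ⊓ h.π.ker.map h.C.subtype) by omega) c8
    simp only [List.length_cons, List.length_nil] at c7
    omega
  have zT : z ∉ T := fun hz => z1 (by
    have : z ∈ T ⊓ h.π.ker.map h.C.subtype := ⟨hz, ⟨z, h.zC⟩, (h.φ_eq h.zC).symm.trans h.φ_z, rfl⟩
    rwa [card_eq_one.mp c10, mem_bot] at this)
  have c11 : Nat.card T = 128 := by simp only [List.length_cons, List.length_nil] at c7; rw [c10] at c9; omega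
  obtain ⟨S, hS, hTS⟩ := exists_isSylowIn_ge hT (IsPGroup.of_card (p := 2) (n := 7) c11)
  have zS : z ∈ S := hS.mem_of_norm h.zC (k := 1) (by rw [pow_one, pow_two, h.zz])
    (H49.mem_normalizer_of_conj_mem fun a ha => by rwa [cj_of_comm (h.zc (hS.le ha))])
  have c12 : Nat.card S ≤ 2 * Nat.card T := by
    rw [h.card_im hS.le (F := zpowers z) fun a ha => ⟨fun e => by
      obtain ⟨k, hk⟩ := isPGroup_iff.mp hS.isPGroup a ha
      exact (H49.mem_zpowers_invol h.zz).mpr (h.ker_two (hS.le ha) e hk), fun e => by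
      rcases (H49.mem_zpowers_invol h.zz).mp e with rfl | rfl; exacts [h.φ_one, h.φ_z]⟩, c11]
    exact Nat.mul_le_mul ((card_le_of_le inf_le_right).trans (H49.card_zpowers_invol z1 h.zz).le)
      (Nat.le_of_dvd (by norm_num) (g22_two (h.im_le S) (h.im_isPGroup hS.isPGroup)))
  have z2 := map_mono (f := h.C.subtype) (H8.center_inf_commutator_inf_sylow_le hS.toSylow)
    ⟨⟨z, h.zC⟩, ⟨⟨mem_center_iff.mpr fun c => Subtype.ext (h.zc c.2).symm, by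
      have := h.perf h.zC
      rw [← map_subtype_commutator] at this
      exact (mem_map_iff_mem h.C.subtype_injective (x := ⟨z, h.zC⟩)).mp this⟩, zS⟩, rfl⟩
  rw [map_commutator, hS.map_toSylow] at z2
  refine zT (commutator_le.mpr (fun a ha b hb => ?_) z2)
  have k := @mul_mem_of_card_le_two_mul _ _ _ _ _ hTS c12
  rw [commutatorElement_def]
  by_cases h1 : a ∈ T <;> by_cases h2 : b ∈ T
  · exact mul_mem (mul_mem (mul_mem h1 h2) (inv_mem h1)) (inv_mem h2)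
  · rw [mul_assoc, mul_assoc, ← mul_assoc b]
    exact mul_mem h1 (k (mul_mem hb (inv_mem ha)) (inv_mem hb) (by rwa [mul_mem_cancel_right (inv_mem h1)])
      (by rwa [inv_mem_iff]))
  · exact mul_mem (k (mul_mem ha hb) (inv_mem ha) (by rwa [mul_mem_cancel_right h2]) (by rwa [inv_mem_iff]))
      (inv_mem h2)
  · rw [mul_assoc]
    exact mul_mem (k ha hb h1 h2) (k (inv_mem ha) (inv_mem hb) (by rwa [inv_mem_iff]) (by rwa [inv_mem_iff]))

end NF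

set_option linter.all false in
theorem eqns_J4G6 : True := by
  first | (have := @_root_.Cfsg.Agent.H83.J4.cl.eq_def.{0,0}) | (have := @_root_.Cfsg.Agent.H83.J4.cl.eq_def.{0}) | (have := @_root_.Cfsg.Agent.H83.J4.cl.eq_def) | skip
  first | (have := @_root_.Cfsg.Agent.H83.J4.cl.eq_1.{0,0}) | (have := @_root_.Cfsg.Agent.H83.J4.cl.eq_1.{0}) | (have := @_root_.Cfsg.Agent.H83.J4.cl.eq_1) | skip
  first | (have := @_root_.Cfsg.Agent.H83.J4.cl.eq_2.{0,0}) | (have := @_root_.Cfsg.Agent.H83.J4.cl.eq_2.{0}) | (have := @_root_.Cfsg.Agent.H83.J4.cl.eq_2) | skip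
  first | (have := @_root_.Cfsg.Agent.H83.J4.cl.congr_simp.{0,0}) | (have := @_root_.Cfsg.Agent.H83.J4.cl.congr_simp.{0}) | (have := @_root_.Cfsg.Agent.H83.J4.cl.congr_simp) | skip
  trivial

end Cfsg.Agent.H83.J4
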