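import Cfsg.Agent.H83.J4G6
import Cfsg.Agent.H83.J4G3
import Cfsg.Agent.H87.Transfer

/-!
# The centraliser of the lifted elementary abelian group; the triple cover does not occur
-/

set_option autoImplicit false

namespace Cfsg.Agent.H83.J4

open H42 Cfsg Subgroup

theorem pow_mem_RB {k β : M24} (hβ : β ∈ BB) (h : k * β ∈ RB) (m : ℕ) : k ^ m * β ^ m ∈ RB := by
  induction m with
  | zero => simp
  | succ m ih => convert mul_mem h (conj_mem_RB (inv_mem hβ.2) ih) using 1; rw [pow_succ', pow_succ]; group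

theorem eq_one_of_not_dvd {G : Type*} [Group G] [Finite G] {Y : Subgroup G} (hY : ¬ 3 ∣ Nat.card Y) {a : G}
    (ha : a ∈ Y) (a3 : a ^ 3 = 1) : a = 1 := by
  by_contra h
  haveI : Fact (Nat.Prime 3) := ⟨Nat.prime_three⟩
  exact hY (orderOf_eq_prime a3 h ▸ Y.orderOf_dvd_natCard ha)

theorem pow_card_of_mem {G : Type*} [Group G] {Y : Subgroup G} {a : G} (ha : a ∈ Y) : a ^ Nat.card Y = 1 :=
  congrArg Subtype.val (pow_card_eq_one' (x := (⟨a, ha⟩ : Y)))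

theorem zp3 {G : Type*} [Group G] {x a : G} (x3 : x ^ 3 = 1) (ha : a ∈ zpowers x) : a ^ 3 = 1 := by
  rcases (mem_zp3 x3).mp ha with rfl | rfl | rfl
  exacts [one_pow _, x3, by rw [(Commute.refl x).mul_pow, x3, one_mul]]

/-- An elementary abelian subgroup. -/
structure EA {G : Type*} [Group G] (V : Subgroup G) : Prop where
  comm : ∀ a ∈ V, ∀ b ∈ V, a * b = b * a
  sq : ∀ a ∈ V, a * a = 1

namespace EA

variable {G : Type*} [Group G] {V : Subgroup G} (e : EA V)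

/-- The additive form. -/
def Mo (_ : EA V) : Type _ := Additive V

instance : AddCommGroup e.Mo :=
  { (inferInstance : AddGroup (Additive V)) with add_comm := fun a b => Subtype.ext (e.comm _ a.2 _ b.2) }

instance [Finite G] : Finite e.Mo := inferInstanceAs (Finite V)

/-- The underlying element. -/
def val (a : e.Mo) : G := Subtype.val a

/-- An element as a vector. -/
def mk' (a : G) (ha : a ∈ V) : e.Mo := Subtype.mk a ha

theorem val_mem (a : e.Mo) : e.val a ∈ V := Subtype.property a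

theorem ext' {a b : e.Mo} : a = b ↔ e.val a = e.val b := Subtype.ext_iff

instance : DistribMulAction (normalizer (V : Set G)) e.Mo where
  smul n a := e.mk' (n * e.val a * (n : G)⁻¹) (H49.conj_mem_of_mem_normalizer n.2 (e.val_mem a))
  one_smul a := e.ext'.mpr (show (1 : G) * e.val a * 1⁻¹ = _ by simp)
  mul_smul n m a := e.ext'.mpr (cj_cj _ _ _)
  smul_zero n := e.ext'.mpr (show (n : G) * 1 * (n : G)⁻¹ = 1 by simp)
  smul_add n a b := e.ext'.mpr (cj_mul' _ _ _)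

theorem val_add (a b : e.Mo) : e.val (a + b) = e.val a * e.val b := rfl
theorem val_zero : e.val 0 = 1 := rfl
theorem val_mk (a : G) (ha : a ∈ V) : e.val (e.mk' a ha) = a := rfl
theorem val_smul (n : normalizer (V : Set G)) (a : e.Mo) : e.val (n • a) = n * e.val a * (n : G)⁻¹ := rfl
theorem h2 (a : e.Mo) : a + a = 0 := e.ext'.mpr (e.sq _ (e.val_mem a))

end EA

namespace NF

variable {G : Type*} [Group G] [Finite G] {x z : G} (h : NF x z)

include h in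
theorem all3 {a : G} (a3 : a ^ 3 = 1) (a1 : a ≠ 1) : ∃ k : G, k * x * k⁻¹ = a := by
  haveI : Fact (Nat.Prime 3) := ⟨Nat.prime_three⟩
  obtain ⟨R, hR⟩ := H98.exists_sylIn 3 h.C
  obtain ⟨k, -, e⟩ := (h.syl_top hR).exists_conj_le (U := zpowers a) le_top (isPGroup_zpowers (k := 1) a3)
  have m : k * a * k⁻¹ ∈ h.C := hR.le (e (H98.conj_mem_map_conj (mem_zpowers a)))
  suffices ∃ l : G, l * x * l⁻¹ = k * a * k⁻¹ from let ⟨l, e⟩ := this; ⟨k⁻¹ * l, by rw [cj_cj, e]; group⟩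
  by_cases hm : k * a * k⁻¹ ∈ zpowers x
  · rcases (mem_zp3 h.x3).mp hm with e | e | e
    exacts [absurd (by simpa using e) a1, ⟨1, by simp [e]⟩, e ▸ h.hn]
  · obtain ⟨c, -, e⟩ := h.conj3 h.yC h.φy h.y3 m (by rw [conj_pow, a3]; simp) hm
    exact ⟨c * h.g, by rw [cj_cj, h.gx, e]⟩

theorem memW' {c : G} (hc : c ∈ h.C) (e1 : c * h.t = h.t * c) (e2 : c * h.t2 = h.t2 * c) :
    ∃ a, (a = 1 ∨ a = h.y ∨ a = h.y * h.y) ∧ h.φ (c * a) ∈ RB := by
  have c1 : Commute (h.φ c) (mo 3) := by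
    rw [← h.φt]; show _ * _ = _ * _; rw [← h.φ_mul hc h.tC, e1, h.φ_mul h.tC hc]
  have c2 : Commute (h.φ c) (h.φ h.t2) := by show _ * _ = _ * _; rw [← h.φ_mul hc h.t2C, e2, h.φ_mul h.t2C hc]
  have c3 : Commute (h.φ c) (mo 4) := by
    rcases h.φt2 with e | e <;> rw [e] at c2
    exacts [c2, by simpa using c1.inv_right.mul_right c2]
  rcases (bb_pass (h.φ_mem c) c1).2.2 c3 with e | e | e
  exacts [⟨1, by simp, by simpa using e⟩, ⟨h.y, by simp, by rwa [h.φ_mul hc h.yC, h.φy]⟩,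
    ⟨h.y * h.y, by simp, by rwa [h.φ_mul hc (mul_mem h.yC h.yC), h.φ_mul h.yC h.yC, h.φy]⟩]

theorem memW3 {c : G} (hc : c ∈ h.C) (e1 : c * h.t = h.t * c) (e2 : c * h.t2 = h.t2 * c) {m : ℕ} (cm : c ^ m = 1)
    (hm : ¬ 3 ∣ m) : c ∈ h.W := by
  obtain ⟨a, ha, e⟩ := h.memW' hc e1 e2
  have k : a ∈ h.C → a ^ 3 = 1 → h.φ a ∈ BB → h.φ a * h.φ a = 1 := fun aC a3 hb => by
    have := pow_mem_RB hb (h.φ_mul hc aC ▸ e) m
    rw [← h.φ_pow hc, cm, h.φ_one, one_mul] at this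
    exact RB_sq (mem_of_pelt_of_pow_mem (p := 3) (k := 1) (by rw [← h.φ_pow aC, pow_one, a3, h.φ_one]) this
      ((Nat.Prime.coprime_iff_not_dvd Nat.prime_three).mpr hm).symm)
  have yy := mul_mem h.yC h.yC
  rcases ha with rfl | rfl | rfl
  · exact h.memW hc (by simpa using e) cm hm
  · have := k h.yC h.y3 (h.φy ▸ bb_mo 0)
    rw [h.φy] at this
    exact absurd (by rw [← r_p3, pow_three, this, mul_one]) (ne_mo 0)
  · have := k yy (zp3 h.y3 (mul_mem (mem_zpowers _) (mem_zpowers _)))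
      (by rw [h.φ_mul h.yC h.yC, h.φy]; exact mul_mem (bb_mo 0) (bb_mo 0))
    rw [← h.φ_mul yy yy, ← mul_assoc, ← pow_three', h.y3, one_mul, h.φy] at this
    exact absurd this (ne_mo 0)

theorem W_dec {w : G} (hw : w ∈ h.W) : ∃ f ∈ h.W, h.y * f = f * h.y ∧ ∃ a,
    (a = 1 ∨ a = h.q ∨ a = h.p ∨ a = h.q * h.p) ∧ w = f * a := by
  obtain ⟨f, a, hf, ha, e⟩ := (rb_pass hw.2.1).1
  obtain ⟨c, h1, h2, rfl⟩ : ∃ c, (c = 1 ∨ c = h.q ∨ c = h.p ∨ c = h.q * h.p) ∧ c ∈ h.W ∧ h.φ c = a := by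
    rcases ha with rfl | rfl | rfl | rfl
    exacts [⟨1, by simp, one_mem _, h.φ_one⟩, ⟨_, by simp, h.qW, h.φq⟩, ⟨_, by simp, h.pW, h.φp⟩,
      ⟨_, by simp, mul_mem h.qW h.pW, by rw [h.φ_mul h.qC h.pC, h.φq, h.φp]⟩]
  have m := mul_mem hw (inv_mem h2)
  exact ⟨_, m, h.yF m.1 (by rwa [h.φ_mul hw.1 (inv_mem h2.1), h.φ_inv h2.1, e, mul_inv_cancel_right]), c, h1, by simp⟩

theorem W_le {S : Subgroup G} (hy : ∀ a ∈ S, h.y * a * h.y⁻¹ ∈ S) (hF : ∀ f ∈ h.W, h.y * f = f * h.y → f ∈ S)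
    {c : G} (hc : c ∈ S) (cW : c ∈ h.W) (e : h.y * c ≠ c * h.y) : h.W ≤ S := by
  have m := H49.conj_mem_of_mem_normalizer h.yN cW
  have m2 := H49.conj_mem_of_mem_normalizer h.yN m
  have k := mul_mem hc (hy c hc)
  have hq : h.q ∈ S := by
    rcases h.liftA (mul_mem cW m) (by
      have : h.y * (h.y * (h.y * c * h.y⁻¹) * h.y⁻¹) * h.y⁻¹ = c := by
        rw [← cj_cj, ← cj_cj, ← pow_three', h.y3]; simp
      rw [cj_mul' h.y c, cj_mul' h.y (h.y * c * h.y⁻¹), this, mul_assoc c, ← mul_assoc (h.y * c * h.y⁻¹), m.2.2,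
        one_mul, mul_assoc c, ← mul_assoc _ _ c, m2.2.2, one_mul, cW.2.2]) with e1 | e1 | e1 | e1
    · exact absurd (by rw [← mul_inv_eq_iff_eq_mul, ← mul_right_inj c, e1, cW.2.2]) e
    · exact e1 ▸ k
    · exact h.yqp ▸ hy _ (h.yp ▸ hy _ (e1 ▸ k))
    · exact h.yqp ▸ hy _ (e1 ▸ k)
  have hp : h.p ∈ S := hy _ hq
  intro w hw
  obtain ⟨f, hf, e, a, rfl | rfl | rfl | rfl, rfl⟩ := h.W_dec hw
  exacts [mul_mem (hF f hf e) (one_mem _), mul_mem (hF f hf e) hq, mul_mem (hF f hf e) hp,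
    mul_mem (hF f hf e) (mul_mem hq hp)]

/-- The elementary abelian group of order nine. -/
def E : Subgroup G := zpowers x ⊔ zpowers h.y

theorem xE : x ∈ h.E := mem_sup_left (mem_zpowers _)
theorem yE : h.y ∈ h.E := mem_sup_right (mem_zpowers _)
theorem E_le {S : Subgroup G} (h1 : x ∈ S) (h2 : h.y ∈ S) : h.E ≤ S := sup_le (zpowers_le.mpr h1) (zpowers_le.mpr h2)

theorem mem_E {e : G} (he : e ∈ h.E) : ∃ a ∈ zpowers x, ∃ c ∈ zpowers h.y, a * c = e :=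
  (mem_sup_right_norm (zpowers_le.mpr (centralizer_le_normalizer _ (by
    rw [H49.centralizer_zpowers']; exact mem_centralizer_singleton_iff.mpr h.xy)))).mp he

theorem E_cent {c : G} (h1 : c * x = x * c) (h2 : h.y * c = c * h.y) {e : G} (he : e ∈ h.E) : e * c = c * e :=
  mem_centralizer_singleton_iff.mp (h.E_le (S := centralizer {c}) (mem_centralizer_singleton_iff.mpr h1.symm)
    (mem_centralizer_singleton_iff.mpr h2) he)

theorem memNE {k : G} (h1 : k * x * k⁻¹ ∈ h.E) (h2 : k * h.y * k⁻¹ ∈ h.E) : k ∈ normalizer (h.E : Set G) :=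
  H49.mem_normalizer_of_conj_mem fun _ ha => h.E_le (S := h.E.comap (MulAut.conj k).toMonoidHom) h1 h2 ha

theorem gE : h.g ∈ normalizer (h.E : Set G) := h.memNE (h.gx ▸ h.yE) (by rw [h.gy]; exact h.xE)
theorem sE : h.s ∈ normalizer (h.E : Set G) :=
  h.memNE (by rw [cj_of_comm (h.memC.mp h.sC)]; exact h.xE) (h.sy ▸ mul_mem h.xE h.yE)
theorem jE : h.j ∈ normalizer (h.E : Set G) :=
  h.memNE (by rw [cj_of_comm (h.memC.mp h.jC)]; exact h.xE) (h.jy ▸ mul_mem h.yE h.yE)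
theorem sgx : h.s * h.g * x * (h.s * h.g)⁻¹ = x * h.y := by rw [cj_cj, h.gx, h.sy]
theorem ssgx : h.s * (h.s * h.g) * x * (h.s * (h.s * h.g))⁻¹ = x * x * h.y := by rw [cj_cj, h.sgx, h.s2y]

theorem lines {e : G} (he : e ∈ h.E) (e1 : e ≠ 1) :
    ∃ k, (k = 1 ∨ k = h.g ∨ k = h.s * h.g ∨ k = h.s * (h.s * h.g)) ∧ (k⁻¹ * e * k = x ∨ k⁻¹ * e * k = x * x) := by
  suffices ∃ k, (k = 1 ∨ k = h.g ∨ k = h.s * h.g ∨ k = h.s * (h.s * h.g)) ∧
      (e = k * x * k⁻¹ ∨ e = k * x * k⁻¹ * (k * x * k⁻¹)) from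
    let ⟨k, hk, e⟩ := this; ⟨k, hk, e.imp (fun e => by rw [e]; group) fun e => by rw [e]; group⟩
  have c : Commute x h.y := h.xy
  obtain ⟨a, ha, b, hb, rfl⟩ := h.mem_E he
  rcases (mem_zp3 h.x3).mp ha with rfl | ha | rfl <;> rcases (mem_zp3 h.y3).mp hb with rfl | rfl | rfl
  · exact absurd (one_mul _) e1
  · exact ⟨h.g, by simp, by simp [h.gx]⟩
  · exact ⟨h.g, by simp, by simp [h.gx]⟩
  · exact ⟨1, by simp, by simp [ha]⟩
  · exact ⟨h.s * h.g, by simp, Or.inl (by rw [ha, h.sgx])⟩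
  · refine ⟨h.s * (h.s * h.g), by simp, Or.inr ?_⟩
    rw [h.ssgx, (c.mul_left c).symm.mul_mul_mul_comm, ← mul_assoc (x * x), ← pow_three', h.x3, one_mul, ha]
  · exact ⟨1, by simp, by simp⟩
  · exact ⟨_, by simp, Or.inl h.ssgx.symm⟩
  · exact ⟨h.s * h.g, by simp, Or.inr (by rw [h.sgx, c.symm.mul_mul_mul_comm])⟩

theorem normE {m : G} (hm : m ∈ h.N) (hE : m ∈ normalizer (h.E : Set G)) : m ∈ normalizer (h.W : Set G) := by
  obtain ⟨a, ha, c, hc, e⟩ := h.mem_E (H49.conj_mem_of_mem_normalizer hE h.yE)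
  have aC := zpowers_le.mpr h.xC ha
  have e2 := h.χ_spec hm h.yC
  rw [← e, h.φ_mul aC (zpowers_le.mpr h.yC hc), (h.φ_ker aC).mpr (Or.inl ha), one_mul, h.φy] at e2
  refine h.normW hm (p3_pass (h.χ_mem hm) ?_).1
  rcases (mem_zp3 h.y3).mp hc with rfl | rfl | rfl
  · exact absurd (by simpa [h.φ_one] using e2.symm) (ne_mo 0)
  · exact Or.inl (by rw [← e2, h.φy])
  · exact Or.inr (by rw [← e2, h.φ_mul h.yC h.yC, h.φy])

theorem tr4 {k : G} (hk : k ∈ normalizer (h.E : Set G)) :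
    ∃ l, (l = 1 ∨ l = h.g ∨ l = h.s * h.g ∨ l = h.s * (h.s * h.g)) ∧ l⁻¹ * k ∈ h.N ∧ cj k h.W = cj l h.W := by
  obtain ⟨l, hl, e⟩ := h.lines (H49.conj_mem_of_mem_normalizer hk h.xE) (by simpa using h.x1)
  have m : l⁻¹ * k ∈ h.N := h.mem_N.mpr (by simpa only [cj_cj, inv_inv] using e)
  have lE : l ∈ normalizer (h.E : Set G) := by
    rcases hl with rfl | rfl | rfl | rfl
    exacts [one_mem _, h.gE, mul_mem h.sE h.gE, mul_mem h.sE (mul_mem h.sE h.gE)]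
  exact ⟨l, hl, m, by rw [← cj_eq_self (h.normE m (mul_mem (inv_mem lE) hk)), ← cj_mul l, mul_inv_cancel_left,
    cj_eq_self (h.normE m (mul_mem (inv_mem lE) hk))]⟩

theorem normF {k f : G} (hk : k ∈ normalizer (h.E : Set G)) (hf : f ∈ h.W) (e : h.y * f = f * h.y) :
    k * f * k⁻¹ ∈ h.W ∧ h.y * (k * f * k⁻¹) = k * f * k⁻¹ * h.y := by
  have : ∀ a ∈ h.E, a * (k * f * k⁻¹) = k * f * k⁻¹ * a := fun a ha => by
    simpa [mul_assoc] using cj_comm' k (h.E_cent (h.memC.mp hf.1) e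
      (H49.conj_mem_of_mem_normalizer (inv_mem hk) ha))
  exact ⟨h.CE_W (h.memC.mpr (this x h.xE).symm) (this _ h.yE) (cj_inv2 _ hf.2.2), this _ h.yE⟩

theorem cjW {k c : G} (hk : k ∈ normalizer (h.E : Set G)) (e : c * (k * x * k⁻¹) = k * x * k⁻¹ * c)
    (hF : ∀ f ∈ h.W, h.y * f = f * h.y → c * f = f * c) {m : ℕ} (cm : c ^ m = 1) (hm : ¬ 3 ∣ m) : c ∈ cj k h.W := by
  have a : ∀ v : G, c * (k * v * k⁻¹) = k * v * k⁻¹ * c → k⁻¹ * c * k * v = v * (k⁻¹ * c * k) := fun v e => by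
    simpa [mul_assoc] using cj_comm' k⁻¹ e
  exact mem_cj.mpr (h.memW3 (h.memC.mpr (a x e)) (a _ (hF _ (h.normF hk h.tW h.yt).1 (h.normF hk h.tW h.yt).2))
    (a _ (hF _ (h.normF hk h.t2W h.yt2).1 (h.normF hk h.t2W h.yt2).2)) (m := m)
    (by simpa [cm] using conj_pow (a := k⁻¹) (b := c) (i := m)) hm)

/-- The large elementary abelian subgroup. -/
structure VC (V : Subgroup G) : Prop extends EA V where
  le : h.W ≤ V
  inf : ∀ v ∈ V, v ∈ h.C → v ∈ h.W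
  gN : h.g ∈ normalizer (V : Set G)
  nW : normalizer (h.W : Set G) ≤ normalizer (V : Set G)
  cent : ∀ c, (∀ w ∈ h.W, c * w = w * c) → ∃ a ∈ zpowers x, c * a ∈ V

theorem xN : x ∈ normalizer (h.W : Set G) := h.normW' h.xC (h.φ_x ▸ one_mem _)

theorem dich : (¬ cj h.g h.W ≤ centralizer (h.W : Set G) ∧ centralizer (h.W : Set G) ≤ h.C) ∨ ∃ V, h.VC V := by
  have xX : x ∈ centralizer (h.W : Set G) := fun w hw => h.memC.mp hw.1
  obtain ⟨Y, hY, Y3, YN, Yc⟩ := burn3 h.x3 xX fun c hc hn => by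
    obtain ⟨h1, h2⟩ := h.centW hn fun w hw => (hc w hw).symm
    refine ⟨h.memC.mp h1, fun k hk => h.ker_three h1 (eq_one_of_ppow (p := 3) (k := k)
      (by rw [← h.φ_pow h1, hk, h.φ_one]) ?_) hk⟩
    exact Nat.Coprime.coprime_dvd_left (orderOf_dvd_of_pow_eq_one (n := 2) (by rw [pow_two, RB_sq h2])) (by norm_num)
  have YN' : normalizer (h.W : Set G) ≤ normalizer (Y : Set G) := (normalizer_le_normalizer_centralizer _).trans YN
  have inv : ∀ c ∈ centralizer (h.W : Set G), c * c = 1 → c ∈ Y := fun c hc cc => by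
    obtain ⟨a, ha, m⟩ := Yc c hc
    have := mul_mem (H49.conj_mem_of_mem_normalizer (YN (le_normalizer (zpowers_le.mpr xX ha))) m) m
    rw [show a * (c * a) * a⁻¹ * (c * a) = a * (c * c) * a by group, cc, mul_one] at this
    have a3 := zp3 h.x3 ha
    have e := eq_one_of_not_dvd Y3 this (zp3 h.x3 (mul_mem ha ha))
    rw [pow_three, e, mul_one] at a3
    simpa [a3] using m
  have WY : h.W ≤ Y := fun w hw => inv w (fun v hv => h.W_comm hv hw) hw.2.2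
  have cw : ∀ k ∈ normalizer (h.E : Set G), Y ⊓ centralizer {k * x * k⁻¹} ≤ cj k h.W := fun k hk c hc =>
    h.cjW hk (mem_centralizer_singleton_iff.mp hc.2) (fun f hf _ => (hY hc.1 f hf).symm) (pow_card_of_mem hc.1) Y3
  have c1 : Y ⊓ centralizer {x} ≤ h.W := by simpa [cj_one] using cw 1 (one_mem _)
  by_cases hc : cj h.g h.W ≤ centralizer (h.W : Set G)
  · right
    let V : Subgroup G := ⨆ k : normalizer (h.E : Set G), cj (k : G) h.W
    have lV : ∀ k ∈ normalizer (h.E : Set G), cj k h.W ≤ V := fun k hk => le_iSup_of_le ⟨k, hk⟩ le_rfl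
    have nV : normalizer (h.E : Set G) ≤ normalizer (V : Set G) := fun k hk =>
      H49.mem_normalizer_of_conj_mem fun v hv => iSup_le (a := V.comap (MulAut.conj k).toMonoidHom)
        (fun l a ha => lV _ (mul_mem hk l.2) (by rw [cj_mul]; exact conj_mem_cj ha)) hv
    have VX : V ≤ centralizer (h.W : Set G) := iSup_le fun k => by
      have sX := normalizer_le_normalizer_centralizer _ h.sN
      obtain ⟨l, rfl | rfl | rfl | rfl, -, e⟩ := h.tr4 k.2 <;> rw [e]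
      exacts [by rw [cj_one]; exact fun w hw v hv => h.W_comm hv hw, hc, cj_mul _ _ h.W ▸ cj_le_of_norm hc sX,
        by rw [cj_mul, cj_mul]; exact cj_le_of_norm (cj_le_of_norm hc sX) sX]
    have Vc : V ≤ centralizer (V : Set G) := iSup_le fun k => le_centralizer_iff.mp (by
      rw [← cj_centralizer, ← cj_eq_self (nV k.2)]; exact cj_mono _ VX)
    have Vs : ∀ v ∈ V, v * v = 1 := fun v hv => by
      refine (iSup_induction _ (C := fun v => v ∈ V ∧ v * v = 1) hv (fun k a ha => ⟨lV _ k.2 ha, ?_⟩)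
        ⟨one_mem _, one_mul _⟩ fun a b ha hb => ⟨mul_mem ha.1 hb.1, ?_⟩).2
      · obtain ⟨w, hw, rfl⟩ := ha; exact cj_inv2 _ hw.2.2
      · rw [mul_assoc, ← mul_assoc b, Vc ha.1 b hb.1, mul_assoc, hb.2, mul_one, ha.2]
    have YV : Y ≤ V := gen9 h.x3 h.y3 h.xy h.x1 h.yn Y3 (YN' h.xN) (YN' h.yN) (nV (le_normalizer h.xE))
      (nV (le_normalizer h.yE)) (c1.trans (by simpa [cj_one] using lV 1 (one_mem _)))
      (h.gx ▸ (cw _ h.gE).trans (lV _ h.gE))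
      (h.sgx ▸ (cw _ (mul_mem h.sE h.gE)).trans (lV _ (mul_mem h.sE h.gE)))
      (h.ssgx ▸ (cw _ (mul_mem h.sE (mul_mem h.sE h.gE))).trans (lV _ (mul_mem h.sE (mul_mem h.sE h.gE))))
    obtain rfl : Y = V := le_antisymm YV fun v hv => inv v (VX hv) (Vs v hv)
    exact ⟨_, ⟨fun a ha b hb => Vc hb a ha, Vs⟩, WY, fun v hv hc => c1 ⟨hv, hc⟩, nV h.gE, YN',
      fun c hc => Yc c fun w hw => (hc w hw).symm⟩
  · refine Or.inl ⟨hc, fun c hc' => ?_⟩
    have c2 : Y ⊓ centralizer {h.y} ≤ h.W := fun c hc' => by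
      have m := mem_cj.mp (cw _ h.gE (h.gx ▸ hc'))
      by_cases e : h.y * (h.g⁻¹ * c * h.g) = h.g⁻¹ * c * h.g * h.y
      · refine c1 ⟨hc'.1, mem_centralizer_singleton_iff.mpr ?_⟩
        simpa [h.gy, mul_assoc] using (cj_comm' h.g e).symm
      · refine absurd (cj_le_iff.mpr (h.W_le (S := cj h.g⁻¹ Y) (fun a ha => ?_) (fun f hf e => ?_)
          (by simpa using conj_mem_cj (g := h.g⁻¹) hc'.1) m e)) fun k => hc (k.trans hY)
        · rw [mem_cj, inv_inv] at ha ⊢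
          rw [cj_mul', cj_mul', ← conj_inv, h.gy]
          exact H49.conj_mem_of_mem_normalizer (YN' h.xN) ha
        · rw [mem_cj, inv_inv]; exact WY (h.normF h.gE hf e).1
    have c3 : ∀ a : G, Y ⊓ centralizer {a} ≤ h.W → Y ⊓ centralizer {h.s * a * h.s⁻¹} ≤ h.W := fun a ha => by
      rw [← cj_cent, ← cj_eq_self (YN' h.sN), ← cj_inf]; exact cj_le_of_norm ha h.sN
    have := gen9 h.x3 h.y3 h.xy h.x1 h.yn Y3 (YN' h.xN) (YN' h.yN) h.xN h.yN c1 c2 (h.sy ▸ c3 _ c2)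
      (h.s2y ▸ c3 _ (h.sy ▸ c3 _ c2))
    obtain ⟨a, ha, m⟩ := Yc c hc'
    exact (mul_mem_cancel_right (zpowers_le.mpr h.xC ha)).mp (this m).1

namespace VC

variable {h} {V : Subgroup G} (v : h.VC V)

/-- element -/
abbrev X : normalizer (V : Set G) := ⟨x, v.nW h.xN⟩
/-- element -/
abbrev Y : normalizer (V : Set G) := ⟨h.y, v.nW h.yN⟩
/-- element -/
abbrev S : normalizer (V : Set G) := ⟨h.s, v.nW h.sN⟩
/-- element -/
abbrev J : normalizer (V : Set G) := ⟨h.j, v.nW h.jN⟩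
/-- element -/
abbrev B : normalizer (V : Set G) := ⟨h.b, v.nW h.bN⟩
/-- element -/
abbrev Γ : normalizer (V : Set G) := ⟨h.g, v.gN⟩
/-- vector -/
abbrev w {a : G} (ha : a ∈ h.W) : v.Mo := v.mk' a (v.le ha)

theorem fixW {a : v.Mo} (e : v.X • a = a) : v.val a ∈ h.W :=
  v.inf _ (v.val_mem a) (h.memC.mpr (mul_inv_eq_iff_eq_mul.mp (v.ext'.mp e)).symm)

theorem md (gt : h.g * h.t * h.g⁻¹ = h.t) (gt2 : h.g * h.t2 * h.g⁻¹ = h.t * h.t2) :
    MD v.X v.Y v.S v.J v.Γ v.B (v.w h.zW) (v.w h.tW) (v.w h.qW) (v.w h.uW) where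
  h2 := v.h2
  x3 := Subtype.ext (by rw [← pow_three']; exact h.x3)
  xy := Subtype.ext h.xy
  gx := Subtype.ext (mul_inv_eq_iff_eq_mul.mp h.gx)
  gy := Subtype.ext (mul_inv_eq_iff_eq_mul.mp h.gy)
  sx := Subtype.ext (h.memC.mp h.sC)
  sy := Subtype.ext (mul_inv_eq_iff_eq_mul.mp h.sy)
  s3 := Subtype.ext (by rw [← pow_three']; exact h.s3)
  jx := Subtype.ext (h.memC.mp h.jC)
  jy := Subtype.ext (mul_inv_eq_iff_eq_mul.mp h.jy)
  bx := Subtype.ext (h.memC.mp h.bC)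
  bb := Subtype.ext h.bb
  jb := Subtype.ext h.jb
  bc := Subtype.ext h.bb2
  b3 := Subtype.ext h.b3
  xz := v.ext'.mpr (cj_of_comm (h.zc h.xC).symm)
  yz := v.ext'.mpr (cj_of_comm (h.zc h.yC).symm)
  bz := v.ext'.mpr (cj_of_comm (h.zc h.bC).symm)
  xt := v.ext'.mpr (cj_of_comm (h.memC.mp h.tC).symm)
  yt := v.ext'.mpr (cj_of_comm h.yt)
  t3 := v.ext'.mpr h.t3
  t0 := fun e => h.t1 (v.ext'.mp e)
  xq := v.ext'.mpr (cj_of_comm (h.memC.mp h.qC).symm)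
  q3 := v.ext'.mpr h.q3
  q0 := fun e => h.q1 (v.ext'.mp e)
  sq := v.ext'.mpr (cj_of_comm h.sq)
  bt := v.ext'.mpr (cj_of_comm h.bt)
  bq := v.ext'.mpr (cj_of_comm h.bq)
  bp := v.ext'.mpr h.bp
  bt2 := v.ext'.mpr h.bt2
  gt := v.ext'.mpr gt
  gt2 := v.ext'.mpr gt2
  hA := fun a e1 e2 => by simp only [v.ext']; exact h.liftA (v.fixW e1) (v.ext'.mp e2)
  hF := fun a e1 e2 => by
    obtain ⟨w, hw, e⟩ := h.liftF' (v.fixW e1) (mul_inv_eq_iff_eq_mul.mp (v.ext'.mp e2))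
    have m : w ∈ h.W := by
      rcases hw with rfl | rfl | rfl | rfl
      exacts [one_mem _, h.tW, h.t2W, mul_mem h.tW h.t2W]
    exact ⟨v.w m, by simp only [v.ext']; exact hw, by simp only [v.ext']; exact e⟩

end VC

theorem not_vc (h : NF x 1) {V : Subgroup G} (v : h.VC V) : False := by
  obtain ⟨γ, h1, h2⟩ := (v.md h.g_zero.1 h.g_zero.2).zero (v.ext'.mpr (show h.u = h.t by simpa using h.u_cases))
  obtain ⟨m, hm⟩ := h1 (orderOf γ) (by rw [pow_orderOf_eq_one, one_smul])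
  have c3 : (γ ^ m) ^ 3 = 1 := by rw [← pow_mul, mul_comm, ← hm, pow_orderOf_eq_one]
  have c1 : γ ^ m ≠ 1 := fun e => by
    have := Nat.le_of_dvd (by have := orderOf_pos γ; omega) (orderOf_dvd_of_pow_eq_one e)
    have := orderOf_pos γ; omega
  obtain ⟨k, e⟩ := h.all3 (a := (γ ^ m : normalizer (V : Set G))) (congrArg Subtype.val c3)
    fun e => c1 (Subtype.ext e)
  have l : Nat.card (fixS' v.Mo (γ * γ)) ≤ Nat.card ↥(V ⊓ centralizer {k * x * k⁻¹}) :=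
    Nat.card_le_card_of_injective (fun a => ⟨v.val a, v.val_mem a, by
      have : γ ^ m • (a : v.Mo) = a := by
        rw [show γ ^ m = (γ * γ) ^ (2 * m) by
          rw [← pow_two, ← pow_mul, show 2 * (2 * m) = m * 3 + m by ring, pow_add, pow_mul, c3, one_mul]]
        exact MulAction.mem_stabilizer_iff.mp (pow_mem (MulAction.mem_stabilizer_iff.mpr a.2) _)
      rw [e]
      exact mem_centralizer_singleton_iff.mpr (mul_inv_eq_iff_eq_mul.mp (v.ext'.mp this)).symm⟩)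
      fun a b e => Subtype.ext (v.ext'.mpr (Subtype.mk.inj e))
  have := (h.cj k).card_im (E := V ⊓ centralizer {k * x * k⁻¹}) (F := ⊥) inf_le_right fun a ha => ⟨fun e => by
    simpa using (h.cj k).ker_two ha.2 e (k := 1) (by rw [pow_one, pow_two, v.sq a ha.1]), by
    rintro rfl; exact (h.cj k).φ_one⟩
  have l2 := g22_elab ((h.cj k).im_le (V ⊓ centralizer {k * x * k⁻¹})) fun a0 ha0 => by
    obtain ⟨a, ha, hc, rfl⟩ := (h.cj k).mem_im.mp ha0
    rw [← (h.cj k).φ_mul hc hc, v.sq a ha.1, (h.cj k).φ_one]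
  rw [inf_bot_eq, card_bot] at this
  omega

theorem N_le {K : Subgroup G} [K.Normal] (hK : h.C ≤ K) : h.N ≤ K := fun n hn => by
  have m : h.g * h.j * h.g⁻¹ ∈ K := Normal.conj_mem inferInstance _ (hK h.jC) _
  rcases h.mem_N.mp hn with e | e
  · exact hK (h.memC.mpr (mul_inv_eq_iff_eq_mul.mp e))
  · refine (mul_mem_cancel_left (inv_mem m)).mp (hK (h.memC.mpr (mul_inv_eq_iff_eq_mul.mp ?_)))
    rw [cj_cj, e, ← h.inv_x]; group

theorem not_small (h : NF x 1) (hW : centralizer (h.W : Set G) ≤ h.C) : False := by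
  have inj : ∀ {R : Subgroup G}, R ≤ h.N → IsPGroup 2 R → ∀ a ∈ R, ∀ b ∈ R, h.χ a = h.χ b → a = b :=
    fun {R} hR h2 a ha b hb e => by
      have m := mul_mem ha (inv_mem hb)
      obtain ⟨k, hk⟩ := isPGroup_iff.mp h2 _ m
      have e1 : h.χ (a * b⁻¹) = 1 := by rw [h.χ_mul (hR ha) (hR (inv_mem hb)), h.χ_inv (hR hb), e, mul_inv_cancel]
      have c := h.memC_of_χ (hR m) (e1 ▸ one_mem _)
      simpa [mul_inv_eq_one] using h.ker_two c (h.χ_C c ▸ e1) hk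
  obtain ⟨T, hT, T2, T3, T4⟩ : ∃ T ≤ h.N, IsPGroup 2 T ∧ (∀ a ∈ T, h.χ a ∈ PD) ∧ ∀ k ∈ PD, ∃ a ∈ T, h.χ a = k := by
    obtain ⟨T, hT⟩ := exists_isSylowIn 2 (PD.comap h.ψ)
    have e := (hT.map h.ψ).eq_of_isPGroup ((IsPGroup.of_card (n := 8) card_PD).to_le (map_comap_le _ _))
    refine ⟨T.map h.N.subtype, map_subtype_le _, hT.isPGroup.map _, ?_, fun k hk => ?_⟩
    · rintro _ ⟨a, ha, rfl⟩
      exact (h.χ_eq a.2).symm ▸ hT.le ha
    · obtain ⟨n, hn⟩ := h.hn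
      obtain ⟨m, rfl⟩ := h.ψ_surj hn (PD_le_BB hk).1
      obtain ⟨a, ha, e⟩ : h.ψ m ∈ T.map h.ψ := e ▸ mem_map_of_mem _ hk
      exact ⟨a, mem_map_of_mem h.N.subtype ha, (h.χ_eq a.2).trans e⟩
  have cardle : ∀ R ≤ h.N, IsPGroup 2 R → Nat.card R ≤ 256 := fun R hR h2 => by
    let f : R →* M24 := h.ψ.comp (inclusion hR)
    have f1 : Function.Injective f := fun a b e => Subtype.ext (inj hR h2 a a.2 b b.2 (by
      rw [h.χ_eq (hR a.2), h.χ_eq (hR b.2)]; exact e))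
    rw [Nat.card_congr (f.ofInjective f1).toEquiv]
    exact Nat.le_of_dvd (by norm_num) (card_dvd_of_pgroup (H := GD2) (by rintro _ ⟨a, rfl⟩; exact h.ψ_mem _)
      (h2.of_surjective _ f.rangeRestrict_surjective) (m := 3465) card_GD2 (by norm_num))
  have cT : 256 ≤ Nat.card T := by
    rw [← card_PD]
    exact Nat.card_le_card_of_surjective (fun a : T => (⟨h.χ a, T3 a a.2⟩ : PD)) fun k =>
      let ⟨a, ha, e⟩ := T4 k k.2; ⟨⟨a, ha⟩, Subtype.ext e⟩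
  have memT : ∀ a ∈ h.C, a * a = 1 → h.φ a ∈ PD → a ∈ T := fun a ha aa e => by
    obtain ⟨c, hc, e1⟩ := T4 _ e
    obtain ⟨k, hk⟩ := isPGroup_iff.mp T2 c hc
    have cC := h.memC_of_χ (hT hc) (e1 ▸ h.φ_mem a)
    have := h.eq2 ha cC (by rw [← e1, h.χ_C cC]) (k := k + 1) (by rw [pow_succ', pow_mul, pow_two, aa, one_pow])
      (by rw [pow_succ, pow_mul, hk, one_pow])
    rwa [show a = c by simpa using this]
  obtain ⟨m4, m6, m2, m10⟩ := mem_PD
  have m3 : mo 3 ∈ PD := r_t ▸ mul_mem (mul_mem (mul_mem m4 m2) m4) m2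
  have jT := memT _ h.jC h.jj (h.φj ▸ m2)
  have b2T := memT _ h.b2C h.b2b2 (h.φb2 ▸ m6)
  have bT := memT _ h.bC h.bb (h.φb ▸ r_b ▸ mul_mem (mul_mem (mul_mem m6 m2) m6) m2)
  have tT := memT _ h.tC h.tt (h.φt ▸ m3)
  have t2T := memT _ h.t2C h.t2t2 (by rcases h.φt2 with e | e <;> rw [e]; exacts [m4, mul_mem m3 m4])
  have hu : h.u = h.t := by simpa using h.u_cases
  have cls : ∀ a ∈ T, (clsT PD (h.χ a)).ncard = (clsT T a).ncard := fun a ha => by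
    rw [← Set.InjOn.ncard_image (s := clsT T a) (f := h.χ) (by
      rintro _ ⟨c, hc, rfl⟩ _ ⟨d, hd, rfl⟩
      exact inj hT T2 _ (mul_mem (mul_mem hc ha) (inv_mem hc)) _ (mul_mem (mul_mem hd ha) (inv_mem hd)))]
    congr 1; ext k; constructor
    · rintro ⟨c, hc, rfl⟩
      obtain ⟨d, hd, rfl⟩ := T4 c hc
      exact ⟨_, ⟨d, hd, rfl⟩, h.χ_conj (hT hd) (hT ha)⟩
    · rintro ⟨_, ⟨c, hc, rfl⟩, rfl⟩
      exact ⟨_, T3 c hc, (h.χ_conj (hT hc) (hT ha)).symm⟩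
  have c5 : 5 ≤ (clsT T h.t2).ncard := by
    rw [← cls _ t2T, h.χ_C h.t2C]
    refine le_ncard_cls.trans (Set.ncard_le_ncard ?_ (Set.toFinite _))
    rcases h.φt2 with e | e <;> rw [e]
    rintro _ ⟨c, hc, rfl⟩
    refine ⟨c * mo 2, mul_mem hc m2, ?_⟩
    have := congrArg h.φ h.jt2
    rw [h.φ_conj h.jC h.t2C, h.φ_mul h.tC h.t2C, e, h.φj, h.φt, ← mul_assoc (mo 3), sq_mo 3, one_mul] at this
    rw [cj_cj, this]
  have TW : T ≤ normalizer (h.W : Set G) := fun a ha => h.normW (hT ha) (PD_le_BB (T3 a ha))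
  have NT : normalizer (T : Set G) ≤ h.N := fun n hn => by
    have cn : ∀ a ∈ T, n * a * n⁻¹ ∈ T := fun a => H49.conj_mem_of_mem_normalizer hn
    have cn' : ∀ a ∈ T, n⁻¹ * a * n ∈ T := fun a ha => by simpa using H49.conj_mem_of_mem_normalizer (inv_mem hn) ha
    have wC : n * h.t2 * n⁻¹ ∈ h.C := h.memC_of_χ (hT (cn _ t2T)) (by
      by_contra hne
      have m := hT (cn _ t2T)
      have := ncard_cls_le (T3 _ (cn _ t2T)) hne (by
        rw [← h.χ_mul m m, cj_inv2 _ h.t2t2, h.χ_C (one_mem _), h.φ_one]) fun c0 hc0 => by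
        obtain ⟨c, hc, rfl⟩ := T4 c0 hc0
        have m2 := mul_mem (mul_mem (hT hc) m) (inv_mem (hT hc))
        rw [← h.χ_conj (hT hc) m, ← h.χ_mul m m2, ← h.χ_mul m2 m]
        congr 1
        simpa [mul_assoc] using cj_comm' n (h.W_comm h.t2W (H49.conj_mem_of_mem_normalizer (TW (cn' c hc)) h.t2W))
      rw [cls _ (cn _ t2T)] at this
      have l : (clsT T h.t2).ncard ≤ (clsT T (n * h.t2 * n⁻¹)).ncard :=
        Set.ncard_le_ncard_of_injOn (fun a => n * a * n⁻¹) (by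
          rintro _ ⟨c, hc, rfl⟩; exact ⟨_, cn c hc, by group⟩) (fun a _ b _ e => by simpa using e) (Set.toFinite _)
      omega)
    have k : ∀ c ∈ T, c * h.t2 * c⁻¹ ∈ h.C.comap (MulAut.conj n).toMonoidHom := fun c hc => by
      have := h.conjC (hT (cn c hc)) wC
      rwa [show n * c * n⁻¹ * (n * h.t2 * n⁻¹) * (n * c * n⁻¹)⁻¹ = n * (c * h.t2 * c⁻¹) * n⁻¹ by group] at this
    have k0 : h.t2 ∈ h.C.comap (MulAut.conj n).toMonoidHom := wC
    have k1 := (mul_mem_cancel_right k0).mp (h.jt2 ▸ k _ jT)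
    have k2 := (mul_mem_cancel_left k0).mp ((mul_mem_cancel_right k1).mp (hu ▸ h.bt2 ▸ k _ bT))
    have k3 := (mul_mem_cancel_left k0).mp ((mul_mem_cancel_right k1).mp (hu ▸ h.b2t2 ▸ k _ b2T))
    have k4 : ∀ w ∈ h.W, n⁻¹ * x * n * w = w * (n⁻¹ * x * n) := fun w hw => by
      have : w ∈ h.C.comap (MulAut.conj n).toMonoidHom := by
        obtain ⟨f, hf, e, a, ha, rfl⟩ := h.W_dec hw
        obtain ⟨c, hc, e⟩ := h.liftF' hf e
        obtain rfl : f = c := by simpa using e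
        refine mul_mem ?_ ?_
        · rcases hc with rfl | rfl | rfl | rfl; exacts [one_mem _, k1, k0, mul_mem k1 k0]
        · rcases ha with rfl | rfl | rfl | rfl; exacts [one_mem _, k2, k3, mul_mem k2 k3]
      simpa [mul_assoc] using (cj_comm' n⁻¹ (h.memC.mp this)).symm
    obtain ⟨a1, a2⟩ := h.centW (h.C_le_N (hW fun w hw => (k4 w hw).symm)) k4
    have x3 : (n⁻¹ * x * n) ^ 3 ^ 1 = 1 := by simpa using (h.cj n⁻¹).x3
    have := h.ker_three a1 (by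
      have := h.φ_pow a1 (3 ^ 1)
      rwa [x3, h.φ_one, pow_one, pow_three, RB_sq a2, mul_one, eq_comm] at this) x3
    refine inv_mem_iff.mp (h.mem_N.mpr ?_)
    rw [inv_inv]
    exact ((mem_zp3 h.x3).mp this).resolve_left (by simpa [mul_assoc, inv_mul_eq_one] using h.x1)
  have hS : IsSylowIn 2 T ⊤ := syl_of_norm le_top T2 fun P _ hp hle hn =>
    (eq_of_le_of_card_ge hle ((cardle P (hn.trans NT) hp).trans cT)).ge
  obtain ⟨s, sT, φs⟩ := T4 _ m10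
  have sC : s ∉ h.C := fun e => o_not (by rw [← φs, h.χ_C e]; exact h.φ_mem s)
  have ss : s * s = 1 := inj hT T2 _ (mul_mem sT sT) _ (one_mem _) (by
    rw [h.χ_mul (hT sT) (hT sT), φs, sq_mo 10, h.χ_C (one_mem _), h.φ_one])
  have out : ∀ a ∈ h.N, ∀ b ∈ h.N, a ∉ h.C → b ∉ h.C → a * b ∈ h.C := fun a ha b hb h1 h2 =>
    h.memC_of_χ (mul_mem ha hb) (h.χ_mul ha hb ▸ mul_mem_G22 (h.χ_mem ha) (h.χ_mem hb)
      (fun e => h1 (h.memC_of_χ ha e)) fun e => h2 (h.memC_of_χ hb e))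
  have tc : ∀ a ∈ T, a * h.t = h.t * a := fun a ha => inj hT T2 _ (mul_mem ha tT) _ (mul_mem tT ha) (by
    rw [h.χ_mul (hT ha) (hT tT), h.χ_mul (hT tT) (hT ha), h.χ_C h.tC, h.φt, PD_comm (T3 a ha)])
  obtain ⟨k, e⟩ : ∃ k : G, k * s * k⁻¹ = h.t := by
    by_contra hne
    obtain ⟨K, hK, i2, sK⟩ := H87.thompson_transfer_involution (H := T) (M := T ⊓ h.C) (x := s) (by
      have := hS.not_dvd_relIndex
      rwa [relIndex_top_right, ← even_iff_two_dvd, Nat.not_even_iff_odd] at this) (by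
      rw [inf_relIndex_left, relIndex, index_eq_two_iff]
      refine ⟨⟨s, sT⟩, fun b => ?_⟩
      simp only [mem_subgroupOf, Subgroup.coe_mul]
      by_cases hb : (b : G) ∈ h.C
      · exact Or.inr ⟨hb, fun e => sC ((mul_mem_cancel_left hb).mp e)⟩
      · exact Or.inl ⟨out _ (hT b.2) _ (hT sT) hb sC, hb⟩) (by rwa [pow_two]) fun g hg => hne (by
      have o2 : ∀ a ∈ h.C, a ≠ 1 → a * a = 1 → orderOf (h.φ a) = 2 := fun a ha h1 h2 =>
        orderOf_eq_prime (by rw [pow_two, ← h.φ_mul ha ha, h2, h.φ_one]) fun e => h1 (by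
          simpa using h.ker_two ha e (k := 1) (by rwa [pow_one, pow_two]))
      obtain ⟨k1, h1, e1⟩ := g22_invol (h.φ_mem _) (o2 _ hg.2 (by
        simpa using fun e : s = 1 => sC (by rw [e]; exact one_mem _)) (cj_inv2 _ ss))
      obtain ⟨k2, h2, e2⟩ := g22_invol (h.φ_mem _) (o2 _ h.tC h.t1 h.tt)
      obtain ⟨m, hm, e3⟩ := h.χ_surj h.hn (mul_mem h2 (inv_mem h1))
      refine ⟨m * g, ?_⟩
      simpa only [cj_cj, mul_one, or_self] using h.eq2' (h.conjC hm hg.2) h.tC (by rw [h.χ_spec hm hg.2, e3, ← e1, ← e2]; group)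
        (cj_inv2 _ (cj_inv2 _ ss)) h.tt)
    refine sK (h.N_le (h.perf.trans (commutator_le.mpr fun a _ b _ => ?_)) (hT sT))
    rw [commutatorElement_def, mul_mem_iff_of_index_two i2, mul_mem_iff_of_index_two i2,
      mul_mem_iff_of_index_two i2, inv_mem_iff, inv_mem_iff]
    tauto
  have tc' : T ≤ centralizer {h.t} := fun a ha => mem_centralizer_singleton_iff.mpr (tc a ha)
  obtain ⟨c, hc, hU⟩ := (hS.mono tc' le_top).exists_conj_le (P := cj k (T ⊓ centralizer {s}))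
    (e ▸ cj_cent k s ▸ cj_mono k inf_le_right) (isPGroup_cj T2.to_inf_left k)
  rw [← cj_mul] at hU
  have e' : c * k * s * (c * k)⁻¹ = h.t := by rw [cj_cj, e, cj_of_comm (mem_centralizer_singleton_iff.mp hc)]
  generalize c * k = l at hU e'
  have cU : Nat.card T ≤ 2 * Nat.card (cj l (T ⊓ centralizer {s})) := by
    rw [card_cj]
    refine card_le_two_mul_of_mul_mem inf_le_left fun a ha b hb h1 h2 => ⟨mul_mem ha hb, ?_⟩
    have key : ∀ a ∈ T, a ∉ T ⊓ centralizer {s} → a * s * a⁻¹ = s * h.t := fun a ha h1 => by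
      have m := mul_mem (mul_mem ha sT) (inv_mem ha)
      rcases PD_o (T3 a ha) with e | e
      · exact absurd ⟨ha, mem_centralizer_singleton_iff.mpr (mul_inv_eq_iff_eq_mul.mp
          (inj hT T2 _ m _ sT (by rw [h.χ_conj (hT ha) (hT sT), φs, e])))⟩ h1
      · exact inj hT T2 _ m _ (mul_mem sT tT) (by
          rw [h.χ_conj (hT ha) (hT sT), φs, e, h.χ_mul (hT sT) (hT tT), φs, h.χ_C h.tC, h.φt])
    refine mem_centralizer_singleton_iff.mpr (mul_inv_eq_iff_eq_mul.mp ?_)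
    rw [cj_cj, key b hb h2, cj_mul', key a ha h1, cj_of_comm (tc a ha), mul_assoc, h.tt, mul_one]
  have sq : ∀ a ∈ T, a * a ∈ cj l (T ⊓ centralizer {s}) := fun a ha => by
    by_cases h1 : a ∈ cj l (T ⊓ centralizer {s})
    exacts [mul_mem h1 h1, mul_mem_of_card_le_two_mul hU cU ha ha h1 h1]
  obtain ⟨w, wT, φw⟩ := T4 _ m4
  have a1 := mul_mem wT b2T
  have a2 := mul_mem b2T jT
  have r : w * h.b2 * (w * h.b2) * (h.b2 * h.j * (h.b2 * h.j)) =
      h.t * (h.b2 * h.j * (h.b2 * h.j)) * (w * h.b2 * (w * h.b2)) :=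
    inj hT T2 _ (mul_mem (mul_mem a1 a1) (mul_mem a2 a2)) _ (mul_mem (mul_mem tT (mul_mem a2 a2)) (mul_mem a1 a1)) (by
      rw [h.χ_mul (hT (mul_mem a1 a1)) (hT (mul_mem a2 a2)), h.χ_mul (hT (mul_mem tT (mul_mem a2 a2)))
        (hT (mul_mem a1 a1)), h.χ_mul (hT tT) (hT (mul_mem a2 a2)), h.χ_mul (hT a1) (hT a1), h.χ_mul (hT a2) (hT a2),
        h.χ_mul (hT wT) (hT b2T), h.χ_mul (hT b2T) (hT jT), φw, h.χ_C h.b2C, h.χ_C h.jC, h.χ_C h.tC, h.φb2,
        h.φj, h.φt, r_sq])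
  obtain ⟨a, ha, e1⟩ := sq _ a1
  obtain ⟨b, hb, e2⟩ := sq _ a2
  rw [← e1, ← e2, ← e'] at r
  have r2 : s = a * b * a⁻¹ * b⁻¹ := by
    have : a * b = s * b * a := (MulAut.conj l).injective (by simp only [map_mul]; exact r)
    rw [this]; group
  have aN := hT ha.1
  have bN := hT hb.1
  refine sC (r2 ▸ ?_)
  by_cases h1 : b ∈ h.C
  · exact mul_mem (h.conjC aN h1) (inv_mem h1)
  · exact out _ (mul_mem (mul_mem aN bN) (inv_mem aN)) _ (inv_mem bN)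
      (fun e => h1 (by simpa [mul_assoc] using h.conjC (inv_mem aN) e)) (by rwa [inv_mem_iff])

theorem not_one (h : NF x 1) : False := h.dich.elim (fun k => h.not_small k.2) fun ⟨_, v⟩ => h.not_vc v

end NF

set_option linter.all false in
theorem eqns_J4G7 : True := by
  first | (have := @_root_.Cfsg.Agent.H83.J4.EA.Mo.eq_def.{0,0}) | (have := @_root_.Cfsg.Agent.H83.J4.EA.Mo.eq_def.{0}) | (have := @_root_.Cfsg.Agent.H83.J4.EA.Mo.eq_def) | skip
  first | (have := @_root_.Cfsg.Agent.H83.J4.EA.Mo.eq_1.{0,0}) | (have := @_root_.Cfsg.Agent.H83.J4.EA.Mo.eq_1.{0}) | (have := @_root_.Cfsg.Agent.H83.J4.EA.Mo.eq_1) | skip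
  first | (have := @_root_.Cfsg.Agent.H83.J4.EA.Mo.eq_2.{0,0}) | (have := @_root_.Cfsg.Agent.H83.J4.EA.Mo.eq_2.{0}) | (have := @_root_.Cfsg.Agent.H83.J4.EA.Mo.eq_2) | skip
  first | (have := @_root_.Cfsg.Agent.H83.J4.EA.Mo.congr_simp.{0,0}) | (have := @_root_.Cfsg.Agent.H83.J4.EA.Mo.congr_simp.{0}) | (have := @_root_.Cfsg.Agent.H83.J4.EA.Mo.congr_simp) | skip
  first | (have := @_root_.Cfsg.Agent.H83.J4.EA.val.eq_def.{0,0}) | (have := @_root_.Cfsg.Agent.H83.J4.EA.val.eq_def.{0}) | (have := @_root_.Cfsg.Agent.H83.J4.EA.val.eq_def) | skip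
  first | (have := @_root_.Cfsg.Agent.H83.J4.EA.val.eq_1.{0,0}) | (have := @_root_.Cfsg.Agent.H83.J4.EA.val.eq_1.{0}) | (have := @_root_.Cfsg.Agent.H83.J4.EA.val.eq_1) | skip
  first | (have := @_root_.Cfsg.Agent.H83.J4.EA.val.eq_2.{0,0}) | (have := @_root_.Cfsg.Agent.H83.J4.EA.val.eq_2.{0}) | (have := @_root_.Cfsg.Agent.H83.J4.EA.val.eq_2) | skip
  first | (have := @_root_.Cfsg.Agent.H83.J4.EA.val.congr_simp.{0,0}) | (have := @_root_.Cfsg.Agent.H83.J4.EA.val.congr_simp.{0}) | (have := @_root_.Cfsg.Agent.H83.J4.EA.val.congr_simp) | skip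
  first | (have := @_root_.Cfsg.Agent.H83.J4.EA.mk'.eq_def.{0,0}) | (have := @_root_.Cfsg.Agent.H83.J4.EA.mk'.eq_def.{0}) | (have := @_root_.Cfsg.Agent.H83.J4.EA.mk'.eq_def) | skip
  first | (have := @_root_.Cfsg.Agent.H83.J4.EA.mk'.eq_1.{0,0}) | (have := @_root_.Cfsg.Agent.H83.J4.EA.mk'.eq_1.{0}) | (have := @_root_.Cfsg.Agent.H83.J4.EA.mk'.eq_1) | skip
  first | (have := @_root_.Cfsg.Agent.H83.J4.EA.mk'.eq_2.{0,0}) | (have := @_root_.Cfsg.Agent.H83.J4.EA.mk'.eq_2.{0}) | (have := @_root_.Cfsg.Agent.H83.J4.EA.mk'.eq_2) | skip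
  first | (have := @_root_.Cfsg.Agent.H83.J4.EA.mk'.congr_simp.{0,0}) | (have := @_root_.Cfsg.Agent.H83.J4.EA.mk'.congr_simp.{0}) | (have := @_root_.Cfsg.Agent.H83.J4.EA.mk'.congr_simp) | skip
  first | (have := @_root_.Cfsg.Agent.H83.J4.NF.VC.w.eq_def.{0,0}) | (have := @_root_.Cfsg.Agent.H83.J4.NF.VC.w.eq_def.{0}) | (have := @_root_.Cfsg.Agent.H83.J4.NF.VC.w.eq_def) | skip
  first | (have := @_root_.Cfsg.Agent.H83.J4.NF.VC.w.eq_1.{0,0}) | (have := @_root_.Cfsg.Agent.H83.J4.NF.VC.w.eq_1.{0}) | (have := @_root_.Cfsg.Agent.H83.J4.NF.VC.w.eq_1) | skip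
  first | (have := @_root_.Cfsg.Agent.H83.J4.NF.VC.w.eq_2.{0,0}) | (have := @_root_.Cfsg.Agent.H83.J4.NF.VC.w.eq_2.{0}) | (have := @_root_.Cfsg.Agent.H83.J4.NF.VC.w.eq_2) | skip
  first | (have := @_root_.Cfsg.Agent.H83.J4.NF.VC.w.congr_simp.{0,0}) | (have := @_root_.Cfsg.Agent.H83.J4.NF.VC.w.congr_simp.{0}) | (have := @_root_.Cfsg.Agent.H83.J4.NF.VC.w.congr_simp) | skip
  trivial

end Cfsg.Agent.H83.J4
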