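import Cfsg.Agent.H83.J4G7
import Cfsg.Agent.H64.G3A

/-!
# The sixfold cover: the large elementary abelian group exists
-/

set_option autoImplicit false

namespace Cfsg.Agent.H83.J4

open H42 Cfsg Subgroup

section general

variable {G : Type*} [Group G] [Finite G]

theorem two_of_fix9 {x y : G} (x3 : x ^ 3 = 1) (y3 : y ^ 3 = 1) (xy : x * y = y * x) (x1 : x ≠ 1)
    (hy : y ∉ zpowers x) {K : Subgroup G} (hK : ¬ 3 ∣ Nat.card K) (nx : x ∈ normalizer (K : Set G))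
    (ny : y ∈ normalizer (K : Set G)) (h1 : IsPGroup 2 ↥(K ⊓ centralizer {x})) (h2 : IsPGroup 2 ↥(K ⊓ centralizer {y}))
    (h3 : IsPGroup 2 ↥(K ⊓ centralizer {x * y})) (h4 : IsPGroup 2 ↥(K ⊓ centralizer {x * x * y})) : IsPGroup 2 K := by
  have e := fix9 x3 y3 xy x1 hy K hK nx ny
  obtain ⟨a, ha⟩ := IsPGroup.iff_card.mp h1
  obtain ⟨b, hb⟩ := IsPGroup.iff_card.mp h2
  obtain ⟨c, hc⟩ := IsPGroup.iff_card.mp h3
  obtain ⟨d, hd⟩ := IsPGroup.iff_card.mp h4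
  rw [ha, hb, hc, hd, ← pow_add, ← pow_add, ← pow_add] at e
  obtain ⟨n, -, hn⟩ := (Nat.dvd_prime_pow Nat.prime_two).mp (Dvd.intro _ e.symm)
  exact IsPGroup.of_card hn

theorem not_three {K : Subgroup G} {x : G} (x3 : x ^ 3 = 1) (nx : x ∈ normalizer (K : Set G))
    (h : ∀ a ∈ K, a * x = x * a → ∀ k, a ^ 3 ^ k = 1 → a = 1) : ¬ 3 ∣ Nat.card K := fun d => by
  haveI : Fact (Nat.Prime 3) := ⟨Nat.prime_three⟩
  have n : zpowers x ⊔ K ≤ normalizer (K : Set G) := sup_le (zpowers_le.mpr nx) le_normalizer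
  obtain ⟨S, hS, hx⟩ := exists_isSylowIn_ge (p := 3) (le_sup_left : zpowers x ≤ zpowers x ⊔ K)
    (isPGroup_zpowers (k := 1) x3)
  have h1 := hS.inf_normal le_sup_right n
  obtain ⟨v, hv, v1, e⟩ := exists_central_mod (W := ⊥) hS.isPGroup h1.isPGroup
    (le_norm_inf le_normalizer (hS.le.trans n)) (normalizer_eq_top (⊥ : Subgroup G) ▸ le_top)
    (normalizer_eq_top (⊥ : Subgroup G) ▸ le_top)
    (bot_lt_iff_ne_bot.mpr (h1.ne_bot d))
  obtain ⟨k, hk⟩ := isPGroup_iff.mp hS.isPGroup v hv.1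
  exact v1 (h v hv.2 (commutatorElement_eq_one_iff_mul_comm.mp (e x (mem_sup_left (hx (mem_zpowers x))))).symm k hk)

end general

namespace NF

variable {G : Type*} [Group G] [Finite G] {x z : G} (h : NF x z)

/-- The fixed points. -/
abbrev F : Subgroup G := h.W ⊓ centralizer {h.y}

theorem mem_F {f : G} : f ∈ h.F ↔ f ∈ h.W ∧ h.y * f = f * h.y := by
  rw [mem_inf, mem_centralizer_singleton_iff, eq_comm]

theorem normF' : normalizer (h.E : Set G) ≤ normalizer (h.F : Set G) := fun _ hk =>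
  H49.mem_normalizer_of_conj_mem fun _ hf => h.mem_F.mpr (h.normF hk (h.mem_F.mp hf).1 (h.mem_F.mp hf).2)

theorem F_le {S : Subgroup G} (h1 : h.t ∈ S) (h2 : h.t2 ∈ S) (h3 : z ∈ S) : h.F ≤ S := fun f hf => by
  obtain ⟨w, hw, e⟩ := h.liftF' (h.mem_F.mp hf).1 (h.mem_F.mp hf).2
  have : w ∈ S := by rcases hw with rfl | rfl | rfl | rfl; exacts [one_mem _, h1, h2, mul_mem h1 h2]
  rcases e with rfl | rfl
  exacts [this, mul_mem this h3]

theorem E_comm {a b : G} (ha : a ∈ h.E) (hb : b ∈ h.E) : a * b = b * a :=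
  h.E_cent (h.E_cent rfl h.xy.symm hb) (h.E_cent h.xy.symm rfl hb).symm ha

theorem E_inv {n : G} (h1 : n * x * n⁻¹ = x * x) (h2 : n * h.y * n⁻¹ = h.y * h.y) {e : G} (he : e ∈ h.E) :
    n * e * n⁻¹ = e⁻¹ := by
  have k : ∀ v : G, v ^ 3 = 1 → n * v * n⁻¹ = v * v → ∀ a ∈ zpowers v, n * a * n⁻¹ = a⁻¹ := fun v v3 e a ha => by
    have : v * v = v⁻¹ := eq_inv_of_mul_eq_one_left (by rw [← pow_three', v3])
    rcases (mem_zp3 v3).mp ha with rfl | rfl | rfl
    exacts [by simp, e.trans this, by rw [cj_mul', e, mul_inv_rev, ← this]]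
  obtain ⟨a, ha, c, hc, rfl⟩ := h.mem_E he
  rw [cj_mul', k x h.x3 h1 a ha, k _ h.y3 h2 c hc, ← mul_inv_rev,
    h.E_comm (zpowers_le.mpr h.yE hc) (zpowers_le.mpr h.xE ha)]

theorem xq : x * (h.g * h.q * h.g⁻¹) * x⁻¹ = h.g * h.p * h.g⁻¹ := by
  rw [← h.yq, cj_mul' h.g, cj_mul' h.g, ← conj_inv, h.gy]

theorem xp : x * (h.g * h.p * h.g⁻¹) * x⁻¹ = h.g * h.q * h.g⁻¹ * (h.g * h.p * h.g⁻¹) := by
  rw [← cj_mul', ← h.yp, cj_mul' h.g, cj_mul' h.g, ← conj_inv, h.gy]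

theorem eq_one_of_q {a : G} (ha : a ∈ zpowers x) (e : a * (h.g * h.q * h.g⁻¹) = h.g * h.q * h.g⁻¹ * a) : a = 1 := by
  have k : x * (h.g * h.q * h.g⁻¹) = h.g * h.q * h.g⁻¹ * x → False := fun e => by
    have e1 := h.xq
    have e2 := h.xp
    rw [cj_of_comm e] at e1
    rw [← e1, cj_of_comm e, cj_inv2 _ h.qq] at e2
    exact h.q1 (by simpa using e2)
  rcases (mem_zp3 h.x3).mp ha with rfl | rfl | rfl
  · rfl
  · exact (k e).elim
  · exact (k (mem_centralizer_singleton_iff.mp (cent_sq h.x3 ▸ mem_centralizer_singleton_iff.mpr e.symm)).symm).elim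

variable (g1 : h.g * z * h.g⁻¹ ≠ z)
include g1

theorem z1 : z ≠ 1 := fun e => g1 (by simp [e])

theorem pm {n : G} (hK : n ∈ centralizer (h.F : Set G)) (hE : n ∈ normalizer (h.E : Set G)) :
    (∀ s ∈ h.E, n * s * n⁻¹ = s) ∨ ∀ s ∈ h.E, n * s * n⁻¹ = s⁻¹ := by
  have sz := cj_of_comm (h.zc h.sC).symm
  have zF : z ∈ h.F := h.mem_F.mpr ⟨h.zW, (h.zc h.yC).symm⟩
  have A : ∀ n ∈ centralizer (h.F : Set G), n ∈ normalizer (h.E : Set G) → n ∈ h.N := fun n hK hE => by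
    obtain ⟨l, hl, m, -⟩ := h.tr4 hE
    have e : l * z * l⁻¹ = z := by
      conv_lhs => rw [← cj_of_comm (h.N_z m), cj_cj, cj_of_comm (hK z zF).symm]
      group
    rcases hl with rfl | rfl | rfl | rfl
    · simpa using m
    · exact absurd e g1
    · rw [cj_cj, (h.g_one g1).1, cj_mul', sz] at e
      exact absurd (by simpa using e) h.t1
    · rw [cj_cj, cj_cj, (h.g_one g1).1, cj_mul' h.s h.t, sz, cj_mul' _ _ z, sz] at e
      exact absurd (by simpa using e) h.t1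
  have B : ∀ k ∈ normalizer (h.E : Set G), n * (k * x * k⁻¹) * n⁻¹ = k * x * k⁻¹ ∨
      n * (k * x * k⁻¹) * n⁻¹ = k * x * k⁻¹ * (k * x * k⁻¹) := fun k hk => by
    refine (h.mem_N.mp (A (k⁻¹ * n * k) (conj_mem' (le_norm_cent h.normF') hk hK)
      (mul_mem (mul_mem (inv_mem hk) hE) hk))).imp (fun e => ?_) fun e => ?_
    · conv_rhs => rw [← e]
      group
    · rw [← cj_mul', ← e]; group
  have b2 := B _ h.gE
  have b3 := B _ (mul_mem h.sE h.gE)
  rw [h.gx] at b2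
  rw [h.sgx, cj_mul', (show Commute h.y x from h.xy.symm).mul_mul_mul_comm] at b3
  have y1 : h.y ≠ 1 := fun e => h.yn (e ▸ one_mem _)
  rcases h.mem_N.mp (A n hK hE) with e | e <;> rcases b2 with e' | e'
  · exact Or.inl fun s hs => cj_of_comm (h.E_cent (mul_inv_eq_iff_eq_mul.mp e) (mul_inv_eq_iff_eq_mul.mp e').symm hs).symm
  · rw [e, e'] at b3; simp [y1, h.x1] at b3
  · rw [e, e'] at b3; simp [y1, h.x1] at b3
  · exact Or.inr fun s hs => h.E_inv e e' hs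

theorem comm_Wy : cj h.g h.W ≤ centralizer (h.W : Set G) := by
  haveI : Fact (Nat.Prime 3) := ⟨Nat.prime_three⟩
  obtain ⟨gz, gt, gt2⟩ := h.g_one g1
  have EK : h.E ≤ centralizer (h.F : Set G) :=
    h.E_le (fun f hf => h.memC.mp hf.1.1) fun f hf => (h.mem_F.mp hf).2.symm
  have nK : normalizer (h.E : Set G) ≤ normalizer (centralizer (h.F : Set G) : Set G) := le_norm_cent h.normF'
  have e3 : ∀ e ∈ h.E, e ^ 3 = 1 := fun e he => by
    obtain ⟨a, ha, c, hc, rfl⟩ := h.mem_E he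
    rw [(show Commute a c from h.E_comm (zpowers_le.mpr h.xE ha) (zpowers_le.mpr h.yE hc)).mul_pow, zp3 h.x3 ha,
      zp3 h.y3 hc, one_mul]
  have hS : IsSylowIn 3 h.E (centralizer (h.F : Set G)) := syl_of_norm EK (isPGroup_iff.mpr fun e he => ⟨1, e3 e he⟩)
    fun P hP hp _ hn c hc => by
      obtain ⟨k, hk⟩ := isPGroup_iff.mp hp c hc
      have : c ∈ centralizer (h.E : Set G) := mem_of_pelt_of_pow_mem (n := 2) hk (fun s hs => by
        rcases h.pm g1 (hP hc) (hn hc) with e | e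
        · exact (show Commute s c from (mul_inv_eq_iff_eq_mul.mp (e s hs)).symm).pow_right 2
        · rw [pow_two, eq_comm, ← mul_inv_eq_iff_eq_mul, cj_cj, e s hs, e _ (inv_mem hs), inv_inv]) (by norm_num)
      have cC := h.memC.mpr (this x h.xE).symm
      obtain ⟨a, ha, f⟩ := h.CE cC (this _ h.yE)
      have aE : a ∈ h.E := by rcases ha with rfl | rfl | rfl; exacts [one_mem _, h.yE, mul_mem h.yE h.yE]
      have m := mul_mem cC (h.E_le h.xC h.yC aE)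
      have p3 : (c * a) ^ 3 ^ (k + 1) = 1 := by
        rw [(show Commute c a from (this a aE).symm).mul_pow, pow_succ, pow_mul, hk, mul_comm, pow_mul, e3 a aE]; simp
      exact (mul_mem_cancel_right aE).mp (zpowers_le.mpr h.xE (h.ker_three m (eq_one_of_ppow (p := 3) (k := k + 1)
        (by rw [← h.φ_pow m, p3, h.φ_one]) (Nat.Coprime.coprime_dvd_left (orderOf_dvd_of_pow_eq_one (n := 2)
          (by rw [pow_two, RB_sq f.rb])) (by norm_num))) p3))
  have jx := cj_of_comm (h.memC.mp h.jC)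
  obtain ⟨O, hO, O3, ON, Od⟩ := H64.K3.st ⟨hS.le, hS.isPGroup, hS.not_dvd_relIndex⟩ (fun a ha b hb => h.E_comm ha hb)
    (fun hc => by
      obtain ⟨⟨c, hc⟩, e⟩ := hc.exists_generator
      obtain ⟨i, e1⟩ := e ⟨x, h.xE⟩
      obtain ⟨k, e2⟩ := e ⟨h.y, h.yE⟩
      have m1 : x ∈ zpowers c := ⟨i, congrArg Subtype.val e1⟩
      have : zpowers x = zpowers c := eq_of_le_of_card_ge (zpowers_le.mpr m1) (by
        rw [Nat.card_zpowers, Nat.card_zpowers, h.ox]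
        exact Nat.le_of_dvd (by norm_num) (orderOf_dvd_of_pow_eq_one (e3 c hc)))
      exact h.yn (this ▸ ⟨k, congrArg Subtype.val e2⟩)) (fun n hn hE => h.pm g1 hn hE)
    (τ := h.j * (h.g * h.j * h.g⁻¹)) (by
      have k : ∀ a c : G, h.g * c * h.g⁻¹ = a → h.j * (h.g * (h.j * c * h.j⁻¹) * h.g⁻¹) * h.j⁻¹ = a →
          a ∈ centralizer {h.j * (h.g * h.j * h.g⁻¹)} := fun a c e1 e2 => mem_centralizer_singleton_iff.mpr (by
        rw [eq_comm, ← mul_inv_eq_iff_eq_mul]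
        conv_lhs => rw [← e1]
        rw [← e2]; group)
      have jz := cj_of_comm (h.zc h.jC).symm
      have jt := cj_of_comm h.jt
      have tl : ∀ v, h.t * (h.t * v) = v := fun v => by rw [← mul_assoc, h.tt, one_mul]
      intro f hf
      exact mem_centralizer_singleton_iff.mp (h.F_le (k _ _ gt (by rw [jt, gt, jt]))
        (k _ (h.t * h.t2) (by rw [cj_mul', gt, gt2, tl]) (by
          rw [cj_mul' h.j h.t, jt, h.jt2, tl, gt2, cj_mul', jt, h.jt2, tl]))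
        (k _ (h.t * z) (by rw [cj_mul', gt, gz, tl]) (by rw [cj_mul' h.j h.t, jt, jz, cj_mul' h.g, gt, gz, tl, jz])) hf))
    fun s hs => h.E_inv (by rw [cj_cj, h.inv_x, cj_mul', jx]) (by
      rw [cj_cj, show h.g * h.j * h.g⁻¹ * h.y * (h.g * h.j * h.g⁻¹)⁻¹ = h.y by
        rw [← h.gx]; exact cj_of_comm (cj_comm' _ (h.memC.mp h.jC)), h.jy]) hs
  have O3' : ¬ 3 ∣ Nat.card O := fun d => by
    obtain ⟨a, ha⟩ := exists_prime_orderOf_dvd_card' 3 d
    have := O3 a a.2 (congrArg Subtype.val (ha ▸ pow_orderOf_eq_one a))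
    rw [show a = 1 from Subtype.ext this, orderOf_one] at ha; omega
  have nO : normalizer (h.E : Set G) ≤ normalizer (O : Set G) := fun k hk => H49.mem_normalizer_of_conj_mem (ON k (nK hk))
  have qO : h.q ∈ O := by
    obtain ⟨o, ho, m⟩ := Od h.p fun f hf => h.W_comm hf.1 h.pW
    rcases h.pm g1 (mul_mem (inv_mem (hO ho)) fun f hf => h.W_comm hf.1 h.pW) m with e | e
    · have := mul_mem (ON _ (nK (le_normalizer h.yE)) o ho) (inv_mem ho)
      rwa [show h.y * o * h.y⁻¹ * o⁻¹ = h.y * h.p * (o⁻¹ * h.p)⁻¹ * h.y⁻¹ * o⁻¹ by group, mul_assoc _ _ h.y⁻¹,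
        ← e _ (inv_mem h.yE), show h.y * h.p * ((o⁻¹ * h.p)⁻¹ * (o⁻¹ * h.p * h.y⁻¹ * (o⁻¹ * h.p)⁻¹)) * o⁻¹ =
          h.y * h.p * h.y⁻¹ * h.p⁻¹ by group, h.yp, mul_inv_cancel_right] at this
    · have e1 := e x h.xE
      rw [cj_cj, cj_of_comm (h.memC.mp h.pC)] at e1
      have := O3 _ (mul_mem (ON _ (nK (le_normalizer h.xE)) o ho) (inv_mem ho)) (by
        rw [← e1, show x * o * (o⁻¹ * x * o⁻¹⁻¹) * o⁻¹ = x * x by group]
        exact zp3 h.x3 (mul_mem (mem_zpowers x) (mem_zpowers x)))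
      rw [← e1, show x * o * (o⁻¹ * x * o⁻¹⁻¹) * o⁻¹ = x * x by group] at this
      exact absurd (by rw [← h.x3, pow_three, this, mul_one]) h.x1
  have W2 : IsPGroup 2 h.W := isPGroup_of_sq fun w hw => hw.2.2
  have cw : ∀ Y ≤ centralizer (h.F : Set G), ¬ 3 ∣ Nat.card Y → ∀ k ∈ normalizer (h.E : Set G),
      Y ⊓ centralizer {k * x * k⁻¹} ≤ cj k h.W := fun Y hY Y3 k hk c hc =>
    h.cjW hk (mem_centralizer_singleton_iff.mp hc.2) (fun f hf e => (hY hc.1 f (h.mem_F.mpr ⟨hf, e⟩)).symm)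
      (pow_card_of_mem hc.1) Y3
  have sg := mul_mem h.sE h.gE
  have ssg := mul_mem h.sE sg
  have O2 : IsPGroup 2 O := two_of_fix9 h.x3 h.y3 h.xy h.x1 h.yn O3' (nO (le_normalizer h.xE)) (nO (le_normalizer h.yE))
    (W2.to_le (by simpa [cj_one] using cw O hO O3' 1 (one_mem _))) (h.gx ▸ (isPGroup_cj W2 _).to_le (cw O hO O3' _ h.gE))
    (h.sgx ▸ (isPGroup_cj W2 _).to_le (cw O hO O3' _ sg)) (h.ssgx ▸ (isPGroup_cj W2 _).to_le (cw O hO O3' _ ssg))
  have FK : h.F ≤ centralizer (h.F : Set G) := fun a ha f hf => h.W_comm hf.1 ha.1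
  have OK : h.F ⊔ O ≤ centralizer (h.F : Set G) := sup_le FK hO
  have P2 : IsPGroup 2 ↥(h.F ⊔ O) := isPGroup_sup W2.to_inf_left O2 (le_norm_of_le_cent (le_centralizer_iff.mp hO))
  have nF := le_norm_of_le_cent OK
  have nZ : normalizer (h.E : Set G) ≤ normalizer (centMod _ (h.F ⊔ O) _ nF : Set G) :=
    le_norm_centMod (le_norm_sup h.normF' nO) (le_norm_sup h.normF' nO) h.normF'
  have Z3 : ¬ 3 ∣ Nat.card (centMod _ (h.F ⊔ O) _ nF) := fun d => by
    obtain ⟨n, e⟩ := IsPGroup.iff_card.mp (P2.to_le (centMod_le (hN := nF) (A := h.F ⊔ O)))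
    have := Nat.prime_three.dvd_of_dvd_pow (e ▸ d); omega
  have WZ : h.W ≤ centMod _ (h.F ⊔ O) _ nF := by
    by_contra hne
    have c1 : centMod _ (h.F ⊔ O) _ nF ⊓ centralizer {x} ≤ h.F := fun c hc => by
      have cW : c ∈ h.W := by simpa [cj_one] using cw _ (centMod_le.trans OK) Z3 1 (one_mem _) (by simpa using hc)
      by_contra e
      exact hne (h.W_le (fun a => H49.conj_mem_of_mem_normalizer (nZ (le_normalizer h.yE)))
        (fun f hf e => mem_centMod.mpr ⟨mem_sup_left (h.mem_F.mpr ⟨hf, e⟩), fun a ha => by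
          rw [commutatorElement_eq_one_iff_mul_comm.mpr (OK ha f (h.mem_F.mpr ⟨hf, e⟩)).symm]; exact one_mem _⟩)
        hc.1 cW fun e' => e (h.mem_F.mpr ⟨cW, e'⟩))
    have c2 : ∀ k ∈ normalizer (h.E : Set G), centMod _ (h.F ⊔ O) _ nF ⊓ centralizer {k * x * k⁻¹} ≤ h.F :=
      fun k hk => by rw [← cj_cent, ← cj_eq_self (nZ hk), ← cj_inf]; exact cj_le_of_norm c1 (h.normF' hk)
    have := gen9 h.x3 h.y3 h.xy h.x1 h.yn Z3 (nZ (le_normalizer h.xE)) (nZ (le_normalizer h.yE))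
      (h.normF' (le_normalizer h.xE)) (h.normF' (le_normalizer h.yE)) c1 (h.gx ▸ c2 _ h.gE) (h.sgx ▸ c2 _ sg)
      (h.ssgx ▸ c2 _ ssg)
    obtain ⟨v, hv, v1, e⟩ := exists_central_mod (P := ⊥) IsPGroup.of_bot P2 bot_le bot_le nF
      (lt_of_le_of_ne le_sup_left fun e => h.q1 (by
        have m : h.q ∈ h.F := e ▸ mem_sup_right qO
        have e1 := h.yq
        have e2 := h.yp
        rw [cj_of_comm (h.mem_F.mp m).2] at e1
        rwa [← e1, cj_of_comm (h.mem_F.mp m).2, h.qq] at e2))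
    exact v1 (this (mem_centMod.mpr ⟨hv, fun a ha => e a (mem_sup_right ha)⟩))
  rintro _ ⟨w', hw', rfl⟩ w hw
  have qK := hO (ON _ (nK h.gE) _ qO)
  have m := (mem_centMod.mp (WZ hw)).2 _ (mem_sup_right (ON _ (nK h.gE) _ qO))
  obtain ⟨f, hf, e⟩ : ∃ f ∈ h.F, h.g * h.q * h.g⁻¹ * w * (h.g * h.q * h.g⁻¹)⁻¹ = f * w :=
    ⟨_, m, by rw [commutatorElement_def]; group⟩
  have k : ∀ a : G, a * w * a⁻¹ = f * w → x * a * x⁻¹ * w * (x * a * x⁻¹)⁻¹ = f * w := fun a e => by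
    rw [← cj_of_comm (h.memC.mp (mul_mem hf.1.1 hw.1)).symm, ← e, cj_mul' x _ a⁻¹, cj_mul' x a w,
      cj_of_comm (h.memC.mp hw.1).symm, conj_inv]
  have e1 := k _ e
  rw [h.xq] at e1
  have e2 := k _ e1
  rw [h.xp, cj_cj, e1, cj_mul', e, cj_of_comm (qK f hf).symm, mul_eq_right] at e2
  rw [e2, one_mul, mul_inv_eq_iff_eq_mul] at e e1
  obtain ⟨f', hf', e3, a, ha, rfl⟩ := h.W_dec hw'
  show Commute w (h.g * (f' * a) * h.g⁻¹)
  rw [cj_mul']
  refine Commute.mul_right (h.W_comm hw (h.normF h.gE hf' e3).1) ?_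
  rcases ha with rfl | rfl | rfl | rfl
  exacts [by simp, e.symm, e1.symm, cj_mul' h.g h.q h.p ▸ Commute.mul_right e.symm e1.symm]

theorem exists_vc : ∃ V, h.VC V := h.dich.resolve_left fun k => k.1 (h.comm_Wy g1)

end NF

set_option linter.all false in
theorem eqns_J4G8 : True := by
  trivial

end Cfsg.Agent.H83.J4
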