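import Cfsg.Agent.H83.J4G8

/-!
# The sixfold cover: the extraspecial group
-/

set_option autoImplicit false

namespace Cfsg.Agent.H83.J4

open H42 Cfsg Subgroup

theorem pow8 {k : M24} (hk : k ∈ G22) (h1 : k * mo 3 = mo 3 * k) {n : ℕ} (e : k ^ 2 ^ n = 1) : k ^ 8 = 1 := by
  have := (bb_pass hk h1).1
  rw [← pow_three', ← pow_mul, mul_comm, pow_mul] at this
  exact eq_one_of_ppow (p := 3) (k := 1) this (Nat.Coprime.coprime_dvd_left (orderOf_dvd_of_pow_eq_one (n := 2 ^ n)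
    (by rw [← pow_mul, mul_comm, pow_mul, e, one_pow])) (Nat.Coprime.pow_left _ (by norm_num)))

theorem card_ge_64 {S : Subgroup M24} (h : RB ≤ S) (h5 : mo 5 ∈ S) (h6 : mo 6 ∈ S) : 64 ≤ Nat.card S := by
  have hg : ∀ g ∈ [gc 4, gc 5, gc 6, gc 3], inM g = true := fun g hg => by
    simp only [List.mem_cons, List.not_mem_nil, or_false] at hg
    rcases hg with rfl | rfl | rfl | rfl <;> exact inM_gc _
  rw [← card_gen_of_orbSize hg (fuel := 80) (n := 64) (by norm_num) (by decide +kernel)]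
  refine card_le_of_le (gen_le _ fun g hg => ?_)
  simp only [List.mem_cons, List.not_mem_nil, or_false] at hg
  rcases hg with rfl | rfl | rfl | rfl
  exacts [h (rb_mo 4), h5, h6, h (rb_mo 3)]

theorem chk_cS : allL (fun c => Bool.and (inK22 c) (inBB c)) cS = true := by decide +kernel

namespace NF

variable {G : Type*} [Group G] [Finite G] {x z : G} (h : NF x z)

/-- The small extraspecial group. -/
def R0 : Subgroup G := cl [h.b2, h.b, h.u, h.q, h.p]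

/-- The largest invariant subgroup. -/
def R1 : Subgroup G := cl [h.b2, h.b] ⊔ h.W

theorem card_R0 : Nat.card h.R0 ≤ 32 := by
  have m : ∀ a ∈ [h.u, h.q, h.p], a ∈ h.W := by simp [h.uW, h.qW, h.pW]
  have c4 := card_cl_comm (fun a ha b hb => h.W_comm (m a ha) (m b hb)) fun a ha => (m a ha).2.2
  have c5 := card_cl_cons c4 (u := h.b) (by
    simp only [List.forall_mem_cons, h.cu h.bC h.bt h.u_cases, cj_of_comm h.bq, h.bp]
    refine ⟨?_, ?_, ?_, by simp⟩ <;> repeat' (first | with_reducible apply mul_mem | exact mem_cl (by simp))) h.bb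
  exact card_cl_cons c5 (u := h.b2) (by
    simp only [List.forall_mem_cons, h.b2u h.u_cases, h.b2q, h.b2p, cj_of_comm h.bb2.symm]
    refine ⟨?_, ?_, ?_, ?_, by simp⟩ <;> repeat' (first | with_reducible apply mul_mem | exact mem_cl (by simp)))
    h.b2b2

theorem mem_R0 : h.b2 ∈ h.R0 ∧ h.b ∈ h.R0 ∧ h.u ∈ h.R0 ∧ h.q ∈ h.R0 ∧ h.p ∈ h.R0 :=
  ⟨mem_cl (by simp), mem_cl (by simp), mem_cl (by simp), mem_cl (by simp), mem_cl (by simp)⟩

theorem R0_le {S : Subgroup G} (h1 : h.b2 ∈ S) (h2 : h.b ∈ S) (h3 : h.u ∈ S) (h4 : h.q ∈ S) (h5 : h.p ∈ S) :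
    h.R0 ≤ S := cl_le (by simp [h1, h2, h3, h4, h5])

theorem E_R0 : h.E ≤ normalizer (h.R0 : Set G) := by
  obtain ⟨m1, m2, m3, m4, m5⟩ := h.mem_R0
  refine h.E_le (centralizer_le_normalizer _ fun a ha =>
    h.memC.mp (h.R0_le h.b2C h.bC h.uW.1 h.qC h.pC ha)) (cl_norm ?_)
  simp only [List.forall_mem_cons, h.yb, h.yb2, h.yq, h.yp, h.cu h.yC h.yt h.u_cases]
  exact ⟨mul_mem m2 m1, m1, m3, m5, mul_mem m4 m5, by simp⟩

theorem R1_two : IsPGroup 2 h.R1 := by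
  refine isPGroup_sup (IsPGroup.of_card (n := Nat.log 2 (Nat.card (cl [h.b2, h.b]))) ?_)
    (isPGroup_of_sq fun w hw => hw.2.2) (cl_le (by simp [h.bN, h.normW' h.b2C (h.φb2 ▸ bb_mo 6)]))
  have c := card_cl_comm (l := [h.b2, h.b]) (by simp [h.bb2]) (by simp [h.bb, h.b2b2])
  have d : 2 ∣ Nat.card (cl [h.b2, h.b]) := by
    rw [← orderOf_eq_prime (x := h.b) (p := 2) (by rw [pow_two, h.bb]) fun e => (ne_mo 5 :) (by rw [← h.φb, e, h.φ_one])]
    exact orderOf_dvd_natCard _ (mem_cl (by simp))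
  have := Nat.card_pos (α := cl [h.b2, h.b])
  generalize Nat.card (cl [h.b2, h.b]) = n at *
  simp only [List.length_cons, List.length_nil] at c
  obtain rfl | rfl : n = 2 ∨ n = 4 := by omega
  all_goals norm_num

theorem R1_le : h.R1 ≤ h.C := sup_le (cl_le (by simp [h.bC, h.b2C])) fun _ hw => hw.1

theorem card_R1 (z1 : z ≠ 1) : 128 ≤ Nat.card h.R1 := by
  have i : ∀ a ∈ h.R1, h.φ a ∈ h.im h.R1 := fun a ha => h.mem_im.mpr ⟨a, ha, h.R1_le ha, rfl⟩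
  rw [h.card_im h.R1_le (F := zpowers z) fun a ha => ⟨fun e => by
      obtain ⟨k, hk⟩ := isPGroup_iff.mp h.R1_two a ha
      exact (H49.mem_zpowers_invol h.zz).mpr (h.ker_two (h.R1_le ha) e hk), fun e => by
      rcases (H49.mem_zpowers_invol h.zz).mp e with rfl | rfl; exacts [h.φ_one, h.φ_z]⟩,
    inf_eq_right.mpr (zpowers_le.mpr (show z ∈ h.R1 from mem_sup_right h.zW)), H49.card_zpowers_invol z1 h.zz]
  have := card_ge_64 (S := h.im h.R1) (fun r hr => by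
    obtain ⟨w, hw, rfl, ww⟩ := h.inv2 h.hn (RB_le_G22 hr) (RB_sq hr)
    exact i w (mem_sup_right ⟨hw, hr, ww⟩)) (h.φb ▸ i _ (mem_sup_left (mem_cl (by simp))))
    (h.φb2 ▸ i _ (mem_sup_left (mem_cl (by simp))))
  omega

theorem decR {c : G} (hc : c ∈ h.C) (e : c * h.t = h.t * c) {k l : ℕ} (c2 : c ^ 2 ^ k = 1)
    (c3 : (c * (h.y * c * h.y⁻¹)) ^ 2 ^ l = 1) : ∃ f ∈ h.F, ∃ r ∈ h.R0, c = f * r := by
  obtain ⟨m1, m2, m3, m4, m5⟩ := h.mem_R0
  have a : ∀ c ∈ h.C, c * h.t = h.t * c → h.φ c * mo 3 = mo 3 * h.φ c := fun c hc e => by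
    rw [← h.φt, ← h.φ_mul hc h.tC, e, h.φ_mul h.tC hc]
  have m := mul_mem hc (h.cjC h.yC hc)
  obtain ⟨β, hβ, e1⟩ := (bb_pass (h.φ_mem c) (a c hc e)).2.1
    (pow8 (h.φ_mem c) (a c hc e) (by rw [← h.φ_pow hc, c2, h.φ_one])) (by
      rw [← h.φy, ← h.φ_conj h.yC hc, ← h.φ_mul hc (h.cjC h.yC hc)]
      exact pow8 (h.φ_mem _) (a _ m ((show Commute c h.t from e).mul_left (((show Commute h.y h.t from h.yt).mul_left
        e).mul_left (show Commute h.y h.t from h.yt).inv_left))) (by rw [← h.φ_pow m, c3, h.φ_one]))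
  obtain ⟨d, d1, d2, rfl⟩ : ∃ d ∈ h.R0, d ∈ h.R1 ∧ h.φ d = β := by
    have n1 : h.b ∈ h.R1 := mem_sup_left (mem_cl (by simp))
    have n2 : h.b2 ∈ h.R1 := mem_sup_left (mem_cl (by simp))
    rcases hβ with rfl | rfl | rfl | rfl
    exacts [⟨1, one_mem _, one_mem _, h.φ_one⟩, ⟨_, m2, n1, h.φb⟩, ⟨_, m1, n2, h.φb2⟩,
      ⟨_, mul_mem m2 m1, mul_mem n1 n2, by rw [h.φ_mul h.bC h.b2C, h.φb, h.φb2]⟩]
  obtain ⟨w, hw, e2, ww⟩ := h.inv2 h.hn (RB_le_G22 e1) (RB_sq e1)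
  have wW : w ∈ h.W := ⟨hw, e2 ▸ e1, ww⟩
  have n := mul_mem (mem_sup_right wW : w ∈ h.R1) (inv_mem d2)
  obtain ⟨j, hj⟩ := isPGroup_iff.mp h.R1_two _ n
  obtain ⟨v, hv, e3⟩ : ∃ v ∈ h.W, c = v * d⁻¹ := by
    rcases h.eq2 hc (h.R1_le n) (by rw [h.φ_mul hw (inv_mem (h.R1_le d2)), h.φ_inv (h.R1_le d2), e2]; simp)
      (k := k + j) (by rw [pow_add, pow_mul, c2, one_pow]) (by rw [add_comm, pow_add, pow_mul, hj, one_pow]) with e | e
    exacts [⟨w, wW, e⟩, ⟨w * z, mul_mem wW h.zW, by rw [e, mul_assoc, ← h.zc (inv_mem (h.R1_le d2)), mul_assoc]⟩]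
  obtain ⟨f, hf, e4, a, ha, rfl⟩ := h.W_dec hv
  refine ⟨f, h.mem_F.mpr ⟨hf, e4⟩, a * d⁻¹, mul_mem ?_ (inv_mem d1), by rw [e3, mul_assoc]⟩
  rcases ha with rfl | rfl | rfl | rfl
  exacts [one_mem _, m4, m5, mul_mem m4 m5]

/-- The subgroup generated by three conjugates. -/
def Q1 : Subgroup G := cj h.g h.R0 ⊔ cj (h.s * h.g) h.R0 ⊔ cj (h.s * (h.s * h.g)) h.R0

theorem E_Q1 : h.E ≤ normalizer (h.Q1 : Set G) := by
  have k : ∀ k ∈ normalizer (h.E : Set G), h.E ≤ normalizer (cj k h.R0 : Set G) := fun k hk => by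
    rw [← cj_normalizer, ← cj_eq_self hk]; exact cj_mono _ h.E_R0
  exact le_norm_sup (le_norm_sup (k _ h.gE) (k _ (mul_mem h.sE h.gE))) (k _ (mul_mem h.sE (mul_mem h.sE h.gE)))

namespace VC

variable {h} {V : Subgroup G} (v : h.VC V)

/-- The chain stabiliser. -/
def D : Subgroup G := (Dm v.h2 v.X (v.w h.zW)).map (normalizer (V : Set G)).subtype

include v

theorem gqV : h.g * h.q * h.g⁻¹ ∈ V := H49.conj_mem_of_mem_normalizer v.gN (v.le h.qW)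

theorem centV {c : G} (h1 : ∀ w ∈ h.W, c * w = w * c) (h2 : c * (h.g * h.q * h.g⁻¹) = h.g * h.q * h.g⁻¹ * c) :
    c ∈ V := by
  obtain ⟨a, ha, m⟩ := v.cent c h1
  have : Commute (c * a) (h.g * h.q * h.g⁻¹) := v.comm _ m _ v.gqV
  simpa [h.eq_one_of_q ha (by simpa using ((show Commute c _ from h2).inv_left.mul_left this).eq)] using m

theorem V_le : V ≤ v.D := fun a ha => by
  have : ∀ w : v.Mo, (⟨a, le_normalizer ha⟩ : normalizer (V : Set G)) • w = w := fun w =>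
    v.ext'.mpr (cj_of_comm (v.comm a ha _ (v.val_mem w)))
  exact ⟨⟨a, le_normalizer ha⟩, ⟨this _, fun w => Or.inl (by rw [this, v.h2, Nm_zero]),
    fun w _ => Or.inl (by rw [this, v.h2])⟩, rfl⟩

theorem D_two : IsPGroup 2 v.D := isPGroup_iff.mpr (by
  rintro _ ⟨d, hd, rfl⟩
  have : ∀ a ∈ V, (d : G) ^ 4 * a = a * d ^ 4 := fun a ha =>
    mul_inv_eq_iff_eq_mul.mp (v.ext'.mp (Dm_pow hd (v.mk' a ha)))
  exact ⟨3, by
    rw [show 2 ^ 3 = 4 * 2 by rfl, pow_mul, pow_two]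
    exact v.sq _ (v.centV (fun w hw => this w (v.le hw)) (this _ v.gqV))⟩)

theorem D_z {d : G} (hd : d ∈ v.D) : d * z = z * d := by
  obtain ⟨d, hd, rfl⟩ := hd
  exact mul_inv_eq_iff_eq_mul.mp (v.ext'.mp hd.1)

theorem D_norm {n : G} (hn : n ∈ h.N) (hW : n ∈ normalizer (h.W : Set G)) : n ∈ normalizer (v.D : Set G) :=
  H49.mem_normalizer_of_conj_mem (by
    rintro _ ⟨d, hd, rfl⟩
    exact ⟨_, Dm_conj (n := ⟨n, v.nW hW⟩) (Subtype.ext (by rw [← pow_three']; exact h.x3))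
      ((h.mem_N.mp hn).imp (fun e => Subtype.ext (mul_inv_eq_iff_eq_mul.mp e))
        fun e => Subtype.ext (mul_inv_eq_iff_eq_mul.mp e)) (z := v.w h.zW) (v.ext'.mpr (show n * z * n⁻¹ = z from cj_of_comm (h.N_z hn))) hd, rfl⟩)

theorem D_norm' {n : G} (hn : n ∈ h.C) (e : h.φ n ∈ BB) : n ∈ normalizer (v.D : Set G) :=
  v.D_norm (h.C_le_N hn) (h.normW' hn e)

theorem D_inf {d : G} (hd : d ∈ v.D) (hc : d ∈ h.C) : d ∈ h.W := by
  obtain ⟨k, hk⟩ := isPGroup_iff.mp v.D_two d hd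
  refine h.memW hc (O2_BB (h.im v.D) (fun a ha => ?_) (h.im_isPGroup v.D_two) (fun c hc a ha => ?_)
    (h.mem_im.mpr ⟨d, hd, hc, rfl⟩)) hk fun e => by have := Nat.prime_three.dvd_of_dvd_pow e; omega
  · obtain ⟨d, hd, hc, rfl⟩ := h.mem_im.mp ha
    refine ⟨G22_le_GD2 (h.φ_mem d), mem_GO_of_conj (rb_mo 3) (ne_mo 3) ?_⟩
    rw [← h.φt, ← h.φ_conj hc h.tC]
    exact (v.inf _ (H49.conj_mem_of_mem_normalizer (map_subtype_le _ hd) (v.le h.tW)) (h.cjC hc h.tC)).2.1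
  · have := Bool.and_eq_true_iff.mp (allL_iff.mp chk_cS c hc)
    obtain ⟨n, hn, e⟩ := h.φ_surj (mem_of_inK22 c (inM_cS c hc) this.1)
    obtain ⟨d, hd, dC, rfl⟩ := h.mem_im.mp ha
    exact h.mem_im.mpr ⟨_, H49.conj_mem_of_mem_normalizer (v.D_norm' hn (e ▸ mem_of_inBB (inM_cS c hc) this.2)) hd,
      h.cjC hn dC, by rw [h.φ_conj hn dC, e]⟩

theorem D_not3 : ¬ 3 ∣ Nat.card v.D := fun d => by
  obtain ⟨n, e⟩ := IsPGroup.iff_card.mp v.D_two
  have := Nat.prime_three.dvd_of_dvd_pow (e ▸ d); omega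

theorem xD : x ∈ normalizer (v.D : Set G) := v.D_norm' h.xC (h.φ_x ▸ one_mem _)

variable (g1 : h.g * z * h.g⁻¹ ≠ z)
include g1

omit v in
theorem gu {c : G} (hc : c ∈ h.C) : c * h.g * h.u * (c * h.g)⁻¹ = z := by
  rw [cj_cj, h.nonsplit (h.z1 g1), cj_mul' h.g h.t, (h.g_one g1).1, (h.g_one g1).2.1, ← mul_assoc h.t, h.tt, one_mul,
    cj_of_comm (h.zc hc).symm]

theorem md' : MD v.X v.Y v.S v.J v.Γ v.B (v.w h.zW) (v.w h.tW) (v.w h.qW) (v.w h.uW) :=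
  v.md (h.g_one g1).2.1 (h.g_one g1).2.2

theorem R1_le_D : cj h.g h.R1 ≤ v.D := by
  have m : h.g * h.b * h.g⁻¹ ∈ v.D := ⟨_, (v.md' g1).one (v.ext'.mpr (h.nonsplit (h.z1 g1)))
    (v.ext'.mpr (h.g_one g1).1) (fun e => h.z1 g1 (v.ext'.mp e)) fun c h1 h2 a => v.ext'.mpr (cj_of_comm
      (v.comm _ (v.centV (fun w hw => mul_inv_eq_iff_eq_mul.mp (v.ext'.mp (h1 (v.w hw)
        (v.ext'.mpr (cj_of_comm (h.memC.mp hw.1).symm))))) (mul_inv_eq_iff_eq_mul.mp (v.ext'.mp h2))) _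
        (v.val_mem a))), rfl⟩
  have m2 := H49.conj_mem_of_mem_normalizer v.xD m
  rw [R1, cj_sup]
  refine sup_le (cj_le_iff.mpr (cl_le ?_)) ((cj_le_of_norm v.le v.gN).trans v.V_le)
  simp only [List.forall_mem_cons, mem_cj, inv_inv]
  exact ⟨by rwa [← h.yb, cj_mul' h.g, cj_mul' h.g, ← conj_inv, h.gy], m, by simp⟩

theorem dec_k {c d : G} (hc : c ∈ h.C) (hd : d ∈ v.D) (e : d * (c * h.y * c⁻¹) = c * h.y * c⁻¹ * d) :
    ∃ f ∈ h.F, ∃ r ∈ h.R0, (c * h.g)⁻¹ * d * (c * h.g) = f * r := by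
  have a : ∀ a : G, d * (c * h.g * a * (c * h.g)⁻¹) = c * h.g * a * (c * h.g)⁻¹ * d →
      (c * h.g)⁻¹ * d * (c * h.g) * a = a * ((c * h.g)⁻¹ * d * (c * h.g)) := fun a e => by
    simpa [mul_assoc] using cj_comm' (c * h.g)⁻¹ e
  have p : ∀ d ∈ v.D, ∃ k, ((c * h.g)⁻¹ * d * (c * h.g)) ^ 2 ^ k = 1 := fun d hd =>
    let ⟨k, hk⟩ := isPGroup_iff.mp v.D_two d hd
    ⟨k, by simpa [hk] using conj_pow (a := (c * h.g)⁻¹) (b := d) (i := 2 ^ k)⟩
  have m := h.memC.mpr (a x (by rwa [cj_cj, h.gx]))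
  obtain ⟨k, hk⟩ := p d hd
  obtain ⟨l, hl⟩ := p _ (mul_mem hd (H49.conj_mem_of_mem_normalizer v.xD hd))
  refine h.decR m ?_ hk (l := l) ?_
  · have := a h.u (by rw [gu g1 hc]; exact v.D_z hd)
    generalize (c * h.g)⁻¹ * d * (c * h.g) = a at this m ⊢
    rwa [h.nonsplit (h.z1 g1), ← mul_assoc, mul_assoc h.t, h.zc m, ← mul_assoc, mul_left_inj] at this
  · have e : x = c * h.g * h.y * (c * h.g)⁻¹ := by rw [cj_cj, h.gy, cj_of_comm (h.memC.mp hc)]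
    rw [← hl]; congr 1
    conv_rhs => rw [show x * d * x⁻¹ = c * h.g * h.y * (c * h.g)⁻¹ * d * (c * h.g * h.y * (c * h.g)⁻¹)⁻¹ by rw [← e]]
    group

theorem R0_le_D : cj (h.n * h.g) h.R0 ≤ v.D := by
  have y'C := h.cjC h.nC h.yC
  have φy' : h.φ (h.n * h.y * h.n⁻¹) = mo 9 * mo 0 * (mo 9)⁻¹ := by rw [h.φ_conj h.nC h.yC, h.φn, h.φy]
  have nx := cj_of_comm (h.memC.mp h.nC)
  have yD := v.D_norm' y'C (φy' ▸ bb_n 0)
  have sD := v.D_norm' (h.cjC h.nC h.sC) (by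
    rw [h.φ_conj h.nC h.sC, h.φn]
    rcases h.φs with e | e <;> rw [e]
    exacts [bb_n 1, cj_mul' (mo 9) _ _ ▸ mul_mem (bb_n 1) (bb_n 1)])
  have sD' := v.D_norm' h.sC h.sBB
  have f1 := fix9 h.x3 h.y3 h.xy h.x1 h.yn _ v.D_not3 v.xD (v.D_norm' h.yC (h.φy ▸ bb_mo 0))
  have f2 := fix9 h.x3 (y := h.n * h.y * h.n⁻¹) (by rw [conj_pow, h.y3]; simp) (h.memC.mp y'C).symm h.x1
    (fun hm => (ne_mo 0 :) (by simpa [φy'] using (h.φ_ker y'C).mpr (Or.inl hm))) _ v.D_not3 v.xD yD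
  have k : ∀ a b c : G, a * b * a⁻¹ * (a * c * a⁻¹) * (a * b * a⁻¹)⁻¹ = a * (b * c * b⁻¹) * a⁻¹ := fun a b c => by group
  have e1 : x * (h.n * h.y * h.n⁻¹) = h.n * h.s * h.n⁻¹ * (h.n * h.y * h.n⁻¹) * (h.n * h.s * h.n⁻¹)⁻¹ := by
    rw [k, h.sy, cj_mul', nx]
  have e2 : x * x * (h.n * h.y * h.n⁻¹) =
      h.n * h.s * h.n⁻¹ * (x * (h.n * h.y * h.n⁻¹)) * (h.n * h.s * h.n⁻¹)⁻¹ := by
    rw [cj_mul' _ x, ← e1, cj_of_comm (h.memC.mp (h.cjC h.nC h.sC)), mul_assoc]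
  rw [← h.s2y, card_inf_cent sD', ← h.sy, card_inf_cent sD'] at f1
  rw [e2, card_inf_cent sD, e1, card_inf_cent sD] at f2
  have c1 : 128 ≤ Nat.card ↥(v.D ⊓ centralizer {h.y}) := (card_cj h.g h.R1 ▸ h.card_R1 (h.z1 g1)).trans
    (card_le_of_le (le_inf (v.R1_le_D g1) (h.gx ▸ cj_cent h.g x ▸ cj_mono _ h.R1_le)))
  have c2 : Nat.card ↥(v.D ⊓ (centralizer {x} ⊓ centralizer {h.y})) ≤ 8 := by
    have m : ∀ a ∈ [h.t, h.t2, z], a ∈ h.W := by simp [h.tW, h.t2W, h.zW]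
    exact (card_le_of_le (K := cl [h.t, h.t2, z]) (H := v.D ⊓ (centralizer {x} ⊓ centralizer {h.y})) fun a ha => h.F_le (mem_cl (by simp)) (mem_cl (by simp)) (mem_cl (by simp))
      ⟨v.D_inf ha.1 ha.2.1, ha.2.2⟩).trans
      (card_cl_comm (fun a ha b hb => h.W_comm (m a ha) (m b hb)) fun a ha => (m a ha).2.2)
  have c3 : 2 ≤ Nat.card ↥(v.D ⊓ (centralizer {x} ⊓ centralizer {h.n * h.y * h.n⁻¹})) :=
    H49.card_zpowers_invol (h.z1 g1) h.zz ▸ card_le_of_le (zpowers_le.mpr ⟨v.V_le (v.le h.zW), h.zC,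
      mem_centralizer_singleton_iff.mpr (h.zc y'C)⟩)
  have c4 : 32 ≤ Nat.card ↥(v.D ⊓ centralizer {h.n * h.y * h.n⁻¹}) := by
    have p := Nat.card_pos (α := ↥(v.D ⊓ centralizer {x}))
    generalize Nat.card ↥(v.D ⊓ centralizer {x}) = w at *
    generalize Nat.card ↥(v.D ⊓ centralizer {h.y}) = c at *
    generalize Nat.card ↥(v.D ⊓ centralizer {h.n * h.y * h.n⁻¹}) = c' at *
    generalize Nat.card ↥(v.D ⊓ (centralizer {x} ⊓ centralizer {h.y})) = f at *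
    generalize Nat.card ↥(v.D ⊓ (centralizer {x} ⊓ centralizer {h.n * h.y * h.n⁻¹})) = e at *
    have : (c' * f) ^ 3 = (c * e) ^ 3 := Nat.eq_of_mul_eq_mul_left p (by
      calc w * (c' * f) ^ 3 = w * c' * c' * c' * f ^ 3 := by ring
        _ = w * c * c * c * e ^ 3 := by rw [f1, f2]; ring
        _ = _ := by ring)
    have := Nat.pow_left_injective (by norm_num) this
    have := Nat.mul_le_mul c1 c3
    have := Nat.mul_le_mul_left c' c2
    omega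
  have ey : h.n * h.g * h.y * (h.n * h.g)⁻¹ = x := by rw [cj_cj, h.gy, nx]
  have c5 : cj (h.n * h.g)⁻¹ (v.D ⊓ centralizer {h.n * h.y * h.n⁻¹}) ≤ h.R0 := fun d hd => by
    refine cfix h.y3 (isPGroup_cj v.D_two.to_inf_left _) ?_ (h.E_R0 h.yE) (fun a ha => ?_) hd ?_
    · rw [← cj_normalizer, mem_cj, inv_inv, ey]
      exact inf_normalizer_le_normalizer_inf ⟨v.xD,
        le_normalizer (mem_centralizer_singleton_iff.mpr (h.memC.mp y'C).symm)⟩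
    · have a1 := mem_cj.mp ha.1
      rw [inv_inv] at a1
      have a2 : h.n * h.g * a * (h.n * h.g)⁻¹ ∈ h.C := h.memC.mpr (by
        simpa only [ey] using cj_comm' (h.n * h.g) (mem_centralizer_singleton_iff.mp ha.2))
      have a3 := v.D_inf a1.1 a2
      rcases h.ker_two a2 ((rb_pass a3.2.1).2.2.2 (by
        rw [← φy', ← h.φ_mul a2 y'C, mem_centralizer_singleton_iff.mp a1.2, h.φ_mul y'C a2])) (k := 1)
        (by rw [pow_one, pow_two, a3.2.2]) with e | e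
      · rw [conj_eq_one_iff.mp e]; exact one_mem _
      · have := e.trans (gu g1 h.nC).symm
        rw [mul_left_inj, mul_right_inj] at this
        exact this ▸ h.mem_R0.2.2.1
    · have a1 := mem_cj.mp (inv_mem hd)
      rw [inv_inv] at a1
      obtain ⟨f, hf, r, hr, e⟩ := v.dec_k g1 h.nC a1.1 (mem_centralizer_singleton_iff.mp a1.2)
      have : d = r⁻¹ * f⁻¹ := by rw [← mul_inv_rev, ← e]; group
      rw [this, cj_mul', cj_of_comm (Commute.inv_right (show Commute h.y f from (h.mem_F.mp hf).2)).eq]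
      simpa using mul_mem (H49.conj_mem_of_mem_normalizer (h.E_R0 h.yE) (inv_mem hr)) hr
  rw [← eq_of_le_of_card_ge c5 (by rw [card_cj]; exact h.card_R0.trans c4), cj_cj_inv]
  exact inf_le_left

/-- The extraspecial group. -/
def Q (v : h.VC V) : Subgroup G := zpowers z ⊔ ⁅v.D, zpowers x⁆

omit g1 in
theorem Q_le : v.Q ≤ v.D := sup_le (zpowers_le.mpr (v.V_le (v.le h.zW))) (comm_le_left (zpowers_le.mpr v.xD))

theorem RQ {c : G} (hc : c ∈ h.C) (hD : cj (c * h.g) h.R0 ≤ v.D) : cj (c * h.g) h.R0 ≤ v.Q := by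
  obtain ⟨m1, m2, m3, m4, m5⟩ := h.mem_R0
  have k : ∀ r ∈ h.R0, h.y * r * h.y⁻¹ * r⁻¹ ∈ cj (c * h.g)⁻¹ v.Q := fun r hr => by
    have := commutator_mem_commutator (mem_zpowers x) (hD (conj_mem_cj hr))
    rw [commutator_comm, commutatorElement_def] at this
    rw [mem_cj, inv_inv, cj_mul', cj_mul', cj_mul', ← conj_inv, ← conj_inv, cj_cj c h.g h.y, h.gy,
      cj_of_comm (h.memC.mp hc)]
    exact mem_sup_right this
  refine cj_le_iff.mpr (h.R0_le ?_ ?_ ?_ ?_ ?_)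
  · have := k _ (mul_mem m2 m1)
    rwa [cj_mul', h.yb, h.yb2, mul_inv_cancel_right] at this
  · simpa [h.yb2] using k _ m1
  · rw [mem_cj, inv_inv, gu g1 hc]; exact mem_sup_left (mem_zpowers z)
  · simpa [h.yp] using k _ m5
  · have := k _ (mul_mem m4 m5)
    rwa [cj_mul', h.yq, h.yp, mul_inv_cancel_right] at this

theorem Q1_le_D : h.Q1 ≤ v.D := by
  have a : cj h.g h.R0 ≤ v.D := (cj_mono _ (h.R0_le (mem_sup_left (mem_cl (by simp))) (mem_sup_left (mem_cl (by simp)))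
    (mem_sup_right h.uW) (mem_sup_right h.qW) (mem_sup_right h.pW))).trans (v.R1_le_D g1)
  have sD := v.D_norm' h.sC h.sBB
  rw [Q1, cj_mul h.s (h.s * h.g), cj_mul]
  exact sup_le (sup_le a (cj_le_of_norm a sD)) (cj_le_of_norm (cj_le_of_norm a sD) sD)

theorem V1_le {a : v.Mo} (ha : Nm v.X a = 0 ∨ Nm v.X a = v.w h.zW) : v.val a ∈ h.Q1 := by
  have xQ := fun a => H49.conj_mem_of_mem_normalizer (x := a) (h.E_Q1 h.xE)
  have q1 : h.g * h.q * h.g⁻¹ ∈ h.Q1 := mem_sup_left (mem_sup_left (conj_mem_cj h.mem_R0.2.2.2.1))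
  have q2 : h.s * (h.g * h.q * h.g⁻¹) * h.s⁻¹ ∈ h.Q1 := by
    rw [← cj_cj]; exact mem_sup_left (mem_sup_right (conj_mem_cj h.mem_R0.2.2.2.1))
  have q3 : h.s * (h.s * (h.g * h.q * h.g⁻¹) * h.s⁻¹) * h.s⁻¹ ∈ h.Q1 := by
    rw [← cj_cj, ← cj_cj, mul_assoc h.s h.s]; exact mem_sup_right (conj_mem_cj h.mem_R0.2.2.2.1)
  have k : ∀ a : v.Mo, Nm v.X a = 0 → v.val a ∈ h.Q1 := fun a ha =>
    (v.md' g1).span_H (P := fun a => v.val a ∈ h.Q1) (fun _ _ => mul_mem) (fun a ha => by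
      rcases (v.md' g1).L1_cases ha with rfl | rfl | rfl | rfl
      exacts [one_mem _, q1, xQ _ q1, mul_mem q1 (xQ _ q1)]) (fun a ha => by
      rcases ha with ha | ha
      · rcases (v.md' g1).L2_cases ha with rfl | rfl | rfl | rfl
        exacts [one_mem _, q2, xQ _ q2, mul_mem q2 (xQ _ q2)]
      · rcases (v.md' g1).L3_cases ha with rfl | rfl | rfl | rfl
        exacts [one_mem _, q3, xQ _ q3, mul_mem q3 (xQ _ q3)]) ha
  rcases ha with ha | ha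
  · exact k a ha
  · have zQ : z ∈ h.Q1 := by
      have := gu g1 (one_mem h.C)
      rw [one_mul] at this
      have m : h.g * h.u * h.g⁻¹ ∈ h.Q1 := mem_sup_left (mem_sup_left (conj_mem_cj h.mem_R0.2.2.1))
      rwa [this] at m
    exact (mul_mem_cancel_right zQ).mp (k (a + v.w h.zW) (by
      rw [Nm_add, ha, (v.md' g1).Nm_self (v.md' g1).xz, v.h2]))

theorem Q_le_Q1 : v.Q ≤ h.Q1 := by
  have VN : V ≤ normalizer (h.Q1 : Set G) := fun a ha => H49.mem_normalizer_of_conj_mem fun r hr => by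
    obtain ⟨d, hd, rfl⟩ := v.Q1_le_D g1 hr
    have := mul_mem (inv_mem (v.V1_le g1 (hd.2.1 (v.mk' a ha)))) hr
    rw [v.val_add, v.val_smul, v.val_mk] at this
    convert this using 1
    rw [mul_inv_rev, inv_eq_of_mul_eq_one_right (v.sq a ha), conj_inv, inv_eq_of_mul_eq_one_right (v.sq a ha)]
    simp [mul_assoc]
  have EV : h.E ≤ normalizer (V : Set G) := h.E_le (v.nW h.xN) (v.nW h.yN)
  have EN := le_norm_sup EV h.E_Q1
  have k : ∀ c ∈ h.C, c * h.g ∈ normalizer (h.E : Set G) → cj (c * h.g) h.R0 ≤ h.Q1 →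
      v.D ⊓ centralizer {c * h.y * c⁻¹} ≤ V ⊔ h.Q1 := fun c hc hE hQ d hd => by
    obtain ⟨f, hf, r, hr, e⟩ := v.dec_k g1 hc hd.1 (mem_centralizer_singleton_iff.mp hd.2)
    rw [show d = c * h.g * (f * r) * (c * h.g)⁻¹ by rw [← e]; group, cj_mul']
    exact mul_mem_sup (v.le (H49.conj_mem_of_mem_normalizer (h.normF' hE) hf).1) (hQ (conj_mem_cj hr))
  have DV : v.D ≤ V ⊔ h.Q1 := gen9 h.x3 h.y3 h.xy h.x1 h.yn v.D_not3 v.xD (v.D_norm' h.yC (h.φy ▸ bb_mo 0))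
    (EN h.xE) (EN h.yE) (fun d hd => mem_sup_left (v.le (v.D_inf hd.1 hd.2)))
    (by simpa using k 1 (one_mem _) (by simpa using h.gE) (by rw [one_mul]; exact le_sup_left.trans le_sup_left))
    (h.sy ▸ k _ h.sC (mul_mem h.sE h.gE) (le_sup_right.trans le_sup_left))
    (by
      have := k _ (mul_mem h.sC h.sC) (mul_mem (mul_mem h.sE h.sE) h.gE) (mul_assoc h.s h.s h.g ▸ le_sup_right)
      rwa [cj_cj, h.sy, h.s2y] at this)
  refine sup_le (zpowers_le.mpr (v.V1_le g1 (a := v.w h.zW) (Or.inr ((v.md' g1).Nm_self (v.md' g1).xz))))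
    (commutator_le.mpr fun d hd a ha => ?_)
  obtain ⟨w, hw, r, hr, rfl⟩ := (mem_sup_left_norm' VN).mp (sup_comm V h.Q1 ▸ DV hd)
  have aE := zpowers_le.mpr h.xE ha
  have m1 := H49.conj_mem_of_mem_normalizer (VN hw)
    (mul_mem hr (H49.conj_mem_of_mem_normalizer (h.E_Q1 aE) (inv_mem hr)))
  have m2 := v.V1_le g1 (a := v.mk' w hw + (⟨a, EV aE⟩ : normalizer (V : Set G)) • v.mk' w hw) (Or.inl (by
    rw [Nm_add, ← v.h2 (Nm v.X (v.mk' w hw))]
    congr 1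
    have f := Nm_fix (v.md' g1).x3 (v.mk' w hw)
    rcases (mem_zp3 h.x3).mp ha with rfl | rfl | rfl
    · exact congrArg _ (one_smul _ _)
    · rw [← Nm_cj rfl, f]
    · rw [show (⟨x * x, EV aE⟩ : normalizer (V : Set G)) = v.X * v.X from rfl, mul_smul, ← Nm_cj rfl, ← Nm_cj rfl, f, f]))
  rw [v.val_add, v.val_smul, v.val_mk] at m2
  convert mul_mem m1 m2 using 1
  rw [commutatorElement_def, mul_inv_rev, inv_eq_of_mul_eq_one_right (v.sq w hw)]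
  simp [mul_assoc, ← mul_assoc w w, v.sq w hw]

theorem Q_eq : v.Q = h.Q1 ∧ h.n ∈ normalizer (v.Q : Set G) := by
  have sD := v.D_norm' (h.cjC h.nC h.sC) (by
    rw [h.φ_conj h.nC h.sC, h.φn]
    rcases h.φs with e | e <;> rw [e]
    exacts [bb_n 1, cj_mul' (mo 9) _ _ ▸ mul_mem (bb_n 1) (bb_n 1)])
  have a1 := v.R0_le_D g1
  have a2 := cj_le_of_norm a1 sD
  rw [← cj_mul, show h.n * h.s * h.n⁻¹ * (h.n * h.g) = h.n * h.s * h.g by group] at a2
  have a3 := cj_le_of_norm a2 sD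
  rw [← cj_mul, show h.n * h.s * h.n⁻¹ * (h.n * h.s * h.g) = h.n * h.s * h.s * h.g by group] at a3
  have : cj h.n h.Q1 ≤ v.Q := by
    rw [Q1, cj_sup, cj_sup, ← cj_mul, ← cj_mul, ← cj_mul, ← mul_assoc, ← mul_assoc, ← mul_assoc]
    exact sup_le (sup_le (v.RQ g1 h.nC a1) (v.RQ g1 (mul_mem h.nC h.sC) a2))
      (v.RQ g1 (mul_mem (mul_mem h.nC h.sC) h.sC) a3)
  have e := eq_of_le_of_card_ge (v.Q_le_Q1 g1) (card_cj h.n h.Q1 ▸ card_le_of_le this)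
  exact ⟨e, H49.mem_normalizer_of_conj_mem fun a ha => this (conj_mem_cj (e ▸ ha))⟩

theorem N_le_Q : h.N ≤ normalizer (v.Q : Set G) := by
  have a : ∀ n ∈ h.N, h.χ n ∈ BB → n ∈ normalizer (v.Q : Set G) := fun n hn e =>
    zpowers_le.mp (le_norm_sup (zpowers_le.mpr (centralizer_le_normalizer _ (by
      rw [H49.centralizer_zpowers']; exact mem_centralizer_singleton_iff.mpr (h.N_z hn))))
      (le_norm_comm (zpowers_le.mpr (v.D_norm hn (h.normW hn e))) (zpowers_le.mpr hn)))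
  have b : h.C ≤ normalizer (v.Q : Set G) := fun c hc => by
    obtain ⟨d, hd, dC, e⟩ := h.mem_im.mp (g22_gen (S := h.im (normalizer (v.Q : Set G))) (fun k hk => by
      obtain ⟨c, hc, rfl⟩ := h.φ_surj hk.2
      exact h.mem_im.mpr ⟨c, a c (h.C_le_N hc) (h.χ_C hc ▸ hk.1), hc, rfl⟩)
      (h.mem_im.mpr ⟨_, (v.Q_eq g1).2, h.nC, h.φn⟩) (h.φ_mem c))
    have m := mul_mem hc (inv_mem dC)
    exact (mul_mem_cancel_right (inv_mem hd)).mp (a _ (h.C_le_N m) (by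
      rw [h.χ_C m, h.φ_mul hc (inv_mem dC), h.φ_inv dC, e, mul_inv_cancel]; exact one_mem _))
  intro n hn
  by_cases e : h.χ n ∈ G22
  · exact b (h.memC_of_χ hn e)
  · obtain ⟨m, hm, e1⟩ := h.χ_surj h.hn (bb_mo 10).1
    exact (mul_mem_cancel_right (a m hm (e1 ▸ bb_mo 10))).mp (b (h.memC_of_χ (mul_mem hn hm) (by
      rw [h.χ_mul hn hm, e1]; exact mul_mem_G22 (h.χ_mem hn) (bb_mo 10).1 e o_not)))

theorem isType : IsOfJankoFourType G := by
  have Q2 := v.D_two.to_le v.Q_le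
  have CN := h.C_le_N.trans (v.N_le_Q g1)
  have zQ : z ∈ v.Q := mem_sup_left (mem_zpowers z)
  have z1 := h.z1 g1
  have qQ : h.g * h.q * h.g⁻¹ ∈ v.Q := (v.Q_eq g1).1 ▸ mem_sup_left (mem_sup_left (conj_mem_cj h.mem_R0.2.2.2.1))
  have hne : ∀ A : Subgroup G, v.Q ≤ A → A ≠ zpowers z := fun A hA e => h.x1 (h.eq_one_of_q (mem_zpowers x)
    (h.memC.mp (zpowers_le.mpr h.zC (e ▸ hA qQ))).symm)
  obtain ⟨xs, hc⟩ := h.xs_inv (h.gx ▸ h.yC) (h.gx ▸ h.yn) Q2 CN zQ z1 g1 (fun q hq => v.D_z (v.Q_le hq)) (hne _ le_rfl)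
  have CX := le_norm_cent CN
  have k : ∀ a ∈ zpowers x, a ∈ centralizer (v.Q : Set G) → a = 1 := fun a ha e => h.eq_one_of_q ha (e _ qQ).symm
  have zX : z ∈ centralizer (v.Q : Set G) := fun q hq => v.D_z (v.Q_le hq)
  have XC : centralizer (v.Q : Set G) ⊓ h.C ≤ zpowers z := fun a ha => by
    by_cases e : h.φ a = 1
    · rcases (h.φ_ker ha.2).mp e with e | e
      · rw [k a e ha.1]; exact one_mem _
      · rw [eq_inv_of_mul_eq_one_left (k _ e (mul_mem ha.1 zX))]; exact inv_mem (mem_zpowers z)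
    · have := h.norm_top inf_le_right (le_norm_inf CX le_normalizer) ha e
      exact absurd (k x (mem_zpowers x) (this.ge h.xC).1) h.x1
  have z2 : IsPGroup 2 (zpowers z) := isPGroup_zpowers (k := 1) (by rw [pow_one, pow_two, h.zz])
  have X3 := not_three h.x3 (CX h.xC) fun a ha e k hk => eq_one_of_ppow hk (by
    obtain ⟨j, hj⟩ := isPGroup_iff.mp z2 a (XC ⟨ha, h.memC.mpr e⟩)
    exact Nat.Coprime.coprime_dvd_left (orderOf_dvd_of_pow_eq_one hj) (Nat.Coprime.pow_left _ (by norm_num)))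
  have y2 : IsPGroup 2 ↥(centralizer (v.Q : Set G) ⊓ centralizer {h.y}) := isPGroup_iff.mpr fun a ha => by
    have m : h.g⁻¹ * a * h.g ∈ h.C := h.memC.mpr (by
      simpa [← h.gx, mul_assoc] using cj_comm' h.g⁻¹ (mem_centralizer_singleton_iff.mp ha.2))
    have e1 : h.g⁻¹ * a * h.g * h.u = h.u * (h.g⁻¹ * a * h.g) := by
      have := gu g1 (one_mem h.C)
      rw [one_mul] at this
      simpa [← this, mul_assoc] using cj_comm' h.g⁻¹ (ha.1 (h.g * h.u * h.g⁻¹) (by rw [this]; exact zQ)).symm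
    have e0 : h.g⁻¹ * a * h.g = h.g⁻¹ * a * h.g⁻¹⁻¹ := by rw [inv_inv]
    generalize h.g⁻¹ * a * h.g = a' at m e1 e0
    rw [h.nonsplit z1, ← mul_assoc, mul_assoc h.t, h.zc m, ← mul_assoc, mul_left_inj] at e1
    have e2 := (bb_pass (h.φ_mem _) (by rw [← h.φt, ← h.φ_mul m h.tC, e1, h.φ_mul h.tC m])).1
    rw [← pow_three', ← pow_mul, ← h.φ_pow m] at e2
    have e3 := h.ker_pow (pow_mem m _) e2
    rw [← pow_mul, e0, conj_pow, conj_eq_one_iff,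
      show 3 * 8 * 6 = 2 ^ 4 * 3 ^ 2 by rfl, pow_mul] at e3
    exact ⟨4, eq_one_of_ppow e3 (coprime_orderOf_of_mem
      ((Nat.Prime.coprime_iff_not_dvd Nat.prime_three).mpr X3).symm (pow_mem ha.1 _))⟩
  have s2 : ∀ a : G, IsPGroup 2 ↥(centralizer (v.Q : Set G) ⊓ centralizer {a}) →
      IsPGroup 2 ↥(centralizer (v.Q : Set G) ⊓ centralizer {h.s * a * h.s⁻¹}) := fun a ha => by
    rw [← cj_cent, ← cj_eq_self (CX h.sC), ← cj_inf]; exact isPGroup_cj ha _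
  have X2 := two_of_fix9 h.x3 h.y3 h.xy h.x1 h.yn X3 (CX h.xC) (CX h.yC) (z2.to_le XC) y2 (h.sy ▸ s2 _ y2)
    (h.s2y ▸ s2 _ (h.sy ▸ s2 _ y2))
  have cQ : centralizer (v.Q : Set G) ≤ v.Q := by
    have := (h.card_inv (h.gx ▸ h.yC) (h.gx ▸ h.yn) (isPGroup_sup X2 Q2 (centralizer_le_normalizer _))
      (le_norm_sup CX CN) (mem_sup_right zQ) z1 g1).resolve_left (hne _ le_sup_right)
    exact le_sup_left.trans (eq_of_le_of_card_ge le_sup_right (this.1.trans hc.symm).le).ge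
  obtain ⟨k, -⟩ := h.hyp (h.lx_of_norm xs hc cQ (v.N_le_Q g1) h.inv_x) hc h.inv_x
  exact k.isType

end VC

theorem g_ne : h.g * z * h.g⁻¹ ≠ z := fun e => by
  let K := centralizer ({z} : Set G)
  have CK : h.C ≤ K := fun c hc => mem_centralizer_singleton_iff.mpr (h.zc hc).symm
  let h' := h.pull K.subtype K.subtype_injective (x' := ⟨x, CK h.xC⟩) (z' := ⟨z, CK h.zC⟩) rfl rfl
    (by rwa [range_subtype])
  haveI : (zpowers (⟨z, CK h.zC⟩ : K)).Normal := ⟨fun a ha c => by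
    rcases (H49.mem_zpowers_invol h'.zz).mp ha with rfl | rfl
    · simp
    · rw [cj_of_comm (Subtype.ext (mem_centralizer_singleton_iff.mp c.2))]; exact ha⟩
  have ker : ∀ k, QuotientGroup.mk' (zpowers (⟨z, CK h.zC⟩ : K)) k = 1 ↔ k = 1 ∨ k = ⟨z, CK h.zC⟩ := fun k => by
    rw [← H49.mem_zpowers_invol h'.zz]; exact QuotientGroup.eq_one_iff k
  obtain ⟨h2⟩ := h'.push _ (QuotientGroup.mk'_surjective _) ker
  have e1 : (⟨h.g, mem_centralizer_singleton_iff.mpr (mul_inv_eq_iff_eq_mul.mp e)⟩ : K) * ⟨x, CK h.xC⟩ *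
      (⟨h.g, mem_centralizer_singleton_iff.mpr (mul_inv_eq_iff_eq_mul.mp e)⟩ : K)⁻¹ = ⟨h.y, CK h.yC⟩ := Subtype.ext h.gx
  obtain ⟨h3⟩ := h2.exists_nf (g := QuotientGroup.mk' _
    ⟨h.g, mem_centralizer_singleton_iff.mpr (mul_inv_eq_iff_eq_mul.mp e)⟩) (by
      rw [← map_inv, ← map_mul, ← map_mul, e1, h2.memC, ← map_mul, ← map_mul]
      exact congrArg _ (Subtype.ext h.xy.symm)) (by
      rw [← map_inv, ← map_mul, ← map_mul, e1, ← MonoidHom.map_zpowers]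
      rintro ⟨a, ⟨i, rfl⟩, e2⟩
      have := (ker (⟨h.y, CK h.yC⟩ * (⟨x, CK h.xC⟩ ^ i)⁻¹)).mp (by rw [map_mul, map_inv, ← e2, mul_inv_cancel])
      have m := zpow_mem h.xC i
      have e3 : h.φ (h.y * (x ^ i)⁻¹) = 1 := by
        rcases this with e | e <;> rw [show h.y * (x ^ i)⁻¹ = _ from congrArg Subtype.val e]
        exacts [h.φ_one, h.φ_z]
      rw [h.φ_mul h.yC (inv_mem m), h.φ_inv m, (h.φ_ker m).mpr (Or.inl (zpow_mem_zpowers x i)), h.φy] at e3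
      exact (ne_mo 0 :) (by simpa using e3))
  exact h3.not_one

include h in
theorem isType : IsOfJankoFourType G := let ⟨_, v⟩ := h.exists_vc h.g_ne; v.isType h.g_ne

include h in
theorem simple : IsSimpleGroup G := by
  haveI : Fact (Nat.Prime 3) := ⟨Nat.prime_three⟩
  haveI : Nontrivial G := ⟨⟨x, 1, h.x1⟩⟩
  refine ⟨fun N hN => ?_⟩
  have nN : ∀ a, a ∈ normalizer (N : Set G) := fun a => normalizer_eq_top N ▸ mem_top a
  have top : ∀ a ∈ N, a ∈ h.C → h.φ a ≠ 1 → h.C ≤ N := fun a ha hc e =>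
    (h.norm_top inf_le_right (le_norm_inf (fun a _ => nN a) le_normalizer) ⟨ha, hc⟩ e).ge.trans inf_le_left
  by_cases hx : x ∈ N
  · right
    have CN := top _ (h.gx ▸ hN.conj_mem _ hx h.g) h.yC (h.φy ▸ ne_mo 0)
    obtain ⟨R, hR⟩ := H98.exists_sylIn 3 h.C
    have hS := (h.syl_top hR).mono (hR.le.trans CN) le_top
    rw [eq_top_iff]
    intro a _
    obtain ⟨n, hn, c, hc, rfl⟩ := IsSylowIn.frattini ⟨hS.1, hS.2.1, hS.2.2⟩ (nN a)
    refine mul_mem hn (h.N_le CN (h.mem_N.mpr (((mem_zp3 h.x3).mp (h.center_syl hR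
      (H49.conj_mem_of_mem_normalizer hc (h.mem_syl hR)) fun r hr => ?_)).resolve_left (by simpa using h.x1))))
    simpa [mul_assoc] using cj_comm' c (h.memC.mp (hR.le (H49.conj_mem_of_mem_normalizer (inv_mem hc) hr)))
  · left
    have N3 : ¬ 3 ∣ Nat.card N := fun d => by
      obtain ⟨a, ha⟩ := exists_prime_orderOf_dvd_card' 3 d
      obtain ⟨k, e⟩ := h.all3 (a := a) (congrArg Subtype.val (ha ▸ pow_orderOf_eq_one a)) fun e => by
        rw [show a = 1 from Subtype.ext e, orderOf_one] at ha; omega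
      exact hx (by simpa [← e, mul_assoc] using hN.conj_mem _ a.2 k⁻¹)
    have ker : ∀ a ∈ N, a ∈ h.C → h.φ a = 1 := fun a ha hc => by_contra fun e => hx (top a ha hc e h.xC)
    have c1 : N ⊓ centralizer {x} ≤ ⊥ := fun a ha => by
      rcases h.ker_two ha.2 (ker a ha.1 ha.2) (k := 1) (eq_one_of_not_dvd N3 (pow_mem ha.1 _) (by
        rw [← pow_mul]; exact h.ker_pow ha.2 (ker a ha.1 ha.2))) with e | e
      · exact e
      · have := hN.conj_mem _ (e ▸ ha.1 : z ∈ N) h.g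
        rw [(h.g_one h.g_ne).1] at this
        have := ker _ this (mul_mem h.tC h.zC)
        rw [h.φ_mul h.tC h.zC, h.φ_z, h.φt, mul_one] at this
        exact absurd this (ne_mo 3)
    have c2 : ∀ k : G, N ⊓ centralizer {k * x * k⁻¹} ≤ ⊥ := fun k => by
      rw [← cj_cent, ← cj_eq_self (nN k), ← cj_inf, le_bot_iff.mp c1, H83.cj_bot]
    have nb : ∀ a, a ∈ normalizer ((⊥ : Subgroup G) : Set G) := fun a => normalizer_eq_top (⊥ : Subgroup G) ▸ mem_top a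
    exact le_bot_iff.mp (gen9 h.x3 h.y3 h.xy h.x1 h.yn N3 (nN _) (nN _) (nb _) (nb _) c1 (h.gx ▸ c2 _)
      (h.sgx ▸ c2 _) (h.ssgx ▸ c2 _))

end NF

set_option linter.all false in
theorem eqns_J4G9 : True := by
  first | (have := @_root_.Cfsg.Agent.H83.J4.NF.R0.eq_def.{0}) | (have := @_root_.Cfsg.Agent.H83.J4.NF.R0.eq_def) | skip
  first | (have := @_root_.Cfsg.Agent.H83.J4.NF.R0.eq_1.{0}) | (have := @_root_.Cfsg.Agent.H83.J4.NF.R0.eq_1) | skip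
  first | (have := @_root_.Cfsg.Agent.H83.J4.NF.R0.congr_simp.{0}) | (have := @_root_.Cfsg.Agent.H83.J4.NF.R0.congr_simp) | skip
  first | (have := @_root_.Cfsg.Agent.H83.J4.NF.R1.eq_def.{0}) | (have := @_root_.Cfsg.Agent.H83.J4.NF.R1.eq_def) | skip
  first | (have := @_root_.Cfsg.Agent.H83.J4.NF.R1.eq_1.{0}) | (have := @_root_.Cfsg.Agent.H83.J4.NF.R1.eq_1) | skip
  first | (have := @_root_.Cfsg.Agent.H83.J4.NF.R1.congr_simp.{0}) | (have := @_root_.Cfsg.Agent.H83.J4.NF.R1.congr_simp) | skip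
  first | (have := @_root_.Cfsg.Agent.H83.J4.NF.Q1.eq_def.{0}) | (have := @_root_.Cfsg.Agent.H83.J4.NF.Q1.eq_def) | skip
  first | (have := @_root_.Cfsg.Agent.H83.J4.NF.Q1.eq_1.{0}) | (have := @_root_.Cfsg.Agent.H83.J4.NF.Q1.eq_1) | skip
  first | (have := @_root_.Cfsg.Agent.H83.J4.NF.Q1.congr_simp.{0}) | (have := @_root_.Cfsg.Agent.H83.J4.NF.Q1.congr_simp) | skip
  first | (have := @_root_.Cfsg.Agent.H83.J4.NF.VC.D.eq_def.{0}) | (have := @_root_.Cfsg.Agent.H83.J4.NF.VC.D.eq_def) | skip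
  first | (have := @_root_.Cfsg.Agent.H83.J4.NF.VC.D.eq_1.{0}) | (have := @_root_.Cfsg.Agent.H83.J4.NF.VC.D.eq_1) | skip
  first | (have := @_root_.Cfsg.Agent.H83.J4.NF.VC.D.congr_simp.{0}) | (have := @_root_.Cfsg.Agent.H83.J4.NF.VC.D.congr_simp) | skip
  first | (have := @_root_.Cfsg.Agent.H83.J4.NF.VC.Q.eq_def.{0,0}) | (have := @_root_.Cfsg.Agent.H83.J4.NF.VC.Q.eq_def.{0}) | (have := @_root_.Cfsg.Agent.H83.J4.NF.VC.Q.eq_def) | skip
  first | (have := @_root_.Cfsg.Agent.H83.J4.NF.VC.Q.eq_1.{0,0}) | (have := @_root_.Cfsg.Agent.H83.J4.NF.VC.Q.eq_1.{0}) | (have := @_root_.Cfsg.Agent.H83.J4.NF.VC.Q.eq_1) | skip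
  first | (have := @_root_.Cfsg.Agent.H83.J4.NF.VC.Q.eq_2.{0,0}) | (have := @_root_.Cfsg.Agent.H83.J4.NF.VC.Q.eq_2.{0}) | (have := @_root_.Cfsg.Agent.H83.J4.NF.VC.Q.eq_2) | skip
  first | (have := @_root_.Cfsg.Agent.H83.J4.NF.VC.Q.congr_simp.{0,0}) | (have := @_root_.Cfsg.Agent.H83.J4.NF.VC.Q.congr_simp.{0}) | (have := @_root_.Cfsg.Agent.H83.J4.NF.VC.Q.congr_simp) | skip
  trivial

end Cfsg.Agent.H83.J4
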