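import Cfsg.Agent.H83.J4N

/-!
# The cocode structure of the elementary abelian group of order `2 ^ 11`
-/

set_option autoImplicit false
set_option maxRecDepth 1000000

namespace Cfsg.Agent.H83.J4

open H42 Cfsg Subgroup MulAction
open scoped Pointwise

/-- The correction of the lifts. -/
def etaT : ℕ := 47136

/-- Coordinates of the points. -/
def pjT : ℕ := 3833823188857411188305899242350252159105082352176787967308069054807495757912

/-- Low part of the cocode map. -/
def mK1 : ℕ := 137160981651678837089079994713637629486430769242312409176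

/-- High part of the cocode map. -/
def mK2 : ℕ := 792155185284749516985768192825380881155761437672921

/-- A section of the cocode map. -/
def mKi : ℕ := 420983633240817986986847090903857894597426849252250

/-- The duads. -/
def duT : ℕ := 10128207238413848164710248964850819745222535981448243062015602761308300687211528032371699078650306500407230279991649413083472000452106391832654692557430008774344571525012005545110317712798993495712767412525284848921349145670423354492348996473716361001213617013822016918081591042139581827131299324021136559293564468472373221110056642892225113021695706924117671991298799194970756314017924333322369216498583786361003234868370422460406484730839301353851832974774104738032230274998182638332997526094344247122303748350797149479746404375556399791271215107347322465893353351552782248336597492232043526950428643757589659514201250683516411591570131925126674376200792410262953686055781611418526571138041960907220326621881100622978757303252355675880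90434893464203415165974372060159179300112082677644335209771985773899627006855582520472921887391167871509955924233597400002581669212347854691716236365283357154352959941295054460527023960287605671281263591324623603024910243377515171647468627089548184356277495280651180739522173961187872779312326292801706309506320064783793735944139138740860314899192237076616149832527231131732724842563526615783370739402185038289316620369212268748539714144078926363586993499954624214965596829274779971478839754662805348972512663684755485040674844923821546822299101384208803262293197844565843596392185903829216765778694467097515124787851325645562465207745944728470412062243648229636571409732970421383987120069816777678543923856218338942650691741201221562330321015557976975061738260812329745822784790052766820584066435058691948037398126515199750772965195079286361425586872559537698861027820305504645481032681701585043742214417730739348857621416020185312291457579881579045622297569580569346280604247866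34455150800874222407152406755685015638473998101554149016809604169230580606356740992649723789842545366193757018311460898329465608028456136148467792647273789512287488695756270107904659561670127668662196060184286964473476831088957278291977422162212632387340559652949673019029476354696663378907288065618564772540730054370593144501692546152984503325041177477284437563626518122697342523404764104914924972326533169320268184565119830123975652222862610452497439080756525823978971129407210336846974848225082230267914882749629625370620893516760131784762110999375602782489095430401703339459398331798231551877781075773426234753438937754918852082359914166071029856634838120651691375565371382566818913351604436768679371367344523515195544126079141914225897323037686927471762498044315058174588977743673386181588221216827046312744856280058682289532759393758873050412572082816663579075842923385475574631822897020919942972030066018233304567860003500744902154969093359881869635709382553225053581161394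97967335065248049938923225137635975884366009262697293945419822191037251502179193406139994978420988483587603886491193039847859350082720875520150468646507532920067117371826125802106557969963005631938550939855530008371118670081529175571261720073026422941242209613154985011429964566219963097118080643704902707915629845730929290404415510096426259922671510618145963245072590465208526938603059025857548682401232079108922685238851966394468653724196056163088254702661903566781066310464533723986706220722456085531063694960106530122406157153216625047409390499359169085279964794224010978763142693404783081515759910210392971513483646891060678897264880814463237301279645028796429956156113379016038595280415711060090132322944419597452844930816714047253705343059276370146108237477950073310173365868387688779136298812372241327911027228377541646689830711730303962303979891702998363216187317338675744784601498855320674874462867927111055397333019274047037877303850580714058588707985632675826162309563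26897840695828724430713280203066161794774233470456860750829455604998788011481824657056951036145943794897375131842015720951003765978793278163788763764978039801016217246238454633238548199840311265399733705781065612333081767885005226641772451962324049121920772066926460989455108101584664454297678448009213445058021821062282557489729569490639047882661793771297070844838577153182011862848548429328717129742083525077046078349187744584709411439534995433091749607350921109392170292283643930817464457460444225032970449649657171063477450168027390849646985810790756579842242348861387972738868738133361961106964097596359335281416994864035869451855250178148402878797143916367828648670460905630751048488284875462145927815758503390127285415899738270335303742716789120923062783410147949897102795332666387846486552781726968813887338063370023187597225462547974340240826742301186013346174918250619857982633342927758504358559597352929773217873604802532872126068341594737294539418398193863861283900198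05226798209647841617947831305628233942652957923415693020505312968678640949451398930866759123067465531983442161305833871726035715852836653880559323472518330533478141858491760416762673252177818803106116316785275312641421925249217592941895426624495452835491852806147040435007320198783600186674912971637150763036537164614359581688512865715896857924531421811553633145706328499425775346774158395473169079633967734266696873524275908607885308037439201580750243254013591763985216971007064031884718196462972420903386761118634581241808859223813802606749804236905913171543204870134418748977210143493789849981318206888582201883788265837167454376995069342402190265931382421344150397762715780617394579639070361136420072591962993801189349303160987897108440026516712634377566584122942592643134599735393464175334684876187814864619418638920685935119356479878550337910014882016147929902145180582244402469046984992247669338371627298815229126890302853886256413910832576774503704744398010526035409546976182719388258258269176035231759053304447158377187845163796407683956281594676993937387765222182981125552581721978124706951394937356567336077512821276228518998695074274264213958687201632611086453123040832344114386853816145667015831683020619692977954786361958216609331817288618139229972865691833848244957760697739984588755028927474519980371106443648780242258645801803601406451313462026240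

/-- The labels. -/
def labT : ℕ := 32317006071310901658885873190101125529412995723796064977990575239964097402384372723057477335805998699416792127348815371511500690889078343423686502563409737070688038923453482151820771910845293137567313596583413373123609818826152992034189560094589242800511946345536705247078797264326292212132082274046510903133727077908840145494323339791160273370834559679258039601710679531050040818134202646349861038677841939462928627877170021498146401697504988062624510731885459294687093142855634989697533906491198358206007142993101225555253763880051923073964205463675643162074410232454260321738974224785198106632463200232190504790924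

/-- A word. -/
def vc1 : List ℕ := [1, 1, 1, 1, 1, 1, 1, 1, 1, 1, 2, 1, 3, 1, 1, 1, 1, 1, 1, 1, 1, 1, 1, 1, 1, 1, 1, 1, 1, 1, 1, 1, 1, 4, 1, 1, 1, 1, 1, 1, 1, 1, 1, 1]

/-- A word. -/
def vc2 : List ℕ := [2, 2, 2, 2, 2, 2, 2, 2, 4, 2, 1, 4, 2, 2, 2, 2, 1, 1, 1, 1, 1, 1, 1, 1, 1, 1, 4, 2]

/-- Action on the hexad group. -/
def piT1 : ℕ := 12891394753677870480

/-- Action on the hexad group. -/
def piT2 : ℕ := 15690348926379501120


/-- The correction. -/
def eta (m : ℕ) : ℕ := fld 1 etaT m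

/-- Change of coordinates. -/
def chi (j : ℕ) : ℕ := Nat.xor j (Nat.mul 64 (eta (Nat.div j 128)))

/-- The coordinates of a point. -/
def pj (i : ℕ) : ℕ := fld 11 pjT i

/-- The coordinates of a word. -/
noncomputable def cw (n : ℕ) : ℕ := Nat.xor (mv mK1 (Nat.mod n 4096)) (mv mK2 (Nat.div n 4096))

/-- An even word with given coordinates. -/
noncomputable def rp (j : ℕ) : ℕ := Nat.mul (mv mKi j) 4096

/-- The action on the coordinates. -/
noncomputable def cact (p j : ℕ) : ℕ := cw (img p (rp j))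

/-- The label. -/
def lab (j : ℕ) : Bool := tb labT j

/-- The label of a type. -/
noncomputable def tyA (j : ℕ) : Bool := force (ty j) fun s =>
  !(Bool.or (Nat.beq s 0) (Bool.or (Nat.beq s 2) (Nat.beq s 4)))

/-- The action on pairs. -/
def actP (T p : ℕ) : ℕ := Nat.add (Nat.mul 16 (fld 4 T (Nat.div p 16))) (fld 4 T (Nat.mod p 16))

/-- Check of the action on the hexad group. -/
noncomputable def piChk (c T : ℕ) : Bool := allB (fun m => force (fld 4 T m) fun n =>
  Bool.and (Nat.beq (mm (km (cy n)) (km c)) (mm (km c) (km (cy m))))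
    (Bool.and (Nat.beq m 0 == Nat.beq n 0)
      (allB (fun l => Nat.beq (fld 4 T (Nat.xor m l)) (Nat.xor n (fld 4 T l))) 16))) 16

theorem chk_pi : okW 6 vc1 = true ∧ okW 6 vc2 = true ∧ piChk (kW vc1) piT1 = true ∧
    piChk (kW vc2) piT2 = true := by decide +kernel

theorem chk_pairs : orb (actsOf actP [piT1, piT2]) 65 300 false (fun t0 _ =>
    orb (actsOf actP [piT1, piT2]) 33 300 false fun t1 _ => allB (fun m => allB (fun n =>
      Bool.or (Nat.beq m 0) (Bool.or (Nat.beq n 0) (Bool.or (Nat.beq m n)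
        (iteB (Nat.beq (Nat.xor (eta m) (Nat.xor (eta n) (eta (Nat.xor m n)))) 1)
          (t0.mem (Nat.add (Nat.mul 16 m) n)) (t1.mem (Nat.add (Nat.mul 16 m) n)))))) 16) 16) = true := by
  decide +kernel

theorem chk_tyy : ∀ m < 16, m ≠ 0 → tyA (128 * m) = false ∧ tyA (128 * m + 64) = true := by
  decide +kernel

/-- The candidates for the cocycle. -/
noncomputable def thc (a b : Bool) (m : ℕ) : ℕ := iteB (Nat.ble m 1) 0
  (iteB (Nat.beq (Nat.xor (eta m) (Nat.xor (eta 1) (eta (Nat.xor m 1)))) 1) (iteB a 0 64) (iteB b 0 64))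

theorem chk_N : cnt (fun j => Bool.and (!tyA j) (!tyA (Nat.xor j 64))) 2048 = 36 ∧ ∀ a b : Bool,
    cnt (fun j => Bool.and (!tyA j) (!tyA (Nat.xor (Nat.xor j 192) (thc a b (Nat.div j 128))))) 2048 = 36 →
      a = false ∧ b = true := by decide +kernel

theorem chk_lab : allB (fun j => Bool.and (lab j == tyA (chi j)) (Bool.and (Nat.beq (cw (rp j)) j)
    (Bool.and (Nat.ble (rp j) 16777215) (Bool.and (Nat.beq (Nat.mod (pc (rp j)) 2) 0)
      (Bool.or (lab j) (Bool.or (Nat.beq j 0) (force (fld 10 duT j) fun d =>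
        Bool.and (Nat.ble (Nat.mod d 32) 23) (Bool.and (Nat.ble (Nat.div d 32) 23)
          (Bool.and (!Nat.beq (Nat.mod d 32) (Nat.div d 32))
            (Nat.beq (Nat.xor (pj (Nat.mod d 32)) (pj (Nat.div d 32))) j)))))))))) 2048 = true := by
  decide +kernel

theorem chk_pj : ∀ i < 24, cw (2 ^ i) = pj i ∧ ∀ j < 24, i ≠ j → lab (pj i ^^^ pj j) = false ∧
    fld 10 duT (pj i ^^^ pj j) = min i j + 32 * max i j := by decide +kernel

theorem chk_four : allB (fun i => force (pj i) fun a => allB (fun j => force (Nat.xor a (pj j)) fun b =>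
    Bool.or (Nat.beq i j) (allB (fun k => force (Nat.xor b (pj k)) fun c =>
      Bool.or (Nat.beq i k) (Bool.or (Nat.beq j k) (allB (fun l => Bool.or (lab (Nat.xor c (pj l)))
        (Bool.or (Nat.beq i l) (Bool.or (Nat.beq j l) (Nat.beq k l)))) 24))) 24)) 24) 24 = true := by
  decide +kernel

theorem chk_cw : allB (fun h => Bool.and (Nat.beq (cw (enc h)) 0) (Bool.and (Nat.ble (mv mK1 h) 2047)
    (Bool.and (Nat.ble (mv mK2 h) 2047) (Bool.or (!Nat.beq (mv mK2 h) 0)
      (Bool.or (Nat.beq h 0) (Nat.beq h 2048)))))) 4096 = true := by decide +kernel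

theorem eta_le (m : ℕ) : eta m ≤ 1 := by have := fld_lt 1 etaT m; unfold eta; omega

theorem chi_eq (j : ℕ) : chi j = j ^^^ 64 * eta (j / 128) := rfl

theorem chi_div (j : ℕ) : chi j / 128 = j / 128 := by
  have := eta_le (j / 128)
  rw [chi_eq, xor_div128, Nat.div_eq_of_lt (by omega : 64 * eta (j / 128) < 128), Nat.xor_zero]

theorem chi_lt {j : ℕ} (hj : j < 2048) : chi j < 2048 := by
  have := eta_le (j / 128)
  rw [chi_eq]; exact xor_lt11 hj (by omega)

theorem chi_chi (j : ℕ) : chi (chi j) = j := by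
  rw [chi_eq, chi_div, chi_eq, Nat.xor_assoc, Nat.xor_self, Nat.xor_zero]

theorem chi_of_lt {j : ℕ} (hj : j < 128) : chi j = j := by
  rw [chi_eq, Nat.div_eq_of_lt hj]; exact Nat.xor_zero j

theorem cw_eq (n : ℕ) : cw n = mv mK1 (n % 4096) ^^^ mv mK2 (n / 4096) := rfl

theorem cw_aux {h : ℕ} (hh : h < 4096) : cw (enc h) = 0 ∧ mv mK1 h < 2048 ∧ mv mK2 h < 2048 ∧
    (mv mK2 h = 0 → h = 0 ∨ h = 2048) := by
  have := of_allB chk_cw hh
  simp only [Bool.and_eq_true, Bool.or_eq_true, beq_iff, ble_iff, Bool.not_eq_true', beq_false_iff] at this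
  exact ⟨this.1, by omega, by omega, fun h => this.2.2.2.resolve_left (fun h' => h' h)⟩

theorem cw_lt {n : ℕ} (hn : n < 2 ^ 24) : cw n < 2048 :=
  cw_eq n ▸ xor_lt11 (cw_aux (Nat.mod_lt _ (by norm_num))).2.1 (cw_aux (by omega)).2.2.1

theorem cw_xor {a b : ℕ} (ha : a < 2 ^ 24) (hb : b < 2 ^ 24) : cw (a ^^^ b) = cw a ^^^ cw b := by
  rw [cw_eq, cw_eq, cw_eq, show (4096 : ℕ) = 2 ^ 12 from rfl, Nat.xor_mod_two_pow, Nat.xor_div_two_pow,
    mv_xor _ (Nat.mod_lt _ (by norm_num)) (Nat.mod_lt _ (by norm_num)),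
    mv_xor _ (by omega) (by omega)]
  ac_rfl

theorem lab_aux {j : ℕ} (hj : j < 2048) : lab j = tyA (chi j) ∧ cw (rp j) = j ∧ rp j < 2 ^ 24 ∧
    pc (rp j) % 2 = 0 ∧ (lab j = false → j ≠ 0 → ∃ a < 24, ∃ b < 24, a ≠ b ∧ pj a ^^^ pj b = j) := by
  have := of_allB chk_lab hj
  simp only [Bool.and_eq_true, Bool.or_eq_true, beq_iff, ble_iff, Bool.not_eq_true', beq_false_iff,
    force_eq, beq_iff_eq] at this
  obtain ⟨h1, h2, h3, h4, h5⟩ := this
  refine ⟨h1, h2, by omega, h4, fun a b => ?_⟩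
  rcases h5 with h5 | h5 | h5
  · rw [a] at h5; cases h5
  · exact absurd h5 b
  · exact ⟨_, Nat.lt_succ_of_le h5.1, _, Nat.lt_succ_of_le h5.2.1, h5.2.2.1, h5.2.2.2⟩

theorem pj_lt (i : ℕ) : pj i < 2048 := fld_lt 11 pjT i

theorem pj_23 : pj 23 = 0 := by decide +kernel

theorem cw_zero_iff {n : ℕ} (hn : n < 2 ^ 24) (he : Even (toSet n).card) :
    cw n = 0 ↔ toSet n ∈ codeSets := by
  have hm : n % 4096 < 4096 := Nat.mod_lt _ (by norm_num)
  constructor
  · intro h
    have h1 : cw (n ^^^ enc (n % 4096)) = 0 := by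
      rw [cw_xor hn (enc_lt _), h, (cw_aux hm).1]; rfl
    have h2 : (n ^^^ enc (n % 4096)) % 4096 = 0 := by
      rw [show (4096 : ℕ) = 2 ^ 12 from rfl, Nat.xor_mod_two_pow]
      exact (congrArg _ (enc_mod hm)).trans (Nat.xor_self _)
    have h3 : n ^^^ enc (n % 4096) < 2 ^ 24 := xor_lt hn (enc_lt _)
    rw [cw_eq, h2, mv_zero, Nat.zero_xor] at h1
    have h4 : n = (n ^^^ enc (n % 4096)) ^^^ enc (n % 4096) := by
      rw [Nat.xor_assoc, Nat.xor_self, Nat.xor_zero]
    have h5 := toSet_mem_codeSets (isCode_enc hm)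
    rcases (cw_aux (by omega)).2.2.2 h1 with e | e
    · rw [show n ^^^ enc (n % 4096) = 0 by omega, Nat.zero_xor] at h4
      rw [h4]; exact h5
    · rw [show n ^^^ enc (n % 4096) = Nat.pow 2 23 by show _ = 8388608; omega] at h4
      have h6 := card_symmDiff_add (toSet (Nat.pow 2 23)) (toSet (enc (n % 4096)))
      rw [← toSet_xor, toSet_pow (by norm_num), Finset.card_singleton] at h6
      have h7 := card_codeSets h5
      rw [h4] at he
      obtain ⟨k, hk⟩ := he
      have : (toSet (Nat.xor (Nat.pow 2 23) (enc (n % 4096)))).card = k + k := hk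
      omega
  · intro h
    obtain ⟨m, hm, e⟩ := isCode_iff.mp ((toSet_mem_codeSets_iff hn).mp h)
    rw [← e]; exact (cw_aux hm).1

theorem mask_symmDiff (s t : Finset GolayPt) : mask (symmDiff s t) = mask s ^^^ mask t :=
  toSet_inj (mask_lt _) (xor_lt (mask_lt s) (mask_lt t)) (by
    rw [toSet_mask]; exact ((toSet_xor _ _).trans (by rw [toSet_mask, toSet_mask])).symm)

theorem mask_singleton (p : GolayPt) : mask {p} = 2 ^ idx p :=
  toSet_inj (mask_lt _) (Nat.pow_lt_pow_right (by norm_num) (idx_lt p)) (by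
    rw [toSet_mask]; exact ((toSet_pow (idx_lt p)).trans (by rw [pt_idx])).symm)

/-- The data normalised so that the lifts are not conjugate to the central involution. -/
structure JZ (G : Type*) [Group G] extends JY G where
  hn : ¬ IsIsolatedInvolution z
  hB : ¬ IsConj z (y 1)

theorem JA.exists_JZ {G : Type*} [Group G] [Finite G] (J : JA G) (hn : ¬ IsIsolatedInvolution J.z) :
    ∃ Z : JZ G, Z.toJA = J := by
  obtain ⟨Y, rfl⟩ := J.exists_JY
  by_cases h : IsConj Y.z (Y.y 1)
  · exact ⟨⟨Y.swap, hn, (Y.orbits hn).2.2.1.mp h⟩, rfl⟩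
  · exact ⟨⟨Y, hn, h⟩, rfl⟩

namespace JZ

variable {G : Type*} [Group G] [Finite G] (J : JZ G)

theorem conj_ψ {j : ℕ} (hj : j < 2048) : IsConj J.z (J.ψ j) ↔ tyA j = true := by
  have tr : ∀ {x y : G}, IsConj x y → (IsConj J.z y ↔ IsConj J.z x) := fun h =>
    ⟨fun h1 => h1.trans h.symm, fun h1 => h1.trans h⟩
  obtain ⟨o1, o2, o3, -⟩ := J.orbits J.hn
  have o4 : IsConj J.z (J.y 1 * J.z) := by by_contra h; exact J.hB (o3.mpr h)
  rw [tyA, force_eq]
  rcases J.ty_spec hj with ⟨e, h⟩ | ⟨e, h⟩ | ⟨e, h⟩ | ⟨e, h⟩ | ⟨e, h⟩ | ⟨e, h⟩ | ⟨e, h⟩ <;> rw [e]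
  · rw [h, J.ψ_zero]; simpa using J.toHyp.z_ne
  · rw [h, J.ψ_64]; exact ⟨fun _ => rfl, fun _ => IsConj.refl _⟩
  · rw [tr h]; exact ⟨fun h => absurd h J.not_conj36, fun h => by cases h⟩
  · rw [tr h]; exact ⟨fun _ => rfl, fun _ => o1⟩
  · rw [tr h]; exact ⟨fun h => absurd h J.hB, fun h => by cases h⟩
  · rw [tr h]; exact ⟨fun _ => rfl, fun _ => o4⟩
  · rw [tr h]; exact ⟨fun _ => rfl, fun _ => o2⟩

omit [Finite G] in
theorem ψ_y (m : ℕ) : J.ψ (128 * m) = J.y m := by
  rw [JY.ψ, xU_mod, Nat.mul_mod_right, xU_zero, J.e_zero, one_mul, Nat.mul_div_cancel_left _ (by norm_num)]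

theorem y_B {m : ℕ} (hm : m < 16) : ¬ IsConj J.z (J.y m) := by
  rcases Nat.eq_zero_or_pos m with rfl | h
  · rw [J.y0]; simpa using J.toHyp.z_ne
  · rw [← J.ψ_y, J.conj_ψ (by omega), (chk_tyy m hm h.ne').1]; simp

theorem yz_A {m : ℕ} (hm : m < 16) : IsConj J.z (J.y m * J.z) := by
  rcases Nat.eq_zero_or_pos m with rfl | h
  · rw [J.y0, one_mul]
  · have : 128 * m ^^^ 64 = 128 * m + 64 := by
      clear h; revert m; decide
    rw [← J.ψ_y, J.ψ_z (by omega), this, J.conj_ψ (by omega), (chk_tyy m hm h.ne').2]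

theorem conj_y {k : G} {c m n : ℕ} (hk : J.KD k c) (hm : m < 16) (hn : n < 16)
    (e : mm (km (cy n)) (km c) = mm (km c) (km (cy m))) : k * J.y m * k⁻¹ = J.y n :=
  (J.conj_uniq hk (J.ky m hm) (J.ky n hn) e).resolve_right fun h =>
    J.y_B hm ((J.yz_A hn).trans (isConj_iff.mpr ⟨k, h⟩).symm)

theorem th_reach {p q : ℕ} (hp : p < 256) (h : Reach (actsOf actP [piT1, piT2]) p q) : q < 256 ∧
    (J.y (q / 16) * J.y (q % 16) = J.y (q / 16 ^^^ q % 16) ↔
      J.y (p / 16) * J.y (p % 16) = J.y (p / 16 ^^^ p % 16)) := by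
  induction h with
  | refl => exact ⟨hp, Iff.rfl⟩
  | @tail b _ _ hbc ih =>
    obtain ⟨f, hf, rfl⟩ := hbc
    obtain ⟨T, hT, rfl⟩ := mem_actsOf.mp hf
    obtain ⟨w, hw, hc⟩ : ∃ w, okW 6 w = true ∧ piChk (kW w) T = true := by
      rcases List.mem_pair.mp hT with rfl | rfl
      exacts [⟨_, chk_pi.1, chk_pi.2.2.1⟩, ⟨_, chk_pi.2.1, chk_pi.2.2.2⟩]
    have key : ∀ m < 16, wd J.k w * J.y m * (wd J.k w)⁻¹ = J.y (fld 4 T m) ∧
        ∀ l < 16, fld 4 T (m ^^^ l) = fld 4 T m ^^^ fld 4 T l := fun m hm => by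
      have := of_allB hc hm
      simp only [force_eq, Bool.and_eq_true, beq_iff] at this
      exact ⟨J.conj_y (J.kd_wd hw) hm (fld_lt 4 T m) this.1, fun l hl => beq_iff.mp (of_allB this.2.2 hl)⟩
    have h1 := fld_lt 4 T (b / 16)
    have h2 := fld_lt 4 T (b % 16)
    have e0 : actP T b = 16 * fld 4 T (b / 16) + fld 4 T (b % 16) := rfl
    have e1 : actP T b / 16 = fld 4 T (b / 16) := by omega
    have e2 : actP T b % 16 = fld 4 T (b % 16) := by omega
    have a1 : b / 16 < 16 := by omega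
    have a2 : b % 16 < 16 := by omega
    refine ⟨by omega, Iff.trans ?_ ih.2⟩
    rw [e1, e2, ← (key _ a1).2 _ a2, ← (key _ a1).1, ← (key _ a2).1, ← (key _ (xor_lt4 a1 a2)).1,
      conj_mul, mul_left_inj, mul_right_inj]

theorem th_cases {m n : ℕ} (hm : m < 16) (hn : n < 16) (h1 : m ≠ 0) (h2 : n ≠ 0) (h3 : m ≠ n) :
    (J.y m * J.y n = J.y (m ^^^ n) ↔ if eta m ^^^ (eta n ^^^ eta (m ^^^ n)) = 1 then
      J.y 4 * J.y 1 = J.y 5 else J.y 2 * J.y 1 = J.y 3) := by
  obtain ⟨t0, _, ht0, h⟩ := orb_true chk_pairs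
  obtain ⟨t1, _, ht1, h⟩ := orb_true h
  have h4 := of_allB (of_allB h hm) hn
  rw [beq_false_iff.mpr h1, beq_false_iff.mpr h2, beq_false_iff.mpr h3, Bool.false_or, Bool.false_or,
    Bool.false_or, iteB_eq] at h4
  have e1 : Nat.add (Nat.mul 16 m) n / 16 = m := by show (16 * m + n) / 16 = m; omega
  have e2 : Nat.add (Nat.mul 16 m) n % 16 = n := by show (16 * m + n) % 16 = n; omega
  split_ifs with h5
  · replace h4 := (if_pos (beq_iff.mpr h5)).symm.trans h4
    have := (J.th_reach (by norm_num) ((ht0.mem_iff _).mp h4)).2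
    rwa [e1, e2] at this
  · replace h4 := (if_neg (fun h => h5 (beq_iff.mp h))).symm.trans h4
    have := (J.th_reach (by norm_num) ((ht1.mem_iff _).mp h4)).2
    rwa [e1, e2] at this

theorem ncard_N {v : G} (f : ℕ → ℕ) (hf : ∀ j < 2048, f j < 2048 ∧ J.ψ j * v = J.ψ (f j)) :
    {d | d ∈ J.V ∧ ¬ IsConj J.z d ∧ ¬ IsConj J.z (d * v)}.ncard =
      cnt (fun j => Bool.and (!tyA j) (!tyA (f j))) 2048 := by
  have key : ∀ j < 2048, (¬ IsConj J.z (J.ψ j) ∧ ¬ IsConj J.z (J.ψ j * v)) ↔
      Bool.and (!tyA j) (!tyA (f j)) = true := fun j hj => by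
    rw [(hf j hj).2, J.conj_ψ hj, J.conj_ψ (hf j hj).1]; simp
  refine ncard_eq_cnt _ J.ψ _ 2048 (fun i hi j hj _ _ e => J.ψ_inj hi hj e) fun x => ⟨?_, ?_⟩
  · rintro ⟨⟨j, hj, rfl⟩, h⟩; exact ⟨j, hj, (key j hj).mp h, rfl⟩
  · rintro ⟨j, hj, h, rfl⟩; exact ⟨J.ψ_mem hj, (key j hj).mpr h⟩

open Classical in
theorem th_vals : ¬ J.y 4 * J.y 1 = J.y 5 ∧ J.y 2 * J.y 1 = J.y 3 := by
  have h1 := J.ncard_N (v := J.z) (fun j => Nat.xor j 64)
    (fun j hj => ⟨xor_lt11 hj (by norm_num), J.ψ_z hj⟩)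
  rw [chk_N.1] at h1
  have h2 := J.ncard_N (v := J.ψ 192) (fun j => Nat.xor (Nat.xor j 192)
      (thc (decide (J.y 4 * J.y 1 = J.y 5)) (decide (J.y 2 * J.y 1 = J.y 3)) (Nat.div j 128)))
    (fun j hj => by
      have hm : j / 128 < 16 := by omega
      have lt : j ^^^ 192 < 2048 := xor_lt11 hj (by norm_num)
      have hd : (j ^^^ 192) / 128 = j / 128 ^^^ 1 := xor_div128 j 192
      have A : J.y (j / 128) * J.y 1 = J.y (j / 128 ^^^ 1) → J.ψ j * J.ψ 192 = J.ψ (j ^^^ 192 ^^^ 0) :=
        fun h => by rw [J.ψ_mul' hj, Nat.xor_zero, JY.ψ, hd, ← h]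
      have B : ¬ J.y (j / 128) * J.y 1 = J.y (j / 128 ^^^ 1) → J.ψ j * J.ψ 192 = J.ψ (j ^^^ 192 ^^^ 64) :=
        fun h => by
          rw [J.ψ_mul' hj, ← J.ψ_z lt, JY.ψ, hd, mul_assoc, ← (J.ymul hm (by norm_num)).resolve_left h]
      have lt0 : j ^^^ 192 ^^^ 0 < 2048 := xor_lt11 lt (by norm_num)
      have lt1 : j ^^^ 192 ^^^ 64 < 2048 := xor_lt11 lt (by norm_num)
      show (j ^^^ 192 ^^^ thc _ _ (j / 128) < 2048) ∧ _ = J.ψ (j ^^^ 192 ^^^ thc _ _ (j / 128))
      unfold thc
      simp only [iteB_eq, ble_iff, beq_iff, decide_eq_true_eq]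
      by_cases h0 : j / 128 ≤ 1
      · rw [if_pos h0]
        refine ⟨lt0, A ?_⟩
        obtain e | e : j / 128 = 0 ∨ j / 128 = 1 := by omega
        · rw [e, J.y0, one_mul]; rfl
        · rw [e, J.ysq (by norm_num), ← J.y0]; rfl
      · have := J.th_cases hm (by norm_num : 1 < 16) (by omega) (by norm_num) (by omega)
        rw [if_neg h0]
        by_cases h3 : eta (j / 128) ^^^ (eta 1 ^^^ eta (j / 128 ^^^ 1)) = 1
        · rw [if_pos h3] at this
          rw [if_pos (show Nat.xor (eta (j / 128)) (Nat.xor (eta 1) (eta (Nat.xor (j / 128) 1))) = 1 from h3)]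
          split_ifs with h4
          exacts [⟨lt0, A (this.mpr h4)⟩, ⟨lt1, B (fun h => h4 (this.mp h))⟩]
        · rw [if_neg h3] at this
          rw [if_neg (show ¬ Nat.xor (eta (j / 128)) (Nat.xor (eta 1) (eta (Nat.xor (j / 128) 1))) = 1 from h3)]
          split_ifs with h4
          exacts [⟨lt0, A (this.mpr h4)⟩, ⟨lt1, B (fun h => h4 (this.mp h))⟩])
  obtain ⟨g, hg⟩ := isConj_iff.mp ((J.conj_ψ (j := 192) (by norm_num)).mpr (by decide +kernel))
  obtain ⟨m, hm, e⟩ := J.fusion J.z_mem_V (hg ▸ J.ψ_mem (by norm_num))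
  rw [hg] at e
  have tr : ∀ x, IsConj J.z (m * x * m⁻¹) ↔ IsConj J.z x := fun x =>
    ⟨fun h => h.trans (isConj_iff.mpr ⟨m, rfl⟩).symm, fun h => h.trans (isConj_iff.mpr ⟨m, rfl⟩)⟩
  have h3 : {d | d ∈ J.V ∧ ¬ IsConj J.z d ∧ ¬ IsConj J.z (d * J.z)}.ncard =
      {d | d ∈ J.V ∧ ¬ IsConj J.z d ∧ ¬ IsConj J.z (d * J.ψ 192)}.ncard := by
    refine Set.ncard_congr (fun d _ => m * d * m⁻¹) ?_ (fun a b _ _ h => by simpa using h) ?_
    · rintro d ⟨a, b, c⟩
      exact ⟨H49.conj_mem_of_mem_normalizer hm a, by rwa [tr], by rwa [← e, conj_mul, tr]⟩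
    · rintro d ⟨a, b, c⟩
      have e1 : m * (m⁻¹ * d * m⁻¹⁻¹) * m⁻¹ = d := by group
      refine ⟨m⁻¹ * d * m⁻¹⁻¹, ⟨H49.conj_mem_of_mem_normalizer (J.M.inv_mem hm) a, by rwa [← tr, e1], ?_⟩, e1⟩
      rwa [← tr, ← conj_mul, e1, e]
  simpa using chk_N.2 _ _ (h2.symm.trans (h3.symm.trans h1))

theorem y_mul {m n : ℕ} (hm : m < 16) (hn : n < 16) :
    J.y m * J.y n = J.y (m ^^^ n) * J.z ^ (eta m ^^^ (eta n ^^^ eta (m ^^^ n))) := by
  have e0 : eta 0 = 0 := by decide +kernel
  by_cases h1 : m = 0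
  · simp [h1, J.y0, e0]
  by_cases h2 : n = 0
  · simp [h2, J.y0, e0]
  by_cases h3 : m = n
  · simp [h3, J.y0, e0, J.ysq hn]
  have h := J.th_cases hm hn h1 h2 h3
  have := xor_le_one (eta_le m) (xor_le_one (eta_le n) (eta_le (m ^^^ n)))
  split_ifs at h with h4
  · rw [h4, pow_one]; exact (J.ymul hm hn).resolve_left fun h5 => J.th_vals.1 (h.mp h5)
  · rw [show eta m ^^^ (eta n ^^^ eta (m ^^^ n)) = 0 by omega, pow_zero, mul_one]
    exact h.mpr J.th_vals.2

/-- The linear coordinates. -/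
def χ (j : ℕ) : G := J.ψ (chi j)

omit [Finite G] in
theorem χ_eq {j : ℕ} (hj : j < 2048) : J.χ j = J.ψ j * J.z ^ eta (j / 128) := by
  have := eta_le (j / 128)
  rw [χ, chi_eq]
  obtain e | e : eta (j / 128) = 0 ∨ eta (j / 128) = 1 := by omega
  · simp [e]
  · rw [e, pow_one, J.ψ_z hj]

theorem χ_mem {j : ℕ} (hj : j < 2048) : J.χ j ∈ J.V := J.ψ_mem (chi_lt hj)

theorem χ_mul {i j : ℕ} (hi : i < 2048) (hj : j < 2048) : J.χ i * J.χ j = J.χ (i ^^^ j) := by
  have c : ∀ n, J.z ^ n * J.ψ j = J.ψ j * J.z ^ n := fun n =>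
    J.V_comm (J.V.pow_mem J.z_mem_V n) (J.ψ_mem hj)
  rw [J.χ_eq hi, J.χ_eq hj, J.χ_eq (xor_lt11 hi hj), mul_assoc, ← mul_assoc (J.z ^ _), c, mul_assoc,
    ← mul_assoc, J.ψ_mul' hi, J.y_mul (by omega) (by omega), JY.ψ, xor_div128, mul_assoc, mul_assoc,
    mul_assoc, ← pow_xor J.toHyp.zz, ← pow_xor J.toHyp.zz]
  congr 3
  apply Nat.eq_of_testBit_eq; intro t; simp only [Nat.testBit_xor]
  cases (eta (i / 128)).testBit t <;> cases (eta (j / 128)).testBit t <;> simp

theorem χ_inj {i j : ℕ} (hi : i < 2048) (hj : j < 2048) (e : J.χ i = J.χ j) : i = j := by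
  rw [← chi_chi i, J.ψ_inj (chi_lt hi) (chi_lt hj) e, chi_chi]

omit [Finite G] in
theorem χ_lt {j : ℕ} (hj : j < 128) : J.χ j = J.e (xU j) := by rw [χ, chi_of_lt hj, J.ψ_lt hj]

omit [Finite G] in
theorem χ_zero : J.χ 0 = 1 := by rw [χ, chi_of_lt (by norm_num), J.ψ_zero]

omit [Finite G] in
theorem χ_64 : J.χ 64 = J.z := by rw [χ, chi_of_lt (by norm_num), J.ψ_64]

theorem exists_χ {v : G} (hv : v ∈ J.V) : ∃ j < 2048, J.χ j = v := by
  obtain ⟨j, hj, rfl⟩ := hv
  exact ⟨chi j, chi_lt hj, by rw [χ, chi_chi]⟩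

theorem conj_χ {j : ℕ} (hj : j < 2048) : IsConj J.z (J.χ j) ↔ lab j = true := by
  rw [χ, J.conj_ψ (chi_lt hj), (lab_aux hj).1]

theorem χ_eq_one {j : ℕ} (hj : j < 2048) : J.χ j = 1 ↔ j = 0 :=
  ⟨fun h => J.χ_inj hj (by norm_num) (h.trans J.χ_zero.symm), fun h => h ▸ J.χ_zero⟩

/-- The element of a set of points. -/
noncomputable def K (s : Finset GolayPt) : G := J.χ (cw (mask s))

omit [Finite G] in
theorem K_toSet {n : ℕ} (hn : n < 2 ^ 24) : J.K (toSet n) = J.χ (cw n) := by rw [K, mask_toSet hn]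

theorem K_mem (s : Finset GolayPt) : J.K s ∈ J.V := J.χ_mem (cw_lt (mask_lt s))

theorem K_symmDiff (s t : Finset GolayPt) : J.K (symmDiff s t) = J.K s * J.K t := by
  rw [K, K, K, mask_symmDiff, cw_xor (mask_lt s) (mask_lt t), J.χ_mul (cw_lt (mask_lt s)) (cw_lt (mask_lt t))]

theorem K_eq_one {s : Finset GolayPt} (hs : Even s.card) : J.K s = 1 ↔ s ∈ codeSets := by
  rw [K, J.χ_eq_one (cw_lt (mask_lt s)), cw_zero_iff (mask_lt s) (by rwa [toSet_mask]), toSet_mask]

omit [Finite G] in
theorem K_singleton (p : GolayPt) : J.K {p} = J.χ (pj (idx p)) := by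
  rw [K, mask_singleton, (chk_pj _ (idx_lt p)).1]

omit [Finite G] in
theorem K_rp {j : ℕ} (hj : j < 2048) : J.K (toSet (rp j)) = J.χ j := by
  rw [J.K_toSet (lab_aux hj).2.2.1, (lab_aux hj).2.1]

theorem exists_K {v : G} (hv : v ∈ J.V) : ∃ s, Even s.card ∧ J.K s = v := by
  obtain ⟨j, hj, rfl⟩ := J.exists_χ hv
  exact ⟨_, by rw [card_toSet (lab_aux hj).2.2.1, Nat.even_iff]; exact (lab_aux hj).2.2.2.1, J.K_rp hj⟩

/-- The element of a duad. -/
noncomputable def δ (p q : GolayPt) : G := J.K {p} * J.K {q}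

theorem δ_eq (p q : GolayPt) : J.δ p q = J.χ (pj (idx p) ^^^ pj (idx q)) := by
  rw [δ, K_singleton, K_singleton, J.χ_mul (pj_lt _) (pj_lt _)]

theorem δ_pt {i j : ℕ} (hi : i < 24) (hj : j < 24) : J.δ (pt i) (pt j) = J.χ (pj i ^^^ pj j) := by
  rw [δ_eq, idx_pt hi, idx_pt hj]

theorem δ_mem (p q : GolayPt) : J.δ p q ∈ J.V := J.V.mul_mem (J.K_mem _) (J.K_mem _)

theorem δ_self (p : GolayPt) : J.δ p p = 1 := J.V_sq _ (J.K_mem _)

theorem δ_comm (p q : GolayPt) : J.δ p q = J.δ q p := J.V_comm (J.K_mem _) (J.K_mem _)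

theorem δ_mul (p q r : GolayPt) : J.δ p q * J.δ q r = J.δ p r := by
  rw [δ, δ, δ, mul_assoc, ← mul_assoc (J.K {q}), J.V_sq _ (J.K_mem _), one_mul]

theorem δ_sq (p q : GolayPt) : J.δ p q * J.δ p q = 1 := J.V_sq _ (J.δ_mem p q)

theorem δ_inf (p : GolayPt) : J.δ p (pt 23) = J.K {p} := by
  rw [δ, K_singleton J (pt 23), idx_pt (by norm_num), pj_23, J.χ_zero, mul_one]

theorem δ_pair {p q : GolayPt} (h : p ≠ q) : J.K {p, q} = J.δ p q := by
  rw [δ, ← K_symmDiff]; congr 1; ext x
  simp only [Finset.mem_insert, Finset.mem_singleton, Finset.mem_symmDiff]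
  constructor
  · rintro (rfl | rfl)
    exacts [Or.inl ⟨rfl, h⟩, Or.inr ⟨rfl, h.symm⟩]
  · rintro (h | h)
    exacts [Or.inl h.1, Or.inr h.1]

theorem δ_B (p q : GolayPt) : ¬ IsConj J.z (J.δ p q) := by
  by_cases h : p = q
  · rw [h, δ_self]; simpa using J.toHyp.z_ne
  rw [δ_eq, J.conj_χ (xor_lt11 (pj_lt _) (pj_lt _)),
    ((chk_pj _ (idx_lt p)).2 _ (idx_lt q) (fun e => h (idx_injective e))).1]
  simp

theorem δ_inj {p q r s : GolayPt} (h1 : p ≠ q) (h2 : r ≠ s) (e : J.δ p q = J.δ r s) :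
    (p = r ∧ q = s) ∨ (p = s ∧ q = r) := by
  rw [δ_eq, δ_eq] at e
  have e1 := J.χ_inj (xor_lt11 (pj_lt _) (pj_lt _)) (xor_lt11 (pj_lt _) (pj_lt _)) e
  have a := ((chk_pj _ (idx_lt p)).2 _ (idx_lt q) (fun e => h1 (idx_injective e))).2
  have b := ((chk_pj _ (idx_lt r)).2 _ (idx_lt s) (fun e => h2 (idx_injective e))).2
  rw [e1, b] at a
  have := idx_lt p; have := idx_lt q; have := idx_lt r; have := idx_lt s
  simp only [← idx_injective.eq_iff]
  omega

theorem δ_ne_one {p q : GolayPt} (h : p ≠ q) : J.δ p q ≠ 1 := by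
  intro e
  have h1 := (J.K_eq_one (s := {p, q}) (by rw [Finset.card_pair h]; decide)).mp (by rw [J.δ_pair h, e])
  have := card_codeSets h1
  rw [Finset.card_pair h] at this; omega

theorem δ_four {p q r s : GolayPt} (h1 : p ≠ q) (h2 : p ≠ r) (h3 : p ≠ s) (h4 : q ≠ r) (h5 : q ≠ s)
    (h6 : r ≠ s) : IsConj J.z (J.δ p q * J.δ r s) := by
  have ne : ∀ {a b : GolayPt}, a ≠ b → Nat.beq (idx a) (idx b) = false := fun h =>
    beq_false_iff.mpr fun e => h (idx_injective e)
  have h := of_allB chk_four (idx_lt p)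
  rw [force_eq] at h
  have h := of_allB h (idx_lt q)
  rw [force_eq, ne h1, Bool.false_or] at h
  have h := of_allB h (idx_lt r)
  rw [force_eq, ne h2, ne h4, Bool.false_or, Bool.false_or] at h
  have h := of_allB h (idx_lt s)
  rw [ne h3, ne h5, ne h6, Bool.or_false, Bool.or_false, Bool.or_false] at h
  have l := fun a b => xor_lt11 (pj_lt a) (pj_lt b)
  rw [δ_eq, δ_eq, J.χ_mul (l _ _) (l _ _), J.conj_χ (xor_lt11 (l _ _) (l _ _)), ← Nat.xor_assoc]
  exact h

theorem exists_δ {v : G} (hv : v ∈ J.V) (h1 : v ≠ 1) (h : ¬ IsConj J.z v) :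
    ∃ p q, p ≠ q ∧ J.δ p q = v := by
  obtain ⟨j, hj, rfl⟩ := J.exists_χ hv
  rw [J.conj_χ hj] at h
  obtain ⟨a, ha, b, hb, h2, h3⟩ := (lab_aux hj).2.2.2.2 (by simpa using h) (fun e => h1 (e ▸ J.χ_zero))
  exact ⟨pt a, pt b, fun e => h2 (pt_inj ha hb e), by rw [J.δ_pt ha hb, h3]⟩

theorem conj_K_aux {g : G} {π : GolayPt → GolayPt} (hπ : Function.Injective π)
    (h : ∀ p q, g * J.δ p q * g⁻¹ = J.δ (π p) (π q)) (s : Finset GolayPt) :
    g * J.K s * g⁻¹ = J.K (s.image π) * J.K {π (pt 23)} ^ s.card := by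
  induction s using Finset.induction_on with
  | empty => simp [(J.K_eq_one (s := ∅) (by simp)).mpr empty_mem_codeSets]
  | insert p s hp ih =>
    have e : ∀ (a : GolayPt) (t : Finset GolayPt), a ∉ t → J.K (insert a t) = J.K {a} * J.K t := by
      intro a t ha
      rw [← K_symmDiff]; congr 1; ext x
      simp only [Finset.mem_insert, Finset.mem_singleton, Finset.mem_symmDiff]
      constructor
      · rintro (rfl | h)
        exacts [Or.inl ⟨rfl, ha⟩, Or.inr ⟨h, fun e => ha (e ▸ h)⟩]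
      · rintro (h | h)
        exacts [Or.inl h.1, Or.inr h.1]
    rw [e p s hp, ← conj_mul, ih, Finset.image_insert, e _ _ (by simpa [hπ.eq_iff] using hp), ← δ_inf, h,
      Finset.card_insert_of_notMem hp, pow_succ', δ, mul_assoc, mul_assoc, ← mul_assoc (J.K {π (pt 23)}),
      J.V_comm (J.K_mem _) (J.K_mem (s.image π)), mul_assoc]

theorem conj_K_even {g : G} {σ : Equiv.Perm GolayPt}
    (h : ∀ p q, g * J.δ p q * g⁻¹ = J.δ (σ p) (σ q)) {s : Finset GolayPt} (hs : Even s.card) :
    g * J.K s * g⁻¹ = J.K (σ • s) := by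
  obtain ⟨k, hk⟩ := hs
  rw [J.conj_K_aux σ.injective h, hk, ← two_mul, pow_mul, pow_two, J.V_sq _ (J.K_mem _), one_pow, mul_one]
  rfl

theorem perm_mem {g : G} {σ : Equiv.Perm GolayPt}
    (h : ∀ p q, g * J.δ p q * g⁻¹ = J.δ (σ p) (σ q)) : σ ∈ M24 := by
  have ev : ∀ s ∈ codeSets, Even s.card := fun s hs => by
    rcases card_codeSets hs with h | h | h | h | h <;> rw [h] <;> decide
  refine (mem_M24_iff σ).mpr fun s hs => ?_
  rw [← J.K_eq_one (by rw [Finset.card_smul_finset]; exact ev s hs), ← J.conj_K_even h (ev s hs),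
    (J.K_eq_one (ev s hs)).mpr hs]
  simp

theorem star {α : Type*} {a0 b0 a1 b1 a2 b2 a3 b3 c : α} (n0 : a0 ≠ b0) (n1 : a1 ≠ b1) (n2 : a2 ≠ b2)
    (n3 : a3 ≠ b3) (c0 : c = a0 ∨ c = b0) (c1 : c = a1 ∨ c = b1)
    (R : α → α → α → α → Prop) (hR : ∀ a b c d, R a b c d →
      (a = c ∨ a = d ∨ b = c ∨ b = d) ∧ ¬ (a = c ∧ b = d) ∧ ¬ (a = d ∧ b = c))
    (h01 : R a0 b0 a1 b1) (h02 : R a0 b0 a2 b2) (h03 : R a0 b0 a3 b3) (h12 : R a1 b1 a2 b2)
    (h13 : R a1 b1 a3 b3) (h23 : R a2 b2 a3 b3) : c = a2 ∨ c = b2 := by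
  have := hR _ _ _ _ h01; have := hR _ _ _ _ h02; have := hR _ _ _ _ h03
  have := hR _ _ _ _ h12; have := hR _ _ _ _ h13; have := hR _ _ _ _ h23
  grind

theorem exists_perm {g : G} (hg : g ∈ J.M) :
    ∃ σ : M24, ∀ p q, g * J.δ p q * g⁻¹ = J.δ (σ • p) (σ • q) := by
  have tr : ∀ x, IsConj J.z (g * x * g⁻¹) ↔ IsConj J.z x := fun x =>
    ⟨fun h => h.trans (isConj_iff.mpr ⟨g, rfl⟩).symm, fun h => h.trans (isConj_iff.mpr ⟨g, rfl⟩)⟩
  have h1 : ∀ q, q ≠ pt 23 → ∃ a b, a ≠ b ∧ J.δ a b = g * J.δ q (pt 23) * g⁻¹ := fun q hq =>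
    J.exists_δ (H49.conj_mem_of_mem_normalizer hg (J.δ_mem _ _)) (by simpa using J.δ_ne_one hq)
      (by rw [tr]; exact J.δ_B _ _)
  choose! a b hab e using h1
  let R : GolayPt → GolayPt → GolayPt → GolayPt → Prop := fun a b c d =>
    (a = c ∨ a = d ∨ b = c ∨ b = d) ∧ ¬ (a = c ∧ b = d) ∧ ¬ (a = d ∧ b = c)
  have hR : ∀ p q, p ≠ pt 23 → q ≠ pt 23 → p ≠ q → R (a p) (b p) (a q) (b q) := by
    intro p q hp hq hpq
    have e1 : J.δ (a p) (b p) * J.δ (a q) (b q) = g * J.δ p q * g⁻¹ := by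
      rw [e p hp, e q hq, conj_mul, J.δ_comm q, δ_mul]
    have e2 : J.δ (a p) (b p) * J.δ (a q) (b q) ≠ 1 := by rw [e1]; simpa using J.δ_ne_one hpq
    refine ⟨?_, fun h => e2 (by rw [h.1, h.2, δ_sq]), fun h => e2 (by rw [h.1, h.2, δ_mul, δ_self])⟩
    by_contra hc
    push Not at hc
    have := J.δ_four (hab p hp) hc.1 hc.2.1 hc.2.2.1 hc.2.2.2 (hab q hq)
    rw [e1, tr] at this
    exact J.δ_B _ _ this
  have n0 : pt 0 ≠ pt 23 := by decide
  have n1 : pt 1 ≠ pt 23 := by decide
  obtain ⟨c, c0, c1⟩ : ∃ c, (c = a (pt 0) ∨ c = b (pt 0)) ∧ (c = a (pt 1) ∨ c = b (pt 1)) := by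
    rcases (hR _ _ n0 n1 (by decide)).1 with h | h | h | h
    exacts [⟨_, Or.inl rfl, Or.inl h⟩, ⟨_, Or.inl rfl, Or.inr h⟩, ⟨_, Or.inr rfl, Or.inl h⟩,
      ⟨_, Or.inr rfl, Or.inr h⟩]
  have hc : ∀ q, q ≠ pt 23 → c = a q ∨ c = b q := by
    intro q hq
    by_cases h0 : q = pt 0
    · rwa [h0]
    by_cases h1 : q = pt 1
    · rwa [h1]
    obtain ⟨r, r0, r1, r2, r3⟩ : ∃ r, pt 0 ≠ r ∧ pt 1 ≠ r ∧ q ≠ r ∧ r ≠ pt 23 := by
      by_cases h2 : q = pt 2
      · exact ⟨pt 3, by decide, by decide, by rw [h2]; decide, by decide⟩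
      · exact ⟨pt 2, by decide, by decide, h2, by decide⟩
    exact star (hab _ n0) (hab _ n1) (hab _ hq) (hab _ r3) c0 c1 R (fun _ _ _ _ h => h)
      (hR _ _ n0 n1 (by decide)) (hR _ _ n0 hq (Ne.symm h0)) (hR _ _ n0 r3 r0)
      (hR _ _ n1 hq (Ne.symm h1)) (hR _ _ n1 r3 r1) (hR _ _ hq r3 r2)
  let π : GolayPt → GolayPt := fun q => if q = pt 23 then c else if a q = c then b q else a q
  have h2 : ∀ q, g * J.δ q (pt 23) * g⁻¹ = J.δ (π q) c := by
    intro q
    by_cases hq : q = pt 23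
    · simp [π, hq, δ_self]
    · rw [← e q hq]
      by_cases h : a q = c
      · simp only [π, if_neg hq, if_pos h]; rw [h, δ_comm]
      · simp only [π, if_neg hq, if_neg h]; rw [(hc q hq).resolve_left (Ne.symm h)]
  have h3 : ∀ p q, g * J.δ p q * g⁻¹ = J.δ (π p) (π q) := fun p q => by
    rw [← J.δ_mul p (pt 23) q, J.δ_comm _ q, ← conj_mul, h2, h2, J.δ_comm (π q) c, δ_mul]
  have h4 : Function.Injective π := fun p q h => by
    by_contra hpq
    have := h3 p q
    rw [h, δ_self] at this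
    exact J.δ_ne_one hpq (by simpa using this)
  exact ⟨⟨Equiv.ofBijective π (Finite.injective_iff_bijective.mp h4), J.perm_mem h3⟩, h3⟩

theorem perm_uniq {σ τ : M24} (h : ∀ p q, J.δ (σ • p) (σ • q) = J.δ (τ • p) (τ • q)) : σ = τ := by
  apply Subtype.ext; ext1 p
  obtain ⟨q, r, h1, h2, h3⟩ : ∃ q r : GolayPt, p ≠ q ∧ p ≠ r ∧ q ≠ r := by revert p; decide
  have i : ∀ (g : M24) {a b : GolayPt}, a ≠ b → g • a ≠ g • b := fun g _ _ h e =>
    h (MulAction.injective g e)
  rcases J.δ_inj (i σ h1) (i τ h1) (h p q) with e | e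
  · exact e.1
  rcases J.δ_inj (i σ h2) (i τ h2) (h p r) with e' | e'
  · exact e'.1
  · exact absurd (e.1.symm.trans e'.1) (i τ h3)

/-- The map to the Mathieu group. -/
noncomputable def μ0 : J.M →* M24 := MonoidHom.mk' (fun g => (J.exists_perm g.2).choose) fun g h =>
  J.perm_uniq fun p q => by
    rw [← (J.exists_perm (g * h).2).choose_spec, mul_smul, mul_smul, ← (J.exists_perm g.2).choose_spec,
      ← (J.exists_perm h.2).choose_spec, coe_mul]
    group

open Classical in
/-- The map to the Mathieu group as a function. -/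
noncomputable def μ (a : G) : M24 := if ha : a ∈ J.M then J.μ0 ⟨a, ha⟩ else 1

theorem μ_eq {a : G} (ha : a ∈ J.M) : J.μ a = J.μ0 ⟨a, ha⟩ := dif_pos ha

theorem μ_coe (a : J.M) : J.μ a = J.μ0 a := J.μ_eq a.2

theorem μ_mul {a b : G} (ha : a ∈ J.M) (hb : b ∈ J.M) : J.μ (a * b) = J.μ a * J.μ b := by
  rw [J.μ_eq ha, J.μ_eq hb, J.μ_eq (J.M.mul_mem ha hb), ← map_mul]; rfl

theorem μ_one : J.μ 1 = 1 := by rw [J.μ_eq J.M.one_mem]; exact map_one J.μ0

theorem μ_inv {a : G} (ha : a ∈ J.M) : J.μ a⁻¹ = (J.μ a)⁻¹ := by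
  rw [J.μ_eq ha, J.μ_eq (J.M.inv_mem ha), ← map_inv]; rfl

theorem μ_pow {a : G} (ha : a ∈ J.M) (n : ℕ) : J.μ (a ^ n) = J.μ a ^ n := by
  rw [J.μ_eq ha, J.μ_eq (J.M.pow_mem ha n), ← map_pow]; rfl

theorem μ_conj {a b : G} (ha : a ∈ J.M) (hb : b ∈ J.M) :
    J.μ (a * b * a⁻¹) = J.μ a * J.μ b * (J.μ a)⁻¹ := by
  rw [J.μ_mul (J.M.mul_mem ha hb) (J.M.inv_mem ha), J.μ_mul ha hb, J.μ_inv ha]

theorem conj_δ {g : G} (hg : g ∈ J.M) (p q : GolayPt) :
    g * J.δ p q * g⁻¹ = J.δ (J.μ g • p) (J.μ g • q) := by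
  rw [J.μ_eq hg]; exact (J.exists_perm hg).choose_spec p q

theorem conj_K {g : G} (hg : g ∈ J.M) {s : Finset GolayPt} (hs : Even s.card) :
    g * J.K s * g⁻¹ = J.K (J.μ g • s) := J.conj_K_even (σ := J.μ g) (J.conj_δ hg) hs

theorem conj_χ_eq {g : G} (hg : g ∈ J.M) {p j : ℕ} (hp : inM p = true) (e : J.μ g = toM p)
    (hj : j < 2048) : g * J.χ j * g⁻¹ = J.χ (cact p j) := by
  rw [← J.K_rp hj, J.conj_K hg (by
    rw [card_toSet (lab_aux hj).2.2.1, Nat.even_iff]; exact (lab_aux hj).2.2.2.1), e, toM_smul_toSet hp,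
    J.K_toSet (img_lt (inM_isPerm hp) _)]; rfl

theorem μ_eq_of {g : G} (hg : g ∈ J.M) {σ : M24}
    (h : ∀ p, g * J.δ p (pt 23) * g⁻¹ = J.δ (σ • p) (σ • pt 23)) : J.μ g = σ :=
  J.perm_uniq fun p q => by
    rw [← J.conj_δ hg, ← J.δ_mul p (pt 23) q, J.δ_comm _ q, ← conj_mul, h, h, J.δ_comm (σ • q), δ_mul]

theorem μ_eq_one {g : G} (hg : g ∈ J.M) : J.μ g = 1 ↔ g ∈ J.V := by
  constructor
  · intro h
    refine J.cent_V fun v hv => ?_
    obtain ⟨s, hs, rfl⟩ := J.exists_K hv
    have := J.conj_K hg hs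
    rwa [h, one_smul, mul_inv_eq_iff_eq_mul] at this
  · intro h
    exact J.μ_eq_of hg fun p => by rw [J.V_comm h (J.δ_mem _ _)]; simp

theorem μ_V {v : G} (hv : v ∈ J.V) : J.μ v = 1 := (J.μ_eq_one (J.V_le_M hv)).mpr hv

theorem μ_eq_iff {a b : G} (ha : a ∈ J.M) (hb : b ∈ J.M) : J.μ a = J.μ b ↔ a * b⁻¹ ∈ J.V := by
  rw [← J.μ_eq_one (J.M.mul_mem ha (J.M.inv_mem hb)), J.μ_mul ha (J.M.inv_mem hb), J.μ_inv hb,
    mul_inv_eq_one]

theorem ker_μ0 : J.μ0.ker = J.V.subgroupOf J.M := by
  ext g; rw [MonoidHom.mem_ker, ← μ_coe, J.μ_eq_one g.2, mem_subgroupOf]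

theorem μ0_surj : Function.Surjective J.μ0 := by
  rw [← MonoidHom.range_eq_top]
  refine eq_top_of_card_eq _ ?_
  have h := J.μ0.ker.card_mul_index
  rw [index_ker, ker_μ0, Nat.card_congr (subgroupOfEquivOfLe J.V_le_M).toEquiv, J.card_V,
    J.card_M J.hn] at h
  rw [card_M24]; omega

theorem μ_surj (σ : M24) : ∃ g ∈ J.M, J.μ g = σ := by
  obtain ⟨g, hg⟩ := J.μ0_surj σ
  exact ⟨g, g.2, by rw [μ_coe, hg]⟩

end JZ

/-- Conjugation of an element given by its coordinates. -/
noncomputable def cjChk (a c j j' : ℕ) : Bool := force (chi j) fun i => force (chi j') fun i' =>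
  force (Nat.div i' 128) fun n => Bool.and
    (Nat.beq (mm (km (cy n)) (km c)) (mm (km c) (km (cy (Nat.div i 128)))))
    (Nat.beq (cjA (cy n) a (act c (xU i))) (xU i'))

/-- Check of the image in the Mathieu group. -/
noncomputable def muChk (a c p : ℕ) : Bool := Bool.and (inM p) (Bool.and (Nat.ble a 8191)
  (Bool.and (Nat.beq (img (kp c) oct0) oct0) (force (pj (app p 23)) fun b =>
    allB (fun i => cjChk a c (pj i) (Nat.xor (pj (app p i)) b)) 24)))

namespace JZ

variable {G : Type*} [Group G] [Finite G] (J : JZ G)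

theorem cjChk_spec {k : G} {a c j j' : ℕ} (hk : J.KD k c) (ha : a < 8192) (hj : j < 2048)
    (hj' : j' < 2048) (h : cjChk a c j j' = true) :
    J.e a * k * J.χ j * (J.e a * k)⁻¹ = J.χ j' := by
  simp only [cjChk, force_eq, Bool.and_eq_true, beq_iff] at h
  have l1 : chi j / 128 < 16 := by have := chi_lt hj; omega
  have l2 : chi j' / 128 < 16 := by have := chi_lt hj'; omega
  have h1 := J.conj_y hk l1 l2 h.1
  have h2 := J.conj_cjA (J.ky _ l2) (act_lt hk.ok (xU_lt (chi j))) ha
  rw [χ, χ, JY.ψ, JY.ψ, ← h.2]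
  refine Eq.trans ?_ h2
  rw [← hk.conj _ (xU_lt _), ← h1]; group

theorem mu_spec {k : G} {a c p : ℕ} (hk : J.KD k c) (h : muChk a c p = true) :
    J.e a * k ∈ J.M ∧ inM p = true ∧ J.μ (J.e a * k) = toM p := by
  simp only [muChk, force_eq, Bool.and_eq_true, beq_iff, ble_iff] at h
  obtain ⟨hp, ha, ho, h⟩ := h
  have ha : a < 8192 := by omega
  have hM : J.e a * k ∈ J.M := by
    rw [J.mem_M_iff (J.HH.mul_mem (J.e_H ha) hk.mem), J.φ_ek ha hk]
    exact (toM_mem_stabilizer_toSet hk.inM oct0_lt).mpr ho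
  refine ⟨hM, hp, J.μ_eq_of hM (forall_pt.mpr fun i hi => ?_)⟩
  have lt := @app_lt_of_isPerm p (inM_isPerm hp)
  rw [toM_smul_pt hp hi, toM_smul_pt hp (by norm_num), J.δ_pt hi (by norm_num),
    J.δ_pt (lt hi) (lt (by norm_num)), pj_23, Nat.xor_zero]
  exact J.cjChk_spec hk ha (pj_lt _) (xor_lt11 (pj_lt _) (pj_lt _)) (of_allB h hi)

theorem mu_spec_k {k : G} {c p : ℕ} (hk : J.KD k c) (h : muChk 0 c p = true) :
    k ∈ J.M ∧ inM p = true ∧ J.μ k = toM p := by
  have := J.mu_spec hk h
  rwa [J.e_zero, one_mul] at this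

theorem mu_spec_e {a p : ℕ} (h : muChk a k1 p = true) :
    J.e a ∈ J.M ∧ inM p = true ∧ J.μ (J.e a) = toM p := by
  have := J.mu_spec Hyp.KD.one h
  rwa [mul_one] at this

end JZ

set_option linter.all false in
theorem eqns_J4P : True := by
  first | (have := @_root_.Cfsg.Agent.H83.J4.JZ.χ.eq_def.{0,0}) | (have := @_root_.Cfsg.Agent.H83.J4.JZ.χ.eq_def.{0}) | (have := @_root_.Cfsg.Agent.H83.J4.JZ.χ.eq_def) | skip
  first | (have := @_root_.Cfsg.Agent.H83.J4.JZ.χ.eq_1.{0,0}) | (have := @_root_.Cfsg.Agent.H83.J4.JZ.χ.eq_1.{0}) | (have := @_root_.Cfsg.Agent.H83.J4.JZ.χ.eq_1) | skip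
  first | (have := @_root_.Cfsg.Agent.H83.J4.JZ.χ.eq_2.{0,0}) | (have := @_root_.Cfsg.Agent.H83.J4.JZ.χ.eq_2.{0}) | (have := @_root_.Cfsg.Agent.H83.J4.JZ.χ.eq_2) | skip
  first | (have := @_root_.Cfsg.Agent.H83.J4.JZ.χ.congr_simp.{0,0}) | (have := @_root_.Cfsg.Agent.H83.J4.JZ.χ.congr_simp.{0}) | (have := @_root_.Cfsg.Agent.H83.J4.JZ.χ.congr_simp) | skip
  first | (have := @_root_.Cfsg.Agent.H83.J4.JZ.K.eq_def.{0,0}) | (have := @_root_.Cfsg.Agent.H83.J4.JZ.K.eq_def.{0}) | (have := @_root_.Cfsg.Agent.H83.J4.JZ.K.eq_def) | skip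
  first | (have := @_root_.Cfsg.Agent.H83.J4.JZ.K.eq_1.{0,0}) | (have := @_root_.Cfsg.Agent.H83.J4.JZ.K.eq_1.{0}) | (have := @_root_.Cfsg.Agent.H83.J4.JZ.K.eq_1) | skip
  first | (have := @_root_.Cfsg.Agent.H83.J4.JZ.K.eq_2.{0,0}) | (have := @_root_.Cfsg.Agent.H83.J4.JZ.K.eq_2.{0}) | (have := @_root_.Cfsg.Agent.H83.J4.JZ.K.eq_2) | skip
  first | (have := @_root_.Cfsg.Agent.H83.J4.JZ.K.congr_simp.{0,0}) | (have := @_root_.Cfsg.Agent.H83.J4.JZ.K.congr_simp.{0}) | (have := @_root_.Cfsg.Agent.H83.J4.JZ.K.congr_simp) | skip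
  first | (have := @_root_.Cfsg.Agent.H83.J4.JZ.δ.eq_def.{0,0}) | (have := @_root_.Cfsg.Agent.H83.J4.JZ.δ.eq_def.{0}) | (have := @_root_.Cfsg.Agent.H83.J4.JZ.δ.eq_def) | skip
  first | (have := @_root_.Cfsg.Agent.H83.J4.JZ.δ.eq_1.{0,0}) | (have := @_root_.Cfsg.Agent.H83.J4.JZ.δ.eq_1.{0}) | (have := @_root_.Cfsg.Agent.H83.J4.JZ.δ.eq_1) | skip
  first | (have := @_root_.Cfsg.Agent.H83.J4.JZ.δ.eq_2.{0,0}) | (have := @_root_.Cfsg.Agent.H83.J4.JZ.δ.eq_2.{0}) | (have := @_root_.Cfsg.Agent.H83.J4.JZ.δ.eq_2) | skip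
  first | (have := @_root_.Cfsg.Agent.H83.J4.JZ.δ.congr_simp.{0,0}) | (have := @_root_.Cfsg.Agent.H83.J4.JZ.δ.congr_simp.{0}) | (have := @_root_.Cfsg.Agent.H83.J4.JZ.δ.congr_simp) | skip
  first | (have := @_root_.Cfsg.Agent.H83.J4.JZ.μ.eq_def.{0,0}) | (have := @_root_.Cfsg.Agent.H83.J4.JZ.μ.eq_def.{0}) | (have := @_root_.Cfsg.Agent.H83.J4.JZ.μ.eq_def) | skip
  first | (have := @_root_.Cfsg.Agent.H83.J4.JZ.μ.eq_1.{0,0}) | (have := @_root_.Cfsg.Agent.H83.J4.JZ.μ.eq_1.{0}) | (have := @_root_.Cfsg.Agent.H83.J4.JZ.μ.eq_1) | skip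
  first | (have := @_root_.Cfsg.Agent.H83.J4.JZ.μ.eq_2.{0,0}) | (have := @_root_.Cfsg.Agent.H83.J4.JZ.μ.eq_2.{0}) | (have := @_root_.Cfsg.Agent.H83.J4.JZ.μ.eq_2) | skip
  first | (have := @_root_.Cfsg.Agent.H83.J4.JZ.μ.congr_simp.{0,0}) | (have := @_root_.Cfsg.Agent.H83.J4.JZ.μ.congr_simp.{0}) | (have := @_root_.Cfsg.Agent.H83.J4.JZ.μ.congr_simp) | skip
  trivial

end Cfsg.Agent.H83.J4
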