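import Cfsg.Agent.H83.J4R1
import Cfsg.Agent.H55.Formula
import Cfsg.Agent.H8.Tate

/-!
# Elements of order three whose centraliser is a perfect central extension of `M₂₂`
-/

set_option autoImplicit false

namespace Cfsg.Agent.H83.J4

open H42 Cfsg Subgroup
open H49 (XS LX)
open H98 (SylIn)

/-- An involution inverting `P9`. -/
def w9 : ℕ := 984797642623984997567594628879848480

theorem chk_w9 : inM w9 = true ∧ inK22 w9 = true ∧
    orbAll (actsOf pm gP9) pid 20 (fun y => Nat.beq (pmul (pconj w9 y) y) pid) = true ∧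
    LR2.length = 16 ∧ allL inK22 gP9 = true := by decide +kernel

theorem card_dvd_of_pgroup {G : Type*} [Group G] [Finite G] {p : ℕ} [hp : Fact p.Prime] {R H : Subgroup G}
    (hR : R ≤ H) (h : IsPGroup p R) {a m : ℕ} (hc : Nat.card H = a * m) (hm : p.Coprime m) :
    Nat.card R ∣ a := by
  obtain ⟨n, hn⟩ := IsPGroup.iff_card.mp h
  have := card_dvd_of_le hR
  rw [hc, hn] at this
  rw [hn]
  exact (hm.pow_left n).dvd_of_dvd_mul_right this

theorem g22_three {R : Subgroup M24} (hR : R ≤ G22) (h : IsPGroup 3 R) : Nat.card R ∣ 9 :=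
  haveI : Fact (Nat.Prime 3) := ⟨Nat.prime_three⟩
  card_dvd_of_pgroup hR h (m := 49280) card_G22 (by norm_num)

theorem g22_two {R : Subgroup M24} (hR : R ≤ G22) (h : IsPGroup 2 R) : Nat.card R ∣ 128 :=
  card_dvd_of_pgroup hR h (m := 3465) card_G22 (by norm_num)

theorem sylIn_P9 : SylIn 3 P9 G22 := by
  haveI : Fact (Nat.Prime 3) := ⟨Nat.prime_three⟩
  obtain ⟨T, hT⟩ := H98.exists_sylIn 3 G22
  exact hT.of_card_le (gen_le _ fun g hg => mem_of_inK22 g (inM_gP9 g hg) (allL_iff.mp chk_w9.2.2.2.2 g hg))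
    (IsPGroup.of_card (n := 2) card_P9)
    (card_P9 ▸ Nat.le_of_dvd (by norm_num) (g22_three hT.le hT.isPGroup))

theorem g22_inv {g : M24} (hg : g ∈ G22) (h3 : g ^ 3 = 1) : ∃ k ∈ G22, k * g * k⁻¹ = g⁻¹ := by
  haveI : Fact (Nat.Prime 3) := ⟨Nat.prime_three⟩
  obtain ⟨c1, c2, c3, -⟩ := chk_w9
  obtain ⟨k, hk, h⟩ := sylIn_P9.exists_conj_le (zpowers_le.mpr hg) (isPGroup_zpowers (k := 1) h3)
  obtain ⟨y, hy, e, h⟩ := forall_gen' inM_gP9 c3 (h (H98.conj_mem_map_conj (g := k) (mem_zpowers g)))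
  have := congrArg toM (beq_iff.mp h)
  rw [toM_pmul (inM_pconj c1 hy) hy, toM_pconj c1 hy, toM_pid, e] at this
  refine ⟨k⁻¹ * toM w9 * k, mul_mem (mul_mem (inv_mem hk) (mem_of_inK22 _ c1 c2)) hk, ?_⟩
  rw [show k⁻¹ * toM w9 * k * g * (k⁻¹ * toM w9 * k)⁻¹ =
    k⁻¹ * (toM w9 * (k * g * k⁻¹) * (toM w9)⁻¹ * (k * g * k⁻¹)) * k * g⁻¹ by group, this]
  group

theorem card_conj_le {G : Type*} [Group G] [Finite G] {E F : Subgroup G} {k : G}
    (h : ∀ x ∈ E, k * x * k⁻¹ ∈ F) : Nat.card E ≤ Nat.card F := by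
  rw [← card_cj k E]
  exact card_le_of_le (by rintro _ ⟨x, hx, rfl⟩; exact h x hx)

theorem g22_elab {E : Subgroup M24} (hE : E ≤ G22) (sq : ∀ x ∈ E, x * x = 1) : Nat.card E ≤ 16 := by
  obtain ⟨k, -, h⟩ := exists_conj_P22 E hE (isPGroup_of_sq sq)
  rw [← card_cj k E]
  rcases elab_P22 (cj k E) (by rintro _ ⟨x, hx, rfl⟩; exact h x hx) (by
    rintro _ ⟨x, hx, rfl⟩
    show k * x * k⁻¹ * (k * x * k⁻¹) = 1
    rw [show k * x * k⁻¹ * (k * x * k⁻¹) = k * (x * x) * k⁻¹ by group, sq x hx]; simp) with h | h | h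
  · exact card_RB ▸ card_le_of_le h
  · exact chk_w9.2.2.2.1 ▸ ncard_le_length (cj k E : Set M24) toM LR2 h
  · omega

theorem g22_syl2 {U : Subgroup M24} (hU : U ≤ G22) (hc : Nat.card U = 128) {n : M24} (hn : n ∈ G22)
    (h : ∀ u ∈ U, n * u * n⁻¹ ∈ U) : n ∈ U := by
  obtain ⟨k, hk, e⟩ := exists_conj_P22 U hU (IsPGroup.of_card (n := 7) hc)
  have e' : cj k U = P22 := eq_of_le_of_card_ge (by rintro _ ⟨x, hx, rfl⟩; exact e x hx)
    (by rw [card_cj, hc, card_P22])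
  have := norm_P22 (k * n⁻¹ * k⁻¹) (mul_mem (mul_mem hk (inv_mem hn)) (inv_mem hk)) (fun s hs => by
    rw [← e', mem_cj] at hs ⊢
    have := h _ hs
    rwa [show n * (k⁻¹ * s * k) * n⁻¹ = k⁻¹ * ((k * n⁻¹ * k⁻¹)⁻¹ * s * (k * n⁻¹ * k⁻¹)) * k by group] at this)
  rw [← e', mem_cj] at this
  simpa [mul_assoc] using U.inv_mem this

theorem g22_normal {B : Subgroup M24} (hB : B ≤ G22) (hn : ∀ g ∈ G22, ∀ b ∈ B, g * b * g⁻¹ ∈ B) :
    B = ⊥ ∨ B = G22 := by
  haveI := G22_simple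
  haveI : (B.subgroupOf G22).Normal := ⟨fun b hb g => hn g g.2 b hb⟩
  rcases Subgroup.Normal.eq_bot_or_eq_top (inferInstance : (B.subgroupOf G22).Normal) with h | h
  · left; rw [← map_subgroupOf_eq_of_le hB, h, Subgroup.map_bot]
  · right; exact le_antisymm hB (subgroupOf_eq_top.mp h)

section fix9

variable {G : Type*} [Group G]

theorem cent_sq {a : G} (h : a ^ 3 = 1) : centralizer ({a * a} : Set G) = centralizer {a} := by
  ext c
  simp only [mem_centralizer_singleton_iff]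
  constructor
  · intro e
    have : a = a * a * (a * a) := by rw [← mul_assoc, ← pow_three', h, one_mul]
    rw [this, ← mul_assoc c, e, mul_assoc, e, mul_assoc (a * a)]
  · intro e; rw [← mul_assoc, e, mul_assoc, e, mul_assoc]

/-- The fixed point formula for an elementary abelian group of order nine. -/
theorem fix9 [Finite G] {x y : G} (x3 : x ^ 3 = 1) (y3 : y ^ 3 = 1) (xy : x * y = y * x) (x1 : x ≠ 1)
    (hy : y ∉ zpowers x) (K : Subgroup G) (hK : ¬ 3 ∣ Nat.card K) (nx : x ∈ normalizer (K : Set G))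
    (ny : y ∈ normalizer (K : Set G)) :
    Nat.card ↥(K ⊓ centralizer {x}) * Nat.card ↥(K ⊓ centralizer {y}) *
      Nat.card ↥(K ⊓ centralizer {x * y}) * Nat.card ↥(K ⊓ centralizer {x * x * y}) =
    Nat.card K * Nat.card ↥(K ⊓ (centralizer {x} ⊓ centralizer {y})) ^ 3 := by
  classical
  haveI : Fact (Nat.Prime 3) := ⟨Nat.prime_three⟩
  have c : Commute x y := xy
  have ox : orderOf x = 3 := orderOf_eq_prime x3 x1
  have oy : orderOf y = 3 := orderOf_eq_prime y3 fun e => hy (e ▸ one_mem _)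
  let f : Fin 3 × Fin 3 → G := fun p => x ^ (p.1 : ℕ) * y ^ (p.2 : ℕ)
  have red : ∀ i j : ℕ, x ^ i * y ^ j ∈ Set.range f := fun i j =>
    ⟨(⟨i % 3, Nat.mod_lt _ (by norm_num)⟩, ⟨j % 3, Nat.mod_lt _ (by norm_num)⟩), by
      show x ^ (i % 3) * y ^ (j % 3) = _
      rw [← ox, pow_mod_orderOf, ox, ← oy, pow_mod_orderOf]⟩
  have mul : ∀ i j k l : ℕ, x ^ i * y ^ j * (x ^ k * y ^ l) = x ^ (i + k) * y ^ (j + l) := fun i j k l => by
    rw [pow_add, pow_add, mul_assoc, ← mul_assoc (y ^ j), ← (c.pow_pow k j).eq]; group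
  let A : Subgroup G := ⟨⟨⟨Set.range f, by
    rintro _ _ ⟨p, rfl⟩ ⟨q, rfl⟩; simp only [f]; rw [mul]; exact red _ _⟩, ⟨(0, 0), by simp [f]⟩⟩, by
    rintro _ ⟨p, rfl⟩
    have : (f p)⁻¹ = x ^ (2 * p.1 : ℕ) * y ^ (2 * p.2 : ℕ) := by
      rw [inv_eq_iff_mul_eq_one]; simp only [f]
      rw [mul, show (p.1 : ℕ) + 2 * p.1 = 3 * p.1 by ring, show (p.2 : ℕ) + 2 * p.2 = 3 * p.2 by ring,
        pow_mul, pow_mul, x3, y3]; simp
    rw [this]; exact red _ _⟩
  have inj : Function.Injective f := by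
    rintro ⟨i, j⟩ ⟨k, l⟩ e
    simp only [f] at e
    have h1 : ∀ {i j k l : ℕ}, j < l → l < 3 → x ^ i * y ^ j ≠ x ^ k * y ^ l := by
      intro i j k l h1 h2 e
      have : y ^ (l - j) ∈ zpowers x := by
        have : y ^ (l - j) = (x ^ k)⁻¹ * x ^ i := by
          rw [eq_inv_mul_iff_mul_eq, ← mul_left_inj (y ^ j), e, mul_assoc, ← pow_add, Nat.sub_add_cancel h1.le]
        rw [this]
        exact mul_mem (inv_mem (pow_mem (mem_zpowers x) _)) (pow_mem (mem_zpowers x) _)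
      exact hy (mem_of_pow_mem_of_coprime this (by
        rw [oy]; have : l - j = 1 ∨ l - j = 2 := by omega
        rcases this with h | h <;> rw [h] <;> norm_num))
    have h2 : j = l := by
      rcases lt_trichotomy j l with h | h | h
      · exact absurd e (h1 h l.2)
      · exact h
      · exact absurd e.symm (h1 h j.2)
    subst h2
    have h3 := pow_injOn_Iio_orderOf (x := x) (by rw [ox]; exact i.2) (by rw [ox]; exact k.2)
      (mul_right_cancel e)
    rw [Fin.ext h3]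
  let e : Fin 3 × Fin 3 ≃ A := Equiv.ofInjective f inj
  haveI : Fintype A := Fintype.ofEquiv _ e
  have hA : IsElementaryAbelian 3 A := ⟨⟨⟨by
    rintro ⟨_, p, rfl⟩ ⟨_, q, rfl⟩
    apply Subtype.ext
    show f p * f q = f q * f p
    simp only [f]; rw [mul, mul, add_comm (p.1 : ℕ), add_comm (p.2 : ℕ)]⟩⟩, by
    rintro _ ⟨p, rfl⟩
    simp only [f]
    rw [(c.pow_pow _ _).mul_pow, ← pow_mul, ← pow_mul, mul_comm _ 3, mul_comm _ 3, pow_mul, pow_mul, x3, y3]
    simp⟩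
  have hc : Nat.card A = 3 * 3 := by rw [← Nat.card_congr e]; simp
  have key := H55.prod_card_fix hA hc K hK (by
    rintro _ ⟨p, rfl⟩; exact mul_mem (pow_mem nx _) (pow_mem ny _))
  have hC : centralizer (A : Set G) = centralizer {x} ⊓ centralizer {y} := by
    ext g
    rw [mem_inf, mem_centralizer_singleton_iff, mem_centralizer_singleton_iff, mem_centralizer_iff]
    constructor
    · intro h
      exact ⟨(h x ⟨(1, 0), by simp [f]⟩).symm, (h y ⟨(0, 1), by simp [f]⟩).symm⟩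
    · rintro ⟨h1, h2⟩ _ ⟨p, rfl⟩
      exact (((show Commute g x from h1).pow_right _).mul_right ((show Commute g y from h2).pow_right _)).eq.symm
  rw [← e.prod_comp, Fintype.prod_prod_type, hC] at key
  simp only [Fin.prod_univ_three] at key
  have v : ∀ p, ((e p : A) : G) = f p := fun _ => rfl
  simp only [v, f, Fin.val_zero, Fin.val_one, Fin.val_two, pow_zero, pow_one, mul_one, one_mul] at key
  have xy3 : (x * y) ^ 3 = 1 := by rw [c.mul_pow, x3, y3, one_mul]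
  have xxy3 : (x * x * y) ^ 3 = 1 := by rw [(c.mul_left c).mul_pow, (Commute.refl x).mul_pow, x3, y3]; simp
  have a1 : x ^ 2 * y ^ 2 = x * y * (x * y) := by rw [← c.mul_pow, pow_two]
  have a2 : x * y ^ 2 = x * x * y * (x * x * y) := by
    rw [← pow_two (x * x * y), (c.mul_left c).mul_pow, show (x * x) ^ 2 = x ^ 3 * x by simp only [pow_succ, pow_zero, one_mul, mul_assoc], x3, one_mul]
  have a0 : centralizer ({1} : Set G) = ⊤ := by ext; simp [mem_centralizer_singleton_iff]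
  rw [a1, a2, pow_two x, pow_two y, cent_sq x3, cent_sq y3, cent_sq xy3, cent_sq xxy3, a0, inf_top_eq] at key
  have p : 0 < Nat.card K := Nat.card_pos
  apply Nat.pow_left_injective (n := 2) (by norm_num)
  apply Nat.eq_of_mul_eq_mul_left p
  simp only
  rw [show ∀ a b : ℕ, a * (a * b ^ 3) ^ 2 = a ^ 3 * b ^ ((3 - 1) * 3) from fun a b => by ring, ← key]
  ring

end fix9

/-- `C_G(x)` is a perfect central extension of `M₂₂` by `⟨x, z⟩`. -/
structure Cov {G : Type*} [Group G] (x z : G) where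
  /-- the map to the Mathieu group -/
  π : centralizer ({x} : Set G) →* M24
  x3 : x ^ 3 = 1
  x1 : x ≠ 1
  zz : z * z = 1
  cz : ∀ c, c * x = x * c → c * z = z * c
  mem : ∀ c, π c ∈ G22
  surj : ∀ g ∈ G22, ∃ c, π c = g
  ker : ∀ c, π c = 1 ↔ (c : G) ∈ zpowers x ∨ c * z ∈ zpowers x
  perf : centralizer {x} ≤ ⁅centralizer ({x} : Set G), centralizer ({x} : Set G)⁆

theorem mem_zp3 {G : Type*} [Group G] {x a : G} (h : x ^ 3 = 1) :
    a ∈ zpowers x ↔ a = 1 ∨ a = x ∨ a = x * x := by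
  constructor
  · rintro ⟨n, rfl⟩
    have h3 : x ^ (3 : ℤ) = 1 := by exact_mod_cast h
    simp only
    rw [← Int.emod_add_mul_ediv n 3, zpow_add, zpow_mul, h3, one_zpow, mul_one]
    have : n % 3 = 0 ∨ n % 3 = 1 ∨ n % 3 = 2 := by omega
    rcases this with e | e | e <;> rw [e]
    · simp
    · simp
    · exact Or.inr (Or.inr (zpow_two x))
  · rintro (rfl | rfl | rfl)
    exacts [one_mem _, mem_zpowers _, mul_mem (mem_zpowers _) (mem_zpowers _)]

theorem exists_cov {G : Type*} [Group G] [Finite G] {x : G} (hx : orderOf x = 3)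
    (hperf : ⁅(⊤ : Subgroup (centralizer ({x} : Set G))), (⊤ : Subgroup (centralizer ({x} : Set G)))⁆ = ⊤)
    (hZc : Nat.card (center (centralizer ({x} : Set G))) = 3 ∨ Nat.card (center (centralizer ({x} : Set G))) = 6)
    (e : (centralizer ({x} : Set G) ⧸ center (centralizer ({x} : Set G))) ≃* Spor.M22) :
    ∃ z, Nonempty (Cov x z) ∧ (Nat.card (center (centralizer ({x} : Set G))) = 6 → z ≠ 1) := by
  let C := centralizer ({x} : Set G)
  have xC : x ∈ C := mem_centralizer_singleton_iff.mpr rfl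
  have xZ : (⟨x, xC⟩ : C) ∈ center C := mem_center_iff.mpr fun g =>
    Subtype.ext (mem_centralizer_singleton_iff.mp g.2)
  have x3 : x ^ 3 = 1 := hx ▸ pow_orderOf_eq_one x
  have x1 : x ≠ 1 := fun h => by rw [h, orderOf_one] at hx; omega
  let X : Subgroup C := zpowers ⟨x, xC⟩
  have cX : Nat.card X = 3 := by rw [Nat.card_zpowers, ← hx]; exact orderOf_mk _ _
  have XZ : X ≤ center C := zpowers_le.mpr xZ
  have mX : ∀ c : C, c ∈ X ↔ (c : G) ∈ zpowers x := fun c =>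
    ⟨fun ⟨n, h⟩ => ⟨n, by simp [← h]⟩, fun ⟨n, h⟩ => ⟨n, Subtype.ext (by simpa using h)⟩⟩
  obtain ⟨z, hz, zz, hk, h6⟩ : ∃ z : C, z ∈ center C ∧ z * z = 1 ∧
      (∀ c : C, c ∈ center C ↔ c ∈ X ∨ c * z ∈ X) ∧ (Nat.card (center C) = 6 → z ≠ 1) := by
    rcases hZc with h | h
    · have : X = center C := eq_of_le_of_card_ge XZ (by rw [cX]; exact h.le)
      exact ⟨1, one_mem _, mul_one _, fun c => by rw [← this]; simp, fun h' => by
        have : (6 : ℕ) = 3 := h'.symm.trans h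
        omega⟩
    · obtain ⟨⟨z, hz⟩, ho⟩ := exists_prime_orderOf_dvd_card' (G := center C) 2 (by
        rw [show Nat.card (center C) = 6 from h]; norm_num)
      have ho' : orderOf z = 2 := by rw [← ho]; exact (orderOf_mk _ _).symm
      obtain ⟨z1, zz⟩ := H49.orderOf_two_iff.mp ho'
      have zX : z ∉ X := fun h => by
        have := X.orderOf_dvd_natCard h
        rw [ho', cX] at this; omega
      have hi : X.relIndex (center C) = 2 := by
        have := H3.card_mul_relIndex XZ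
        rw [cX, show Nat.card (center C) = 6 from h] at this
        omega
      refine ⟨z, hz, zz, fun c => ⟨fun hc => ?_, ?_⟩, fun _ => z1⟩
      · by_cases h1 : c ∈ X
        · exact Or.inl h1
        · right
          have := (mul_mem_iff_of_index_two (H := X.subgroupOf (center C)) hi (a := ⟨c, hc⟩) (b := ⟨z, hz⟩)).mpr
            (by simp [mem_subgroupOf, h1, zX])
          exact this
      · rintro (h1 | h1)
        · exact XZ h1
        · simpa [mul_assoc, zz] using mul_mem (XZ h1) hz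
  let π : C →* M24 := G22.subtype.comp (equiv22.symm.toMonoidHom.comp
    (e.toMonoidHom.comp (QuotientGroup.mk' _)))
  refine ⟨z, ⟨⟨π, x3, x1, congrArg Subtype.val zz, fun c hc => congrArg Subtype.val
    (mem_center_iff.mp hz ⟨c, mem_centralizer_singleton_iff.mpr hc⟩), fun c => (equiv22.symm _).2,
    fun g hg => ?_, fun c => ?_, ?_⟩⟩, fun h h' => h6 h (Subtype.ext h')⟩
  · obtain ⟨a, ha⟩ := QuotientGroup.mk_surjective (e.symm (equiv22 ⟨g, hg⟩))
    exact ⟨a, by simp [π, ha]⟩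
  · have : π c = 1 ↔ c ∈ center C := by simp [π, C]
    rw [this, hk, mX, mX]; rfl
  · intro c hc
    have : (⟨c, hc⟩ : C) ∈ ⁅(⊤ : Subgroup C), (⊤ : Subgroup C)⁆ := by rw [hperf]; trivial
    have h2 := mem_map_of_mem C.subtype this
    rwa [map_commutator, ← MonoidHom.range_eq_map, range_subtype] at h2

namespace Cov

variable {G : Type*} [Group G] {x z : G} (h : Cov x z)

/-- The centraliser. -/
abbrev C (_ : Cov x z) : Subgroup G := centralizer {x}

theorem memC {a : G} : a ∈ h.C ↔ a * x = x * a := mem_centralizer_singleton_iff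

open Classical in
/-- The map to the Mathieu group as a function on the whole group. -/
noncomputable def φ (a : G) : M24 := if ha : a ∈ h.C then h.π ⟨a, ha⟩ else 1

theorem φ_eq {a : G} (ha : a ∈ h.C) : h.φ a = h.π ⟨a, ha⟩ := dif_pos ha

theorem φ_coe (a : h.C) : h.φ a = h.π a := dif_pos a.2

theorem φ_mul {a b : G} (ha : a ∈ h.C) (hb : b ∈ h.C) : h.φ (a * b) = h.φ a * h.φ b := by
  rw [h.φ_eq ha, h.φ_eq hb, h.φ_eq (mul_mem ha hb), ← map_mul]; rfl

theorem φ_one : h.φ 1 = 1 := by rw [h.φ_eq (one_mem _)]; exact map_one h.π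

theorem φ_inv {a : G} (ha : a ∈ h.C) : h.φ a⁻¹ = (h.φ a)⁻¹ := by
  rw [h.φ_eq ha, h.φ_eq (inv_mem ha), ← map_inv]; rfl

theorem φ_pow {a : G} (ha : a ∈ h.C) (n : ℕ) : h.φ (a ^ n) = h.φ a ^ n := by
  rw [h.φ_eq ha, h.φ_eq (pow_mem ha n), ← map_pow]; rfl

theorem φ_conj {a b : G} (ha : a ∈ h.C) (hb : b ∈ h.C) :
    h.φ (a * b * a⁻¹) = h.φ a * h.φ b * (h.φ a)⁻¹ := by
  rw [h.φ_mul (mul_mem ha hb) (inv_mem ha), h.φ_mul ha hb, h.φ_inv ha]

theorem φ_mem (a : G) : h.φ a ∈ G22 := by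
  unfold φ; split_ifs
  exacts [h.mem _, one_mem _]

theorem φ_surj {g : M24} (hg : g ∈ G22) : ∃ a ∈ h.C, h.φ a = g :=
  let ⟨a, e⟩ := h.surj g hg; ⟨a, a.2, (h.φ_coe a).trans e⟩

theorem φ_ker {a : G} (ha : a ∈ h.C) : h.φ a = 1 ↔ a ∈ zpowers x ∨ a * z ∈ zpowers x := by
  rw [h.φ_eq ha, h.ker]

theorem xC : x ∈ h.C := h.memC.mpr rfl

theorem zC : z ∈ h.C := h.memC.mpr (h.cz x rfl).symm

include h in
theorem ox : orderOf x = 3 := haveI : Fact (Nat.Prime 3) := ⟨Nat.prime_three⟩; orderOf_eq_prime h.x3 h.x1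

theorem φ_x : h.φ x = 1 := (h.φ_ker h.xC).mpr (Or.inl (mem_zpowers x))

theorem φ_z : h.φ z = 1 := (h.φ_ker h.zC).mpr (Or.inr (by rw [h.zz]; exact one_mem _))

theorem zp_comm {a c : G} (ha : a ∈ zpowers x) (hc : c ∈ h.C) : c * a = a * c := by
  obtain ⟨n, rfl⟩ := ha
  exact ((show Commute c x from h.memC.mp hc).zpow_right n).eq

theorem ker_comm {a c : G} (ha : a ∈ h.C) (e : h.φ a = 1) (hc : c ∈ h.C) : c * a = a * c := by
  rcases (h.φ_ker ha).mp e with e | e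
  · exact h.zp_comm e hc
  · have := h.zp_comm e hc
    rw [mul_assoc, ← h.cz c (h.memC.mp hc), ← mul_assoc, ← mul_assoc] at this
    exact mul_right_cancel this

theorem ker_of_comm {a : G} (ha : ∀ c ∈ h.C, c * a = a * c) : a ∈ h.C ∧ h.φ a = 1 := by
  have aC : a ∈ h.C := h.memC.mpr (ha x h.xC).symm
  refine ⟨aC, eq_one_of_comm_G22 fun g hg => ?_⟩
  obtain ⟨c, hc, rfl⟩ := h.φ_surj hg
  rw [← h.φ_mul aC hc, ← h.φ_mul hc aC, ha c hc]

theorem ker_three {a : G} (ha : a ∈ h.C) (e : h.φ a = 1) {k : ℕ} (h3 : a ^ 3 ^ k = 1) : a ∈ zpowers x := by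
  rcases (h.φ_ker ha).mp e with e | e
  · exact e
  · have c : Commute a z := h.cz a (h.memC.mp ha)
    have := mul_mem e e
    rw [← pow_two, c.mul_pow, pow_two z, h.zz, mul_one] at this
    exact mem_of_pelt_of_pow_mem (p := 3) h3 this (by norm_num)

theorem ker_two {a : G} (ha : a ∈ h.C) (e : h.φ a = 1) {k : ℕ} (h2 : a ^ 2 ^ k = 1) : a = 1 ∨ a = z := by
  have key : ∀ b ∈ zpowers x, ∀ k : ℕ, b ^ 2 ^ k = 1 → b = 1 := fun b hb k hk =>
    eq_one_of_ppow (p := 2) hk ((show (3 : ℕ).Coprime 2 by norm_num).coprime_dvd_left (by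
      rw [← h.ox, ← Nat.card_zpowers x]; exact Subgroup.orderOf_dvd_natCard _ hb))
  rcases (h.φ_ker ha).mp e with e | e
  · exact Or.inl (key a e k h2)
  · have c : Commute a z := h.cz a (h.memC.mp ha)
    have := key _ e (k + 1) (by
      rw [c.mul_pow, pow_succ 2, pow_mul, h2, one_pow, mul_comm, pow_mul, pow_two, h.zz]; simp)
    right
    rw [← mul_one a, ← h.zz, ← mul_assoc, this, one_mul]

theorem ker_pow {a : G} (ha : a ∈ h.C) (e : h.φ a = 1) : a ^ 6 = 1 := by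
  have key : ∀ b ∈ zpowers x, b ^ 3 = 1 := by
    rintro _ ⟨n, rfl⟩
    simp only
    rw [← zpow_natCast, ← zpow_mul, mul_comm, zpow_mul, zpow_natCast, h.x3, one_zpow]
  rcases (h.φ_ker ha).mp e with e | e
  · rw [show 6 = 3 * 2 by rfl, pow_mul, key a e, one_pow]
  · have c : Commute a z := h.cz a (h.memC.mp ha)
    have := congrArg (· ^ 2) (key _ e)
    simp only [one_pow] at this
    rwa [← pow_mul, c.mul_pow, show 3 * 2 = 2 * 3 by rfl, pow_mul z, pow_two z, h.zz, one_pow, mul_one] at this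

/-- Conjugation. -/
noncomputable def cj (g : G) : Cov (g * x * g⁻¹) (g * z * g⁻¹) where
  π := h.π.comp (((MulAut.conj g⁻¹).toMonoidHom.comp (centralizer {g * x * g⁻¹}).subtype).codRestrict
      (centralizer {x}) fun c => by
    have := mem_centralizer_singleton_iff.mp c.2
    apply mem_centralizer_singleton_iff.mpr
    simp only [MonoidHom.comp_apply, coe_subtype, MulEquiv.coe_toMonoidHom, MulAut.conj_apply, inv_inv]
    calc g⁻¹ * c * g * x = g⁻¹ * (c * (g * x * g⁻¹)) * g := by group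
      _ = _ := by rw [this]; group)
  x3 := by rw [conj_pow, h.x3]; simp
  x1 := fun e => h.x1 (by simpa using e)
  zz := by rw [show g * z * g⁻¹ * (g * z * g⁻¹) = g * (z * z) * g⁻¹ by group, h.zz]; simp
  cz := fun c hc => by
    have := h.cz (g⁻¹ * c * g) (by
      calc g⁻¹ * c * g * x = g⁻¹ * (c * (g * x * g⁻¹)) * g := by group
        _ = _ := by rw [hc]; group)
    calc c * (g * z * g⁻¹) = g * (g⁻¹ * c * g * z) * g⁻¹ := by group
      _ = _ := by rw [this]; group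
  mem := fun c => h.mem _
  surj := fun k hk => by
    obtain ⟨c, e⟩ := h.surj k hk
    refine ⟨⟨g * c * g⁻¹, mem_centralizer_singleton_iff.mpr ?_⟩, ?_⟩
    · have := mem_centralizer_singleton_iff.mp c.2
      calc g * c * g⁻¹ * (g * x * g⁻¹) = g * (c * x) * g⁻¹ := by group
        _ = _ := by rw [this]; group
    · rw [← e, MonoidHom.comp_apply]; congr 1; apply Subtype.ext; simp [mul_assoc]
  ker := fun c => by
    rw [MonoidHom.comp_apply, h.ker, ← H49.cj_zpowers, H49.mem_cj, H49.mem_cj]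
    simp [mul_assoc]
  perf := by
    rw [← H49.cj_centralizer_singleton]
    exact (map_mono h.perf).trans (map_commutator _ _ _).le

/-- The image of a subgroup. -/
noncomputable def im (E : Subgroup G) : Subgroup M24 := (E.subgroupOf h.C).map h.π

theorem mem_im {E : Subgroup G} {g : M24} : g ∈ h.im E ↔ ∃ a ∈ E, a ∈ h.C ∧ h.φ a = g :=
  ⟨fun ⟨a, ha, e⟩ => ⟨a, ha, a.2, (h.φ_coe a).trans e⟩,
    fun ⟨a, ha, hc, e⟩ => ⟨⟨a, hc⟩, ha, (h.φ_eq hc).symm.trans e⟩⟩

theorem im_le (E : Subgroup G) : h.im E ≤ G22 := fun _ hg =>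
  let ⟨_, _, _, e⟩ := h.mem_im.mp hg; e ▸ h.φ_mem _

theorem im_isPGroup {p : ℕ} {E : Subgroup G} (hp : IsPGroup p E) : IsPGroup p (h.im E) :=
  (hp.comap_subtype).map _

theorem card_im {E F : Subgroup G} (hE : E ≤ h.C) (hF : ∀ a ∈ E, h.φ a = 1 ↔ a ∈ F) :
    Nat.card E = Nat.card ↥(E ⊓ F) * Nat.card (h.im E) := by
  let f : E →* M24 := h.π.comp (inclusion hE)
  have e1 : f.range = h.im E := by
    ext g
    rw [h.mem_im]
    exact ⟨fun ⟨a, e⟩ => ⟨a, a.2, hE a.2, (h.φ_eq (hE a.2)).trans e⟩,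
      fun ⟨a, ha, hc, e⟩ => ⟨⟨a, ha⟩, (h.φ_eq hc).symm.trans e⟩⟩
  have e2 : f.ker = (E ⊓ F).subgroupOf E := by
    ext a
    rw [MonoidHom.mem_ker, mem_subgroupOf, mem_inf, ← hF a a.2, h.φ_eq (hE a.2)]
    exact ⟨fun e => ⟨a.2, e⟩, fun e => e.2⟩
  rw [card_eq_card_quotient_mul_card_subgroup f.ker, Nat.card_congr (QuotientGroup.quotientKerEquivRange f).toEquiv,
    e1, e2, Nat.card_congr (subgroupOfEquivOfLe inf_le_left).toEquiv, mul_comm]

theorem norm_two {A : Subgroup G} (hA : A ≤ h.C) (h2 : IsPGroup 2 A) (hn : h.C ≤ normalizer (A : Set G))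
    {a : G} (ha : a ∈ A) : a = 1 ∨ a = z := by
  rcases g22_normal (h.im_le A) (fun g hg b hb => by
    obtain ⟨c, hc, rfl⟩ := h.φ_surj hg
    obtain ⟨b, h1, h2, rfl⟩ := h.mem_im.mp hb
    exact h.mem_im.mpr ⟨_, H83.conj_mem hn hc h1, mul_mem (mul_mem hc h2) (inv_mem hc), h.φ_conj hc h2⟩)
    with e | e
  · obtain ⟨k, hk⟩ := isPGroup_iff.mp h2 a ha
    exact h.ker_two (hA ha) (by rw [← mem_bot, ← e]; exact h.mem_im.mpr ⟨a, ha, hA ha, rfl⟩) hk
  · have := g22_two (h.im_le A) (h.im_isPGroup h2)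
    rw [e, card_G22] at this
    norm_num at this

theorem norm_top {A : Subgroup G} (hA : A ≤ h.C) (hn : h.C ≤ normalizer (A : Set G))
    {a : G} (ha : a ∈ A) (h1 : h.φ a ≠ 1) : A = h.C := by
  rcases g22_normal (h.im_le A) (fun g hg b hb => by
    obtain ⟨c, hc, rfl⟩ := h.φ_surj hg
    obtain ⟨b, h1, h2, rfl⟩ := h.mem_im.mp hb
    exact h.mem_im.mpr ⟨_, H83.conj_mem hn hc h1, mul_mem (mul_mem hc h2) (inv_mem hc), h.φ_conj hc h2⟩)
    with e | e
  · exact absurd (by rw [← mem_bot, ← e]; exact h.mem_im.mpr ⟨a, ha, hA ha, rfl⟩) h1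
  · refine le_antisymm hA (h.perf.trans (commutator_le.mpr fun c hc d hd => ?_))
    obtain ⟨a, a1, a2, a3⟩ := h.mem_im.mp (e ▸ h.φ_mem c)
    have k : h.φ (a⁻¹ * c) = 1 := by rw [h.φ_mul (inv_mem a2) hc, h.φ_inv a2, a3, inv_mul_cancel]
    have k2 := h.ker_comm (mul_mem (inv_mem a2) hc) k hd
    rw [commutatorElement_def]
    have : c * d * c⁻¹ * d⁻¹ = a * (d * a⁻¹ * d⁻¹) := by
      calc c * d * c⁻¹ * d⁻¹ = a * (a⁻¹ * c * d) * c⁻¹ * d⁻¹ := by group
        _ = _ := by rw [← k2]; group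
    rw [this]
    exact mul_mem a1 (H83.conj_mem hn hd (inv_mem a1))

variable [Finite G]

theorem card_three {R : Subgroup G} (hR : R ≤ h.C) (h3 : IsPGroup 3 R) (hx : x ∈ R) :
    Nat.card R = 3 * Nat.card (h.im R) := by
  rw [h.card_im hR (F := zpowers x) fun a ha => ⟨fun e => by
      obtain ⟨k, hk⟩ := isPGroup_iff.mp h3 a ha
      exact h.ker_three (hR ha) e hk, fun e => (h.φ_ker (hR ha)).mpr (Or.inl e)⟩,
    inf_eq_right.mpr (zpowers_le.mpr hx), Nat.card_zpowers, h.ox]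

theorem mem_syl {R : Subgroup G} (hR : SylIn 3 R h.C) : x ∈ R := by
  have := hR.eq_of_le (U := R ⊔ zpowers x) (sup_le hR.le (zpowers_le.mpr h.xC))
    (isPGroup_sup hR.isPGroup (isPGroup_zpowers (k := 1) h.x3) (le_norm_of_le_cent fun r hr a ha =>
      (h.zp_comm ha (hR.le hr)).symm)) le_sup_left
  rw [← this]; exact mem_sup_right (mem_zpowers x)

theorem card_syl {R : Subgroup G} (hR : SylIn 3 R h.C) : Nat.card R = 27 := by
  haveI : Fact (Nat.Prime 3) := ⟨Nat.prime_three⟩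
  obtain ⟨P, hP⟩ := hR.exists_sylow
  have h1 := (H98.sylIn_top P).map h.π
  have h2 : (⊤ : Subgroup h.C).map h.π = G22 := le_antisymm (by rintro _ ⟨a, -, rfl⟩; exact h.mem a)
    fun g hg => let ⟨a, e⟩ := h.surj g hg; ⟨a, trivial, e⟩
  rw [h2, hP] at h1
  rw [h.card_three hR.le hR.isPGroup (h.mem_syl hR), show Nat.card (h.im R) = 9 from
    (h1.card_eq sylIn_P9).trans card_P9]

theorem comm_syl {R : Subgroup G} (hR : SylIn 3 R h.C) {a b : G} (ha : a ∈ R) (hb : b ∈ R) :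
    a * b * a⁻¹ * b⁻¹ ∈ zpowers x := by
  haveI : Fact (Nat.Prime 3) := ⟨Nat.prime_three⟩
  have c : Nat.card (h.im R) = 3 ^ 2 := by
    have := h.card_three hR.le hR.isPGroup (h.mem_syl hR)
    rw [h.card_syl hR] at this; omega
  have a1 := hR.le ha
  have b1 := hR.le hb
  have m : a * b * a⁻¹ * b⁻¹ ∈ R := mul_mem (mul_mem (mul_mem ha hb) (inv_mem ha)) (inv_mem hb)
  obtain ⟨k, hk⟩ := isPGroup_iff.mp hR.isPGroup _ m
  refine h.ker_three (hR.le m) ?_ hk
  have := congrArg Subtype.val ((IsPGroup.isMulCommutative_of_card_eq_prime_sq c).is_comm.comm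
    ⟨_, h.mem_im.mpr ⟨a, ha, a1, rfl⟩⟩ ⟨_, h.mem_im.mpr ⟨b, hb, b1, rfl⟩⟩)
  simp only [MulMemClass.mk_mul_mk] at this
  rw [h.φ_mul (mul_mem (mul_mem a1 b1) (inv_mem a1)) (inv_mem b1), h.φ_conj a1 b1, h.φ_inv b1, this]
  group

theorem syl_nonab {R : Subgroup G} (hR : SylIn 3 R h.C) : ∃ a ∈ R, ∃ b ∈ R, a * b ≠ b * a := by
  haveI : Fact (Nat.Prime 3) := ⟨Nat.prime_three⟩
  by_contra hc
  push Not at hc
  obtain ⟨P, hP⟩ := hR.exists_sylow
  have := H8.center_inf_commutator_inf_sylow_le P (x := ⟨x, h.xC⟩) ⟨⟨mem_center_iff.mpr fun g =>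
    Subtype.ext (h.memC.mp g.2), by
      have : x ∈ ⁅h.C, h.C⁆ := h.perf h.xC
      rw [← map_subtype_commutator] at this
      obtain ⟨a, ha, e⟩ := this
      exact (show a = ⟨x, h.xC⟩ from Subtype.ext e) ▸ ha⟩, by rw [hP]; exact h.mem_syl hR⟩
  rw [commutator_eq_bot_iff_le_centralizer.mpr (fun a ha b hb => Subtype.ext
    (hc b (by rw [hP] at hb; exact hb) a (by rw [hP] at ha; exact ha))), mem_bot] at this
  exact h.x1 (congrArg Subtype.val this)

theorem center_syl {R : Subgroup G} (hR : SylIn 3 R h.C) {y : G} (hy : y ∈ R)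
    (hc : ∀ r ∈ R, r * y = y * r) : y ∈ zpowers x := by
  haveI : Fact (Nat.Prime 3) := ⟨Nat.prime_three⟩
  by_contra hn
  obtain ⟨a, ha, b, hb, hab⟩ := h.syl_nonab hR
  have l1 : (zpowers x).subgroupOf R < center R := by
    refine lt_of_le_of_ne (fun c hc => mem_center_iff.mpr fun r => Subtype.ext (h.zp_comm hc (hR.le r.2))) ?_
    intro e
    have : (⟨y, hy⟩ : R) ∈ center R := mem_center_iff.mpr fun r => Subtype.ext (hc r r.2)
    rw [← e] at this
    exact hn this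
  have c1 : Nat.card ((zpowers x).subgroupOf R) = 3 := by
    rw [Nat.card_congr (subgroupOfEquivOfLe (zpowers_le.mpr (h.mem_syl hR))).toEquiv, Nat.card_zpowers, h.ox]
  have c2 : 3 < Nat.card (center R) := by
    rw [← c1]
    exact lt_of_le_of_ne (card_le_of_le l1.le) fun e => l1.ne (eq_of_le_of_card_ge l1.le e.ge)
  have c3 := card_eq_card_quotient_mul_card_subgroup (center R)
  rw [h.card_syl hR] at c3
  have c4 : Nat.card (R ⧸ center R) ∣ 3 := by
    have d : Nat.card (R ⧸ center R) ∣ 3 ^ 3 := Dvd.intro _ c3.symm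
    obtain ⟨k, hk, e⟩ := (Nat.dvd_prime_pow Nat.prime_three).mp d
    rw [e] at c3 ⊢
    interval_cases k <;> omega
  haveI : IsCyclic (R ⧸ center R) := isCyclic_of_card_dvd_prime c4
  exact hab (congrArg Subtype.val ((MonoidHom.isMulCommutative_of_isCyclic_of_ker_le_center
    (QuotientGroup.mk' (center R)) (by simp)).is_comm.comm ⟨a, ha⟩ ⟨b, hb⟩))

theorem syl_top {R : Subgroup G} (hR : SylIn 3 R h.C) : SylIn 3 R ⊤ := by
  haveI : Fact (Nat.Prime 3) := ⟨Nat.prime_three⟩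
  obtain ⟨S, hS, hRS⟩ := H98.exists_sylIn_ge (le_top (a := R)) hR.isPGroup
  haveI : Nontrivial S := ⟨⟨⟨x, hRS (h.mem_syl hR)⟩, 1, fun e => h.x1 (congrArg Subtype.val e)⟩⟩
  haveI := hS.isPGroup.center_nontrivial
  obtain ⟨⟨⟨y, hy⟩, hz⟩, h1⟩ := exists_ne (1 : center S)
  have hc : ∀ s ∈ S, s * y = y * s := fun s hs => congrArg Subtype.val (mem_center_iff.mp hz ⟨s, hs⟩)
  have yC : y ∈ h.C := h.memC.mpr (hc x (hRS (h.mem_syl hR))).symm
  have e := hR.eq_of_le (U := S ⊓ h.C) inf_le_right (hS.isPGroup.to_le inf_le_left) (le_inf hRS hR.le)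
  have yx := h.center_syl hR (e ▸ ⟨hy, yC⟩) fun r hr => hc r (hRS hr)
  have y1 : y ≠ 1 := fun e => h1 (Subtype.ext (Subtype.ext e))
  have SC : S ≤ h.C := fun s hs => by
    have := hc s hs
    rcases (mem_zp3 h.x3).mp yx with e | rfl | rfl
    · exact absurd e y1
    · exact h.memC.mpr this
    · rw [C, ← cent_sq h.x3]; exact mem_centralizer_singleton_iff.mpr this
  rwa [← e, inf_eq_left.mpr SC]

include h in
theorem not_81 : ¬ 81 ∣ Nat.card G := by
  haveI : Fact (Nat.Prime 3) := ⟨Nat.prime_three⟩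
  obtain ⟨R, hR⟩ := H98.exists_sylIn 3 h.C
  intro hd
  obtain ⟨U, hU⟩ := Sylow.exists_subgroup_card_pow_prime (G := G) 3 (n := 4) hd
  have := (h.syl_top hR).card_le le_top (IsPGroup.of_card hU)
  rw [hU, h.card_syl hR] at this
  norm_num at this

end Cov

set_option linter.all false in
theorem eqns_J4R2 : True := by
  first | (have := @_root_.Cfsg.Agent.H83.J4.Cov.C.eq_def.{0,0}) | (have := @_root_.Cfsg.Agent.H83.J4.Cov.C.eq_def.{0}) | (have := @_root_.Cfsg.Agent.H83.J4.Cov.C.eq_def) | skip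
  first | (have := @_root_.Cfsg.Agent.H83.J4.Cov.C.eq_1.{0,0}) | (have := @_root_.Cfsg.Agent.H83.J4.Cov.C.eq_1.{0}) | (have := @_root_.Cfsg.Agent.H83.J4.Cov.C.eq_1) | skip
  first | (have := @_root_.Cfsg.Agent.H83.J4.Cov.C.eq_2.{0,0}) | (have := @_root_.Cfsg.Agent.H83.J4.Cov.C.eq_2.{0}) | (have := @_root_.Cfsg.Agent.H83.J4.Cov.C.eq_2) | skip
  first | (have := @_root_.Cfsg.Agent.H83.J4.Cov.C.congr_simp.{0,0}) | (have := @_root_.Cfsg.Agent.H83.J4.Cov.C.congr_simp.{0}) | (have := @_root_.Cfsg.Agent.H83.J4.Cov.C.congr_simp) | skip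
  first | (have := @_root_.Cfsg.Agent.H83.J4.Cov.φ.eq_def.{0,0}) | (have := @_root_.Cfsg.Agent.H83.J4.Cov.φ.eq_def.{0}) | (have := @_root_.Cfsg.Agent.H83.J4.Cov.φ.eq_def) | skip
  first | (have := @_root_.Cfsg.Agent.H83.J4.Cov.φ.eq_1.{0,0}) | (have := @_root_.Cfsg.Agent.H83.J4.Cov.φ.eq_1.{0}) | (have := @_root_.Cfsg.Agent.H83.J4.Cov.φ.eq_1) | skip
  first | (have := @_root_.Cfsg.Agent.H83.J4.Cov.φ.eq_2.{0,0}) | (have := @_root_.Cfsg.Agent.H83.J4.Cov.φ.eq_2.{0}) | (have := @_root_.Cfsg.Agent.H83.J4.Cov.φ.eq_2) | skip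
  first | (have := @_root_.Cfsg.Agent.H83.J4.Cov.φ.congr_simp.{0,0}) | (have := @_root_.Cfsg.Agent.H83.J4.Cov.φ.congr_simp.{0}) | (have := @_root_.Cfsg.Agent.H83.J4.Cov.φ.congr_simp) | skip
  first | (have := @_root_.Cfsg.Agent.H83.J4.Cov.cj.eq_def.{0,0}) | (have := @_root_.Cfsg.Agent.H83.J4.Cov.cj.eq_def.{0}) | (have := @_root_.Cfsg.Agent.H83.J4.Cov.cj.eq_def) | skip
  first | (have := @_root_.Cfsg.Agent.H83.J4.Cov.cj.eq_1.{0,0}) | (have := @_root_.Cfsg.Agent.H83.J4.Cov.cj.eq_1.{0}) | (have := @_root_.Cfsg.Agent.H83.J4.Cov.cj.eq_1) | skip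
  first | (have := @_root_.Cfsg.Agent.H83.J4.Cov.cj.eq_2.{0,0}) | (have := @_root_.Cfsg.Agent.H83.J4.Cov.cj.eq_2.{0}) | (have := @_root_.Cfsg.Agent.H83.J4.Cov.cj.eq_2) | skip
  first | (have := @_root_.Cfsg.Agent.H83.J4.Cov.cj.congr_simp.{0,0}) | (have := @_root_.Cfsg.Agent.H83.J4.Cov.cj.congr_simp.{0}) | (have := @_root_.Cfsg.Agent.H83.J4.Cov.cj.congr_simp) | skip
  first | (have := @_root_.Cfsg.Agent.H83.J4.Cov.im.eq_def.{0,0}) | (have := @_root_.Cfsg.Agent.H83.J4.Cov.im.eq_def.{0}) | (have := @_root_.Cfsg.Agent.H83.J4.Cov.im.eq_def) | skip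
  first | (have := @_root_.Cfsg.Agent.H83.J4.Cov.im.eq_1.{0,0}) | (have := @_root_.Cfsg.Agent.H83.J4.Cov.im.eq_1.{0}) | (have := @_root_.Cfsg.Agent.H83.J4.Cov.im.eq_1) | skip
  first | (have := @_root_.Cfsg.Agent.H83.J4.Cov.im.eq_2.{0,0}) | (have := @_root_.Cfsg.Agent.H83.J4.Cov.im.eq_2.{0}) | (have := @_root_.Cfsg.Agent.H83.J4.Cov.im.eq_2) | skip
  first | (have := @_root_.Cfsg.Agent.H83.J4.Cov.im.congr_simp.{0,0}) | (have := @_root_.Cfsg.Agent.H83.J4.Cov.im.congr_simp.{0}) | (have := @_root_.Cfsg.Agent.H83.J4.Cov.im.congr_simp) | skip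
  trivial

end Cfsg.Agent.H83.J4
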