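import Cfsg.Agent.H83.J4R2
import Cfsg.Agent.H42.Idx2

/-!
# The normaliser of the subgroup of order three and the invariant 2-subgroups
-/

set_option autoImplicit false

namespace Cfsg.Agent.H83.J4

open H42 Cfsg Subgroup
open H49 (XS LX)
open H98 (SylIn)

theorem exists_cent2 {G : Type*} [Group G] [Finite G] {Q : Subgroup G} {z : G} (h2 : IsPGroup 2 Q)
    (hz : z ∈ Q) (hc : ∀ q ∈ Q, q * z = z * q) (hne : Q ≠ zpowers z) :
    ∃ a ∈ Q, a ∉ zpowers z ∧ a * a ∈ zpowers z ∧ ∀ q ∈ Q, q * a * q⁻¹ * a⁻¹ ∈ zpowers z := by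
  haveI hn : ((zpowers z).subgroupOf Q).Normal := ⟨fun a ha g => by
    obtain ⟨n, e⟩ := ha
    refine ⟨n, ?_⟩
    have : (a : G) = z ^ n := e.symm
    simp only [coe_subtype, Subgroup.coe_mul, Subgroup.coe_inv, this]
    rw [((show Commute (g : G) z from hc g g.2).zpow_right n).eq, mul_inv_cancel_right]⟩
  have hp : IsPGroup 2 (Q ⧸ (zpowers z).subgroupOf Q) := h2.to_quotient _
  haveI : Nontrivial (Q ⧸ (zpowers z).subgroupOf Q) := QuotientGroup.nontrivial_iff.mpr fun e =>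
    hne (le_antisymm (subgroupOf_eq_top.mp e) (zpowers_le.mpr hz))
  haveI := hp.center_nontrivial
  obtain ⟨n, hn0, hn⟩ := (hp.to_subgroup (center _)).nontrivial_iff_card.mp inferInstance
  obtain ⟨⟨c, hc⟩, ho⟩ := exists_prime_orderOf_dvd_card' (G := center (Q ⧸ (zpowers z).subgroupOf Q)) 2
    (hn ▸ dvd_pow_self 2 hn0.ne')
  obtain ⟨a, rfl⟩ := QuotientGroup.mk_surjective c
  obtain ⟨o1, o2⟩ := H49.orderOf_two_iff.mp ho
  refine ⟨a, a.2, fun h => o1 (Subtype.ext ((QuotientGroup.eq_one_iff a).mpr h)), ?_, fun q hq => ?_⟩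
  · exact (QuotientGroup.eq_one_iff (a * a)).mp (congrArg Subtype.val o2)
  · have := mem_center_iff.mp hc (⟨q, hq⟩ : Q)
    exact (QuotientGroup.eq_one_iff (N := (zpowers z).subgroupOf Q) (⟨q, hq⟩ * a * (⟨q, hq⟩ : Q)⁻¹ * a⁻¹)).mp (by
      rw [QuotientGroup.mk_mul, QuotientGroup.mk_mul, QuotientGroup.mk_mul, this]; simp)

namespace Cov

variable {G : Type*} [Group G] [Finite G] {x z : G} (h : Cov x z)

/-- The normaliser. -/
abbrev N (_ : Cov x z) : Subgroup G := normalizer (zpowers x : Set G)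

theorem mem_N {n : G} : n ∈ h.N ↔ n * x * n⁻¹ = x ∨ n * x * n⁻¹ = x * x := by
  constructor
  · intro hn
    exact ((mem_zp3 h.x3).mp (H49.conj_mem_of_mem_normalizer hn (mem_zpowers x))).resolve_left
      fun e => h.x1 (by simpa using e)
  · intro e
    apply H49.mem_normalizer_of_conj_mem
    rintro _ ⟨k, rfl⟩
    simp only
    rw [← conj_zpow]
    exact zpow_mem ((mem_zp3 h.x3).mpr (Or.inr e)) k

theorem C_le_N : h.C ≤ h.N := fun c hc => h.mem_N.mpr (Or.inl (by rw [h.memC.mp hc]; simp))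

theorem conjC {n c : G} (hn : n ∈ h.N) (hc : c ∈ h.C) : n * c * n⁻¹ ∈ h.C := by
  have := H83.conj_mem (normalizer_le_normalizer_centralizer (zpowers x : Set G)) hn
    (x := c) (by rwa [H49.centralizer_zpowers'])
  rwa [H49.centralizer_zpowers'] at this

theorem conj_ker {n c : G} (hn : n ∈ h.N) (hc : c ∈ h.C) (e : h.φ c = 1) : h.φ (n * c * n⁻¹) = 1 :=
  (h.ker_of_comm fun d hd => by
    have := h.ker_comm hc e (h.conjC (inv_mem hn) hd)
    calc d * (n * c * n⁻¹) = n * (n⁻¹ * d * n⁻¹⁻¹ * c) * n⁻¹ := by group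
      _ = _ := by rw [this]; group).2

theorem N_z {n : G} (hn : n ∈ h.N) : n * z = z * n := by
  rcases h.ker_two (h.conjC hn h.zC) (h.conj_ker hn h.zC h.φ_z) (k := 1) (by
    rw [conj_pow, pow_one, pow_two, h.zz]; simp) with e | e
  · have : z = 1 := by simpa using e
    simp [this]
  · exact mul_inv_eq_iff_eq_mul.mp e

theorem exists_aut {n : G} (hn : n ∈ h.N) :
    ∃ k ∈ GD2, ∀ c ∈ h.C, h.φ (n * c * n⁻¹) = k * h.φ c * k⁻¹ := by
  choose s hs using fun g : G22 => h.φ_surj g.2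
  have wd : ∀ {a b}, a ∈ h.C → b ∈ h.C → h.φ a = h.φ b → h.φ (n * a * n⁻¹) = h.φ (n * b * n⁻¹) := by
    intro a b ha hb e
    have := h.conj_ker hn (mul_mem ha (inv_mem hb)) (by rw [h.φ_mul ha (inv_mem hb), h.φ_inv hb, e]; simp)
    rwa [show n * (a * b⁻¹) * n⁻¹ = n * a * n⁻¹ * (n * b * n⁻¹)⁻¹ by group,
      h.φ_mul (h.conjC hn ha) (inv_mem (h.conjC hn hb)), h.φ_inv (h.conjC hn hb), mul_inv_eq_one] at this
  let f : G22 →* G22 := MonoidHom.mk' (fun g => ⟨h.φ (n * s g * n⁻¹), h.φ_mem _⟩) fun a b => Subtype.ext (by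
    simp only [MulMemClass.mk_mul_mk]
    rw [← h.φ_mul (h.conjC hn (hs a).1) (h.conjC hn (hs b).1),
      show n * s a * n⁻¹ * (n * s b * n⁻¹) = n * (s a * s b) * n⁻¹ by group]
    exact wd (hs _).1 (mul_mem (hs a).1 (hs b).1) (by
      rw [h.φ_mul (hs a).1 (hs b).1, (hs a).2, (hs b).2, (hs _).2]; rfl))
  have inj : Function.Injective f := (injective_iff_map_eq_one f).mpr fun a e => by
    have := h.conj_ker (inv_mem hn) (h.conjC hn (hs a).1) (congrArg Subtype.val e)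
    rw [show n⁻¹ * (n * s a * n⁻¹) * n⁻¹⁻¹ = s a by group, (hs a).2] at this
    exact Subtype.ext this
  obtain ⟨k, hk, e⟩ := aut22 (MulEquiv.ofBijective f (Finite.injective_iff_bijective.mp inj))
  refine ⟨k, hk, fun c hc => ?_⟩
  rw [← e ⟨h.φ c, h.φ_mem c⟩]
  exact wd hc (hs _).1 (hs ⟨h.φ c, h.φ_mem c⟩).2.symm

theorem aut_uniq {n : G} {k k' : M24} (e : ∀ c ∈ h.C, h.φ (n * c * n⁻¹) = k * h.φ c * k⁻¹)
    (e' : ∀ c ∈ h.C, h.φ (n * c * n⁻¹) = k' * h.φ c * k'⁻¹) : k = k' := by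
  rw [← inv_mul_eq_one]
  refine eq_one_of_comm_G22 fun g hg => ?_
  obtain ⟨c, hc, rfl⟩ := h.φ_surj hg
  have := (e c hc).symm.trans (e' c hc)
  calc k⁻¹ * k' * h.φ c = k⁻¹ * (k' * h.φ c * k'⁻¹) * k' := by group
    _ = _ := by rw [← this]; group

/-- The map from the normaliser to the duad stabiliser. -/
noncomputable def ψ : h.N →* M24 :=
  MonoidHom.mk' (fun n => (h.exists_aut n.2).choose) fun a b =>
    h.aut_uniq (h.exists_aut (a * b).2).choose_spec.2 fun c hc => by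
      rw [Subgroup.coe_mul, show (a : G) * b * c * ((a : G) * b)⁻¹ = a * (b * c * (b : G)⁻¹) * (a : G)⁻¹ by group,
        (h.exists_aut a.2).choose_spec.2 _ (h.conjC b.2 hc), (h.exists_aut b.2).choose_spec.2 _ hc]
      group

theorem ψ_mem (n : h.N) : h.ψ n ∈ GD2 := (h.exists_aut n.2).choose_spec.1

theorem ψ_spec (n : h.N) {c : G} (hc : c ∈ h.C) : h.φ (n * c * (n : G)⁻¹) = h.ψ n * h.φ c * (h.ψ n)⁻¹ :=
  (h.exists_aut n.2).choose_spec.2 c hc

theorem ψ_C (n : h.N) (hn : (n : G) ∈ h.C) : h.ψ n = h.φ n :=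
  h.aut_uniq (fun _ hc => h.ψ_spec n hc) fun _ hc => h.φ_conj hn hc

theorem ψ_ker (n : h.N) : h.ψ n = 1 ↔ (n : G) ∈ h.C ∧ h.φ n = 1 := by
  refine ⟨fun e => h.ker_of_comm fun c hc => ?_, fun e => (h.ψ_C n e.1).trans e.2⟩
  have k : ∀ c ∈ h.C, ∀ d ∈ h.C, d * (n * c * (n : G)⁻¹ * c⁻¹) = (n * c * (n : G)⁻¹ * c⁻¹) * d :=
    fun c hc d hd => h.ker_comm (mul_mem (h.conjC n.2 hc) (inv_mem hc)) (by
      rw [h.φ_mul (h.conjC n.2 hc) (inv_mem hc), h.ψ_spec n hc, e, h.φ_inv hc]; simp) hd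
  have : ⁅h.C, h.C⁆ ≤ centralizer {(n : G)} := commutator_le.mpr fun c hc d hd => by
    rw [mem_centralizer_singleton_iff, commutatorElement_def, eq_comm, ← mul_inv_eq_iff_eq_mul]
    have e1 : ∀ c : G, (n : G) * c * (n : G)⁻¹ = (n * c * (n : G)⁻¹ * c⁻¹) * c := fun c => by group
    rw [show (n : G) * (c * d * c⁻¹ * d⁻¹) * (n : G)⁻¹ = (n * c * (n : G)⁻¹) * (n * d * (n : G)⁻¹) *
      (n * c * (n : G)⁻¹)⁻¹ * (n * d * (n : G)⁻¹)⁻¹ by group, e1 c, e1 d]
    have k1 := k c hc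
    have k2 := k d hd
    have bC := mul_mem (h.conjC n.2 hd) (inv_mem hd)
    generalize (n : G) * c * (n : G)⁻¹ * c⁻¹ = a at *
    generalize (n : G) * d * (n : G)⁻¹ * d⁻¹ = b at *
    calc a * c * (b * d) * (a * c)⁻¹ * (b * d)⁻¹ = a * (c * (b * d) * c⁻¹) * a⁻¹ * d⁻¹ * b⁻¹ := by group
      _ = (c * b) * d * c⁻¹ * d⁻¹ * b⁻¹ := by
        rw [← k1 _ (mul_mem (mul_mem hc (mul_mem bC hd)) (inv_mem hc))]; group
      _ = b * (c * d * c⁻¹ * d⁻¹) * b⁻¹ := by rw [k2 c hc]; group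
      _ = _ := by rw [← k2 _ (mul_mem (mul_mem (mul_mem hc hd) (inv_mem hc)) (inv_mem hd))]; group
  exact mem_centralizer_singleton_iff.mp (this (h.perf hc))

theorem ψ_surj {n : G} (hn : n * x * n⁻¹ = x * x) {k : M24} (hk : k ∈ GD2) : ∃ m, h.ψ m = k := by
  have a : ∀ k ∈ G22, ∃ m : h.N, (m : G) ∈ h.C ∧ h.ψ m = k := fun k hk =>
    let ⟨c, hc, e⟩ := h.φ_surj hk; ⟨⟨c, h.C_le_N hc⟩, hc, (h.ψ_C _ hc).trans e⟩
  by_cases h1 : k ∈ G22
  · exact (a k h1).imp fun _ e => e.2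
  · let m : h.N := ⟨n, h.mem_N.mpr (Or.inr hn)⟩
    have h2 : h.ψ m ∉ G22 := fun h2 => by
      obtain ⟨c, hc, e⟩ := a _ h2
      have := ((h.ψ_ker (m * c⁻¹)).mp (by rw [map_mul, map_inv, e, mul_inv_cancel])).1
      have nC : n ∈ h.C := by simpa using mul_mem this hc
      rw [h.memC.mp nC, mul_inv_cancel_right] at hn
      exact h.x1 (left_eq_mul.mp hn)
    obtain ⟨c, -, e⟩ := a _ (mul_mem_G22 hk (h.ψ_mem m) h1 h2)
    exact ⟨c * m⁻¹, by rw [map_mul, map_inv, e, mul_inv_cancel_right]⟩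

theorem fix_two {A : Subgroup G} (h2 : IsPGroup 2 A) (hn : h.C ≤ normalizer (A : Set G)) {a : G}
    (ha : a ∈ A) (hc : a ∈ h.C) : a = 1 ∨ a = z :=
  h.norm_two (A := A ⊓ h.C) inf_le_right (h2.to_le inf_le_left) (le_norm_inf hn le_normalizer) ⟨ha, hc⟩

include h in
/-- The centraliser of `z` is determined as soon as it has a large extraspecial subgroup. -/
theorem hyp {Q : Subgroup G} (lx : LX Q z) (hc : Nat.card Q = 8192) {n : G} (hn : n * x * n⁻¹ = x * x) :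
    ∃ k : Hyp G, k.z = z ∧ k.Q = Q ∧ k.ρ = x := by
  have xz := h.cz x rfl
  have nQ : h.C ≤ normalizer (Q : Set G) := fun c hc =>
    lx.nz (mem_centralizer_singleton_iff.mpr (h.cz c (h.memC.mp hc)))
  have xQ : x ∉ Q := fun hq => h.x1 (by
    have := lx.toXS.pow_four hq
    rwa [pow_succ, h.x3, one_mul] at this)
  have key : ∀ m (hm : m ∈ h.N), m ∈ Q → h.ψ ⟨m, hm⟩ = 1 := fun m hm hq => by
    have mC : m ∈ h.C := by
      rcases h.mem_N.mp hm with e | e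
      · exact h.memC.mpr (mul_inv_eq_iff_eq_mul.mp e)
      · have := mul_mem hq (lx.conj_mem xz (inv_mem hq))
        rw [show m * (x * m⁻¹ * x⁻¹) = m * x * m⁻¹ * x⁻¹ by group, e, mul_inv_cancel_right] at this
        exact absurd this xQ
    rw [h.ψ_C ⟨m, hm⟩ mC]
    show h.φ m = 1
    rcases h.fix_two lx.toXS.isPGroup nQ hq mC with e | e <;> rw [e]
    exacts [h.φ_one, h.φ_z]
  let X : h.N := ⟨x, h.C_le_N h.xC⟩
  have ψX : h.ψ X = 1 := (h.ψ_C X h.xC).trans h.φ_x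
  refine hyp_of_norm lx hc xz h.x3 (fun a ha e => h.fix_two lx.toXS.isPGroup nQ ha
      (h.memC.mpr (mul_inv_eq_iff_eq_mul.mp e).symm)) (N := h.N)
    (fun m => ⟨fun hm => ⟨h.N_z hm, h.mem_N.mp hm⟩, fun e => h.mem_N.mpr e.2⟩) h.ψ h.ψ_mem
    (fun k hk => h.ψ_surj hn hk) (fun m => ⟨fun e => ?_, ?_⟩)
    fun hd => h.not_81 (hd.trans (card_subgroup_dvd_card _))
  · obtain ⟨e1, e2⟩ := (h.ψ_ker m).mp e
    have zQ := lx.mem
    rcases (h.φ_ker e1).mp e2 with e | e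
    · rcases (mem_zp3 h.x3).mp e with e | e | e <;> rw [e] <;> simp [one_mem]
    · have e3 : (m : G) = z * (m * z) := by rw [h.cz _ (h.memC.mp e1), ← mul_assoc, h.zz, one_mul]
      rcases (mem_zp3 h.x3).mp e with e | e | e <;> rw [e3, e] <;> simp [zQ, ← mul_assoc]
  · rintro (e | e | e)
    · exact key m m.2 e
    · have := key _ (m * X⁻¹).2 e
      rwa [Subtype.coe_eta, map_mul, map_inv, ψX, inv_one, mul_one] at this
    · have := key _ (m * X⁻¹ * X⁻¹).2 e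
      rwa [Subtype.coe_eta, map_mul, map_mul, map_inv, ψX, inv_one, mul_one, mul_one] at this

theorem exists_r {y : G} (hy : y ∈ h.C) (y3 : y ^ 3 = 1) (hn : y ∉ zpowers x) :
    ∃ r ∈ h.C, r * y * r⁻¹ = x * y := by
  obtain ⟨R, hR, hyR⟩ := H98.exists_sylIn_ge (p := 3) (zpowers_le.mpr hy) (isPGroup_zpowers (k := 1) y3)
  have yR := hyR (mem_zpowers y)
  by_contra hc
  refine hn (h.center_syl hR yR fun r hr => ?_)
  have rC := hR.le hr
  rcases (mem_zp3 h.x3).mp (h.comm_syl hR hr yR) with e | e | e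
  · rwa [mul_inv_eq_one, mul_inv_eq_iff_eq_mul] at e
  · exact absurd ⟨r, rC, mul_inv_eq_iff_eq_mul.mp e⟩ hc
  · refine absurd ⟨r * r, mul_mem rC rC, ?_⟩ hc
    have e' := mul_inv_eq_iff_eq_mul.mp e
    have c : r * (x * x) * r⁻¹ = x * x := by rw [h.zp_comm (mul_mem (mem_zpowers x) (mem_zpowers x)) rC]; simp
    calc r * r * y * (r * r)⁻¹ = r * (r * y * r⁻¹) * r⁻¹ := by group
      _ = r * (x * x * y) * r⁻¹ := by rw [e']
      _ = r * (x * x) * r⁻¹ * (r * y * r⁻¹) := by group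
      _ = x ^ 3 * (x * y) := by rw [c, e']; simp only [pow_succ, pow_zero, one_mul, mul_assoc]
      _ = _ := by rw [h.x3, one_mul]

theorem conj_xy {y : G} (hy : y ∈ h.C) (y3 : y ^ 3 = 1) (hn : y ∉ zpowers x) {a : G} (ha : a ∈ zpowers x) :
    ∃ r ∈ h.C, r * y * r⁻¹ = a * y := by
  obtain ⟨r, rC, e⟩ := h.exists_r hy y3 hn
  rcases (mem_zp3 h.x3).mp ha with rfl | rfl | rfl
  · exact ⟨1, one_mem _, by simp⟩
  · exact ⟨r, rC, e⟩
  · refine ⟨r * r, mul_mem rC rC, ?_⟩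
    calc r * r * y * (r * r)⁻¹ = r * (r * y * r⁻¹) * r⁻¹ := by group
      _ = r * (x * y) * r⁻¹ := by rw [e]
      _ = r * x * r⁻¹ * (r * y * r⁻¹) := by group
      _ = _ := by rw [e, h.memC.mp rC]; group

theorem conj_inv {y : G} (hy : y ∈ h.C) (y3 : y ^ 3 = 1) (hn : y ∉ zpowers x) :
    ∃ r ∈ h.C, r * y * r⁻¹ = y * y := by
  obtain ⟨k, hk, e⟩ := g22_inv (h.φ_mem y) (by rw [← h.φ_pow hy, y3, h.φ_one])
  obtain ⟨c, hc, rfl⟩ := h.φ_surj hk
  have m := mul_mem (mul_mem hc hy) (inv_mem hc)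
  have yy : (y * y) ^ 3 = 1 := by rw [← pow_two, ← pow_mul, mul_comm, pow_mul, y3, one_pow]
  have k : h.φ (c * y * c⁻¹ * y) = 1 := by rw [h.φ_mul m hy, h.φ_conj hc hy, e, inv_mul_cancel]
  have c1 : Commute (c * y * c⁻¹) y := by
    have := h.ker_comm (mul_mem m hy) k hy
    rw [← mul_assoc] at this
    exact (mul_right_cancel this).symm
  have a := h.ker_three (mul_mem m hy) k (k := 1) (by rw [pow_one, c1.mul_pow, conj_pow, y3]; simp)
  obtain ⟨r, rC, e2⟩ := h.conj_xy (mul_mem hy hy) yy (fun hm => hn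
    (mem_of_pelt_of_pow_mem (p := 3) (k := 1) (n := 2) y3 (by rwa [pow_two]) (by norm_num))) a
  refine ⟨r⁻¹ * c, mul_mem (inv_mem rC) hc, ?_⟩
  rw [mul_assoc _ y, ← pow_three, y3, mul_one] at e2
  rw [show r⁻¹ * c * y * (r⁻¹ * c)⁻¹ = r⁻¹ * (c * y * c⁻¹) * r by group, ← e2]; group

theorem exists_g (S : Sylow 3 G) (g : G)
    (hng : ((center (S : Subgroup G)).map (S : Subgroup G).subtype).map (MulAut.conj g).toMonoidHom ≤ S)
    (hne : ((center (S : Subgroup G)).map (S : Subgroup G).subtype).map (MulAut.conj g).toMonoidHom ≠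
      (center (S : Subgroup G)).map (S : Subgroup G).subtype) :
    ∃ g : G, g * x * g⁻¹ ∈ h.C ∧ g * x * g⁻¹ ∉ zpowers x := by
  haveI : Fact (Nat.Prime 3) := ⟨Nat.prime_three⟩
  obtain ⟨R, hR⟩ := H98.exists_sylIn 3 h.C
  obtain ⟨k, -, e⟩ := (h.syl_top hR).exists_conj (H98.sylIn_top S)
  have hS : ∀ s, s ∈ (S : Subgroup G) ↔ k⁻¹ * s * k ∈ R := fun s => by rw [← e, H98.mem_map_conj]
  have hZ : (center (S : Subgroup G)).map (S : Subgroup G).subtype = zpowers (k * x * k⁻¹) := by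
    ext s
    rw [H49.mem_center_map_iff, ← H49.cj_zpowers, H49.mem_cj, hS]
    constructor
    · rintro ⟨h1, h2⟩
      refine h.center_syl hR h1 fun r hr => ?_
      have := h2 (k * r * k⁻¹) ((hS _).mpr (by simpa [mul_assoc] using hr))
      calc r * (k⁻¹ * s * k) = k⁻¹ * (k * r * k⁻¹ * s) * k := by group
        _ = _ := by rw [← this]; group
    · intro h1
      refine ⟨zpowers_le.mpr (h.mem_syl hR) h1, fun t ht => ?_⟩
      have := h.zp_comm h1 (hR.le ((hS t).mp ht))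
      calc s * t = k * (k⁻¹ * s * k * (k⁻¹ * t * k)) * k⁻¹ := by group
        _ = _ := by rw [← this]; group
  rw [hZ] at hng hne
  have e2 : k⁻¹ * g * k * x * (k⁻¹ * g * k)⁻¹ = k⁻¹ * (g * (k * x * k⁻¹) * g⁻¹) * k := by group
  refine ⟨k⁻¹ * g * k, ?_, fun hm => hne ?_⟩
  · rw [e2]; exact hR.le ((hS _).mp (hng (H98.conj_mem_map_conj (mem_zpowers _))))
  · refine eq_of_le_of_card_ge ?_ (H98.card_map_conj g _).ge
    rw [show (zpowers (k * x * k⁻¹)).map (MulAut.conj g).toMonoidHom = _ from H49.cj_zpowers _ g, zpowers_le,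
      ← H49.cj_zpowers x k, H49.mem_cj, ← e2]
    exact hm

theorem exists_eleven : ∃ u ∈ h.C, u ^ 11 = 1 ∧ h.φ u ≠ 1 := by
  obtain ⟨c, hc, e⟩ := h.φ_surj x11_mem_G22
  have p : toM x11 ^ 11 = 1 := orderOf_x11 ▸ pow_orderOf_eq_one _
  refine ⟨c ^ 12, pow_mem hc _, ?_, ?_⟩
  · have := h.ker_pow (pow_mem hc 11) (by rw [h.φ_pow hc, e, p])
    rw [← pow_mul] at this ⊢
    rw [show 12 * 11 = 11 * 6 * 2 by rfl, pow_mul, this, one_pow]
  · rw [h.φ_pow hc, e, pow_succ, p, one_mul]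
    intro e; have := orderOf_x11; rw [e, orderOf_one] at this; omega

section inv

variable {g : G} (yC : g * x * g⁻¹ ∈ h.C) (yn : g * x * g⁻¹ ∉ zpowers x)
include yC yn

theorem x_notMem : x ∉ zpowers (g * x * g⁻¹) := fun hm => yn (by
  have : zpowers x = zpowers (g * x * g⁻¹) := eq_of_le_of_card_ge (zpowers_le.mpr hm)
    (by rw [Nat.card_zpowers, Nat.card_zpowers, h.ox, (h.cj g).ox])
  rw [this]; exact mem_zpowers _)

theorem exists_inv : ∃ n : G, n * x * n⁻¹ = x * x := by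
  obtain ⟨r, -, e⟩ := h.conj_inv yC (h.cj g).x3 yn
  refine ⟨g⁻¹ * r * g, ?_⟩
  rw [show g⁻¹ * r * g * x * (g⁻¹ * r * g)⁻¹ = g⁻¹ * (r * (g * x * g⁻¹) * r⁻¹) * g by group, e]; group

variable {A : Subgroup G} (h2 : IsPGroup 2 A) (hn : h.C ≤ normalizer (A : Set G)) (hz : z ∈ A) (z1 : z ≠ 1)
include h2 hn hz z1

omit yC yn in
theorem inf_C : A ⊓ h.C = zpowers z := le_antisymm
  (fun _ ha => (H49.mem_zpowers_invol h.zz).mpr (h.fix_two h2 hn ha.1 ha.2)) (zpowers_le.mpr ⟨hz, h.zC⟩)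

theorem cube : Nat.card ↥(A ⊓ centralizer {g * x * g⁻¹}) ^ 3 = 4 * Nat.card A := by
  have y3 := (h.cj g).x3
  generalize g * x * g⁻¹ = y at *
  have := fix9 h.x3 y3 (h.memC.mp yC).symm h.x1 yn A (by
    obtain ⟨n, e⟩ := IsPGroup.iff_card.mp h2
    rw [e]; intro d; have := Nat.prime_three.dvd_of_dvd_pow d; omega) (hn h.xC) (hn yC)
  have k : ∀ a ∈ zpowers x, Nat.card ↥(A ⊓ centralizer {a * y}) = Nat.card ↥(A ⊓ centralizer {y}) := by
    intro a ha
    obtain ⟨r, rC, e⟩ := h.conj_xy yC y3 yn ha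
    rw [← e, ← H49.cj_centralizer_singleton, ← H49.card_cj (A ⊓ centralizer {y}) r, H49.cj_inf,
      H49.cj_eq_iff.mpr (hn rC)]
  rw [k x (mem_zpowers x), k _ (mul_mem (mem_zpowers x) (mem_zpowers x)), ← inf_assoc,
    show A ⊓ centralizer {x} = zpowers z from h.inf_C h2 hn hz z1, inf_eq_left.mpr (zpowers_le.mpr
      (mem_centralizer_singleton_iff.mpr (h.cz y (h.memC.mp yC)).symm)), H49.card_zpowers_invol z1 h.zz] at this
  have e : ∀ c : ℕ, 2 * c * c * c = 2 * c ^ 3 := fun c => by ring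
  rw [e] at this
  omega

variable (zy : g * z * g⁻¹ ≠ z)
include zy

omit hz z1 yn in
theorem card_fix : Nat.card ↥(A ⊓ centralizer {g * x * g⁻¹}) =
    Nat.card ((h.cj g).im (A ⊓ centralizer {g * x * g⁻¹})) := by
  have xC : x ∈ (h.cj g).C := (h.cj g).memC.mpr (h.memC.mp yC).symm
  rw [(h.cj g).card_im inf_le_right (F := ⊥) fun a ha => ⟨fun e => ?_, fun e => by
    rw [mem_bot.mp e, (h.cj g).φ_one]⟩, inf_bot_eq, card_bot, one_mul]
  obtain ⟨k, hk⟩ := isPGroup_iff.mp h2 a ha.1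
  rcases (h.cj g).ker_two ha.2 e hk with e1 | e1
  · exact e1
  · rcases h.fix_two h2 hn ha.1 (h.memC.mpr ((h.cj g).ker_comm ha.2 e xC).symm) with e2 | e2
    · exact e2
    · exact absurd (e1.symm.trans e2) zy

theorem card_inv : A = zpowers z ∨
    Nat.card A = 8192 ∧ Nat.card ↥(A ⊓ centralizer {g * x * g⁻¹}) = 32 := by
  haveI : Fact (Nat.Prime 3) := ⟨Nat.prime_three⟩
  have xC : x ∈ (h.cj g).C := (h.cj g).memC.mpr (h.memC.mp yC).symm
  have c1 := h.cube yC yn h2 hn hz z1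
  have c2 := h.card_fix yC h2 hn zy
  have d := g22_two ((h.cj g).im_le _) ((h.cj g).im_isPGroup (h2.to_le (inf_le_left (b := centralizer {g * x * g⁻¹}))))
  have nx : ∀ v ∈ A ⊓ centralizer {g * x * g⁻¹}, x * v * x⁻¹ ∈ A ⊓ centralizer {g * x * g⁻¹} :=
    fun v hv => ⟨H83.conj_mem hn h.xC hv.1, (h.cj g).C.mul_mem ((h.cj g).C.mul_mem xC hv.2) (inv_mem xC)⟩
  have c3 := card_modEq_cent nx h.x3
  rw [inf_right_comm, show A ⊓ centralizer {x} = zpowers z from h.inf_C h2 hn hz z1, inf_eq_left.mpr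
    (zpowers_le.mpr (mem_centralizer_singleton_iff.mpr (h.cz _ (h.memC.mp yC)).symm)),
    H49.card_zpowers_invol z1 h.zz] at c3
  have c4 : Nat.card ((h.cj g).im (A ⊓ centralizer {g * x * g⁻¹})) ≠ 128 := fun e => by
    have := g22_syl2 ((h.cj g).im_le _) e ((h.cj g).φ_mem x) fun u hu => by
      obtain ⟨a, a1, a2, rfl⟩ := (h.cj g).mem_im.mp hu
      exact (h.cj g).mem_im.mpr ⟨_, nx a a1, (nx a a1).2, (h.cj g).φ_conj xC a2⟩
    have e2 := eq_one_of_mem_pgroup (IsPGroup.of_card (p := 2) (n := 7) e) this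
      ((show (3 : ℕ).Coprime 2 by norm_num).coprime_dvd_left (orderOf_dvd_of_pow_eq_one (by
        rw [← (h.cj g).φ_pow xC, h.x3, (h.cj g).φ_one])))
    exact h.x_notMem yC yn ((h.cj g).ker_three xC e2 (k := 1) h.x3)
  rw [← c2] at d c4
  obtain ⟨k, hk, e⟩ := (Nat.dvd_prime_pow Nat.prime_two (m := 7)).mp d
  rw [e] at c1 c3 c4 ⊢
  have c5 : Nat.card A ≠ 128 := fun e => by
    haveI : Fact (Nat.Prime 11) := ⟨by norm_num⟩
    obtain ⟨u, uC, u1, u2⟩ := h.exists_eleven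
    have c6 := card_modEq_cent (V := A) (fun v hv => H83.conj_mem hn uC hv) u1
    have d2 := card_dvd_of_le (inf_le_left (a := A) (b := centralizer {u}))
    rw [e] at c6 d2
    obtain ⟨j, hj, e2⟩ := (Nat.dvd_prime_pow Nat.prime_two (m := 7)).mp d2
    have : j = 7 := by rw [e2] at c6; interval_cases j <;> simp_all [Nat.ModEq]
    have e3 : A ⊓ centralizer {u} = A := eq_of_le_of_card_ge inf_le_left (by rw [e, e2, this]; norm_num)
    have e4 := h.norm_top (A := h.C ⊓ centralizer (A : Set G)) inf_le_left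
      (le_norm_inf le_normalizer (le_norm_cent hn)) (a := u) ⟨uC, fun a ha =>
        mem_centralizer_singleton_iff.mp (e3.ge ha).2⟩ u2
    have e5 : A ≤ h.C := fun a ha => h.memC.mpr ((e4.ge h.xC).2 a ha)
    have := h.inf_C h2 hn hz z1
    rw [inf_eq_left.mpr e5] at this
    rw [this, H49.card_zpowers_invol z1 h.zz] at e
    omega
  have hk' : k = 1 ∨ k = 3 ∨ k = 5 := by
    interval_cases k <;> simp_all [Nat.ModEq]
  rcases hk' with rfl | rfl | rfl
  · left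
    exact (eq_of_le_of_card_ge (zpowers_le.mpr hz) (by rw [H49.card_zpowers_invol z1 h.zz]; omega)).symm
  · omega
  · right; omega

/-- An invariant 2-subgroup is extraspecial of order `2 ^ 13`. -/
theorem xs_inv (hc : ∀ q ∈ A, q * z = z * q) (hne : A ≠ zpowers z) : XS A z ∧ Nat.card A = 8192 := by
  obtain ⟨c1, c2⟩ := (h.card_inv yC yn h2 hn hz z1 zy).resolve_left hne
  have sub : ∀ B : Subgroup G, B ≤ A → h.C ≤ normalizer (B : Set G) → z ∈ B → B = zpowers z ∨ B = A :=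
    fun B h1 h3 h4 => (h.card_inv yC yn (h2.to_le h1) h3 h4 z1 zy).imp id fun e =>
      eq_of_le_of_card_ge h1 (by rw [c1, e.1])
  have nZ : ∀ {B : Subgroup G}, (∀ q ∈ B, q * z = z * q) → B ≤ normalizer (zpowers z : Set G) :=
    fun hB => le_norm_of_le_cent (by
      rw [H49.centralizer_zpowers']; exact fun q hq => mem_centralizer_singleton_iff.mpr (hB q hq))
  have mZ : ∀ {a}, a ∈ zpowers z ↔ a = 1 ∨ a = z := H49.mem_zpowers_invol h.zz
  obtain ⟨a, a1, a2, a3, a4⟩ := exists_cent2 h2 hz hc hne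
  have nonab : ∃ x ∈ A, ∃ y ∈ A, x * y ≠ y * x := by
    by_contra hab
    push Not at hab
    let B : Subgroup G := ⟨⟨⟨{b | b ∈ A ∧ b * b ∈ zpowers z}, fun {b c} hb hc => ⟨mul_mem hb.1 hc.1, by
      rw [mul_assoc, ← mul_assoc c, hab c hc.1 b hb.1, mul_assoc, ← mul_assoc]; exact mul_mem hb.2 hc.2⟩⟩,
      ⟨one_mem _, by simp⟩⟩, fun {b} hb => ⟨inv_mem hb.1, by rw [← mul_inv_rev]; exact inv_mem hb.2⟩⟩
    have eB := (sub B (fun _ hb => hb.1) (fun c hc => H49.mem_normalizer_of_conj_mem fun b hb =>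
      ⟨H83.conj_mem hn hc hb.1, by
        rw [show c * b * c⁻¹ * (c * b * c⁻¹) = c * (b * b) * c⁻¹ by group]
        exact H83.conj_mem (nZ fun q hq => h.cz q (h.memC.mp hq)) hc hb.2⟩)
      ⟨hz, by rw [h.zz]; exact one_mem _⟩).resolve_left fun e => a2 (e ▸ (⟨a1, a3⟩ : a ∈ B))
    have sq : ∀ b ∈ A, b * b = 1 := fun b hb => by
      refine (mZ.mp (eB.ge hb).2).resolve_right fun e => z1 ?_
      have xb := H83.conj_mem hn h.xC hb
      have xxb := H83.conj_mem hn h.xC xb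
      have xz : x * z * x⁻¹ = z := by rw [h.cz x rfl]; simp
      have e1 : x * b * x⁻¹ * (x * b * x⁻¹) = z := by rw [← xz, ← e]; group
      have e2 : x * (x * b * x⁻¹) * x⁻¹ * (x * (x * b * x⁻¹) * x⁻¹) = z := by rw [← xz, ← e1]; group
      have e3 : x * (x * (x * b * x⁻¹) * x⁻¹) * x⁻¹ = b := by
        rw [show x * (x * (x * b * x⁻¹) * x⁻¹) * x⁻¹ = (x * x * x) * b * (x * x * x)⁻¹ by group,
          ← pow_three', h.x3]; simp
      have m := mul_mem (mul_mem hb xb) xxb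
      have f := h.fix_two h2 hn m (h.memC.mpr (by
        rw [eq_comm, ← mul_inv_eq_iff_eq_mul, show x * (b * (x * b * x⁻¹) * (x * (x * b * x⁻¹) * x⁻¹)) * x⁻¹ =
          (x * b * x⁻¹) * (x * (x * b * x⁻¹) * x⁻¹) * (x * (x * (x * b * x⁻¹) * x⁻¹) * x⁻¹) by group, e3,
          hab _ (mul_mem xb xxb) b hb, mul_assoc b]))
      generalize x * (x * b * x⁻¹) * x⁻¹ = b2 at *
      generalize x * b * x⁻¹ = b1 at *
      have c1 : Commute b b1 := hab b hb b1 xb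
      have c2 : Commute (b * b1) b2 := hab _ (mul_mem hb xb) b2 xxb
      have : (b * b1 * b2) ^ 2 = z := by
        rw [c2.mul_pow, c1.mul_pow, pow_two, pow_two, pow_two, e, e1, e2, h.zz, one_mul]
      rcases f with f | f <;> rw [f] at this
      · simpa using this.symm
      · rw [← this, pow_two, h.zz]
    have := g22_elab ((h.cj g).im_le (A ⊓ centralizer {g * x * g⁻¹})) fun u hu => by
      obtain ⟨a, a1, a2, rfl⟩ := (h.cj g).mem_im.mp hu
      rw [← (h.cj g).φ_mul a2 a2, sq a a1.1, (h.cj g).φ_one]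
    rw [← h.card_fix yC h2 hn zy, c2] at this
    omega
  refine ⟨⟨hz, z1, h.zz, hc, fun b hb e => ?_, fun b hb c hc' => ?_, nonab⟩, c1⟩
  · rcases sub (A ⊓ centralizer (A : Set G)) inf_le_left (le_norm_inf hn (le_norm_cent hn))
      ⟨hz, hc⟩ with e1 | e1
    · exact mZ.mp (e1.le ⟨hb, fun y hy => (e y hy).symm⟩)
    · obtain ⟨u, hu, v, hv, e2⟩ := nonab
      exact absurd ((e1.ge hv).2 u hu) e2
  · rcases sub (centMod A A (zpowers z) (nZ hc)) centMod_le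
      (le_norm_centMod hn hn (nZ fun q hq => h.cz q (h.memC.mp hq)))
      (mem_centMod.mpr ⟨hz, fun q hq => by
        rw [commutatorElement_def, hc q hq]; simp⟩) with e1 | e1
    · exact absurd (e1.le (mem_centMod.mpr ⟨a1, a4⟩)) a2
    · rcases mZ.mp ((mem_centMod.mp (e1.ge hc')).2 b hb) with e2 | e2
      · exact Or.inl (commutatorElement_eq_one_iff_mul_comm.mp e2)
      · right
        rw [commutatorElement_def, mul_inv_eq_iff_eq_mul, mul_inv_eq_iff_eq_mul] at e2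
        rw [e2, hc _ (mul_mem hc' hb), mul_assoc]

end inv

/-- A normal 2-subgroup of the centraliser of `z` that is larger than `⟨z⟩` gives Janko-four type. -/
theorem hyp_of_normal {g : G} (yC : g * x * g⁻¹ ∈ h.C) (yn : g * x * g⁻¹ ∉ zpowers x) {Q : Subgroup G}
    (h2 : IsPGroup 2 Q) (hn : centralizer {z} ≤ normalizer (Q : Set G)) (hz : z ∈ Q) (z1 : z ≠ 1)
    (hc : ∀ q ∈ Q, q * z = z * q) (hne : Q ≠ zpowers z) (cQ : centralizer (Q : Set G) ≤ Q) :
    ∃ k : Hyp G, k.z = z ∧ k.Q = Q ∧ k.ρ = x := by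
  have hC : h.C ≤ centralizer {z} := fun c hc => mem_centralizer_singleton_iff.mpr (h.cz c (h.memC.mp hc))
  have zy : g * z * g⁻¹ ≠ z := fun e => by
    have c1 := h.cube yC yn h2 (hC.trans hn) hz z1
    have c2 := (h.cj g).inf_C h2 (fun c hc => hn (mem_centralizer_singleton_iff.mpr (by
      have := (h.cj g).cz c ((h.cj g).memC.mp hc)
      rwa [e] at this))) (by rwa [e]) (by rwa [e])
    rw [show Q ⊓ centralizer {g * x * g⁻¹} = _ from c2, e, H49.card_zpowers_invol z1 h.zz] at c1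
    exact hne (eq_of_le_of_card_ge (zpowers_le.mpr hz)
      (by rw [H49.card_zpowers_invol z1 h.zz]; omega)).symm
  obtain ⟨xs, c⟩ := h.xs_inv yC yn h2 (hC.trans hn) hz z1 zy hc hne
  obtain ⟨n, hn'⟩ := h.exists_inv yC yn
  exact h.hyp ⟨xs, cQ, hn⟩ c hn'

end Cov

set_option linter.all false in
theorem eqns_J4R3 : True := by
  first | (have := @_root_.Cfsg.Agent.H83.J4.Cov.N.eq_def.{0,0}) | (have := @_root_.Cfsg.Agent.H83.J4.Cov.N.eq_def.{0}) | (have := @_root_.Cfsg.Agent.H83.J4.Cov.N.eq_def) | skip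
  first | (have := @_root_.Cfsg.Agent.H83.J4.Cov.N.eq_1.{0,0}) | (have := @_root_.Cfsg.Agent.H83.J4.Cov.N.eq_1.{0}) | (have := @_root_.Cfsg.Agent.H83.J4.Cov.N.eq_1) | skip
  first | (have := @_root_.Cfsg.Agent.H83.J4.Cov.N.eq_2.{0,0}) | (have := @_root_.Cfsg.Agent.H83.J4.Cov.N.eq_2.{0}) | (have := @_root_.Cfsg.Agent.H83.J4.Cov.N.eq_2) | skip
  first | (have := @_root_.Cfsg.Agent.H83.J4.Cov.N.congr_simp.{0,0}) | (have := @_root_.Cfsg.Agent.H83.J4.Cov.N.congr_simp.{0}) | (have := @_root_.Cfsg.Agent.H83.J4.Cov.N.congr_simp) | skip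
  trivial

end Cfsg.Agent.H83.J4
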