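import Cfsg.Agent.H83.CharP
import Cfsg.Agent.H82.SL2
import Cfsg.Agent.H39.SzSol
import Cfsg.Agent.H39.SzOvoid

/-!
A common property of root groups in `SL₂(q)`, `Sz(q)` and dihedral groups of order `2r`.
-/

set_option autoImplicit false
open Subgroup Cfsg
open scoped Pointwise commutatorElement MatrixGroups

namespace Cfsg.Agent.H83

variable {X : Type*} [Group X] {p : ℕ}

/-- `Y` is the only nontrivial elementary abelian normal `p`-subgroup of its normalizer, and every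
element that is not a `p`-element is, up to a commuting `p`-element, a product of two elements from
conjugates of `Y`. -/
structure Rk (p : ℕ) (Y : Subgroup X) : Prop where
  uniq : ∀ V : Subgroup X, V ≤ normalizer (Y : Set X) →
    normalizer (Y : Set X) ≤ normalizer (V : Set X) → IsElementaryAbelian p V → V ≠ ⊥ → V = Y
  prod : ∀ h : X, (¬ ∃ k : ℕ, h ^ p ^ k = 1) → ∃ u : X, (∃ k : ℕ, u ^ p ^ k = 1) ∧ h * u = u * h ∧
    ∃ g₁ g₂ : X, ∃ y₁ ∈ cj g₁ Y, ∃ y₂ ∈ cj g₂ Y, h * u = y₁ * y₂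

theorem Rk.of_map {X' : Type*} [Group X'] (e : X ≃* X') {Y : Subgroup X}
    (h : Rk p (Y.map e.toMonoidHom)) : Rk p Y := by
  have hi : Function.Injective e.toMonoidHom := e.injective
  refine ⟨fun V h1 h2 h3 h4 => ?_, fun x hx => ?_⟩
  · refine map_injective hi (h.uniq _ ?_ ?_ (EA_map _ h3) fun e0 => h4 ?_)
    · rw [← map_equiv_normalizer_eq]; exact map_mono h1
    · rw [← map_equiv_normalizer_eq, ← map_equiv_normalizer_eq]; exact map_mono h2
    · exact (Subgroup.map_eq_bot_iff_of_injective _ hi).mp e0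
  · obtain ⟨u, ⟨k, hk⟩, hc, g₁, g₂, y₁, h1, y₂, h2, e1⟩ := h.prod (e x) (by
      rintro ⟨k, hk⟩
      exact hx ⟨k, e.injective (by rw [map_pow, hk, map_one])⟩)
    have key : ∀ g y : X', y ∈ cj g (Y.map e.toMonoidHom) → e.symm y ∈ cj (e.symm g) Y := by
      intro g y hy
      obtain ⟨z, hz, hz'⟩ := mem_cj.mp hy
      rw [mem_cj, ← map_inv, ← map_mul, ← map_mul, ← hz']
      simpa using hz
    refine ⟨e.symm u, ⟨k, by rw [← map_pow, hk, map_one]⟩, e.injective (by simpa using hc),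
      _, _, _, key _ _ h1, _, key _ _ h2, e.injective (by simpa using e1)⟩

theorem Rk.of_cj {Y : Subgroup X} {g : X} (h : Rk p (cj g Y)) : Rk p Y :=
  Rk.of_map (MulAut.conj g) h

theorem exists_prod_of_conj {Y : Subgroup X} {x g a b y₁ y₂ : X} (h1 : y₁ ∈ cj a Y)
    (h2 : y₂ ∈ cj b Y) (e : g * x * g⁻¹ = y₁ * y₂) :
    ∃ g₁ g₂ : X, ∃ y₁ ∈ cj g₁ Y, ∃ y₂ ∈ cj g₂ Y, x = y₁ * y₂ := by
  refine ⟨g⁻¹ * a, g⁻¹ * b, g⁻¹ * y₁ * g⁻¹⁻¹, ?_, g⁻¹ * y₂ * g⁻¹⁻¹, ?_, ?_⟩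
  · rw [cj_mul]; exact conj_mem_cj h1
  · rw [cj_mul]; exact conj_mem_cj h2
  · calc x = g⁻¹ * (g * x * g⁻¹) * g := by group
      _ = _ := by rw [e]; group

section SL2
open H82
variable {F : Type*} [Field F] [Fintype F] [hp : Fact p.Prime]

omit [Fintype F] in
theorem sl2_prod {x : SL(2, F)} (hx : x ∉ center SL(2, F)) :
    ∃ g₁ g₂ : SL(2, F), ∃ y₁ ∈ cj g₁ (UU F), ∃ y₂ ∈ cj g₂ (UU F), x = y₁ * y₂ := by
  obtain ⟨g, hg⟩ : ∃ g, g * x * g⁻¹ ∉ BB F := by
    by_contra h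
    push Not at h
    exact hx (mem_center_of_forall_conj_mem_BB h)
  obtain ⟨a, s, b, hs, e⟩ := bruhat hg
  refine exists_prod_of_conj (g := uu s * uu b * g) (a := 1) (b := mm 1 one_ne_zero)
    (y₁ := uu s * uu b * uu a * uu s) (y₂ := ll (-s⁻¹)) ?_ ?_ ?_
  · rw [cj_one]
    exact mul_mem (mul_mem (mul_mem (uu_mem _) (uu_mem _)) (uu_mem _)) (uu_mem _)
  · have := conj_mem_cj (g := mm (1 : F) one_ne_zero) (uu_mem s⁻¹)
    rwa [mm_uu, inv_one, one_pow, mul_one] at this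
  · calc uu s * uu b * g * x * (uu s * uu b * g)⁻¹
        = uu s * uu b * (g * x * g⁻¹) * (uu b)⁻¹ * (uu s)⁻¹ := by group
      _ = _ := by rw [e, ← uu_ll_uu hs]; group

theorem rk_UU {n : ℕ} (hF : Fintype.card F = p ^ n) : Rk p (UU F) := by
  refine ⟨fun V h1 h2 h3 h4 => ?_, fun x hx => ?_⟩
  · rw [normalizer_UU] at h1 h2
    have hVU : V ≤ UU F := fun v hv =>
      mem_UU_of_mem_BB hF (h1 hv) (k := 1) (by rw [pow_one]; exact h3.2 v hv)
    refine le_antisymm hVU ?_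
    obtain ⟨⟨v, hv⟩, hv1⟩ := ne_bot_iff_exists_ne_one.mp h4
    obtain ⟨t, rfl⟩ := mem_UU.mp (hVU hv)
    have ht : t ≠ 0 := fun e => hv1 (Subtype.ext (uu_eq_one_iff.mpr e))
    have key : ∀ a : F, uu (a ^ 2 * t) ∈ V := fun a => by
      by_cases ha : a = 0
      · rw [ha, zero_pow two_ne_zero, zero_mul, uu_zero]; exact one_mem _
      · rw [← hh_uu ha]
        exact conj_mem h2 (mem_BB.mpr (hh_10 a ha)) hv
    intro w hw
    obtain ⟨r, rfl⟩ := mem_UU.mp hw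
    obtain ⟨a, b, e⟩ := exists_sq_sub_sq (r / t)
    have : r = a ^ 2 * t + -(b ^ 2 * t) := by
      rw [← sub_eq_add_neg, ← sub_mul, ← e, div_mul_cancel₀ _ ht]
    rw [this, uu_add, uu_neg]
    exact mul_mem (key a) (inv_mem (key b))
  · by_cases hc : x ∈ center SL(2, F)
    · refine ⟨uu 1, ⟨1, by rw [pow_one]; exact uu_pow_char hF 1⟩, (mem_center_iff.mp hc _).symm,
        sl2_prod fun h => ?_⟩
      exact one_ne_zero (uu_mem_center_iff.mp ((Subgroup.mul_mem_cancel_left _ hc).mp h))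
    · exact ⟨1, ⟨0, one_pow _⟩, by rw [mul_one, one_mul], by rw [mul_one]; exact sl2_prod hc⟩

theorem rk_SL2 {Y : Subgroup SL(2, F)} (hY : IsPGroup p Y) (hc : Fintype.card F = Nat.card Y) :
    Rk p Y := by
  obtain ⟨n, hn⟩ := IsPGroup.iff_card.mp hY
  rw [hn] at hc
  obtain ⟨g, hg⟩ := exists_conj_le_UU hc hY
  refine Rk.of_cj (g := g) ?_
  rw [eq_of_le_of_card_ge hg (by rw [card_UU, card_cj, hn, Nat.card_eq_fintype_card, hc])]
  exact rk_UU hc

end SL2

theorem order_four_aux {y w : X} (h4 : w * w = 1) (h5 : y ^ 4 = 1)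
    (h1 : w * (y * y) * w = y * w * y⁻¹) : (y * w) ^ 4 = 1 := by
  have h6 : y * w * y * w = w * y⁻¹ * w * y⁻¹ := by
    calc y * w * y * w = (y * w * y⁻¹) * y * y * w := by group
      _ = w * (y * y) * (w * (y * y) * w) := by rw [← h1]; simp only [mul_assoc]
      _ = w * y ^ 4 * y⁻¹ * w * y⁻¹ := by
        rw [h1]; simp only [pow_succ, pow_zero, one_mul, mul_assoc, mul_inv_cancel_left]
      _ = _ := by rw [h5, mul_one]
  calc (y * w) ^ 4 = (y * w * y * w) * (y * w * y * w) := by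
        simp only [pow_succ, pow_zero, one_mul, mul_assoc]
    _ = y * w * y * (w * w) * y⁻¹ * w * y⁻¹ := by
        nth_rewrite 2 [h6]; simp only [mul_assoc]
    _ = y * (w * w) * y⁻¹ := by
        nth_rewrite 1 [h4]; simp only [mul_assoc, one_mul, mul_inv_cancel_left]
    _ = 1 := by rw [h4]; group

section Sz
open H39
variable {F : Type*} [Field F] [Fintype F] {m : ℕ}

theorem sz_sylow (S : Model X F) (hF : Fintype.card F = 2 ^ (2 * m + 1)) : IsSylowIn 2 S.U ⊤ := by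
  haveI := S.finite
  haveI : Fact (Nat.Prime 2) := ⟨Nat.prime_two⟩
  refine isSylowIn_of_not_dvd_relIndex le_top S.isPGroup_U ?_
  rw [relIndex_top_right, S.index_U, Nat.card_eq_fintype_card, hF]
  refine Nat.two_dvd_ne_zero.mpr (Nat.odd_iff.mp (Odd.mul ?_ ?_))
  · exact Nat.Even.sub_odd (Nat.one_le_two_pow) (Nat.even_pow.mpr ⟨even_two, by omega⟩) odd_one
  · exact (Nat.even_pow.mpr ⟨Nat.even_pow.mpr ⟨even_two, by omega⟩, two_ne_zero⟩).add_one

theorem sz_invol (S : Model X F) (hF : Fintype.card F = 2 ^ (2 * m + 1)) {x : X} (hx : x * x = 1) :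
    ∃ g, x ∈ cj g S.Z := by
  haveI := S.finite
  haveI : Fact (Nat.Prime 2) := ⟨Nat.prime_two⟩
  obtain ⟨g, -, hg⟩ := (sz_sylow S hF).exists_conj_le le_top
    (isPGroup_zpowers (x := x) (k := 1) (by rw [pow_one, pow_two, hx]))
  refine ⟨g⁻¹, mem_cj.mpr (S.mem_Z_of_mul_self (by
    rw [inv_inv]; exact hg (conj_mem_cj (mem_zpowers x))) ?_)⟩
  calc g⁻¹⁻¹ * x * g⁻¹ * (g⁻¹⁻¹ * x * g⁻¹) = g * (x * x) * g⁻¹ := by group
    _ = 1 := by rw [hx]; group

theorem sz_two_invol (S : Model X F) (hF : Fintype.card F = 2 ^ (2 * m + 1)) {x : X}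
    (hx : ¬ ∃ k : ℕ, x ^ 2 ^ k = 1) : ∃ s t : X, s * s = 1 ∧ t * t = 1 ∧ x = s * t := by
  haveI := S.finite
  haveI : Fact (Nat.Prime 2) := ⟨Nat.prime_two⟩
  rcases Nat.eq_zero_or_pos m with rfl | hm
  · have hF2 : ∀ a : F, a = 0 ∨ a = 1 := fun a => by
      by_cases ha : a = 0
      · exact Or.inl ha
      · have := FiniteField.pow_card_sub_one_eq_one a ha
        rw [hF] at this
        exact Or.inr (by simpa using this)
    have hk : ∀ k : Fˣ, S.h k = 1 := fun k =>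
      S.h_eq_one_iff.mpr (Units.ext ((hF2 k).resolve_left k.ne_zero))
    have four : ∀ g y : X, y ^ 4 = 1 → g * x * g⁻¹ ≠ y := fun g y hy e => hx ⟨2, by
      calc x ^ 2 ^ 2 = g⁻¹ * (g * x * g⁻¹) ^ 4 * g := by rw [conj_pow']; group
        _ = 1 := by rw [e, hy]; group⟩
    rcases S.bruhat x with ⟨a, b, k, e⟩ | ⟨a, b, k, c, d, e⟩
    · exact absurd (by rw [e, hk]; group) (four 1 _ (S.u_pow_four a b))
    rw [hk, mul_one] at e
    obtain ⟨a', b', e'⟩ : ∃ a' b', S.u c d * S.u a b = S.u a' b' := ⟨_, _, S.u_mul _ _ _ _⟩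
    have e2 : S.u c d * x * (S.u c d)⁻¹ = S.u a' b' * S.w := by rw [e, ← e']; group
    rcases hF2 a' with rfl | rfl
    · refine ⟨(S.u c d)⁻¹ * S.u 0 b' * S.u c d, (S.u c d)⁻¹ * S.w * S.u c d, ?_, ?_, ?_⟩
      · calc _ = (S.u c d)⁻¹ * (S.u 0 b' * S.u 0 b') * S.u c d := by group
          _ = 1 := by rw [S.u_zero_sq]; group
      · calc _ = (S.u c d)⁻¹ * (S.w * S.w) * S.u c d := by group
          _ = 1 := by rw [S.w_mul_w]; group
      · calc x = (S.u c d)⁻¹ * (S.u c d * x * (S.u c d)⁻¹) * S.u c d := by group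
          _ = _ := by rw [e2]; group
    · have h1 := S.w_u_w_one
      have h2 : S.u 0 1 = S.u 1 0 * S.u 1 0 := by rw [S.u_sq]; simp
      rw [h2] at h1
      have h4 := order_four_aux S.w_mul_w (S.u_pow_four 1 0) h1
      rcases hF2 b' with rfl | rfl
      · exact absurd e2 (four _ _ h4)
      · refine absurd e2 (four _ _ ?_)
        have h5 : S.u 1 1 = (S.u 1 0)⁻¹ := by rw [S.u_inv]; simp
        calc (S.u 1 1 * S.w) ^ 4 = (S.w * (S.u 1 0 * S.w) * S.w⁻¹)⁻¹ ^ 4 := by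
              rw [h5]; nth_rewrite 1 [← S.w_inv]; group
          _ = 1 := by rw [inv_pow, conj_pow', h4]; group
  · haveI := szField_of_card hm hF
    have h1 : x ≠ 1 := fun e => hx ⟨0, by rw [e, one_pow]⟩
    have ho : Odd (orderOf x) := Nat.not_even_iff_odd.mp fun h =>
      hx ⟨2, orderOf_dvd_iff_pow_eq_one.mp (S.orderOf_dvd_four_of_even h)⟩
    have h2 : 2 ∣ Nat.card (normalizer ((centralizer {x} : Subgroup X) : Set X)) := by
      by_cases hf : S.IsFree x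
      · rw [hf.card_normalizer]; exact Dvd.dvd.mul_right (by norm_num) _
      · rw [S.card_normalizer_of_not_isFree h1 ho hf]; exact Dvd.dvd.mul_right (by norm_num) _
    obtain ⟨⟨t, ht⟩, ht2⟩ := exists_prime_orderOf_dvd_card' 2 h2
    rw [orderOf_mk] at ht2
    have htt : t * t = 1 := by rw [← pow_two, ← ht2, pow_orderOf_eq_one]
    obtain ⟨g, hg⟩ := S.exists_twist_mem_U (x := t) (n := 1) (by rw [pow_one, pow_two, htt])
    have h3 := (S.twist g).conj_eq_inv hg (fun e => by rw [e, orderOf_one] at ht2; omega) h1 ho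
      ht htt
    refine ⟨x * t, t, ?_, htt, by rw [mul_assoc, htt, mul_one]⟩
    calc x * t * (x * t) = x * (t * x * t⁻¹) * (t * t) := by group
      _ = 1 := by rw [h3, htt]; group

theorem rk_Z (S : Model X F) (hF : Fintype.card F = 2 ^ (2 * m + 1)) : Rk 2 S.Z := by
  haveI := S.finite
  haveI : Fact (Nat.Prime 2) := ⟨Nat.prime_two⟩
  refine ⟨fun V h1 h2 h3 h4 => ?_, fun x hx => ?_⟩
  · rw [S.normalizer_Z] at h1 h2
    have hVU : V ≤ S.U := (sz_sylow S hF).le_of_norm' le_top (EA_isPGroup h3)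
      (by rw [S.normalizer_U]; exact h1)
    have hVZ : V ≤ S.Z := fun v hv =>
      S.mem_Z_of_mul_self (hVU hv) (by rw [← pow_two]; exact h3.2 v hv)
    refine le_antisymm hVZ ?_
    obtain ⟨⟨v, hv⟩, hv1⟩ := ne_bot_iff_exists_ne_one.mp h4
    obtain ⟨t, rfl⟩ := S.mem_Z.mp (hVZ hv)
    have ht : t ≠ 0 := fun e => hv1 (Subtype.ext (S.u_eq_one_iff.mpr ⟨rfl, e⟩))
    intro w hw
    obtain ⟨r, rfl⟩ := S.mem_Z.mp hw
    by_cases hr : r = 0
    · rw [S.u_eq_one_iff.mpr ⟨rfl, hr⟩]; exact one_mem _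
    obtain ⟨k, hk⟩ := S.toTits.exists_unit_sq_θ ht hr
    have := conj_mem h2 (S.h_mem_B k) hv
    rwa [S.h_conj_u, mul_zero, hk] at this
  · obtain ⟨s, t, hs, ht, e⟩ := sz_two_invol S hF hx
    obtain ⟨g₁, h1⟩ := sz_invol S hF hs
    obtain ⟨g₂, h2⟩ := sz_invol S hF ht
    exact ⟨1, ⟨0, one_pow _⟩, by rw [mul_one, one_mul], g₁, g₂, s, h1, t, h2, by rw [mul_one, e]⟩

theorem rk_Sz (S : Model X F) (hF : Fintype.card F = 2 ^ (2 * m + 1)) {Y : Subgroup X}
    (hY : IsElementaryAbelian 2 Y) (hc : Fintype.card F = Nat.card Y) : Rk 2 Y := by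
  haveI := S.finite
  haveI : Fact (Nat.Prime 2) := ⟨Nat.prime_two⟩
  obtain ⟨g, -, hg⟩ := (sz_sylow S hF).exists_conj_le le_top (EA_isPGroup hY)
  refine Rk.of_cj (g := g) ?_
  have h1 : cj g Y ≤ S.Z := fun v hv =>
    S.mem_Z_of_mul_self (hg hv) (by rw [← pow_two]; exact (EA_cj hY g).2 v hv)
  rw [eq_of_le_of_card_ge h1 (by rw [S.card_Z, card_cj, ← hc, Nat.card_eq_fintype_card])]
  exact rk_Z S hF

end Sz

section Dih
open DihedralGroup

theorem rk_dihedral {n : ℕ} (hn : n.Prime) (h2 : n ≠ 2) {Y : Subgroup (DihedralGroup n)}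
    (hY : IsElementaryAbelian 2 Y) (h0 : Y ≠ ⊥) : Rk 2 Y := by
  haveI : NeZero n := ⟨hn.ne_zero⟩
  haveI : Fact (Nat.Prime 2) := ⟨Nat.prime_two⟩
  have hodd : ¬ 2 ∣ n := fun h => h2 ((Nat.prime_dvd_prime_iff_eq Nat.prime_two hn).mp h).symm
  have hsyl : IsSylowIn 2 Y ⊤ := by
    refine isSylowIn_of_not_dvd_relIndex le_top (EA_isPGroup hY) ?_
    rw [relIndex_top_right]
    intro h
    obtain ⟨k, hk⟩ := IsPGroup.iff_card.mp (EA_isPGroup hY)
    have h1 : 2 ∣ Nat.card Y := by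
      rw [hk]
      refine dvd_pow_self 2 fun e => h0 (Subgroup.eq_bot_of_card_eq _ (by rw [hk, e, pow_zero]))
    have h3 := Nat.mul_dvd_mul h1 h
    rw [card_mul_index, nat_card] at h3
    exact hodd (Nat.dvd_of_mul_dvd_mul_left two_pos h3)
  refine ⟨fun V h1 h2 h3 h4 => ?_, fun x hx => ?_⟩
  · have hV := hsyl.le_of_norm' le_top (EA_isPGroup h3) h1
    refine eq_of_le_of_card_ge hV ?_
    obtain ⟨k, hk⟩ := IsPGroup.iff_card.mp (EA_isPGroup hY)
    have h5 : Nat.card Y ∣ 2 := by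
      refine (Nat.Coprime.dvd_mul_right (n := n) ?_).mp (nat_card (n := n) ▸ card_subgroup_dvd_card Y)
      rw [hk]
      exact Nat.Coprime.pow_left _ ((Nat.Prime.coprime_iff_not_dvd Nat.prime_two).mpr hodd)
    exact (Nat.le_of_dvd two_pos h5).trans ((Subgroup.one_lt_card_iff_ne_bot V).mpr h4)
  · have key : ∀ i, ∃ g, sr i ∈ cj g Y := fun i => by
      obtain ⟨g, -, hg⟩ := hsyl.exists_le_conj le_top
        (isPGroup_zpowers (x := sr i) (k := 1) (by rw [pow_one, pow_two, sr_mul_self]))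
      exact ⟨g, hg (mem_zpowers _)⟩
    rcases x with i | i
    · obtain ⟨g₁, h1⟩ := key 0
      obtain ⟨g₂, h2⟩ := key i
      exact ⟨1, ⟨0, one_pow _⟩, by rw [mul_one, one_mul], g₁, g₂, _, h1, _, h2, by simp⟩
    · exact absurd ⟨1, by rw [pow_one, pow_two, sr_mul_self]⟩ hx

end Dih

end Cfsg.Agent.H83
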