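import Cfsg.Agent.H56.SpDefs
import Cfsg.Agent.H60.OddInv

/-!
# Project CY, piece SP-BW: the Brauer-Wielandt count of fixed points
-/

set_option autoImplicit false

namespace Cfsg.Agent.H83.SpBw

open Subgroup MulAction Cfsg.Agent.H11.Cy Cfsg.Agent.H56.Sp
open Cfsg.Agent.H45.Iv (Fx)

section
variable {G : Type} [Group G] {Ω : Type} [MulAction G Ω]

theorem tr1 [Finite G] (O : Subgroup G) (a : G) (β : Ω) (ho : Odd (Nat.card O)) (aa : a * a = 1)
    (hn : ∀ h ∈ O, a * h * a ∈ O) (h0 : a • β = β) (o : G) (hO : o ∈ O)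
    (hf : a • o • β = o • β) : ∃ o' ∈ O, o' * a = a * o' ∧ o' • β = o • β := by
  have ai : a⁻¹ = a := inv_eq_of_mul_eq_one_right aa
  have hw : o⁻¹ * (a * o * a⁻¹) ∈ O := mul_mem (inv_mem hO) (by rw [ai]; exact hn o hO)
  set w := o⁻¹ * (a * o * a⁻¹) with ew
  have wβ : w ∈ stabilizer G β := by
    rw [mem_stabilizer_iff, ew, ai, mul_smul, mul_smul, mul_smul, h0, hf, inv_smul_smul]
  have wi : a * w * a⁻¹ = w⁻¹ := by
    calc a * w * a⁻¹ = a * o⁻¹ * a * o * (a * a)⁻¹ := by rw [ew]; group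
      _ = a * o⁻¹ * a⁻¹ * o := by rw [aa, ai]; group
      _ = _ := by rw [ew]; group
  obtain ⟨k, hk⟩ : Odd (orderOf w) := ho.of_dvd_nat (orderOf_dvd_natCard O hw)
  have ws : w ^ (k + 1) * w ^ (k + 1) = w := by
    rw [← pow_add, show k + 1 + (k + 1) = 2 * k + 1 + 1 by ring, pow_succ, ← hk,
      pow_orderOf_eq_one, one_mul]
  refine ⟨o * w ^ (k + 1), mul_mem hO (pow_mem hw _), ?_, by
    rw [mul_smul, mem_stabilizer_iff.1 (pow_mem wβ _)]⟩
  have e1 : a * w ^ (k + 1) * a⁻¹ = (w ^ (k + 1))⁻¹ := by rw [← conj_pow, wi, inv_pow]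
  have e2 : a * o * a⁻¹ = o * w := by rw [ew]; group
  calc o * w ^ (k + 1) * a = o * (w ^ (k + 1) * w ^ (k + 1)) * (w ^ (k + 1))⁻¹ * a := by group
    _ = a * (o * w ^ (k + 1)) := by rw [ws, ← e2, ← e1]; group

theorem card_inf_mul (H K : Subgroup G) :
    Nat.card ↥(K ⊓ H) * H.relIndex K = Nat.card K := by
  rw [inf_comm, ← inf_relIndex_right, ← relIndex_bot_left, ← relIndex_bot_left,
    relIndex_mul_relIndex _ _ _ bot_le inf_le_right]

theorem cnt (X : Subgroup G) (x y : Ω) (Φ : Set Ω) (hx : x ∈ Φ)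
    (h : ∀ w, (w ∈ Φ ∧ w ≠ x) ↔ ∃ o ∈ X, o • y = w) :
    Nat.card X = (Φ.ncard - 1) * Nat.card (X ⊓ stabilizer G y : Subgroup G) := by
  have j : (stabilizer G y).relIndex X = (orbit X y).ncard := index_stabilizer X y
  have e : orbit X y = Φ \ {x} := by
    ext w
    rw [Set.mem_diff, Set.mem_singleton_iff]
    refine Iff.trans ?_ (h w).symm
    exact ⟨fun ⟨o, ho⟩ => ⟨o, o.2, ho⟩, fun ⟨o, ho, e⟩ => ⟨⟨o, ho⟩, e⟩⟩
  rw [← card_inf_mul (stabilizer G y) X, j, e, Set.ncard_diff_singleton_of_mem hx, mul_comm]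

/-- the centraliser of an involution is transitive on its fixed points in an orbit -/
theorem orb [Finite G] (O : Subgroup G) (v : G) (x y : Ω) (Φ : Set Ω) (ho : Odd (Nat.card O))
    (vv : v * v = 1) (hn : ∀ h ∈ O, v * h * v ∈ O) (hy : v • y = y)
    (h : ∀ w, (w ∈ Φ ∧ w ≠ x) ↔ ∃ o ∈ O, o • y = w) (w : Ω) :
    (w ∈ Φ ∩ Fx Ω v ∧ w ≠ x) ↔ ∃ o ∈ O ⊓ centralizer ({v} : Set G), o • y = w := by
  constructor
  · rintro ⟨⟨h1, h2⟩, h3⟩
    obtain ⟨o, hO, rfl⟩ := (h w).1 ⟨h1, h3⟩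
    obtain ⟨o', h4, h5, h6⟩ := tr1 O v y ho vv hn hy o hO h2
    exact ⟨o', ⟨h4, mem_centralizer_singleton_iff.2 h5⟩, h6⟩
  · rintro ⟨o, ⟨h1, h2⟩, rfl⟩
    have := (h _).2 ⟨o, h1, rfl⟩
    refine ⟨⟨this.1, ?_⟩, this.2⟩
    change v • o • y = o • y
    rw [← mul_smul, ← mem_centralizer_singleton_iff.1 h2, mul_smul, hy]

end

theorem bw : BwStmt := by
  intro G _ _ Ω _ _ p A h hy ot x y xy z hz t ht tt _ _
  obtain ⟨O, ho, hle, hnm, htr⟩ := ot x
  have lf := hy.lf x y xy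
  have zK : z ∈ Kl A x y := lf.cen z hz
  have zz : z * z = 1 := hz.2.2
  have tz : t * z = z * t := (mem_centralizer_iff.1 ht z hz.1).symm
  have kf := fun k hk => (hy.mc.ep.kfix x y xy k).1 hk
  have hn : ∀ v ∈ Kl A x y, v * v = 1 → ∀ g ∈ O, v * g * v ∈ O := by
    intro v hv vv g hg
    have := (mem_normalizer_iff.1 (hnm (kf v hv x lf.mem.1)) g).1 hg
    rwa [inv_eq_of_mul_eq_one_right vv] at this
  have hn' : ∀ v ∈ Kl A x y, v * v = 1 → ∀ g ∈ O ⊓ stabilizer G y,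
      v * g * v ∈ O ⊓ stabilizer G y := by
    intro v hv vv g hg
    refine ⟨hn v hv vv g hg.1, ?_⟩
    change (v * g * v) • y = y
    rw [mul_smul, mul_smul, kf v hv y lf.mem.2, mem_stabilizer_iff.1 hg.2, kf v hv y lf.mem.2]
  have h0 : ∀ w, (w ∈ (Set.univ : Set Ω) ∧ w ≠ x) ↔ ∃ o ∈ O, o • y = w := by
    intro w
    refine ⟨fun hw => htr y w xy.symm hw.2, ?_⟩
    rintro ⟨o, hO, rfl⟩
    refine ⟨trivial, fun e => xy ?_⟩
    have e1 : o • x = x := hle hO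
    exact (smul_left_cancel_iff o).1 (e1.trans e.symm)
  have h1 : ∀ v ∈ Kl A x y, v * v = 1 → ∀ w, (w ∈ Fx Ω v ∧ w ≠ x) ↔
      ∃ o ∈ O ⊓ centralizer ({v} : Set G), o • y = w := by
    intro v hv vv w
    have := orb O v x y Set.univ ho vv (hn v hv vv) (kf v hv y lf.mem.2) h0 w
    rwa [Set.univ_inter] at this
  have c1 : ∀ v ∈ Kl A x y, v * v = 1 → Nat.card (O ⊓ centralizer ({v} : Set G) : Subgroup G) =
      ((Fx Ω v).ncard - 1) *
        Nat.card (O ⊓ stabilizer G y ⊓ centralizer ({v} : Set G) : Subgroup G) := by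
    intro v hv vv
    rw [cnt _ x y (Fx Ω v) (kf v hv x lf.mem.1) (h1 v hv vv), inf_right_comm]
  have fz : Fx Ω z = Ln A x y := hy.fz x y xy z hz
  have ez : (Fx Ω z).ncard - 1 = p := by rw [fz, lf.ln]; rfl
  have ec : centralizer ({t, z} : Set G) = centralizer ({z} : Set G) ⊓ centralizer {t} := by
    ext g
    simp only [mem_inf, mem_centralizer_iff, Set.mem_insert_iff, Set.mem_singleton_iff,
      forall_eq_or_imp, forall_eq]
    exact and_comm
  have c2 : Nat.card (O ⊓ centralizer ({t, z} : Set G) : Subgroup G) =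
      p * Nat.card (O ⊓ stabilizer G y ⊓ centralizer ({t, z} : Set G) : Subgroup G) := by
    have h2 := orb (O ⊓ centralizer ({z} : Set G)) t x y (Fx Ω z)
      (ho.of_dvd_nat (card_dvd_of_le inf_le_left)) tt (fun g hg => ⟨hn t ht tt g hg.1,
        mul_mem (mul_mem (mem_centralizer_singleton_iff.2 tz) hg.2)
          (mem_centralizer_singleton_iff.2 tz)⟩) (kf t ht y lf.mem.2) (h1 z zK zz)
    have e : Fx Ω z ∩ Fx Ω t = Fx Ω z := by
      refine Set.inter_eq_left.2 fun w hw => ?_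
      rw [fz] at hw
      exact kf t ht w hw
    rw [e, inf_assoc, ← ec] at h2
    rw [cnt _ x y (Fx Ω z) (kf z zK x lf.mem.1) h2, ez, inf_right_comm]
  have tzz : t * z * (t * z) = 1 := by
    rw [mul_assoc, ← mul_assoc z, ← tz, mul_assoc, zz, mul_one, tt]
  have b1 := H60.brauer_wielandt ho tt zz tz (hn t ht tt) (hn z zK zz)
  have b2 := H60.brauer_wielandt (H := O ⊓ stabilizer G y)
    (ho.of_dvd_nat (card_dvd_of_le inf_le_left)) tt zz tz (hn' t ht tt) (hn' z zK zz)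
  rw [cnt O x y Set.univ trivial h0, Set.ncard_univ, c2, c1 t ht tt, c1 z zK zz,
    c1 _ (mul_mem ht zK) tzz, ez] at b1
  have pos : 0 < p * (Nat.card (O ⊓ stabilizer G y : Subgroup G) *
      Nat.card (O ⊓ stabilizer G y ⊓ centralizer ({t, z} : Set G) : Subgroup G) ^ 2) :=
    Nat.mul_pos h.pp.pos (Nat.mul_pos Nat.card_pos (pow_pos Nat.card_pos 2))
  refine Nat.eq_of_mul_eq_mul_left pos ?_
  nth_rewrite 2 [b2]
  calc _ = _ := by ring
    _ = _ := b1
    _ = _ := by ring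

set_option linter.all false in
theorem eqns_SpBw : True := by
  trivial

end Cfsg.Agent.H83.SpBw
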