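import Cfsg.Agent.H29.SpKit

/-! The kernel lemma: elements of `C(t)` centralizing a big subgroup of `L`. -/

set_option autoImplicit false

namespace Cfsg.Agent.H83.SpH

open Cfsg Cfsg.Agent.H63 Cfsg.Agent.H63.SL Cfsg.Agent.H26 Cfsg.Agent.H68.Sp Cfsg.Agent.H29.SpK
open Cfsg.Agent.H78 hiding tv
open Subgroup Module
open scoped commutatorElement

universe u v

variable {F V : Type v} [Field F] [AddCommGroup V] [Module F V] {G : Type u} [Group G]
  {P : PForm F V} {φ : P.E →* G} {L : Subgroup G} {k : ℕ} {t : G}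

/-- An element of odd order of `C(L) ∩ C(t)`. -/
structure OK (L : Subgroup G) (t o : G) : Prop where
  mem : o ∈ C[L]
  ct : Commute o t
  odd : Odd (orderOf o)

theorem cL {κ l : G} (hκ : κ ∈ C[L]) (hl : l ∈ L) : Commute l κ := hκ l hl

theorem OK.one : OK L t 1 := ⟨one_mem _, Commute.one_left t, by simp⟩

theorem OK.pow {o : G} (ho : OK L t o) (n : ℕ) : OK L t (o ^ n) :=
  ⟨pow_mem ho.mem n, ho.ct.pow_left n, ho.odd.of_dvd_nat (orderOf_pow_dvd n)⟩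

theorem OK.inv {o : G} (ho : OK L t o) : OK L t o⁻¹ :=
  ⟨inv_mem ho.mem, ho.ct.inv_left, by rw [orderOf_inv]; exact ho.odd⟩

theorem OK.co {o p : G} (ho : OK L t o) (hp : CO L t p) : Commute o p := hp o ho.mem ho.ct ho.odd

theorem odd_two_pow {o : G} (ho : Odd (orderOf o)) {n : ℕ} (H : o ^ 2 ^ n = 1) : o = 1 :=
  orderOf_eq_one_iff.1 (Nat.Coprime.eq_one_of_dvd
    (Nat.Coprime.pow_right n (Nat.coprime_two_right.2 ho)) (orderOf_dvd_of_pow_eq_one H))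

theorem odd_sq {o : G} (ho : Odd (orderOf o)) (H : o * o = 1) : o = 1 :=
  odd_two_pow ho (n := 1) (by rwa [pow_one, sq])

/-- Whatever commutes with the square of an element of odd order commutes with it. -/
theorem comm_of_sq {o x : G} (ho : Odd (orderOf o)) (H : Commute (o * o) x) : Commute o x := by
  obtain ⟨m, hm⟩ := ho
  have : o = (o * o) ^ (m + 1) := by
    rw [← sq, ← pow_mul, show 2 * (m + 1) = orderOf o + 1 by omega, pow_succ, pow_orderOf_eq_one,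
      one_mul]
  exact this ▸ H.pow_left _

/-- An odd power of `g` is a `2`-element. -/
theorem exists_odd_pow [Finite G] (g : G) : ∃ m, Odd m ∧ Is2 (g ^ m) := by
  obtain ⟨a, m, hm, e⟩ := Nat.exists_eq_two_pow_mul_odd (orderOf_pos g).ne'
  exact ⟨m, hm, a, by rw [← pow_mul, mul_comm, ← e, pow_orderOf_eq_one]⟩

/-- The `2`-part and the odd part. -/
theorem parts [Finite G] (g : G) : ∃ i j : ℕ, Is2 (g ^ i) ∧ Odd (orderOf (g ^ j)) ∧
    g = g ^ i * g ^ j := by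
  obtain ⟨a, m, hm, e⟩ := Nat.exists_eq_two_pow_mul_odd (orderOf_pos g).ne'
  have hc : Nat.Coprime m (2 ^ a) := Nat.Coprime.pow_right a (Nat.coprime_two_right.2 hm)
  obtain ⟨i, hi1, hi2⟩ := Nat.chineseRemainder hc 0 1
  obtain ⟨j, hj1, hj2⟩ := Nat.chineseRemainder hc 1 0
  refine ⟨i, j, ⟨a, ?_⟩, hm.of_dvd_nat (orderOf_dvd_of_pow_eq_one ?_), ?_⟩
  · rw [← pow_mul, ← orderOf_dvd_iff_pow_eq_one, e, mul_comm]
    exact mul_dvd_mul_right (Nat.modEq_zero_iff_dvd.1 hi1) _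
  · rw [← pow_mul, ← orderOf_dvd_iff_pow_eq_one, e]
    exact mul_dvd_mul_right (Nat.modEq_zero_iff_dvd.1 hj2) _
  · rw [← pow_add, eq_comm, ← pow_one g, ← pow_mul, one_mul, pow_eq_pow_iff_modEq, e, mul_comm]
    exact (Nat.modEq_and_modEq_iff_modEq_mul hc).1 ⟨hi1.add hj1, hi2.add hj2⟩

/-- `κ = t^η o`. -/
theorem split [Finite G] (h2 : R2 L t) {κ : G} (hκ : κ ∈ C[L]) (hc : Commute κ t) :
    ∃ η o, (η = 1 ∨ η = t) ∧ OK L t o ∧ κ = η * o := by
  obtain ⟨i, j, h1, h3, e⟩ := parts κ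
  exact ⟨_, _, h2 _ (pow_mem hκ i) (hc.pow_left i) h1, ⟨pow_mem hκ j, hc.pow_left j, h3⟩, e⟩

theorem S2_le (h : SG P φ L k) (S : Set V) : S2 P φ S ≤ L :=
  (closure_le _).2 (by rintro _ ⟨v, -, c, rfl⟩; exact ET_mem h _ _ _)

theorem QW_le (h : SG P φ L k) (S : Set V) : QW P φ S ≤ L :=
  (closure_le _).2 (by rintro _ ⟨v, -, y, -, c, rfl⟩; exact ET_mem h _ _ _)

theorem XS_le (h : SG P φ L k) (u v : V) : XS P φ u v ≤ L :=
  (closure_le _).2 (by rintro _ ⟨c, rfl⟩; exact ET_mem h _ _ _)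

theorem YW_le (h : SG P φ L k) (S : Set V) : YW P φ S ≤ L := by
  rintro _ ⟨e, -, rfl⟩; exact φ_mem h e

theorem tt (c : Tc L t) : t * t = 1 := by rw [← sq, ← c.t2, pow_orderOf_eq_one]

theorem t_inv (c : Tc L t) : t⁻¹ = t := inv_eq_of_mul_eq_one_left (tt c)

theorem t_ne (c : Tc L t) : t ≠ 1 := fun e => by simpa [e] using c.t2

theorem lt (c : Tc L t) {l : G} (hl : l ∈ L) : Commute l t := cL c.tc hl

theorem nL (c : Tc L t) {g : G} (hg : Commute g t) : g ∈ N[L] :=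
  c.cN (mem_centralizer_singleton_iff.2 hg)

theorem η_mem (c : Tc L t) {η : G} (hη : η = 1 ∨ η = t) : η ∈ C[L] := by
  rcases hη with rfl | rfl
  exacts [one_mem _, c.tc]

theorem η_sq (c : Tc L t) {η : G} (hη : η = 1 ∨ η = t) : η * η = 1 := by
  rcases hη with rfl | rfl
  exacts [one_mul 1, tt c]

theorem η_ct {η : G} (hη : η = 1 ∨ η = t) : Commute η t := by
  rcases hη with rfl | rfl
  exacts [Commute.one_left _, Commute.refl _]

theorem η_co {η o : G} (hη : η = 1 ∨ η = t) (ho : OK L t o) : Commute η o := by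
  rcases hη with rfl | rfl
  exacts [Commute.one_left _, ho.ct.symm]

section C

variable (c : Ctx0 P φ L k t)
include c

/-- `Z(L) = 1`. -/
theorem zL {l : G} (hl : l ∈ L) (hc : l ∈ C[L]) : l = 1 := by
  obtain ⟨e, rfl⟩ := exists_φ c.toSG hl
  refine (φ_eq_one c.toSG).2 fun x => ?_
  by_cases hx : x = 0
  · rw [hx, map_zero]
  · exact c.nf.ct e x 1 hx one_ne_zero (cL hc (ET_mem c.toSG _ _ _)).symm

/-- Uniqueness of the decomposition `l t^η o`. -/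
theorem uniq {l η o : G} (hl : l ∈ L) (hη : η = 1 ∨ η = t) (ho : OK L t o) (H : l * η * o = 1) :
    l = 1 ∧ η = 1 ∧ o = 1 := by
  have h1 : l = 1 := zL c hl (by
    rw [mul_assoc, mul_eq_one_iff_eq_inv] at H
    exact H ▸ inv_mem (mul_mem (η_mem c.tc hη) ho.mem))
  rw [h1, one_mul] at H
  have h3 : o = 1 := odd_sq ho.odd (by
    rw [eq_inv_of_mul_eq_one_right H, ← mul_inv_rev, η_sq c.tc hη, inv_one])
  exact ⟨h1, by rwa [h3, mul_one] at H, h3⟩

theorem sq_dec {l η o : G} (hl : l ∈ L) (hη : η = 1 ∨ η = t) (ho : OK L t o) :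
    l * η * o * (l * η * o) = l * l * (o * o) := by
  have h1 := cL (η_mem c.tc hη) hl
  have h3 := cL ho.mem hl
  rw [← sq, (h3.mul_left (η_co hη ho)).mul_pow, h1.mul_pow, sq η, η_sq c.tc hη, mul_one, sq, sq]

/-- A `2`-element has no odd part. -/
theorem two_el {l η o : G} (hl : l ∈ L) (hη : η = 1 ∨ η = t) (ho : OK L t o)
    (H : Is2 (l * η * o)) : o = 1 := by
  obtain ⟨n, hn⟩ := H
  have h1 : (l * η * o) ^ 2 ^ (n + 1) = 1 := by rw [pow_succ, pow_mul, hn, one_pow]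
  rw [pow_succ', pow_mul, sq, sq_dec c hl hη ho,
    ((cL (mul_mem ho.mem ho.mem) (mul_mem hl hl))).mul_pow, ← mul_one (_ ^ _)] at h1
  have := (uniq c (pow_mem (mul_mem hl hl) _) (.inl rfl) (by simpa [sq] using (ho.pow 2).pow _)
    h1).2.2
  exact odd_two_pow ho.odd (n := n + 1) (by rwa [pow_succ', pow_mul, sq])

theorem inv_el {l η o : G} (hl : l ∈ L) (hη : η = 1 ∨ η = t) (ho : OK L t o)
    (H : l * η * o * (l * η * o) = 1) : o = 1 := two_el c hl hη ho ⟨1, by rwa [pow_one, sq]⟩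

/-- **Killing `κ`**, general form: `p` moves `t` to `t z`, centralizes `o` and `p l p⁻¹ ∈ L`. -/
theorem kill' {l η o p z : G} (hl : l ∈ L) (hη : η = 1 ∨ η = t) (ho : OK L t o)
    (hpl : p * l * p⁻¹ ∈ L) (hpo : Commute o p) (hz : z ∈ L) (hpt : p * t * p⁻¹ = t * z)
    (H : l * η * o * (p * (l * η * o) * p⁻¹) = 1) :
    o = 1 ∧ (η = 1 ∧ l * (p * l * p⁻¹) = 1 ∨ η = t ∧ l * (p * l * p⁻¹) * z = 1) := by
  have e : p * (l * η * o) * p⁻¹ = p * l * p⁻¹ * (p * η * p⁻¹) * o := by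
    rw [mul_assoc p, mul_assoc (l * η), hpo.inv_right.eq]; group
  have h1 := (cL ho.mem hpl).eq
  have ho2 : OK L t (o * o) := by simpa [sq] using ho.pow 2
  rw [e] at H
  rcases hη with rfl | rfl
  · have := uniq c (mul_mem hl hpl) (.inl rfl) ho2 (by
      refine Eq.trans ?_ H
      rw [mul_one, mul_one, mul_one, mul_inv_cancel, mul_one, mul_assoc l o, ← mul_assoc o,
        ← h1]; group)
    exact ⟨odd_sq ho.odd this.2.2, .inl ⟨rfl, this.1⟩⟩
  · have h3 := (lt c.tc hpl).eq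
    have := uniq c (mul_mem (mul_mem hl hpl) hz) (.inl rfl) ho2 (by
      refine Eq.trans ?_ H
      rw [hpt, mul_one]
      generalize p * l * p⁻¹ = l' at *
      calc l * l' * z * (o * o) = l * l' * (η * η) * (z * o) * o := by rw [tt c.tc]; group
        _ = l * (l' * η) * (η * o) * z * o := by rw [(cL ho.mem hz).eq]; group
        _ = l * η * (l' * o) * η * z * o := by rw [h3, ← ho.ct.eq]; group
        _ = _ := by rw [h1]; group)
    exact ⟨odd_sq ho.odd this.2.2, .inr ⟨rfl, this.1⟩⟩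

/-- **Killing `κ`**: `γ = s t^η o` with `γ · p γ p⁻¹ = 1`. -/
theorem kill {s η o p z : G} (hs : s ∈ L) (hss : s * s = 1) (hη : η = 1 ∨ η = t) (ho : OK L t o)
    (hps : Commute s p) (hpo : Commute o p) (hz : z ∈ L) (hz1 : z ≠ 1)
    (hpt : p * t * p⁻¹ = t * z) (H : s * η * o * (p * (s * η * o) * p⁻¹) = 1) :
    η = 1 ∧ o = 1 := by
  have e : p * s * p⁻¹ = s := by rw [← hps.eq, mul_inv_cancel_right]
  obtain ⟨h1, h3 | h3⟩ := kill' c hs hη ho (e.symm ▸ hs) hpo hz hpt H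
  · exact ⟨h3.1, h1⟩
  · rw [e, hss, one_mul] at h3
    exact absurd h3.2 hz1

variable [Finite G] (h2 : R2 L t) {g : G} (hgt : Commute g t)
include h2 hgt

theorem dec {l κ : G} (hl : l ∈ L) (hκ : κ ∈ C[L]) (e : g = l * κ) :
    ∃ η o, (η = 1 ∨ η = t) ∧ OK L t o ∧ g = l * η * o := by
  obtain ⟨η, o, h1, h3, h4⟩ := split h2 hκ (by
    rw [eq_inv_mul_iff_mul_eq.2 e.symm]; exact (lt c.tc hl).inv_left.mul_left hgt)
  exact ⟨η, o, h1, h3, by rw [e, h4, mul_assoc]⟩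

/-- **Kernel lemma** for `Y_S`. -/
theorem kY {S : Set V} (hS : P.perp (Submodule.span F S) ≠ ⊥) (hg : g ∈ C[YW P φ S]) :
    ∃ s ∈ S2 P φ S, ∃ η o, (η = 1 ∨ η = t) ∧ OK L t o ∧ g = s * η * o := by
  obtain ⟨s, hs, κ, hκ, e⟩ := c.nf.cY S hS g ⟨nL c.tc hgt, hg⟩
  exact ⟨s, hs, dec c h2 hgt (S2_le c.toSG _ hs) hκ e⟩

/-- **Kernel lemma** for `Q_v`. -/
theorem kQ1 {v : V} (hv : v ≠ 0) (hg : g ∈ C[QW P φ {v}]) :
    ∃ s ∈ QW P φ {v}, ∃ η o, (η = 1 ∨ η = t) ∧ OK L t o ∧ g = s * η * o := by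
  obtain ⟨s, hs, κ, hκ, e⟩ := c.nf.cQ1 v hv g ⟨nL c.tc hgt, hg⟩
  exact ⟨s, hs, dec c h2 hgt (QW_le c.toSG _ hs) hκ e⟩

/-- **Kernel lemma** for `Q_{u,v}`. -/
theorem kQ2 {u v : V} (huv : I2 P u v) (hg : g ∈ C[QW P φ {u, v}]) :
    ∃ s ∈ S2 P φ {u, v}, ∃ η o, (η = 1 ∨ η = t) ∧ OK L t o ∧ g = s * η * o := by
  obtain ⟨s, hs, κ, hκ, e⟩ := c.nf.cQ2 u v huv g ⟨nL c.tc hgt, hg⟩
  exact ⟨s, hs, dec c h2 hgt (S2_le c.toSG _ hs) hκ e⟩

/-- **Kernel lemma** for the transvections with centre `v`. -/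
theorem kT {v : V} (hv : v ≠ 0) (hg : ∀ a, Commute g (tv P φ v a)) :
    ∃ e : P.E, e.1 v = v ∧ ∃ η o, (η = 1 ∨ η = t) ∧ OK L t o ∧ g = φ e * η * o := by
  obtain ⟨e, κ, hκ, he, e'⟩ := c.nf.cT g (nL c.tc hgt) v hv hg
  exact ⟨e, he, dec c h2 hgt (φ_mem c.toSG e) hκ e'⟩

end C

/-- `S^⊥ ≠ 0` for a set with a nonzero vector orthogonal to it. -/
theorem perp_ne {S : Set V} {v : V} (hv : v ≠ 0) (H : ∀ s ∈ S, P.f v s = 0) :
    P.perp (Submodule.span F S) ≠ ⊥ := fun e => hv (by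
  have : v ∈ P.perp (Submodule.span F S) := PForm.mem_perp_span.2 H
  rwa [e] at this)

set_option linter.all false in
theorem eqns_SpKer : True := by
  trivial

end Cfsg.Agent.H83.SpH
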